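import Cfsg.Agent.Lib.Lie.CentralLocal
import Cfsg.Agent.Lib.Spor.HeRepS44Data

/-!
Codes of elements of the Held group by the inverse images of four points of the action of degree 2058, and
checks for the additional relations of the central tables.
-/

set_option autoImplicit false
set_option maxRecDepth 20000

namespace Cfsg.Agent.Spor.HeMult

open Cfsg.Agent.Spor Cfsg.Agent.Spor.HeCert

/-- A power or a pair of words, the conjugate ones, and a word for the conjugating element. -/
abbrev Spec : Type := (ℕ × List ℕ × List ℕ × List ℕ × List ℕ) × List ℕ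

/-- The base. -/
def baseL : List ℕ := [0, 1, 15, 34]

/-- Packing of images. -/
def packL (l : List ℕ) : ℕ := l.foldr (fun a m => m * 4096 + a) 0

/-- The images of the base under the inverse of a word. -/
def invImgs (w : List ℕ) : List ℕ := baseL.map fun b => w.reverse.foldr (fun x u => RepS44.rows x u) b

/-- The code of the identity. -/
def oneC : ℕ := packL baseL

/-- The code of a product with a generator. -/
def actC (gs : List (List ℕ)) (s m : ℕ) : ℕ :=
  packL ((List.range baseL.length).map fun j =>
    (gs.getD s []).reverse.foldr (fun x u => RepS44.rows x u) (CC.fld m 12 j))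

/-- The letters of a word in the generators of the subgroup. -/
def expand (gs : List (List ℕ)) (w : List ℕ) : List ℕ := (w.map fun s => gs.getD s []).flatten

/-- The conjugation is as claimed. -/
def conjOK (gs : List (List ℕ)) (h a c : List ℕ) : Bool :=
  invImgs (h ++ expand gs a) == invImgs (expand gs c ++ h)

/-- The additional relation of a specification. -/
def extOf (e : Spec) : List ℕ × List ℕ × List ℕ × List ℕ :=
  bif Nat.beq e.1.1 0 then (e.1.2.1 ++ e.1.2.2.1, e.1.2.2.1 ++ e.1.2.1, e.1.2.2.2.1 ++ e.1.2.2.2.2, e.1.2.2.2.2 ++ e.1.2.2.2.1)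
  else ((List.replicate e.1.1 e.1.2.1).flatten, [], (List.replicate e.1.1 e.1.2.2.2.1).flatten, [])

/-- A specification is as claimed. -/
def specOK (C : Lie.CentralLocal.Cert) (gs : List (List ℕ)) (e : Spec) : Bool :=
  C.extOK (extOf e) && ((C.letters e.1.2.1 && (C.letters e.1.2.2.1 && (C.letters e.1.2.2.2.1 && C.letters e.1.2.2.2.2))) &&
    ((e.2.all fun x => Nat.blt x 7) && (conjOK gs e.2 e.1.2.1 e.1.2.2.2.1 &&
      ((Nat.beq e.1.1 0 && conjOK gs e.2 e.1.2.2.1 e.1.2.2.2.2) ||
        (!Nat.beq e.1.1 0 && Nat.beq (e.1.1 % C.q) 0)))))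

end Cfsg.Agent.Spor.HeMult
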