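import Cfsg.Agent.Lib.Spor.HeMult.FiveData

/-!
Checks of a central table of the Held group.
-/

set_option autoImplicit false
set_option maxRecDepth 100000
set_option Elab.async false

namespace Cfsg.Agent.Spor.HeMult

open Cfsg.Agent.Lie

theorem five_edges0 : ((List.range 25).all fun i => fiveCert.edgeCheck (Nat.add 0 i)) = true := by decide +kernel

theorem five_edges : ∀ i < 25, fiveCert.edgeCheck i = true := by
  intro i hi
  have := List.all_eq_true.1 five_edges0 (i - 0) (List.mem_range.2 (by omega)); rwa [show Nat.add 0 (i - 0) = i from Nat.add_sub_cancel' (by omega)] at this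

theorem five_tree0 : ((List.range 25).all fun i => fiveCert.treeCheck (Nat.add 0 i)) = true := by decide +kernel

theorem five_tree : ∀ i < 25, fiveCert.treeCheck i = true := by
  intro i hi
  have := List.all_eq_true.1 five_tree0 (i - 0) (List.mem_range.2 (by omega)); rwa [show Nat.add 0 (i - 0) = i from Nat.add_sub_cancel' (by omega)] at this

theorem five_vars0 : ((List.range 56).all fun i => fiveCert.varCheck (Nat.add 0 i)) = true := by decide +kernel

theorem five_vars : ∀ i < 56, fiveCert.varCheck i = true := by
  intro i hi
  have := List.all_eq_true.1 five_vars0 (i - 0) (List.mem_range.2 (by omega)); rwa [show Nat.add 0 (i - 0) = i from Nat.add_sub_cancel' (by omega)] at this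

theorem five_ord0 : ((List.range 25).all fun i => fiveCert.ordCheck fiveOrd (Nat.add 0 i)) = true := by decide +kernel

theorem five_ord : ∀ i < 25, fiveCert.ordCheck fiveOrd i = true := by
  intro i hi
  have := List.all_eq_true.1 five_ord0 (i - 0) (List.mem_range.2 (by omega)); rwa [show Nat.add 0 (i - 0) = i from Nat.add_sub_cancel' (by omega)] at this

theorem five_rels : (fiveCert.rels.all fun w => fiveCert.relCheck w) = true := by decide +kernel

theorem five_valid : fiveCert.Valid where
  npos := Nat.succ_pos _
  kpos := Nat.succ_pos _
  edges := five_edges
  tree := five_tree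
  rels := List.all_eq_true.1 five_rels
  vars := five_vars

theorem five_gens : CC.lettersOK 7 fiveGens = true ∧ (fiveSpecs.all (specOK fiveCert fiveGens)) = true := by decide +kernel

theorem five_kills : ((List.range fiveCert.P).all fun p => fiveCert.killCheck (fiveSpecs.map extOf) (fiveCombos.getD p ([], [])) p) = true := by decide +kernel

end Cfsg.Agent.Spor.HeMult
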