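import Cfsg.Agent.Lib.Lie.CentralLocal
import Cfsg.Agent.Lib.Spor.HeMult.Defs

/-!
Central table on a Sylow subgroup for the prime 5 of the Held group (generated).
-/

set_option autoImplicit false
set_option maxRecDepth 100000
set_option maxHeartbeats 0

namespace Cfsg.Agent.Spor.HeMult

open Cfsg.Agent.Lie

def fiveElt0 : Janko.Tree (ℕ) :=
  (.node (.node (.leaf 2336713871360) (.leaf 76230105084029)) (.node (.leaf 74175363523919) (.leaf 77257392759503)))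

def fiveElt1 : Janko.Tree (ℕ) :=
  (.node (.node (.leaf 44131163641308) (.leaf 33562335913064)) (.leaf 36990894474970))

def fiveElt2 : Janko.Tree (ℕ) :=
  (.node (.node (.leaf 14645878305811) (.leaf 923743179298)) (.leaf 93891549206526))

def fiveElt3 : Janko.Tree (ℕ) :=
  (.node (.node (.leaf 5174401758881) (.leaf 23112818517516)) (.leaf 110376572387588))

def fiveElt4 : Janko.Tree (ℕ) :=
  (.node (.node (.leaf 97467629306526) (.leaf 33353645773041)) (.leaf 44769115063193))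

def fiveElt5 : Janko.Tree (ℕ) :=
  (.node (.node (.leaf 74563088611124) (.leaf 75529692217919)) (.leaf 105995063747676))

def fiveElt6 : Janko.Tree (ℕ) :=
  (.node (.node (.leaf 118217886606137) (.leaf 16113427288248)) (.leaf 35263614691055))

def fiveElt7 : Janko.Tree (ℕ) :=
  (.node (.node (.leaf 76912715744766) (.leaf 100697629574089)) (.leaf 79927497487618))

def fiveElt : Janko.Tree (ℕ) := (.node (.node (.node fiveElt0 fiveElt4) (.node fiveElt2 fiveElt6)) (.node (.node fiveElt1 fiveElt5) (.node fiveElt3 fiveElt7)))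

def fiveNext0 : Janko.Tree (ℕ) :=
  (.node (.node (.node (.leaf 1) (.leaf 19)) (.node (.leaf 12) (.leaf 14))) (.node (.node (.leaf 7) (.leaf 22)) (.leaf 16)))

def fiveNext1 : Janko.Tree (ℕ) :=
  (.node (.node (.node (.leaf 2) (.leaf 20)) (.node (.leaf 13) (.leaf 10))) (.node (.node (.leaf 8) (.leaf 23)) (.leaf 17)))

def fiveNext2 : Janko.Tree (ℕ) :=
  (.node (.node (.node (.leaf 3) (.leaf 20)) (.leaf 13)) (.node (.node (.leaf 8) (.leaf 23)) (.leaf 17)))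

def fiveNext3 : Janko.Tree (ℕ) :=
  (.node (.node (.node (.leaf 4) (.leaf 21)) (.leaf 14)) (.node (.node (.leaf 9) (.leaf 3)) (.leaf 18)))

def fiveNext4 : Janko.Tree (ℕ) :=
  (.node (.node (.node (.leaf 4) (.leaf 21)) (.leaf 0)) (.node (.node (.leaf 10) (.leaf 9)) (.leaf 18)))

def fiveNext5 : Janko.Tree (ℕ) :=
  (.node (.node (.node (.leaf 5) (.leaf 1)) (.leaf 15)) (.node (.node (.leaf 11) (.leaf 24)) (.leaf 0)))

def fiveNext6 : Janko.Tree (ℕ) :=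
  (.node (.node (.node (.leaf 6) (.leaf 5)) (.leaf 15)) (.node (.node (.leaf 11) (.leaf 24)) (.leaf 2)))

def fiveNext7 : Janko.Tree (ℕ) :=
  (.node (.node (.node (.leaf 7) (.leaf 22)) (.leaf 16)) (.node (.node (.leaf 12) (.leaf 6)) (.leaf 19)))

def fiveNext : Janko.Tree (ℕ) := (.node (.node (.node fiveNext0 fiveNext4) (.node fiveNext2 fiveNext6)) (.node (.node fiveNext1 fiveNext5) (.node fiveNext3 fiveNext7)))

def fiveWord0 : Janko.Tree (ℕ) :=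
  (.node (.node (.leaf 1) (.leaf 1048593)) (.node (.leaf 4113) (.leaf 4294971665)))

def fiveWord1 : Janko.Tree (ℕ) :=
  (.node (.node (.leaf 16) (.leaf 1048849)) (.leaf 4369))

def fiveWord2 : Janko.Tree (ℕ) :=
  (.node (.node (.leaf 17) (.leaf 1052945)) (.leaf 65536))

def fiveWord3 : Janko.Tree (ℕ) :=
  (.node (.node (.leaf 256) (.leaf 16777233)) (.leaf 65537))

def fiveWord4 : Janko.Tree (ℕ) :=
  (.node (.node (.leaf 257) (.leaf 16777489)) (.leaf 65553))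

def fiveWord5 : Janko.Tree (ℕ) :=
  (.node (.node (.leaf 273) (.leaf 16781585)) (.leaf 65809))

def fiveWord6 : Janko.Tree (ℕ) :=
  (.node (.node (.leaf 4096) (.leaf 268435729)) (.leaf 69905))

def fiveWord7 : Janko.Tree (ℕ) :=
  (.node (.node (.leaf 4097) (.leaf 268439825)) (.leaf 1048577))

def fiveWord : Janko.Tree (ℕ) := (.node (.node (.node fiveWord0 fiveWord4) (.node fiveWord2 fiveWord6)) (.node (.node fiveWord1 fiveWord5) (.node fiveWord3 fiveWord7)))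

def fivePar0 : Janko.Tree (ℕ) :=
  (.node (.node (.leaf 0) (.leaf 177)) (.node (.leaf 65) (.leaf 353)))

def fivePar1 : Janko.Tree (ℕ) :=
  (.node (.node (.leaf 0) (.leaf 193)) (.leaf 81))

def fivePar2 : Janko.Tree (ℕ) :=
  (.node (.node (.leaf 1) (.leaf 209)) (.leaf 96))

def fivePar3 : Janko.Tree (ℕ) :=
  (.node (.node (.leaf 16) (.leaf 241)) (.leaf 97))

def fivePar4 : Janko.Tree (ℕ) :=
  (.node (.node (.leaf 17) (.leaf 257)) (.leaf 113))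

def fivePar5 : Janko.Tree (ℕ) :=
  (.node (.node (.leaf 33) (.leaf 273)) (.leaf 129))

def fivePar6 : Janko.Tree (ℕ) :=
  (.node (.node (.leaf 48) (.leaf 305)) (.leaf 145))

def fivePar7 : Janko.Tree (ℕ) :=
  (.node (.node (.leaf 49) (.leaf 321)) (.leaf 161))

def fivePar : Janko.Tree (ℕ) := (.node (.node (.node fivePar0 fivePar4) (.node fivePar2 fivePar6)) (.node (.node fivePar1 fivePar5) (.node fivePar3 fivePar7)))

def fiveL0 : Janko.Tree (List ℤ) :=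
  (.node (.node (.node (.leaf []) (.leaf [3, 3, 2])) (.node (.leaf [3, 3, 2]) (.leaf [2, 1, 4]))) (.node (.node (.leaf [4, 4, 1]) (.leaf [2, 2, 3])) (.leaf [3, 3, 2])))

def fiveL1 : Janko.Tree (List ℤ) :=
  (.node (.node (.node (.leaf []) (.leaf [])) (.node (.leaf []) (.leaf [0, 1]))) (.node (.node (.leaf []) (.leaf [])) (.leaf [])))

def fiveL2 : Janko.Tree (List ℤ) :=
  (.node (.node (.node (.leaf []) (.leaf [2, 2, 3])) (.node (.leaf [2, 2, 3]) (.leaf [1, 0, 0]))) (.node (.node (.leaf [3, 3, 2]) (.leaf [1, 1, 4])) (.leaf [2, 2, 3])))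

def fiveL3 : Janko.Tree (List ℤ) :=
  (.node (.node (.node (.leaf []) (.leaf [])) (.node (.leaf []) (.leaf [0, 1, 0]))) (.node (.node (.leaf []) (.leaf [0, 1])) (.leaf [])))

def fiveL4 : Janko.Tree (List ℤ) :=
  (.node (.node (.node (.leaf [4, 4, 1]) (.leaf [1, 1, 4])) (.node (.leaf [1]) (.leaf [0, 0, 1]))) (.node (.node (.leaf []) (.leaf [3, 2, 3])) (.leaf [1, 1, 4])))

def fiveL5 : Janko.Tree (List ℤ) :=
  (.node (.node (.node (.leaf []) (.leaf [0, 1])) (.node (.leaf []) (.leaf [4, 4, 2]))) (.node (.node (.leaf []) (.leaf [])) (.leaf [0, 1])))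

def fiveL6 : Janko.Tree (List ℤ) :=
  (.node (.node (.node (.leaf []) (.leaf [4, 3, 2])) (.node (.leaf [4, 4, 1]) (.leaf [3, 3, 3]))) (.node (.node (.leaf [4, 4, 1]) (.leaf [1, 1, 4])) (.leaf [0, 4, 1])))

def fiveL7 : Janko.Tree (List ℤ) :=
  (.node (.node (.node (.leaf []) (.leaf [])) (.node (.leaf []) (.leaf [2, 2, 4]))) (.node (.node (.leaf []) (.leaf [0, 1])) (.leaf [])))

def fiveL : Janko.Tree (List ℤ) := (.node (.node (.node fiveL0 fiveL4) (.node fiveL2 fiveL6)) (.node (.node fiveL1 fiveL5) (.node fiveL3 fiveL7)))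

def fiveKind0 : Janko.Tree (ℕ) :=
  (.node (.node (.node (.leaf 0) (.leaf 3)) (.node (.leaf 3) (.leaf 3))) (.node (.node (.leaf 3) (.leaf 3)) (.leaf 3)))

def fiveKind1 : Janko.Tree (ℕ) :=
  (.node (.node (.node (.leaf 0) (.leaf 0)) (.node (.leaf 0) (.leaf 3))) (.node (.node (.leaf 0) (.leaf 0)) (.leaf 0)))

def fiveKind2 : Janko.Tree (ℕ) :=
  (.node (.node (.node (.leaf 0) (.leaf 3)) (.node (.leaf 3) (.leaf 2))) (.node (.node (.leaf 3) (.leaf 3)) (.leaf 3)))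

def fiveKind3 : Janko.Tree (ℕ) :=
  (.node (.node (.node (.leaf 0) (.leaf 0)) (.node (.leaf 0) (.leaf 2))) (.node (.node (.leaf 0) (.leaf 3)) (.leaf 0)))

def fiveKind4 : Janko.Tree (ℕ) :=
  (.node (.node (.node (.leaf 3) (.leaf 3)) (.node (.leaf 3) (.leaf 2))) (.node (.node (.leaf 0) (.leaf 3)) (.leaf 3)))

def fiveKind5 : Janko.Tree (ℕ) :=
  (.node (.node (.node (.leaf 0) (.leaf 3)) (.node (.leaf 0) (.leaf 3))) (.node (.node (.leaf 0) (.leaf 0)) (.leaf 3)))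

def fiveKind6 : Janko.Tree (ℕ) :=
  (.node (.node (.node (.leaf 0) (.leaf 3)) (.node (.leaf 3) (.leaf 3))) (.node (.node (.leaf 3) (.leaf 3)) (.leaf 3)))

def fiveKind7 : Janko.Tree (ℕ) :=
  (.node (.node (.node (.leaf 0) (.leaf 0)) (.node (.leaf 0) (.leaf 3))) (.node (.node (.leaf 0) (.leaf 3)) (.leaf 0)))

def fiveKind : Janko.Tree (ℕ) := (.node (.node (.node fiveKind0 fiveKind4) (.node fiveKind2 fiveKind6)) (.node (.node fiveKind1 fiveKind5) (.node fiveKind3 fiveKind7)))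

def fiveRank0 : Janko.Tree (ℕ) :=
  (.node (.node (.node (.leaf 0) (.leaf 39)) (.node (.leaf 53) (.leaf 46))) (.node (.node (.leaf 35) (.leaf 41)) (.leaf 52)))

def fiveRank1 : Janko.Tree (ℕ) :=
  (.node (.node (.node (.leaf 1) (.leaf 19)) (.node (.leaf 12) (.leaf 27))) (.node (.node (.leaf 7) (.leaf 22)) (.leaf 16)))

def fiveRank2 : Janko.Tree (ℕ) :=
  (.node (.node (.node (.leaf 2) (.leaf 48)) (.node (.leaf 51) (.leaf 24))) (.node (.node (.leaf 55) (.leaf 44)) (.leaf 49)))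

def fiveRank3 : Janko.Tree (ℕ) :=
  (.node (.node (.node (.leaf 3) (.leaf 20)) (.node (.leaf 13) (.leaf 26))) (.node (.node (.leaf 8) (.leaf 29)) (.leaf 17)))

def fiveRank4 : Janko.Tree (ℕ) :=
  (.node (.node (.node (.leaf 36) (.leaf 45)) (.node (.leaf 25) (.leaf 32))) (.node (.node (.leaf 9) (.leaf 50)) (.leaf 47)))

def fiveRank5 : Janko.Tree (ℕ) :=
  (.node (.node (.node (.leaf 4) (.leaf 30)) (.node (.leaf 14) (.leaf 40))) (.node (.node (.leaf 10) (.leaf 23)) (.leaf 31)))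

def fiveRank6 : Janko.Tree (ℕ) :=
  (.node (.node (.node (.leaf 5) (.leaf 54)) (.node (.leaf 33) (.leaf 42))) (.node (.node (.leaf 34) (.leaf 43)) (.leaf 38)))

def fiveRank7 : Janko.Tree (ℕ) :=
  (.node (.node (.node (.leaf 6) (.leaf 21)) (.node (.leaf 15) (.leaf 37))) (.node (.node (.leaf 11) (.leaf 28)) (.leaf 18)))

def fiveRank : Janko.Tree (ℕ) := (.node (.node (.node fiveRank0 fiveRank4) (.node fiveRank2 fiveRank6)) (.node (.node fiveRank1 fiveRank5) (.node fiveRank3 fiveRank7)))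

def fiveVia0 : Janko.Tree (ℕ × ℕ) :=
  (.node (.node (.node (.leaf (0, 0)) (.leaf (2, 15))) (.node (.leaf (5, 17)) (.leaf (3, 18)))) (.node (.node (.leaf (2, 3)) (.leaf (3, 15))) (.leaf (5, 20))))

def fiveVia1 : Janko.Tree (ℕ × ℕ) :=
  (.node (.node (.node (.leaf (0, 0)) (.leaf (0, 0))) (.node (.leaf (0, 0)) (.leaf (1, 24)))) (.node (.node (.leaf (0, 0)) (.leaf (0, 0))) (.leaf (0, 0))))

def fiveVia2 : Janko.Tree (ℕ × ℕ) :=
  (.node (.node (.node (.leaf (0, 0)) (.leaf (5, 23))) (.node (.leaf (5, 22)) (.leaf (0, 0)))) (.node (.node (.leaf (5, 19)) (.leaf (4, 11))) (.leaf (5, 21))))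

def fiveVia3 : Janko.Tree (ℕ × ℕ) :=
  (.node (.node (.node (.leaf (0, 0)) (.leaf (0, 0))) (.node (.leaf (0, 0)) (.leaf (1, 0)))) (.node (.node (.leaf (0, 0)) (.leaf (1, 21))) (.leaf (0, 0))))

def fiveVia4 : Janko.Tree (ℕ × ℕ) :=
  (.node (.node (.node (.leaf (2, 1)) (.leaf (4, 7))) (.node (.leaf (0, 10)) (.leaf (2, 0)))) (.node (.node (.leaf (0, 0)) (.leaf (4, 13))) (.leaf (5, 24))))

def fiveVia5 : Janko.Tree (ℕ × ℕ) :=
  (.node (.node (.node (.leaf (0, 0)) (.leaf (1, 18))) (.node (.leaf (0, 0)) (.leaf (3, 10)))) (.node (.node (.leaf (0, 0)) (.leaf (0, 0))) (.leaf (1, 14))))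

def fiveVia6 : Janko.Tree (ℕ × ℕ) :=
  (.node (.node (.node (.leaf (0, 0)) (.leaf (5, 8))) (.node (.leaf (2, 10)) (.leaf (4, 10)))) (.node (.node (.leaf (2, 6)) (.leaf (4, 15))) (.leaf (5, 15))))

def fiveVia7 : Janko.Tree (ℕ × ℕ) :=
  (.node (.node (.node (.leaf (0, 0)) (.leaf (0, 0))) (.node (.leaf (0, 0)) (.leaf (5, 2)))) (.node (.node (.leaf (0, 0)) (.leaf (1, 23))) (.leaf (0, 0))))

def fiveVia : Janko.Tree (ℕ × ℕ) := (.node (.node (.node fiveVia0 fiveVia4) (.node fiveVia2 fiveVia6)) (.node (.node fiveVia1 fiveVia5) (.node fiveVia3 fiveVia7)))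

def fiveOrd0 : Janko.Tree (ℕ) :=
  (.node (.node (.leaf 18) (.leaf 7)) (.node (.leaf 14) (.leaf 6)))

def fiveOrd1 : Janko.Tree (ℕ) :=
  (.node (.node (.leaf 0) (.leaf 24)) (.leaf 9))

def fiveOrd2 : Janko.Tree (ℕ) :=
  (.node (.node (.leaf 3) (.leaf 15)) (.leaf 1))

def fiveOrd3 : Janko.Tree (ℕ) :=
  (.node (.node (.leaf 2) (.leaf 10)) (.leaf 12))

def fiveOrd4 : Janko.Tree (ℕ) :=
  (.node (.node (.leaf 22) (.leaf 4)) (.leaf 8))

def fiveOrd5 : Janko.Tree (ℕ) :=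
  (.node (.node (.leaf 19) (.leaf 23)) (.leaf 5))

def fiveOrd6 : Janko.Tree (ℕ) :=
  (.node (.node (.leaf 20) (.leaf 13)) (.leaf 21))

def fiveOrd7 : Janko.Tree (ℕ) :=
  (.node (.node (.leaf 17) (.leaf 11)) (.leaf 16))

def fiveOrd : Janko.Tree (ℕ) := (.node (.node (.node fiveOrd0 fiveOrd4) (.node fiveOrd2 fiveOrd6)) (.node (.node fiveOrd1 fiveOrd5) (.node fiveOrd3 fiveOrd7)))

def fiveRels : List (List ℕ) := [[0, 0, 0, 0, 0],
  [1, 1, 1, 1, 1],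
  [0, 0, 0, 0, 1, 0, 1, 1, 1, 1],
  [0, 0, 0, 0, 1, 1, 0, 1, 1, 1],
  [0, 0, 0, 0, 1, 1, 1, 0, 1, 1],
  [0, 0, 0, 0, 1, 1, 1, 1, 0, 1]]

/-- the generators, their inverses and their factorisations along the chain -/
def fiveGens : List (List ℕ) := [[5, 3, 6, 4, 3, 2, 3, 6, 4, 3, 0, 1, 2, 6, 3, 2, 1, 2, 1, 0, 1, 3, 1, 2, 3, 6, 3, 2, 1, 2, 3, 2, 3, 1, 2, 3, 6, 3, 2, 0, 1, 2, 1, 0, 1, 3, 1, 2, 3, 6, 3, 2, 1, 3, 2, 3, 2, 3, 2, 1, 0, 2, 3, 6, 3, 2, 1, 2, 3, 2, 3, 2, 3, 1, 2, 3, 6, 3, 2, 0, 1, 2, 1, 0, 1, 2],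
  [4, 1, 2, 3, 6, 5, 3, 2, 3, 1, 2, 3, 6, 1, 2, 3, 2, 3, 2, 1, 0, 1, 3, 2, 3, 2, 1, 0, 2, 3, 6, 3, 2, 1, 2, 3, 2, 3, 2, 3, 1, 2, 3, 6, 3, 2, 0, 1, 3, 1, 2, 3, 6, 3, 2, 1, 3, 2, 3, 2, 3, 2, 1, 0, 2, 3, 6, 3, 2, 1, 2, 3, 2, 3, 2, 3, 1, 2, 3, 6, 3, 2, 0, 1, 2, 1, 0, 1, 2, 3, 2, 1, 0, 1, 2, 3, 2, 1, 0, 1, 2]]

/-- the additional relations with conjugating elements -/
def fiveSpecs : List Spec := [((5, [0, 0, 0, 1, 1, 1], [], [0, 1, 1], []), [6, 1, 2, 3, 5, 2, 3, 0, 1, 2, 3, 2, 1, 3, 1, 2, 3, 6, 3, 2, 1, 2, 1, 0, 1, 2, 3, 2, 3, 1, 2, 3, 6, 3, 2, 1, 3, 2, 3, 2, 1, 0, 2, 3, 6, 3, 2, 1, 3, 2, 3, 2, 3, 2, 1, 0, 2, 3, 6, 3, 2, 1, 2, 3, 2, 3, 2, 3, 1, 2, 3, 6, 3, 2, 1, 2, 1, 0, 1, 2, 1, 0, 1, 3, 1, 2, 3, 6, 3, 2, 1, 3, 2, 3, 2, 3, 2, 1, 0, 2, 3, 6, 3, 2, 1, 2, 3, 2, 3, 2, 3, 1, 2, 3, 6, 3, 2, 0, 1, 2, 1, 0, 1, 2]),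
  ((5, [0, 0, 0], [], [1, 1, 1], []), [2, 3, 6, 1, 2, 3, 1, 2, 3, 6, 3, 2, 1, 3, 2, 1, 0, 1, 3, 2, 3, 1, 2, 3, 6, 3, 2, 1, 2, 1, 0, 1, 3, 1, 2, 3, 6, 3, 2, 1, 3, 2, 3, 2, 3, 2, 1, 0, 2, 3, 6, 3, 2, 1, 2, 3, 2, 3, 2, 3, 1, 2, 3, 6, 3, 2, 1, 2, 1, 0, 1, 2, 3, 2, 1, 0, 1, 2]),
  ((0, [0, 0, 0, 1, 1, 1], [0], [0, 1, 1, 1, 1], [1, 1, 1]), [5, 2, 3, 1, 2, 3, 0, 1, 2, 3, 6, 1, 2, 3, 6, 3, 2, 0, 1, 3, 2, 3, 2, 3, 1, 2, 3, 6, 3, 2, 1, 2, 1, 0, 1, 3, 2, 3, 2, 1, 2, 3, 6, 3, 2, 1, 3, 2, 3, 2, 3, 2, 1, 0, 2, 3, 6, 3, 2, 1, 2, 3, 2, 3, 2, 3, 1, 2, 3, 6, 3, 2, 0, 2, 3, 6, 3, 2, 1, 3, 2, 3, 2, 3, 2, 1, 0, 2, 3, 6, 3, 2, 1, 2, 3, 2, 3, 2, 3, 1, 2, 3, 6, 3, 2, 1, 3, 2, 1, 0, 1, 2, 1, 2, 3, 6, 3, 2, 1, 3, 2, 3, 2, 3, 2, 1, 0, 2, 3, 6, 3, 2, 1, 2, 3, 2, 3, 2, 3, 1, 2, 3, 6, 3, 2, 1, 3, 1, 0, 1, 2, 1, 0, 1, 2, 3, 2, 1, 0, 1, 2, 3])]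

/-- the combinations -/
def fiveCombos : List (List (ℤ × ℕ) × List (ℤ × (ℕ × ℕ))) := [([(2, 0), (4, 1)], []),
  ([(2, 1), (2, 0)], []),
  ([(1, 2), (4, 0), (1, 1)], [])]

/-- the certificate -/
def fiveCert : CentralLocal.Cert :=
  { act := actC fiveGens, one := oneC, N := 25, k := 2, q := 5, rels := fiveRels, P := 3,
    elt := fiveElt, next := fiveNext, word := fiveWord, par := fivePar, L := fiveL, kind := fiveKind, rank := fiveRank,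
    via := fiveVia, pv := [50, 51, 52] }

end Cfsg.Agent.Spor.HeMult
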