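import Cfsg.Agent.Lib.Spor.HeMult.SevenData

/-!
Checks of a central table of the Held group.
-/

set_option autoImplicit false
set_option maxRecDepth 100000
set_option Elab.async false

namespace Cfsg.Agent.Spor.HeMult

open Cfsg.Agent.Lie

theorem seven_edges0 : ((List.range 128).all fun i => sevenCert.edgeCheck (Nat.add 0 i)) = true := by decide +kernel

theorem seven_edges1 : ((List.range 128).all fun i => sevenCert.edgeCheck (Nat.add 128 i)) = true := by decide +kernel

theorem seven_edges2 : ((List.range 87).all fun i => sevenCert.edgeCheck (Nat.add 256 i)) = true := by decide +kernel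

theorem seven_edges : ∀ i < 343, sevenCert.edgeCheck i = true := by
  intro i hi
  by_cases h0 : i < 128
  · have := List.all_eq_true.1 seven_edges0 (i - 0) (List.mem_range.2 (by omega)); rwa [show Nat.add 0 (i - 0) = i from Nat.add_sub_cancel' (by omega)] at this
  by_cases h1 : i < 256
  · have := List.all_eq_true.1 seven_edges1 (i - 128) (List.mem_range.2 (by omega)); rwa [show Nat.add 128 (i - 128) = i from Nat.add_sub_cancel' (by omega)] at this
  have := List.all_eq_true.1 seven_edges2 (i - 256) (List.mem_range.2 (by omega)); rwa [show Nat.add 256 (i - 256) = i from Nat.add_sub_cancel' (by omega)] at this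

theorem seven_tree0 : ((List.range 343).all fun i => sevenCert.treeCheck (Nat.add 0 i)) = true := by decide +kernel

theorem seven_tree : ∀ i < 343, sevenCert.treeCheck i = true := by
  intro i hi
  have := List.all_eq_true.1 seven_tree0 (i - 0) (List.mem_range.2 (by omega)); rwa [show Nat.add 0 (i - 0) = i from Nat.add_sub_cancel' (by omega)] at this

theorem seven_vars0 : ((List.range 710).all fun i => sevenCert.varCheck (Nat.add 0 i)) = true := by decide +kernel

theorem seven_vars : ∀ i < 710, sevenCert.varCheck i = true := by
  intro i hi
  have := List.all_eq_true.1 seven_vars0 (i - 0) (List.mem_range.2 (by omega)); rwa [show Nat.add 0 (i - 0) = i from Nat.add_sub_cancel' (by omega)] at this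

theorem seven_ord0 : ((List.range 343).all fun i => sevenCert.ordCheck sevenOrd (Nat.add 0 i)) = true := by decide +kernel

theorem seven_ord : ∀ i < 343, sevenCert.ordCheck sevenOrd i = true := by
  intro i hi
  have := List.all_eq_true.1 seven_ord0 (i - 0) (List.mem_range.2 (by omega)); rwa [show Nat.add 0 (i - 0) = i from Nat.add_sub_cancel' (by omega)] at this

theorem seven_rels : (sevenCert.rels.all fun w => sevenCert.relCheck w) = true := by decide +kernel

theorem seven_valid : sevenCert.Valid where
  npos := Nat.succ_pos _
  kpos := Nat.succ_pos _
  edges := seven_edges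
  tree := seven_tree
  rels := List.all_eq_true.1 seven_rels
  vars := seven_vars

theorem seven_gens : CC.lettersOK 7 sevenGens = true ∧ (sevenSpecs.all (specOK sevenCert sevenGens)) = true := by decide +kernel

theorem seven_kills : ((List.range sevenCert.P).all fun p => sevenCert.killCheck (sevenSpecs.map extOf) (sevenCombos.getD p ([], [])) p) = true := by decide +kernel

end Cfsg.Agent.Spor.HeMult
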