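import Cfsg.Agent.Lib.Spor.HeMult.ThreeData

/-!
Checks of a central table of the Held group.
-/

set_option autoImplicit false
set_option maxRecDepth 100000
set_option Elab.async false

namespace Cfsg.Agent.Spor.HeMult

open Cfsg.Agent.Lie

theorem three_edges0 : ((List.range 27).all fun i => threeCert.edgeCheck (Nat.add 0 i)) = true := by decide +kernel

theorem three_edges : ∀ i < 27, threeCert.edgeCheck i = true := by
  intro i hi
  have := List.all_eq_true.1 three_edges0 (i - 0) (List.mem_range.2 (by omega)); rwa [show Nat.add 0 (i - 0) = i from Nat.add_sub_cancel' (by omega)] at this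

theorem three_tree0 : ((List.range 27).all fun i => threeCert.treeCheck (Nat.add 0 i)) = true := by decide +kernel

theorem three_tree : ∀ i < 27, threeCert.treeCheck i = true := by
  intro i hi
  have := List.all_eq_true.1 three_tree0 (i - 0) (List.mem_range.2 (by omega)); rwa [show Nat.add 0 (i - 0) = i from Nat.add_sub_cancel' (by omega)] at this

theorem three_vars0 : ((List.range 59).all fun i => threeCert.varCheck (Nat.add 0 i)) = true := by decide +kernel

theorem three_vars : ∀ i < 59, threeCert.varCheck i = true := by
  intro i hi
  have := List.all_eq_true.1 three_vars0 (i - 0) (List.mem_range.2 (by omega)); rwa [show Nat.add 0 (i - 0) = i from Nat.add_sub_cancel' (by omega)] at this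

theorem three_ord0 : ((List.range 27).all fun i => threeCert.ordCheck threeOrd (Nat.add 0 i)) = true := by decide +kernel

theorem three_ord : ∀ i < 27, threeCert.ordCheck threeOrd i = true := by
  intro i hi
  have := List.all_eq_true.1 three_ord0 (i - 0) (List.mem_range.2 (by omega)); rwa [show Nat.add 0 (i - 0) = i from Nat.add_sub_cancel' (by omega)] at this

theorem three_rels : (threeCert.rels.all fun w => threeCert.relCheck w) = true := by decide +kernel

theorem three_valid : threeCert.Valid where
  npos := Nat.succ_pos _
  kpos := Nat.succ_pos _
  edges := three_edges
  tree := three_tree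
  rels := List.all_eq_true.1 three_rels
  vars := three_vars

theorem three_gens : CC.lettersOK 7 threeGens = true ∧ (threeSpecs.all (specOK threeCert threeGens)) = true := by decide +kernel

theorem three_kills : ((List.range threeCert.P).all fun p => threeCert.killCheck (threeSpecs.map extOf) (threeCombos.getD p ([], [])) p) = true := by decide +kernel

end Cfsg.Agent.Spor.HeMult
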