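import Cfsg.Agent.Lib.Spor.HeMult.TwoData

/-!
Checks of a central table of the Held group.
-/

set_option autoImplicit false
set_option maxRecDepth 100000
set_option Elab.async false

namespace Cfsg.Agent.Spor.HeMult

open Cfsg.Agent.Lie

theorem two_edges0 : ((List.range 128).all fun i => twoCert.edgeCheck (Nat.add 0 i)) = true := by decide +kernel

theorem two_edges1 : ((List.range 128).all fun i => twoCert.edgeCheck (Nat.add 128 i)) = true := by decide +kernel

theorem two_edges2 : ((List.range 128).all fun i => twoCert.edgeCheck (Nat.add 256 i)) = true := by decide +kernel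

theorem two_edges3 : ((List.range 128).all fun i => twoCert.edgeCheck (Nat.add 384 i)) = true := by decide +kernel

theorem two_edges4 : ((List.range 128).all fun i => twoCert.edgeCheck (Nat.add 512 i)) = true := by decide +kernel

theorem two_edges5 : ((List.range 128).all fun i => twoCert.edgeCheck (Nat.add 640 i)) = true := by decide +kernel

theorem two_edges6 : ((List.range 128).all fun i => twoCert.edgeCheck (Nat.add 768 i)) = true := by decide +kernel

theorem two_edges7 : ((List.range 128).all fun i => twoCert.edgeCheck (Nat.add 896 i)) = true := by decide +kernel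

theorem two_edges : ∀ i < 1024, twoCert.edgeCheck i = true := by
  intro i hi
  by_cases h0 : i < 128
  · have := List.all_eq_true.1 two_edges0 (i - 0) (List.mem_range.2 (by omega)); rwa [show Nat.add 0 (i - 0) = i from Nat.add_sub_cancel' (by omega)] at this
  by_cases h1 : i < 256
  · have := List.all_eq_true.1 two_edges1 (i - 128) (List.mem_range.2 (by omega)); rwa [show Nat.add 128 (i - 128) = i from Nat.add_sub_cancel' (by omega)] at this
  by_cases h2 : i < 384
  · have := List.all_eq_true.1 two_edges2 (i - 256) (List.mem_range.2 (by omega)); rwa [show Nat.add 256 (i - 256) = i from Nat.add_sub_cancel' (by omega)] at this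
  by_cases h3 : i < 512
  · have := List.all_eq_true.1 two_edges3 (i - 384) (List.mem_range.2 (by omega)); rwa [show Nat.add 384 (i - 384) = i from Nat.add_sub_cancel' (by omega)] at this
  by_cases h4 : i < 640
  · have := List.all_eq_true.1 two_edges4 (i - 512) (List.mem_range.2 (by omega)); rwa [show Nat.add 512 (i - 512) = i from Nat.add_sub_cancel' (by omega)] at this
  by_cases h5 : i < 768
  · have := List.all_eq_true.1 two_edges5 (i - 640) (List.mem_range.2 (by omega)); rwa [show Nat.add 640 (i - 640) = i from Nat.add_sub_cancel' (by omega)] at this
  by_cases h6 : i < 896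
  · have := List.all_eq_true.1 two_edges6 (i - 768) (List.mem_range.2 (by omega)); rwa [show Nat.add 768 (i - 768) = i from Nat.add_sub_cancel' (by omega)] at this
  have := List.all_eq_true.1 two_edges7 (i - 896) (List.mem_range.2 (by omega)); rwa [show Nat.add 896 (i - 896) = i from Nat.add_sub_cancel' (by omega)] at this

theorem two_tree0 : ((List.range 1024).all fun i => twoCert.treeCheck (Nat.add 0 i)) = true := by decide +kernel

theorem two_tree : ∀ i < 1024, twoCert.treeCheck i = true := by
  intro i hi
  have := List.all_eq_true.1 two_tree0 (i - 0) (List.mem_range.2 (by omega)); rwa [show Nat.add 0 (i - 0) = i from Nat.add_sub_cancel' (by omega)] at this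

theorem two_vars0 : ((List.range 1024).all fun i => twoCert.varCheck (Nat.add 0 i)) = true := by decide +kernel

theorem two_vars1 : ((List.range 1024).all fun i => twoCert.varCheck (Nat.add 1024 i)) = true := by decide +kernel

theorem two_vars2 : ((List.range 1024).all fun i => twoCert.varCheck (Nat.add 2048 i)) = true := by decide +kernel

theorem two_vars3 : ((List.range 1024).all fun i => twoCert.varCheck (Nat.add 3072 i)) = true := by decide +kernel

theorem two_vars4 : ((List.range 60).all fun i => twoCert.varCheck (Nat.add 4096 i)) = true := by decide +kernel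

theorem two_vars : ∀ i < 4156, twoCert.varCheck i = true := by
  intro i hi
  by_cases h0 : i < 1024
  · have := List.all_eq_true.1 two_vars0 (i - 0) (List.mem_range.2 (by omega)); rwa [show Nat.add 0 (i - 0) = i from Nat.add_sub_cancel' (by omega)] at this
  by_cases h1 : i < 2048
  · have := List.all_eq_true.1 two_vars1 (i - 1024) (List.mem_range.2 (by omega)); rwa [show Nat.add 1024 (i - 1024) = i from Nat.add_sub_cancel' (by omega)] at this
  by_cases h2 : i < 3072
  · have := List.all_eq_true.1 two_vars2 (i - 2048) (List.mem_range.2 (by omega)); rwa [show Nat.add 2048 (i - 2048) = i from Nat.add_sub_cancel' (by omega)] at this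
  by_cases h3 : i < 4096
  · have := List.all_eq_true.1 two_vars3 (i - 3072) (List.mem_range.2 (by omega)); rwa [show Nat.add 3072 (i - 3072) = i from Nat.add_sub_cancel' (by omega)] at this
  have := List.all_eq_true.1 two_vars4 (i - 4096) (List.mem_range.2 (by omega)); rwa [show Nat.add 4096 (i - 4096) = i from Nat.add_sub_cancel' (by omega)] at this

theorem two_ord0 : ((List.range 1024).all fun i => twoCert.ordCheck twoOrd (Nat.add 0 i)) = true := by decide +kernel

theorem two_ord : ∀ i < 1024, twoCert.ordCheck twoOrd i = true := by
  intro i hi
  have := List.all_eq_true.1 two_ord0 (i - 0) (List.mem_range.2 (by omega)); rwa [show Nat.add 0 (i - 0) = i from Nat.add_sub_cancel' (by omega)] at this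

theorem two_rels : (twoCert.rels.all fun w => twoCert.relCheck w) = true := by decide +kernel

theorem two_valid : twoCert.Valid where
  npos := Nat.succ_pos _
  kpos := Nat.succ_pos _
  edges := two_edges
  tree := two_tree
  rels := List.all_eq_true.1 two_rels
  vars := two_vars

theorem two_gens : CC.lettersOK 7 twoGens = true ∧ (twoSpecs.all (specOK twoCert twoGens)) = true := by decide +kernel

theorem two_kills : ((List.range twoCert.P).all fun p => twoCert.killCheck (twoSpecs.map extOf) (twoCombos.getD p ([], [])) p) = true := by decide +kernel

end Cfsg.Agent.Spor.HeMult
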