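import Cfsg.Prelude.Def_KGroupFacts
import Cfsg.Agent.Lib.Spor.HeMain
import Cfsg.Agent.Lib.Spor.HeMult.SevenCheck
import Cfsg.Agent.Lib.Spor.HeMult.FiveCheck
import Cfsg.Agent.Lib.Spor.HeMult.ThreeCheck
import Cfsg.Agent.Lib.Spor.HeMult.TwoCheck
import Cfsg.Agent.Lib.Solv.SchurSmall

/-!
The Schur multiplier of the Held group is trivial: for the primes 2, 3, 5 and 7 the lifts of a Sylow subgroup
meet a kernel of that order trivially, by relations between lifts of conjugate elements.
-/

set_option autoImplicit false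
set_option maxRecDepth 100000

noncomputable section

namespace Cfsg.Agent.Spor.HeMult

open Cfsg Cfsg.Agent.Spor Cfsg.Agent.Spor.HeCert
open Cfsg.Agent.Spor.CC (Orb Table fld)

/-- A chain bounds the order of a subgroup by the chain size times the order of a subgroup fixing its base. -/
theorem chain_le_mul {K : Type*} [Group K] {P : Table} (h : P.Valid) (g : ℕ → K)
    (φ : K →* Equiv.Perm (Fin P.n)) (hφ : ∀ x, x < P.ng → φ (g x) = P.perm h x) (T : Subgroup K) :
    ∀ (L : List Orb) (bs : List ℕ), CC.chainOK P.T P.ng P.n L bs = true →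
    (∀ O ∈ L, ∀ s ∈ T, ∀ u : Fin P.n, (u : ℕ) = O.b → φ s u = u) →
    ∀ (S : Subgroup K) [Finite S], T ≤ S → (∀ s : K, (∀ b ∈ bs, ∀ u : Fin P.n, (u : ℕ) = b → φ s u = u) →
      (∃ O ∈ L, ∃ w ∈ O.ws, s = (w.map g).prod) → s ∈ S) → CC.chainSize L * Nat.card T ≤ Nat.card S
  | [], _, _, _, S, _, hTS, _ => by
    rw [show CC.chainSize [] = 1 from rfl, one_mul]
    exact Subgroup.card_le_of_le hTS
  | O :: rest, bs, hL, hT, S, hfin, hTS, hS => by
    simp only [CC.chainOK, Bool.and_eq_true] at hL
    obtain ⟨⟨⟨⟨hbn, hO⟩, hl⟩, hfix⟩, hrest⟩ := hL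
    let b : Fin P.n := ⟨O.b, Nat.le_of_ble_eq_true hbn⟩
    have hWS : ∀ w ∈ O.ws, (w.map g).prod ∈ S := by
      intro w hw
      refine hS _ (fun c hc u hu => ?_) ⟨O, by simp, w, hw, rfl⟩
      apply Fin.ext
      rw [CC.ev_eq h g φ hφ (fun x hx => CC.lettersOK_spec hl hw hx), hu]
      exact Nat.eq_of_beq_eq_true (List.all_eq_true.mp (List.all_eq_true.mp hfix w hw) c hc)
    have horb := CC.orb_mem h g φ hφ hO hl S hWS b rfl
    letI : MulAction S (Fin P.n) := MulAction.compHom _ (φ.comp S.subtype)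
    let f : Fin O.k → MulAction.orbit S b := fun j =>
      ⟨φ (horb j j.2).choose b, ⟨⟨_, (horb j j.2).choose_spec.1⟩, rfl⟩⟩
    have hf : Function.Injective f := by
      intro i j e
      have e' := congrArg (fun q : MulAction.orbit S b => ((q : Fin P.n) : ℕ)) e
      simp only [f] at e'
      rw [(horb i i.2).choose_spec.2, (horb j j.2).choose_spec.2] at e'
      exact Fin.ext (CC.orb_inj hO i.2 j.2 e')
    have hk : O.k ≤ Nat.card (MulAction.orbit S b) := by
      simpa using Nat.card_le_card_of_injective f hf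
    let S' : Subgroup K := (MulAction.stabilizer S b).map S.subtype
    haveI : Finite S' := Finite.of_surjective
      (fun s : MulAction.stabilizer S b => (⟨((s : S) : K), ⟨s, s.2, rfl⟩⟩ : S'))
      (fun ⟨p, q, hq, e⟩ => ⟨⟨q, hq⟩, Subtype.ext e⟩)
    have hrec : CC.chainSize rest * Nat.card T ≤ Nat.card S' := by
      refine chain_le_mul h g φ hφ T rest (O.b :: bs) hrest (fun O' hO' => hT O' (List.mem_cons_of_mem _ hO')) S'
        (fun s hs => ⟨⟨s, hTS hs⟩, hT O List.mem_cons_self s hs b rfl, rfl⟩) fun s hs hw => ?_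
      obtain ⟨O', hO', w, hw', rfl⟩ := hw
      have hmem : (w.map g).prod ∈ S :=
        hS _ (fun c hc u hu => hs c (by simp [hc]) u hu) ⟨O', by simp [hO'], w, hw', rfl⟩
      exact ⟨⟨_, hmem⟩, hs O.b (by simp) b rfl, rfl⟩
    have hcard : Nat.card S' = Nat.card (MulAction.stabilizer S b) :=
      Nat.card_congr (Subgroup.equivMapOfInjective _ _ S.subtype_injective).symm.toEquiv
    have hos : Nat.card (MulAction.orbit S b) * Nat.card (MulAction.stabilizer S b) = Nat.card S := by
      rw [← Nat.card_congr (MulAction.orbitProdStabilizerEquivGroup S b), Nat.card_prod]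
    rw [CC.chainSize, List.map_cons, List.prod_cons, mul_assoc, ← hos]
    exact Nat.mul_le_mul hk (hcard ▸ hrec)

theorem base_facts : (RepS44.levels.map Orb.b == baseL) = true ∧ baseL.all (fun b => Nat.blt b 2058) = true := by
  decide +kernel

/-- A point of the base. -/
def basePt (j : Fin baseL.length) : Fin rep.P.n :=
  ⟨baseL[(j : ℕ)], Nat.blt_eq.mp (List.all_eq_true.1 base_facts.2 _ (List.getElem_mem j.2))⟩

/-- The code of an element. -/
def codeE (g : pres.Grp) : ℕ := packL (List.ofFn fun j => (rep.hom g⁻¹ (basePt j) : ℕ))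

theorem fld_eq (m j : ℕ) : fld m 12 j = m >>> (12 * j) % 4096 := by
  show Nat.land (Nat.shiftRight m (12 * j)) (2 ^ 12 - 1) = _
  exact Nat.and_two_pow_sub_one_eq_mod _ 12

theorem fld_packL : ∀ (l : List ℕ), (∀ x ∈ l, x < 4096) → ∀ j < l.length, fld (packL l) 12 j = l.getD j 0
  | [], _, j, hj => absurd hj (Nat.not_lt_zero j)
  | x :: l, h, j, hj => by
    simp only [List.mem_cons, forall_eq_or_imp] at h
    have hx := h.1
    show fld (packL l * 4096 + x) 12 j = _
    cases j with
    | zero =>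
      rw [fld_eq, Nat.mul_zero, Nat.shiftRight_zero, List.getD_cons_zero]
      omega
    | succ j =>
      rw [fld_eq, show 12 * (j + 1) = 12 + 12 * j by ring, Nat.shiftRight_add,
        show (packL l * 4096 + x) >>> 12 = packL l by rw [Nat.shiftRight_eq_div_pow]; omega, List.getD_cons_succ,
        ← fld_eq]
      exact fld_packL l h.2 j (by simpa using hj)

theorem code_lt (g : pres.Grp) : ∀ x ∈ List.ofFn (fun j => (rep.hom g⁻¹ (basePt j) : ℕ)), x < 4096 := by
  intro x hx
  obtain ⟨j, rfl⟩ := List.mem_ofFn.1 hx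
  exact lt_trans (rep.hom g⁻¹ (basePt j)).2 (show (2058 : ℕ) < 4096 by norm_num)

theorem eq_of_imgs (g h : pres.Grp) (e : ∀ j, (rep.hom g⁻¹ (basePt j) : ℕ) = rep.hom h⁻¹ (basePt j)) : g = h := by
  haveI := order.1
  let T : Subgroup pres.Grp :=
    { carrier := {s | ∀ j, rep.hom s (basePt j) = basePt j}
      one_mem' := fun j => by rw [map_one]; rfl
      mul_mem' := fun {a b} ha hb j => by rw [map_mul, Equiv.Perm.mul_apply, hb j, ha j]
      inv_mem' := fun {a} ha j => by
        rw [map_inv]
        exact Equiv.Perm.inv_eq_iff_eq.2 (ha j).symm }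
  have hle := chain_le_mul rep.valid pres.gen rep.hom rep.hom_gen T RepS44.levels [] RepS44.chain_ok
    (fun O hO s hs u hu => by
      have hb : O.b ∈ baseL := by
        rw [← beq_iff_eq.1 base_facts.1]; exact List.mem_map_of_mem hO
      obtain ⟨j, hj, hjb⟩ := List.getElem_of_mem hb
      have : u = basePt ⟨j, hj⟩ := Fin.ext (by rw [hu]; exact hjb.symm)
      rw [this]; exact hs _) ⊤ le_top (fun _ _ _ => Subgroup.mem_top _)
  rw [RepS44.chain_size, Subgroup.card_top, order.2.1] at hle
  have h1 : Nat.card T ≤ 1 := Nat.le_of_mul_le_mul_left (hle.trans_eq (mul_one _).symm) (by norm_num)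
  have hsub : Subsingleton T := Finite.card_le_one_iff_subsingleton.1 h1
  have hmem : g * h⁻¹ ∈ T := fun j => by
    have hp : rep.hom g⁻¹ (basePt j) = rep.hom h⁻¹ (basePt j) := Fin.ext (e j)
    rw [map_mul, Equiv.Perm.mul_apply, ← hp, ← Equiv.Perm.mul_apply, ← map_mul, mul_inv_cancel, map_one]
    rfl
  exact mul_inv_eq_one.1 (congrArg Subtype.val (hsub.elim ⟨_, hmem⟩ 1))

theorem codeE_inj (g h : pres.Grp) (e : codeE g = codeE h) : g = h := by
  refine eq_of_imgs g h fun j => ?_
  have e1 := fld_packL _ (code_lt g) j (by simp)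
  have e2 := fld_packL _ (code_lt h) j (by simp)
  rw [List.getD_eq_getElem _ _ (by simp), List.getElem_ofFn] at e1 e2
  exact e1.symm.trans ((congrArg (fun m => fld m 12 j) e).trans e2)

/-- The value of a word. -/
def val (w : List ℕ) : pres.Grp := (w.map pres.gen).prod

theorem val_append (v w : List ℕ) : val (v ++ w) = val v * val w := by simp [val]

theorem val_inv (w : List ℕ) : (val w)⁻¹ = val w.reverse := by
  induction w with
  | nil => simp [val]
  | cons a w ih =>
    rw [show a :: w = [a] ++ w from rfl, val_append, mul_inv_rev, ih, List.reverse_append, val_append]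
    congr 1
    refine inv_eq_of_mul_eq_one_right ?_
    simp [val, CC.Pres.gen_sq pres_ok]

theorem inv_apply {w : List ℕ} (hw : ∀ x ∈ w, x < 7) (u : Fin rep.P.n) :
    (rep.hom (val w)⁻¹ u : ℕ) = w.reverse.foldr (fun x v => RepS44.rows x v) (u : ℕ) := by
  rw [val_inv, val, CC.ev_eq rep.valid pres.gen rep.hom rep.hom_gen
    (fun x hx => hw x (List.mem_reverse.1 hx)) u]
  rfl

theorem imgs_eq {w : List ℕ} (hw : ∀ x ∈ w, x < 7) :
    List.ofFn (fun j => (rep.hom (val w)⁻¹ (basePt j) : ℕ)) = invImgs w := by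
  refine List.ext_getElem (by simp [invImgs]) fun j h1 h2 => ?_
  rw [List.getElem_ofFn, inv_apply hw]
  simp [invImgs, basePt]

theorem codeE_one : codeE 1 = oneC := by
  rw [codeE, oneC, show (1 : pres.Grp) = val [] by simp [val], imgs_eq (by simp)]
  simp [invImgs]

theorem expand_lt {gs : List (List ℕ)} (h : CC.lettersOK 7 gs = true) (w : List ℕ) :
    ∀ x ∈ expand gs w, x < 7 := by
  intro x hx
  simp only [expand, List.mem_flatten, List.mem_map] at hx
  obtain ⟨l, ⟨s, -, rfl⟩, hxl⟩ := hx
  by_cases hs : s < gs.length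
  · rw [List.getD_eq_getElem _ _ hs] at hxl
    exact CC.lettersOK_spec h (List.getElem_mem hs) hxl
  · rw [List.getD_eq_default _ _ (not_lt.1 hs)] at hxl
    simp at hxl

theorem code_step {gs : List (List ℕ)} (h : CC.lettersOK 7 gs = true) (s : ℕ) (g : pres.Grp) :
    codeE (g * val (gs.getD s [])) = actC gs s (codeE g) := by
  have hlt : ∀ x ∈ gs.getD s [], x < 7 := fun x hx => expand_lt h [s] x (by simpa [expand] using hx)
  rw [codeE, actC]
  congr 1
  refine List.ext_getElem (by simp) fun j h1 h2 => ?_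
  simp only [List.length_map, List.length_range] at h2
  rw [List.getElem_ofFn, List.getElem_map, List.getElem_range, codeE,
    fld_packL _ (code_lt g) j (by simpa using h2), List.getD_eq_getElem (List.ofFn _) 0 (n := j) (by simpa using h2), List.getElem_ofFn,
    mul_inv_rev, map_mul, Equiv.Perm.mul_apply, inv_apply hlt]

theorem val_expand {gs : List (List ℕ)} {Γ : Type} [Group Γ] {σ : Γ →* pres.Grp} {x : ℕ → Γ}
    (hx : ∀ s, σ (x s) = val (gs.getD s [])) : ∀ w : List ℕ, σ (Lie.CentralLocal.ev x w) = val (expand gs w)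
  | [] => by simp [Lie.CentralLocal.ev, expand, val]
  | s :: w => by
    rw [Lie.CentralLocal.ev_cons, map_mul, hx, val_expand hx w, ← val_append]
    rfl

/-- No stem extension of prime kernel order. -/
theorem no_prime (C : Lie.CentralLocal.Cert) (gens : List (List ℕ)) (specs : List Spec) (ord : Lie.Janko.Tree ℕ)
    (combos : List (List (ℤ × ℕ) × List (ℤ × (ℕ × ℕ))))
    (hact : C.act = actC gens) (hone : C.one = oneC) (hv : C.Valid) (hord : ∀ k < C.N, C.ordCheck ord k = true)
    (hgens : CC.lettersOK 7 gens = true ∧ (specs.all (specOK C gens)) = true)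
    (hkill : ((List.range C.P).all fun p => C.killCheck (specs.map extOf) (combos.getD p ([], [])) p) = true)
    (hq : C.q.Prime) (hidx : ¬ C.q ∣ 4030387200 / C.N)
    {Γ : Type} [Group Γ] [Finite Γ] {σ : Γ →* pres.Grp} (hσ : Cfsg.IsStemExtension σ)
    (hcard : Nat.card σ.ker = C.q) : False := by
  obtain ⟨hg, hs⟩ := hgens
  rw [List.all_eq_true] at hs
  choose x hx using fun s => hσ.1 (val (gens.getD s []))
  let S : Lie.CentralLocal.Setup C Γ pres.Grp :=
    { σ := σ, central := hσ.2.1
      exponent := fun z => by rw [← hcard]; exact pow_card_eq_one'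
      code := codeE, x := x
      code_step := fun g s _ => by rw [hact, hx]; exact code_step hg s g
      code_one := by rw [hone, codeE_one]
      code_inj := codeE_inj
      valid := hv }
  have hconj : ∀ h a c : List ℕ, (∀ y ∈ h, y < 7) → conjOK gens h a c = true →
      val h * S.σ (Lie.CentralLocal.ev S.x a) = S.σ (Lie.CentralLocal.ev S.x c) * val h := by
    intro h a c hh hok
    rw [val_expand hx, val_expand hx, ← val_append, ← val_append]
    refine eq_of_imgs _ _ fun j => ?_
    have hlt : ∀ u v : List ℕ, (∀ y ∈ u, y < 7) → (∀ y ∈ v, y < 7) → ∀ y ∈ u ++ v, y < 7 :=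
      fun u v hu hv y hy => (List.mem_append.1 hy).elim (hu y) (hv y)
    have e := congrArg (fun l => l.getD j 0) ((beq_iff_eq.1 hok))
    simp only [← imgs_eq (hlt _ _ hh (expand_lt hg a)), ← imgs_eq (hlt _ _ (expand_lt hg c) hh)] at e
    rwa [List.getD_eq_getElem _ _ (by simp), List.getD_eq_getElem _ _ (by simp), List.getElem_ofFn,
      List.getElem_ofFn] at e
  have hext : ∀ e ∈ specs.map extOf, S.ExtHolds e := by
    intro e he
    obtain ⟨⟨⟨n, a, b, c, d⟩, h⟩, hmem, rfl⟩ := List.mem_map.1 he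
    have hsp := hs _ hmem
    simp only [specOK, Bool.and_eq_true, Bool.or_eq_true, Bool.not_eq_true', Nat.beq_eq, List.all_eq_true,
      Nat.blt_eq] at hsp
    obtain ⟨hok, -, hh, hac, hrest⟩ := hsp
    rcases Nat.eq_zero_or_pos n with rfl | hn
    · have hbd : conjOK gens h b d = true := by
        rcases hrest with h' | h'
        · exact h'.2
        · exact absurd h'.1 (by decide)
      exact S.ext_comm hok _ (hσ.1 _) (hconj h a c hh hac) (hconj h b d hh hbd)
    · have hn0 : Nat.beq n 0 = false := by rw [← Bool.not_eq_true, Nat.beq_eq]; omega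
      have hq' : C.q ∣ n := by
        rcases hrest with h' | h'
        · omega
        · exact Nat.dvd_of_mod_eq_zero h'.2
      simp only [extOf, hn0, cond_false] at hok ⊢
      exact S.ext_pow hq' hok _ (hσ.1 _) (hconj h a c hh hac)
  obtain ⟨hmeet, hN⟩ := S.ker_meet hord (S.vanish hext hkill)
  have hr1 : Set.range (fun s : {s // s < C.k} => x s) = S.x '' {s | s < C.k} := by
    rw [Set.image_eq_range]; rfl
  have hr2 : Set.range (fun s : {s // s < C.k} => σ (x s)) = (fun s => S.σ (S.x s)) '' {s | s < C.k} := by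
    rw [Set.image_eq_range]; rfl
  refine Lie.CentralLocal.no_kernel hσ hq hcard (fun s : {s // s < C.k} => x s) (by rw [hr1]; exact hmeet) ?_
  rw [hr2]
  haveI := order.1
  have h := Subgroup.card_mul_index (Subgroup.closure ((fun s => S.σ (S.x s)) '' {s | s < C.k}))
  rw [hN, order.2.1] at h
  rw [show (4030387200 : ℕ) = C.N * _ from h.symm, Nat.mul_div_cancel_left _ hv.npos] at hidx
  exact hidx

theorem multiplier : Cfsg.HasCyclicSchurMultiplier Cfsg.Spor.He 1 := by
  haveI : Finite pres.Grp := order.1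
  show Cfsg.HasCyclicSchurMultiplier pres.Grp 1
  refine Solv.hasCyclicSchur_one_of fun Γ _ _ σ hσ k hk => ?_
  have hno : ∀ q, q.Prime → ∀ z : σ.ker, z ^ q = 1 → z = 1 := by
    intro q hq z hz
    by_cases h4 : q = 2 ∨ q = 3 ∨ q = 5 ∨ q = 7
    · by_contra hne
      obtain ⟨Δ, _, _, τ, hτ, hcard⟩ := Lie.CentralLocal.exists_stem_of_prime hσ hq hz hne
      rcases h4 with rfl | rfl | rfl | rfl
      · exact no_prime twoCert twoGens twoSpecs twoOrd twoCombos rfl rfl two_valid two_ord two_gens two_kills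
          hq (by decide +kernel) hτ hcard
      · exact no_prime threeCert threeGens threeSpecs threeOrd threeCombos rfl rfl three_valid three_ord three_gens
          three_kills hq (by decide +kernel) hτ hcard
      · exact no_prime fiveCert fiveGens fiveSpecs fiveOrd fiveCombos rfl rfl five_valid five_ord five_gens
          five_kills hq (by decide +kernel) hτ hcard
      · exact no_prime sevenCert sevenGens sevenSpecs sevenOrd sevenCombos rfl rfl seven_valid seven_ord seven_gens
          seven_kills hq (by decide +kernel) hτ hcard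
    refine Lie.CentralTable.ker_no_torsion hσ hq (fun h => ?_) z hz
    rw [order.2.1, show (4030387200 : ℕ) = 2 ^ 10 * 3 ^ 3 * 5 ^ 2 * 7 ^ 3 * 17 by norm_num] at h
    have hdvd : q ∣ 2 ^ 10 * 3 ^ 3 * 5 ^ 2 * 7 ^ 3 * 17 := (dvd_pow_self q two_ne_zero).trans h
    simp only [hq.dvd_mul] at hdvd
    have key : ∀ p : ℕ, p.Prime → q ∣ p → q = p := fun p hp e => (Nat.prime_dvd_prime_iff_eq hq hp).1 e
    rcases hdvd with (((e | e) | e) | e) | e
    · exact h4 (Or.inl (key 2 Nat.prime_two (hq.dvd_of_dvd_pow e)))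
    · exact h4 (Or.inr (Or.inl (key 3 Nat.prime_three (hq.dvd_of_dvd_pow e))))
    · exact h4 (Or.inr (Or.inr (Or.inl (key 5 Nat.prime_five (hq.dvd_of_dvd_pow e)))))
    · exact h4 (Or.inr (Or.inr (Or.inr (key 7 (by norm_num) (hq.dvd_of_dvd_pow e)))))
    · obtain rfl := key 17 (by norm_num) e
      norm_num at h
  by_contra hne
  have hne' : (⟨k, hk⟩ : σ.ker) ≠ 1 := fun e => hne (congrArg Subtype.val e)
  have hpos : orderOf (⟨k, hk⟩ : σ.ker) ≠ 1 := fun e => hne' (orderOf_eq_one_iff.1 e)
  obtain ⟨q, hq, hd⟩ := Nat.exists_prime_and_dvd hpos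
  have hord : orderOf ((⟨k, hk⟩ : σ.ker) ^ (orderOf (⟨k, hk⟩ : σ.ker) / q)) = q :=
    orderOf_pow_orderOf_div (orderOf_pos _).ne' hd
  have h1 := hno q hq _ (hord ▸ pow_orderOf_eq_one _)
  rw [h1, orderOf_one] at hord
  exact hq.one_lt.ne hord

end Cfsg.Agent.Spor.HeMult
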