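import Cfsg.Agent.Lib.Lie.CentralLocal
import Cfsg.Agent.Lib.Spor.HeMult.Defs

/-!
Central table on a Sylow subgroup for the prime 7 of the Held group (generated).
-/

set_option autoImplicit false
set_option maxRecDepth 100000
set_option maxHeartbeats 0

namespace Cfsg.Agent.Spor.HeMult

open Cfsg.Agent.Lie

def sevenElt0 : Janko.Tree (ℕ) :=
  (.node (.node (.node (.node (.node (.node (.leaf 2336713871360) (.leaf 102122310141203)) (.leaf 12540785815738)) (.node (.node (.leaf 32791340852298) (.leaf 85856519745601)) (.leaf 33900753273237))) (.node (.node (.node (.leaf 126872011355253) (.leaf 33071689078312)) (.leaf 88192094040165)) (.node (.leaf 124728890658873) (.leaf 125830635673066)))) (.node (.node (.node (.node (.leaf 42608481347139) (.leaf 32672472040879)) (.leaf 35751398334726)) (.node (.node (.leaf 35672291873726) (.leaf 136014518658353)) (.leaf 35261400351146))) (.node (.node (.node (.leaf 123300610236523) (.leaf 126100543346204)) (.leaf 55680196777153))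 (.node (.leaf 134299807081356) (.leaf 64966886113871))))) (.node (.node (.node (.node (.node (.leaf 107438075113852) (.leaf 70787689890909)) (.leaf 38514220118667)) (.node (.node (.leaf 20014773765794) (.leaf 38778895876250)) (.leaf 25177270531605))) (.node (.node (.node (.leaf 9974055810133) (.leaf 137870149248164)) (.leaf 23444186526082)) (.node (.leaf 73627974448874) (.leaf 55391840928473)))) (.node (.node (.node (.node (.leaf 82756070975034) (.leaf 77172142728772)) (.leaf 51228765897353)) (.node (.leaf 36152525543410) (.leaf 14097325110834))) (.node (.node (.node (.leaf 124115699114380) (.leaf 98977476793057)) (.leaf 76917076862694)) (.node (.leaf 90329354334834) (.leaf 74915038757004))))))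

def sevenElt1 : Janko.Tree (ℕ) :=
  (.node (.node (.node (.node (.node (.node (.leaf 22705013212397) (.leaf 39874326513067)) (.leaf 57113806120712)) (.node (.node (.leaf 139525302087788) (.leaf 65918124005179)) (.leaf 137515242706860))) (.node (.node (.node (.leaf 72932202288440) (.leaf 124871698190497)) (.leaf 76717146784380)) (.node (.leaf 24075976656351) (.leaf 50255468734435)))) (.node (.node (.node (.node (.leaf 48115949745510) (.leaf 28672383427236)) (.leaf 16162717729643)) (.node (.node (.leaf 116421201671508) (.leaf 23233967543004)) (.leaf 52227258029433))) (.node (.node (.node (.leaf 126035530712935) (.leaf 118910919865486)) (.leaf 110507732239435)) (.node (.leaf 81856792233595) (.leaf 131698446493510))))) (.node (.node (.node (.node (.node (.leaf 98715367991195) (.leaf 65087597073308)) (.leaf 78097191756075)) (.node (.node (.leaf 27921450291398) (.leaf 63578170188858)) (.leaf 60488191492655))) (.node (.node (.node (.leaf 50046067914481) (.leaf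 30954939396980)) (.leaf 85491917825081)) (.node (.leaf 2984386192200) (.leaf 105907015631071)))) (.node (.node (.node (.node (.leaf 34085046224556) (.leaf 118284998247164)) (.leaf 35468714170287)) (.node (.leaf 133263514894764) (.leaf 100818671878929))) (.node (.node (.node (.leaf 68245575815827) (.leaf 115269323378921)) (.leaf 30889474462657)) (.node (.leaf 86062776635653) (.leaf 79056140554810))))))

def sevenElt2 : Janko.Tree (ℕ) :=
  (.node (.node (.node (.node (.node (.node (.leaf 117450295862845) (.leaf 111532755456097)) (.leaf 114979906719998)) (.node (.node (.leaf 90643844674144) (.leaf 120478985564812)) (.leaf 100079588083072))) (.node (.node (.node (.leaf 108540198933186) (.leaf 87422854763366)) (.leaf 49166427881680)) (.node (.leaf 86874021159394) (.leaf 87766771467702)))) (.node (.node (.node (.node (.leaf 23512346007235) (.leaf 70442449999269)) (.leaf 89849782755632)) (.node (.node (.leaf 112373543793132) (.leaf 106253986952014)) (.leaf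 94030933569654))) (.node (.node (.node (.leaf 27788456120623) (.leaf 13012076963350)) (.leaf 130785805194212)) (.node (.leaf 52118091043259) (.leaf 119052890628537))))) (.node (.node (.node (.node (.node (.leaf 648188997885) (.leaf 24898767208977)) (.leaf 51005372572019)) (.node (.node (.leaf 136896750314279) (.leaf 31562442961814)) (.leaf 141081307820926))) (.node (.node (.node (.leaf 89637429671592) (.leaf 64887916217519)) (.leaf 68736489152647)) (.node (.leaf 28341456103361) (.leaf 56286979485912)))) (.node (.node (.node (.node (.leaf 118074828014701) (.leaf 112455685739208)) (.leaf 120953546728700)) (.node (.leaf 30265399330196) (.leaf 67008402522747))) (.node (.node (.node (.leaf 107358667964860) (.leaf 37959011234470)) (.leaf 106380811761241)) (.node (.leaf 139169997914505) (.leaf 16457846006994))))))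

def sevenElt3 : Janko.Tree (ℕ) :=
  (.node (.node (.node (.node (.node (.node (.leaf 20412627662667) (.leaf 106180993356222)) (.leaf 30994169323893)) (.node (.node (.leaf 44395973952100) (.leaf 73558149773304)) (.leaf 72176457852361))) (.node (.node (.node (.leaf 7038449799466) (.leaf 47923430966104)) (.leaf 138958787884419)) (.node (.leaf 40290791675081) (.leaf 129152910152810)))) (.node (.node (.node (.node (.leaf 86267374612711) (.leaf 115959793086839)) (.leaf 21180705100330)) (.node (.node (.leaf 60567214999106) (.leaf 135037601699299)) (.leaf 43180852123613))) (.node (.node (.node (.leaf 48674478690945) (.leaf 13341585438695)) (.leaf 65023077679196)) (.node (.leaf 141041632485533) (.leaf 23732201730157))))) (.node (.node (.node (.node (.node (.leaf 40958924714516) (.leaf 45223831812001)) (.leaf 138845506396810)) (.node (.node (.leaf 69682731651508) (.leaf 102397930632386)) (.leaf 33018320462691))) (.node (.node (.node (.leaf 2224950935887) (.leaf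 119941464670259)) (.leaf 11371903616345)) (.node (.leaf 113672619533582) (.leaf 59121953272676)))) (.node (.node (.node (.node (.leaf 24210888841204) (.leaf 131907126972433)) (.leaf 140083500028040)) (.node (.leaf 1885532075142) (.leaf 123035616293990))) (.node (.node (.node (.leaf 135956006666300) (.leaf 40917434294819)) (.leaf 32851772179463)) (.node (.leaf 6147007988005) (.leaf 38020934084497))))))

def sevenElt4 : Janko.Tree (ℕ) :=
  (.node (.node (.node (.node (.node (.node (.leaf 69630802072315) (.leaf 73198697173918)) (.leaf 17073205016511)) (.node (.node (.leaf 9491359913607) (.leaf 61877080642007)) (.leaf 77313573791070))) (.node (.node (.node (.leaf 138621065483206) (.leaf 111607968093841)) (.leaf 42207119098039)) (.node (.leaf 134924475147624) (.leaf 109641494217914)))) (.node (.node (.node (.node (.leaf 86457715646856) (.leaf 71292097856085)) (.leaf 27175638418196)) (.node (.node (.leaf 83093596092414) (.leaf 65354662098542)) (.leaf 72984907699006)))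 (.node (.node (.node (.leaf 56040737252504) (.leaf 86816172630288)) (.leaf 139119913784280)) (.node (.leaf 63921363406975) (.leaf 89419916854748))))) (.node (.node (.node (.node (.node (.leaf 96142512437129) (.leaf 56490851075242)) (.leaf 73057635300333)) (.node (.node (.leaf 51757467452496) (.leaf 55901287753418)) (.leaf 26272047924390))) (.node (.node (.node (.leaf 67721151411744) (.leaf 130929649579331)) (.leaf 118836645725342)) (.node (.leaf 5177121539267) (.leaf 120211354572683)))) (.node (.node (.node (.node (.leaf 132509392033604) (.leaf 101440488846154)) (.leaf 121720145277330)) (.node (.leaf 19734368150948) (.leaf 100743897653370))) (.node (.node (.node (.leaf 131067575998226) (.leaf 43430866571819)) (.leaf 97664321552475)) (.node (.leaf 7851824383435) (.leaf 1249452496491))))))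

def sevenElt5 : Janko.Tree (ℕ) :=
  (.node (.node (.node (.node (.node (.node (.leaf 122871683540338) (.leaf 86402411545737)) (.leaf 44270129185448)) (.node (.node (.leaf 71361302353600) (.leaf 70723386988371)) (.leaf 124795147784391))) (.node (.node (.node (.leaf 15692978144159) (.leaf 124046681597790)) (.leaf 113489915331160)) (.node (.leaf 29511448716290) (.leaf 106043736224338)))) (.node (.node (.node (.node (.leaf 51827242259792) (.leaf 67351230522006)) (.leaf 98214982779100)) (.node (.node (.leaf 35119431254495) (.leaf 33213391189051)) (.leaf 765561951070))) (.node (.node (.node (.leaf 37733187785911) (.leaf 106460898918858)) (.leaf 47830255489744)) (.node (.leaf 914310575273) (.leaf 56832485718012))))) (.node (.node (.node (.node (.node (.leaf 1599272424150) (.leaf 49765857071116)) (.leaf 90236376504217)) (.node (.node (.leaf 39941857391992) (.leaf 60830534030773)) (.leaf 9842847532122))) (.node (.node (.node (.leaf 1464588796037) (.leaf 120619965445473))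 (.leaf 39261306733892)) (.node (.leaf 92911911325799) (.leaf 106123750868281)))) (.node (.node (.node (.node (.leaf 80011490615718) (.leaf 11690590171933)) (.leaf 125972555986580)) (.node (.leaf 39516961792639) (.leaf 719977457434))) (.node (.node (.node (.leaf 84689850573402) (.leaf 87091104243952)) (.leaf 13153493475411)) (.node (.leaf 34032671002882) (.leaf 85371521196085))))))

def sevenElt6 : Janko.Tree (ℕ) :=
  (.node (.node (.node (.node (.node (.node (.leaf 34462433182769) (.leaf 25383579236237)) (.leaf 4280895500324)) (.node (.node (.leaf 131768897185275) (.leaf 128783809803714)) (.leaf 127682702513870))) (.node (.node (.node (.leaf 119868600848403) (.leaf 103838339330241)) (.leaf 6076244231187)) (.node (.leaf 21587183711431) (.leaf 66135841482594)))) (.node (.node (.node (.node (.leaf 76507734775671) (.leaf 29230375727922)) (.leaf 69778691953097)) (.node (.node (.leaf 128251603809423) (.leaf 98406831210818)) (.leaf 88594898483138))) (.node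 (.node (.node (.leaf 51622590190205) (.leaf 94776422686883)) (.leaf 106320480761265)) (.node (.leaf 15805833036797) (.leaf 87966468896173))))) (.node (.node (.node (.node (.node (.leaf 58757923401869) (.leaf 14390977558143)) (.leaf 72531581931644)) (.node (.node (.leaf 59194717046706) (.leaf 134169596577665)) (.leaf 117167431627453))) (.node (.node (.node (.leaf 6891243644078) (.leaf 86729769644249)) (.leaf 123167435297216)) (.node (.leaf 4694122123553) (.leaf 122265544754530)))) (.node (.node (.node (.node (.leaf 94858787473172) (.leaf 121023055295481)) (.leaf 8688955663183)) (.node (.leaf 61650588014144) (.leaf 90165826794222))) (.node (.node (.node (.leaf 92116302149221) (.leaf 48736461332775)) (.leaf 50448207704909)) (.node (.leaf 46893177816607) (.leaf 105639672271741))))))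

def sevenElt7 : Janko.Tree (ℕ) :=
  (.node (.node (.node (.node (.node (.node (.leaf 132980846916648) (.leaf 58420280059321)) (.leaf 117725040657270)) (.node (.node (.leaf 54708678125054) (.leaf 44948281505427)) (.leaf 91402581107589))) (.node (.node (.node (.leaf 32469735343375) (.leaf 15495457445282)) (.leaf 85995498346332)) (.node (.leaf 12035894420131) (.leaf 78026671989272)))) (.node (.node (.node (.node (.leaf 46209958216611) (.leaf 4844324192943)) (.leaf 41998577178046)) (.node (.leaf 130509566763124) (.leaf 74728527675459))) (.node (.node (.node (.leaf 12451749311617) (.leaf 89885466841420)) (.leaf 68545168531891)) (.node (.leaf 102476835836153) (.leaf 139872808244311))))) (.node (.node (.node (.node (.node (.leaf 28198833090697) (.leaf 119527782892664)) (.leaf 106866175767717)) (.node (.node (.leaf 118501656520326) (.leaf 29762529748787)) (.leaf 42140649575403))) (.node (.node (.node (.leaf 1040070268376) (.leaf 50181106766271)) (.leaf 95041353233666))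 (.node (.leaf 129832348783942) (.leaf 96361486636116)))) (.node (.node (.node (.node (.leaf 53493601071427) (.leaf 13073703068087)) (.leaf 16234458767582)) (.node (.leaf 63451215172922) (.leaf 53084374165427))) (.node (.node (.node (.leaf 113005110501670) (.leaf 117679269016800)) (.leaf 125425768650753)) (.node (.leaf 130431283955432) (.leaf 140755189424444))))))

def sevenElt : Janko.Tree (ℕ) := (.node (.node (.node sevenElt0 sevenElt4) (.node sevenElt2 sevenElt6)) (.node (.node sevenElt1 sevenElt5) (.node sevenElt3 sevenElt7)))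

def sevenNext0 : Janko.Tree (ℕ) :=
  (.node (.node (.node (.node (.node (.node (.node (.leaf 1) (.leaf 289)) (.leaf 168)) (.node (.node (.leaf 105) (.leaf 334)) (.leaf 10))) (.node (.node (.node (.leaf 60) (.leaf 308)) (.leaf 199)) (.node (.leaf 142) (.leaf 265)))) (.node (.node (.node (.node (.leaf 32) (.leaf 303)) (.leaf 198)) (.node (.node (.leaf 108) (.leaf 342)) (.leaf 247))) (.node (.node (.node (.leaf 83) (.leaf 81)) (.leaf 221)) (.node (.leaf 143) (.leaf 29))))) (.node (.node (.node (.node (.node (.leaf 17) (.leaf 298)) (.leaf 185)) (.node (.node (.leaf 93) (.leaf 129)) (.leaf 235))) (.node (.node (.node (.leaf 73) (.leaf 319)) (.leaf 210)) (.node (.leaf 155) (.leaf 277)))) (.node (.node (.node (.node (.leaf 46) (.leaf 53)) (.leaf 205)) (.node (.leaf 120) (.leaf 256))) (.node (.node (.node (.leaf 0) (.leaf 325)) (.leaf 232)) (.node (.leaf 156) (.leaf 279)))))) (.node (.node (.node (.node (.node (.node (.leaf 9) (.leaf 294)) (.leaf 172)) (.node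 (.node (.leaf 110) (.leaf 122)) (.leaf 227))) (.node (.node (.node (.leaf 67) (.leaf 314)) (.leaf 207)) (.node (.leaf 148) (.leaf 270)))) (.node (.node (.node (.node (.leaf 39) (.leaf 307)) (.leaf 183)) (.node (.node (.leaf 126) (.leaf 177)) (.leaf 249))) (.node (.node (.node (.leaf 68) (.leaf 330)) (.leaf 225)) (.node (.leaf 166) (.leaf 272))))) (.node (.node (.node (.node (.node (.leaf 24) (.leaf 37)) (.leaf 192)) (.node (.node (.leaf 100) (.leaf 338)) (.leaf 253))) (.node (.node (.node (.leaf 80) (.leaf 323)) (.leaf 216)) (.node (.leaf 158) (.leaf 20)))) (.node (.node (.node (.node (.leaf 52) (.leaf 305)) (.leaf 209)) (.node (.leaf 135) (.leaf 261))) (.node (.node (.node (.leaf 98) (.leaf 329)) (.leaf 237)) (.node (.leaf 173) (.leaf 16)))))))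

def sevenNext1 : Janko.Tree (ℕ) :=
  (.node (.node (.node (.node (.node (.node (.node (.leaf 2) (.leaf 296)) (.leaf 175)) (.node (.node (.leaf 99) (.leaf 71)) (.leaf 237))) (.node (.node (.node (.leaf 61) (.leaf 317)) (.leaf 212)) (.node (.leaf 143) (.leaf 252)))) (.node (.node (.node (.node (.leaf 33) (.leaf 304)) (.leaf 199)) (.node (.node (.leaf 122) (.leaf 125)) (.leaf 257))) (.node (.node (.node (.leaf 84) (.leaf 326)) (.leaf 184)) (.node (.leaf 160) (.leaf 282))))) (.node (.node (.node (.node (.node (.leaf 18) (.leaf 277)) (.leaf 186)) (.node (.node (.leaf 110) (.leaf 340)) (.leaf 249))) (.node (.node (.node (.leaf 74) (.leaf 38)) (.leaf 219)) (.node (.leaf 156) (.leaf 26)))) (.node (.node (.node (.node (.leaf 43) (.leaf 310)) (.leaf 206)) (.node (.leaf 130) (.leaf 263))) (.node (.node (.node (.leaf 91) (.leaf 332)) (.leaf 226)) (.node (.leaf 169) (.leaf 290)))))) (.node (.node (.node (.node (.node (.node (.leaf 10) (.leaf 17)) (.leaf 179)) (.node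 (.node (.leaf 111) (.leaf 132)) (.leaf 244))) (.node (.node (.node (.leaf 68) (.leaf 321)) (.leaf 217)) (.node (.leaf 149) (.leaf 268)))) (.node (.node (.node (.node (.leaf 40) (.leaf 308)) (.leaf 200)) (.node (.node (.leaf 127) (.leaf 146)) (.leaf 259))) (.node (.node (.node (.leaf 85) (.leaf 56)) (.leaf 13)) (.node (.leaf 147) (.leaf 284))))) (.node (.node (.node (.node (.node (.leaf 25) (.leaf 54)) (.leaf 189)) (.node (.node (.leaf 117) (.leaf 94)) (.leaf 254))) (.node (.node (.node (.leaf 81) (.leaf 72)) (.leaf 223)) (.node (.leaf 159) (.leaf 273)))) (.node (.node (.node (.node (.leaf 53) (.leaf 315)) (.leaf 210)) (.node (.leaf 136) (.leaf 11))) (.node (.node (.node (.leaf 96) (.leaf 336)) (.leaf 238)) (.node (.leaf 1) (.leaf 270)))))))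

def sevenNext2 : Janko.Tree (ℕ) :=
  (.node (.node (.node (.node (.node (.node (.node (.leaf 3) (.leaf 290)) (.leaf 169)) (.node (.node (.leaf 106) (.leaf 335)) (.leaf 14))) (.node (.node (.node (.leaf 62) (.leaf 311)) (.leaf 201)) (.node (.leaf 144) (.leaf 266)))) (.node (.node (.node (.node (.leaf 34) (.leaf 42)) (.leaf 200)) (.node (.node (.leaf 123) (.leaf 174)) (.leaf 248))) (.node (.node (.node (.leaf 61) (.leaf 84)) (.leaf 222)) (.node (.leaf 145) (.leaf 269))))) (.node (.node (.node (.node (.node (.leaf 19) (.leaf 299)) (.leaf 187)) (.node (.node (.leaf 97) (.leaf 130)) (.leaf 250))) (.node (.node (.node (.leaf 75) (.leaf 320)) (.leaf 213)) (.node (.leaf 157) (.leaf 18)))) (.node (.node (.node (.node (.leaf 47) (.leaf 55)) (.leaf 188)) (.node (.leaf 121) (.leaf 257))) (.node (.node (.node (.leaf 92) (.leaf 326)) (.leaf 233)) (.node (.leaf 159) (.leaf 281)))))) (.node (.node (.node (.node (.node (.node (.leaf 11) (.leaf 295)) (.leaf 180)) (.node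 (.node (.leaf 112) (.leaf 124)) (.leaf 246))) (.node (.node (.node (.leaf 69) (.leaf 315)) (.leaf 218)) (.node (.leaf 150) (.leaf 271)))) (.node (.node (.node (.node (.leaf 41) (.leaf 309)) (.leaf 203)) (.node (.node (.leaf 113) (.leaf 178)) (.leaf 251))) (.node (.node (.node (.leaf 70) (.leaf 57)) (.leaf 226)) (.node (.leaf 152) (.leaf 287))))) (.node (.node (.node (.node (.node (.leaf 26) (.leaf 301)) (.leaf 193)) (.node (.node (.leaf 119) (.leaf 339)) (.leaf 240))) (.node (.node (.node (.leaf 82) (.leaf 77)) (.leaf 217)) (.node (.leaf 136) (.leaf 25)))) (.node (.node (.node (.node (.leaf 54) (.leaf 316)) (.leaf 211)) (.node (.leaf 137) (.leaf 262))) (.node (.node (.node (.leaf 99) (.leaf 331)) (.leaf 239)) (.node (.leaf 2) (.leaf 283)))))))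

def sevenNext3 : Janko.Tree (ℕ) :=
  (.node (.node (.node (.node (.node (.node (.node (.leaf 4) (.leaf 297)) (.leaf 176)) (.node (.node (.leaf 103) (.leaf 82)) (.leaf 241))) (.node (.node (.node (.leaf 63) (.leaf 318)) (.leaf 214)) (.node (.leaf 145) (.leaf 24)))) (.node (.node (.node (.node (.leaf 35) (.leaf 303)) (.leaf 201)) (.node (.node (.leaf 124) (.leaf 133)) (.leaf 258))) (.node (.node (.node (.leaf 78) (.leaf 327)) (.leaf 191)) (.node (.leaf 162) (.leaf 283))))) (.node (.node (.node (.node (.node (.leaf 20) (.leaf 286)) (.leaf 188)) (.node (.node (.leaf 114) (.leaf 341)) (.leaf 251))) (.node (.node (.node (.leaf 73) (.leaf 45)) (.leaf 220)) (.node (.leaf 142) (.leaf 271)))) (.node (.node (.node (.node (.leaf 48) (.leaf 312)) (.leaf 205)) (.node (.leaf 131) (.leaf 264))) (.node (.node (.node (.leaf 93) (.leaf 333)) (.leaf 230)) (.node (.leaf 170) (.leaf 291)))))) (.node (.node (.node (.node (.node (.node (.leaf 12) (.leaf 19)) (.leaf 181))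 (.node (.node (.leaf 113) (.leaf 337)) (.leaf 247))) (.node (.node (.node (.leaf 70) (.leaf 322)) (.leaf 3)) (.node (.leaf 148) (.leaf 272)))) (.node (.node (.node (.node (.leaf 42) (.leaf 46)) (.leaf 204)) (.node (.node (.leaf 126) (.leaf 157)) (.leaf 260))) (.node (.node (.node (.leaf 87) (.leaf 75)) (.leaf 227)) (.node (.leaf 164) (.leaf 288))))) (.node (.node (.node (.node (.node (.leaf 27) (.leaf 302)) (.leaf 194)) (.node (.node (.leaf 120) (.leaf 98)) (.leaf 253))) (.node (.node (.node (.leaf 67) (.leaf 89)) (.leaf 224)) (.node (.leaf 153) (.leaf 278)))) (.node (.node (.node (.node (.leaf 55) (.leaf 30)) (.leaf 192)) (.node (.leaf 138) (.leaf 225))) (.node (.node (.node (.leaf 100) (.leaf 58)) (.leaf 240)) (.node (.leaf 150) (.leaf 293)))))))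

def sevenNext4 : Janko.Tree (ℕ) :=
  (.node (.node (.node (.node (.node (.node (.node (.leaf 5) (.leaf 291)) (.leaf 170)) (.node (.node (.leaf 107) (.leaf 336)) (.leaf 244))) (.node (.node (.node (.leaf 64) (.leaf 312)) (.leaf 204)) (.node (.leaf 146) (.leaf 267)))) (.node (.node (.node (.node (.leaf 36) (.leaf 44)) (.leaf 202)) (.node (.node (.leaf 125) (.leaf 175)) (.leaf 259))) (.node (.node (.node (.leaf 66) (.leaf 86)) (.leaf 223)) (.node (.leaf 149) (.leaf 284))))) (.node (.node (.node (.node (.node (.leaf 21) (.leaf 300)) (.leaf 189)) (.node (.node (.leaf 117) (.leaf 131)) (.leaf 252))) (.node (.node (.node (.leaf 76) (.leaf 321)) (.leaf 214)) (.node (.leaf 134) (.leaf 22)))) (.node (.node (.node (.node (.leaf 49) (.leaf 302)) (.leaf 190)) (.node (.leaf 132) (.leaf 258))) (.node (.node (.node (.leaf 94) (.leaf 327)) (.leaf 234)) (.node (.leaf 161) (.leaf 282)))))) (.node (.node (.node (.node (.node (.node (.leaf 13) (.leaf 296)) (.leaf 182))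 (.node (.node (.leaf 114) (.leaf 127)) (.leaf 229))) (.node (.node (.node (.leaf 71) (.leaf 317)) (.leaf 4)) (.node (.leaf 151) (.leaf 273)))) (.node (.node (.node (.node (.leaf 43) (.leaf 51)) (.leaf 181)) (.node (.node (.leaf 115) (.leaf 179)) (.leaf 254))) (.node (.node (.node (.leaf 74) (.leaf 88)) (.leaf 228)) (.node (.leaf 167) (.leaf 274))))) (.node (.node (.node (.node (.node (.leaf 28) (.leaf 35)) (.leaf 195)) (.node (.node (.leaf 102) (.leaf 340)) (.leaf 242))) (.node (.node (.node (.leaf 59) (.leaf 324)) (.leaf 219)) (.node (.leaf 141) (.leaf 280)))) (.node (.node (.node (.node (.leaf 56) (.leaf 31)) (.leaf 197)) (.node (.leaf 139) (.leaf 263))) (.node (.node (.node (.leaf 101) (.leaf 332)) (.leaf 241)) (.node (.leaf 163) (.leaf 285)))))))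

def sevenNext5 : Janko.Tree (ℕ) :=
  (.node (.node (.node (.node (.node (.node (.node (.leaf 6) (.leaf 298)) (.leaf 177)) (.node (.node (.leaf 108) (.leaf 323)) (.leaf 245))) (.node (.node (.node (.leaf 62) (.leaf 319)) (.leaf 215)) (.node (.leaf 140) (.leaf 28)))) (.node (.node (.node (.node (.leaf 37) (.leaf 305)) (.leaf 187)) (.node (.node (.leaf 106) (.leaf 135)) (.leaf 7))) (.node (.node (.node (.leaf 83) (.leaf 328)) (.leaf 202)) (.node (.leaf 163) (.leaf 285))))) (.node (.node (.node (.node (.node (.leaf 22) (.leaf 41)) (.leaf 190)) (.node (.node (.leaf 118) (.leaf 342)) (.leaf 233))) (.node (.node (.node (.leaf 77) (.leaf 300)) (.leaf 221)) (.node (.leaf 151) (.leaf 275)))) (.node (.node (.node (.node (.leaf 47) (.leaf 313)) (.leaf 207)) (.node (.leaf 0) (.leaf 265))) (.node (.node (.node (.leaf 95) (.leaf 334)) (.leaf 235)) (.node (.leaf 171) (.leaf 292)))))) (.node (.node (.node (.node (.node (.node (.leaf 14) (.leaf 23)) (.leaf 183)) (.node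 (.node (.leaf 115) (.leaf 338)) (.leaf 246))) (.node (.node (.node (.leaf 65) (.leaf 32)) (.leaf 195)) (.node (.leaf 152) (.leaf 274)))) (.node (.node (.node (.node (.leaf 44) (.leaf 307)) (.leaf 198)) (.node (.node (.leaf 128) (.leaf 166)) (.leaf 261))) (.node (.node (.node (.leaf 88) (.leaf 330)) (.leaf 229)) (.node (.leaf 168) (.leaf 287))))) (.node (.node (.node (.node (.node (.leaf 29) (.leaf 52)) (.leaf 193)) (.node (.node (.leaf 119) (.leaf 105)) (.leaf 255))) (.node (.node (.node (.leaf 76) (.leaf 325)) (.leaf 5)) (.node (.leaf 158) (.leaf 281)))) (.node (.node (.node (.node (.leaf 57) (.leaf 49)) (.leaf 209)) (.node (.leaf 137) (.leaf 232))) (.node (.node (.node (.leaf 102) (.leaf 60)) (.leaf 242)) (.node (.leaf 173) (.leaf 294)))))))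

def sevenNext6 : Janko.Tree (ℕ) :=
  (.node (.node (.node (.node (.node (.node (.node (.leaf 7) (.leaf 292)) (.leaf 171)) (.node (.node (.leaf 109) (.leaf 91)) (.leaf 12))) (.node (.node (.node (.leaf 65) (.leaf 313)) (.leaf 206)) (.node (.leaf 147) (.leaf 268)))) (.node (.node (.node (.node (.leaf 38) (.leaf 48)) (.leaf 6)) (.node (.node (.leaf 111) (.leaf 176)) (.leaf 8))) (.node (.node (.node (.leaf 85) (.leaf 87)) (.leaf 224)) (.node (.leaf 164) (.leaf 286))))) (.node (.node (.node (.node (.node (.leaf 23) (.leaf 33)) (.leaf 191)) (.node (.node (.leaf 95) (.leaf 337)) (.leaf 238))) (.node (.node (.node (.leaf 78) (.leaf 322)) (.leaf 215)) (.node (.leaf 138) (.leaf 278)))) (.node (.node (.node (.node (.leaf 50) (.leaf 304)) (.leaf 194)) (.node (.leaf 133) (.leaf 260))) (.node (.node (.node (.leaf 96) (.leaf 328)) (.leaf 236)) (.node (.leaf 162) (.leaf 293)))))) (.node (.node (.node (.node (.node (.node (.leaf 15) (.leaf 297)) (.leaf 184)) (.node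 (.node (.leaf 116) (.leaf 128)) (.leaf 231))) (.node (.node (.node (.leaf 72) (.leaf 318)) (.leaf 208)) (.node (.leaf 153) (.leaf 275)))) (.node (.node (.node (.node (.leaf 45) (.leaf 310)) (.leaf 186)) (.node (.leaf 118) (.leaf 255))) (.node (.node (.node (.leaf 89) (.leaf 90)) (.leaf 230)) (.node (.leaf 154) (.leaf 276))))) (.node (.node (.node (.node (.node (.leaf 30) (.leaf 40)) (.leaf 196)) (.node (.node (.leaf 104) (.leaf 341)) (.leaf 245))) (.node (.node (.node (.leaf 63) (.leaf 79)) (.leaf 220)) (.node (.leaf 160) (.leaf 27)))) (.node (.node (.node (.node (.leaf 58) (.leaf 306)) (.leaf 212)) (.node (.leaf 140) (.leaf 264))) (.node (.node (.node (.leaf 103) (.leaf 333)) (.leaf 243)) (.node (.leaf 165) (.leaf 288)))))))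

def sevenNext7 : Janko.Tree (ℕ) :=
  (.node (.node (.node (.node (.node (.node (.node (.leaf 8) (.leaf 299)) (.leaf 178)) (.node (.node (.leaf 107) (.leaf 109)) (.leaf 239))) (.node (.node (.node (.leaf 66) (.leaf 320)) (.leaf 216)) (.node (.leaf 144) (.leaf 269)))) (.node (.node (.node (.node (.leaf 36) (.leaf 306)) (.leaf 196)) (.node (.node (.leaf 123) (.leaf 139)) (.leaf 236))) (.node (.node (.node (.leaf 86) (.leaf 329)) (.leaf 211)) (.node (.leaf 165) (.leaf 267))))) (.node (.node (.node (.node (.node (.leaf 21) (.leaf 50)) (.leaf 185)) (.node (.node (.leaf 112) (.leaf 92)) (.leaf 250))) (.node (.node (.node (.leaf 79) (.leaf 309)) (.leaf 222)) (.node (.leaf 155) (.leaf 279)))) (.node (.node (.node (.node (.leaf 51) (.leaf 314)) (.leaf 208)) (.node (.leaf 134) (.leaf 9))) (.node (.node (.node (.leaf 97) (.leaf 335)) (.leaf 234)) (.node (.leaf 172) (.leaf 15)))))) (.node (.node (.node (.node (.node (.node (.leaf 16) (.leaf 266)) (.leaf 182)) (.node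 (.node (.leaf 101) (.leaf 339)) (.leaf 248))) (.node (.node (.node (.leaf 69) (.leaf 34)) (.leaf 218)) (.node (.leaf 154) (.leaf 276)))) (.node (.node (.node (.node (.leaf 39) (.leaf 311)) (.leaf 203)) (.node (.leaf 129) (.leaf 262))) (.node (.node (.node (.leaf 90) (.leaf 331)) (.leaf 231)) (.node (.leaf 167) (.leaf 289))))) (.node (.node (.node (.node (.node (.leaf 31) (.leaf 301)) (.leaf 197)) (.node (.node (.leaf 121) (.leaf 116)) (.leaf 256))) (.node (.node (.node (.leaf 80) (.leaf 324)) (.leaf 180)) (.node (.leaf 161) (.leaf 280)))) (.node (.node (.node (.node (.leaf 59) (.leaf 316)) (.leaf 213)) (.node (.leaf 141) (.leaf 243))) (.node (.node (.node (.leaf 104) (.leaf 64)) (.leaf 228)) (.node (.leaf 174) (.leaf 295)))))))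

def sevenNext : Janko.Tree (ℕ) := (.node (.node (.node sevenNext0 sevenNext4) (.node sevenNext2 sevenNext6)) (.node (.node sevenNext1 sevenNext5) (.node sevenNext3 sevenNext7)))

def sevenWord0 : Janko.Tree (ℕ) :=
  (.node (.node (.node (.node (.node (.node (.leaf 1) (.leaf 1099529519377)) (.leaf 286265617)) (.node (.node (.leaf 16781312) (.leaf 281475263037713)) (.leaf 68719542528))) (.node (.node (.node (.leaf 1048592) (.leaf 17592202891537)) (.leaf 4296081680)) (.node (.leaf 268435728) (.leaf 69005807873)))) (.node (.node (.node (.node (.leaf 65537) (.leaf 17592186114065)) (.leaf 4294971664)) (.node (.node (.leaf 16847120) (.leaf 4503599913701633)) (.leaf 68720595201))) (.node (.node (.node (.leaf 1114385) (.leaf 281474977825041)) (.leaf 4581232913)) (.node (.leaf 268505344) (.leaf 1099511697665))))) (.node (.node (.node (.node (.node (.leaf 4097) (.leaf 1099797958673)) (.leaf 4294967553)) (.node (.node (.leaf 16843008) (.leaf 4503599645265937))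 (.leaf 68719546640))) (.node (.node (.node (.leaf 1052689) (.leaf 17592472310033)) (.leaf 4311814417)) (.node (.leaf 268439825) (.leaf 1099511693312)))) (.node (.node (.node (.node (.leaf 69648) (.leaf 17592187158800)) (.leaf 4295036945)) (.node (.leaf 17895681) (.leaf 68737372177))) (.node (.node (.node (.leaf 16777216) (.leaf 281474994540817)) (.leaf 68719480832)) (.node (.leaf 269549841) (.leaf 1099512746001))))))

def sevenWord1 : Janko.Tree (ℕ) :=
  (.node (.node (.node (.node (.node (.node (.leaf 16) (.leaf 1099529523217)) (.leaf 286327057)) (.node (.node (.leaf 16781328) (.leaf 281475263041553)) (.leaf 68719542544))) (.node (.node (.node (.leaf 1048593) (.leaf 17592203874577)) (.leaf 4296081681)) (.node (.leaf 268435729) (.leaf 1099511631872)))) (.node (.node (.node (.node (.leaf 65552) (.leaf 17592186114304)) (.leaf 4294971665)) (.node (.node (.leaf 16847121) (.leaf 72057594307481873)) (.leaf 68720595216))) (.node (.node (.node (.leaf 1118208)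 (.leaf 281474977828881)) (.leaf 4581294353)) (.node (.leaf 268505345) (.leaf 1099511697680))))) (.node (.node (.node (.node (.node (.leaf 4112) (.leaf 1099797958913)) (.leaf 4294967568)) (.node (.node (.leaf 16843024) (.leaf 4503599645266177)) (.leaf 68719546641))) (.node (.node (.node (.leaf 1052928) (.leaf 17592472371473)) (.leaf 4312797457)) (.node (.leaf 268500992) (.leaf 1099511693568)))) (.node (.node (.node (.node (.leaf 69649) (.leaf 17592187158801)) (.leaf 4295037184)) (.node (.leaf 17895696) (.leaf 68737372417))) (.node (.node (.node (.leaf 16777217) (.leaf 281474994602257)) (.leaf 68719480848)) (.node (.leaf 269553681) (.leaf 1099512746241))))))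

def sevenWord2 : Janko.Tree (ℕ) :=
  (.node (.node (.node (.node (.node (.node (.leaf 17) (.leaf 1099529523457)) (.leaf 286330897)) (.node (.node (.leaf 16781329) (.leaf 281475263041793)) (.leaf 68719542545))) (.node (.node (.node (.leaf 1048832) (.leaf 17592203936017)) (.leaf 4296085521)) (.node (.leaf 268439552) (.leaf 1099511631888)))) (.node (.node (.node (.node (.leaf 65553) (.leaf 17592186114305)) (.leaf 4295032832)) (.node (.node (.leaf 17825792) (.leaf 72057594323210513)) (.leaf 68720595217))) (.node (.node (.node (.leaf 1118224) (.leaf 281474977829121)) (.leaf 4581298193)) (.node (.leaf 268505360) (.leaf 1099511697681))))) (.node (.node (.node (.node (.node (.leaf 4113) (.leaf 17592186109952)) (.leaf 4294967569)) (.node (.node (.leaf 16843025) (.leaf 4503599645266192)) (.leaf 68720525312))) (.node (.node (.node (.leaf 1052929) (.leaf 17592472375313)) (.leaf 4312858897)) (.node (.leaf 268501248) (.leaf 1099511693584)))) (.node (.node (.node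 (.node (.leaf 69888) (.leaf 17592187162641)) (.leaf 4295037185)) (.node (.leaf 17895697) (.leaf 68737372432))) (.node (.node (.node (.leaf 16777232) (.leaf 281474994606097)) (.leaf 68719480849)) (.node (.leaf 269553921) (.leaf 1099512746256))))))

def sevenWord3 : Janko.Tree (ℕ) :=
  (.node (.node (.node (.node (.node (.node (.leaf 256) (.leaf 1099529523472)) (.leaf 286331137)) (.node (.node (.leaf 16781568) (.leaf 4503599644147712)) (.leaf 68719546368))) (.node (.node (.node (.leaf 1048833) (.leaf 17592203939857)) (.leaf 4296085761)) (.node (.leaf 268439568) (.leaf 1099511631889)))) (.node (.node (.node (.node (.leaf 65792) (.leaf 17592186114320)) (.leaf 4295033088)) (.node (.node (.leaf 17830160) (.leaf 72057594324193553)) (.leaf 68736253952))) (.node (.node (.node (.leaf 1118225) (.leaf 281474977829136)) (.leaf 4581298433)) (.node (.leaf 268505361) (.leaf 1099512676352))))) (.node (.node (.node (.node (.node (.leaf 4352) (.leaf 17592186110208)) (.leaf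 4294971392)) (.node (.node (.leaf 16846848) (.leaf 4503599896924433)) (.leaf 68720529680))) (.node (.node (.node (.leaf 1052944) (.leaf 17592472375553)) (.leaf 4312862737)) (.node (.leaf 268501264) (.leaf 1099511693585)))) (.node (.node (.node (.node (.leaf 69889) (.leaf 17592187162881)) (.leaf 4295037200)) (.node (.leaf 268435457) (.leaf 68989030673))) (.node (.node (.node (.leaf 16777233) (.leaf 281474994606337)) (.leaf 68719481088)) (.node (.leaf 269553936) (.leaf 1099512746257))))))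

def sevenWord4 : Janko.Tree (ℕ) :=
  (.node (.node (.node (.node (.node (.node (.leaf 257) (.leaf 1099781181713)) (.leaf 286331152)) (.node (.node (.leaf 16781569) (.leaf 4503599644217616)) (.leaf 68719546384))) (.node (.node (.node (.leaf 1048848) (.leaf 17592203940097)) (.leaf 4296085776)) (.node (.leaf 268439569) (.leaf 1099511632128)))) (.node (.node (.node (.node (.leaf 65793) (.leaf 17592186114321)) (.leaf 4295033104)) (.node (.node (.leaf 17830161) (.leaf 72057594324254993)) (.leaf 68736323856))) (.node (.node (.node (.leaf 1118464) (.leaf 281474977829137)) (.leaf 68719476992)) (.node (.leaf 269484032) (.leaf 1099512680720))))) (.node (.node (.node (.node (.node (.leaf 4353) (.leaf 17592186110224)) (.leaf 4294971408)) (.node (.node (.leaf 16846864) (.leaf 4503599912653073)) (.leaf 68720529681))) (.node (.node (.node (.leaf 1052945) (.leaf 281474977759232)) (.leaf 4312862977)) (.node (.leaf 268501265) (.leaf 1099511697408)))) (.node (.node (.node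 (.node (.leaf 69904) (.leaf 17592187162896)) (.leaf 4295037201)) (.node (.leaf 268435472) (.leaf 69004759313))) (.node (.node (.node (.leaf 16777472) (.leaf 281474994606352)) (.leaf 68719481089)) (.node (.leaf 269553937) (.leaf 1099528404992))))))

def sevenWord5 : Janko.Tree (ℕ) :=
  (.node (.node (.node (.node (.node (.node (.leaf 272) (.leaf 1099796910353)) (.leaf 4294967312)) (.node (.node (.leaf 16781584) (.leaf 4503599644217617)) (.leaf 68719546385))) (.node (.node (.node (.leaf 1048849) (.leaf 17592203940112)) (.leaf 4296085777)) (.node (.leaf 268439808) (.leaf 1099511632129)))) (.node (.node (.node (.node (.leaf 65808) (.leaf 17592187092992)) (.leaf 4295033105)) (.node (.node (.leaf 17891600) (.leaf 72057594324258833)) (.leaf 68736323857))) (.node (.node (.node (.leaf 1118465) (.leaf 281474993487872)) (.leaf 68719476993)) (.node (.leaf 269488400) (.leaf 1099512680721))))) (.node (.node (.node (.node (.node (.leaf 4368) (.leaf 17592186110225))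 (.leaf 4294971409)) (.node (.node (.leaf 16846865) (.leaf 4503599913636113)) (.leaf 68720591120))) (.node (.node (.node (.leaf 1114112) (.leaf 281474977763600)) (.leaf 4312862992)) (.node (.leaf 268505088) (.leaf 1099511697424)))) (.node (.node (.node (.node (.leaf 69905) (.leaf 17592187162897)) (.leaf 4296015872)) (.node (.leaf 268435473) (.leaf 69005742353))) (.node (.node (.node (.leaf 16777473) (.leaf 281475246264593)) (.leaf 68719481104)) (.node (.leaf 285212672) (.leaf 1099528474896))))))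

def sevenWord6 : Janko.Tree (ℕ) :=
  (.node (.node (.node (.node (.node (.node (.leaf 273) (.leaf 1099797893393)) (.leaf 4294967313)) (.node (.node (.leaf 16781585) (.leaf 4503599645200657)) (.leaf 68719546624))) (.node (.node (.node (.leaf 1052672) (.leaf 17592455598353)) (.leaf 4311744512)) (.node (.leaf 268439809) (.leaf 1099511632144)))) (.node (.node (.node (.node (.leaf 65809) (.leaf 17592187097360)) (.leaf 4295036928)) (.node (.node (.leaf 17891601) (.leaf 72057594324259073)) (.leaf 68737306897))) (.node (.node (.node (.leaf 1118480) (.leaf 281474993557776)) (.leaf 68719477008)) (.node (.leaf 269488401) (.leaf 1099512742160))))) (.node (.node (.node (.node (.node (.leaf 4369) (.leaf 17592186114048)) (.leaf 4294971648)) (.node (.node (.leaf 16847104) (.leaf 4503599913697553)) (.leaf 68720591121))) (.node (.node (.node (.leaf 1114368) (.leaf 281474977763601)) (.leaf 4564521233)) (.node (.leaf 268505104) (.leaf 1099511697425)))) (.node (.node (.node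 (.node (.leaf 1048576) (.leaf 17592202821632)) (.leaf 4296020240)) (.node (.leaf 268435712) (.leaf 69005803793))) (.node (.node (.node (.leaf 16777488) (.leaf 281475261993233)) (.leaf 68719481105)) (.node (.leaf 285282576) (.leaf 1099528474897))))))

def sevenWord7 : Janko.Tree (ℕ) :=
  (.node (.node (.node (.node (.node (.node (.leaf 4096) (.leaf 1099797954833)) (.leaf 4294967552)) (.node (.node (.leaf 16842752) (.leaf 4503599645262097)) (.leaf 68719546625))) (.node (.node (.node (.leaf 1052688) (.leaf 17592471326993)) (.leaf 4311814416)) (.node (.leaf 268439824) (.leaf 1099511632145)))) (.node (.node (.node (.node (.leaf 69632) (.leaf 17592187097361)) (.leaf 4295036944)) (.node (.leaf 17895441) (.leaf 68737368337))) (.node (.node (.node (.leaf 1118481) (.leaf 281474993557777)) (.leaf 68719477009)) (.node (.leaf 269549840) (.leaf 1099512742161))))) (.node (.node (.node (.node (.node (.leaf 65536) (.leaf 17592186114064)) (.leaf 4294971649)) (.node (.node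 (.leaf 16847105) (.leaf 4503599913701393)) (.leaf 68720594961))) (.node (.node (.node (.leaf 1114384) (.leaf 281474977825040)) (.leaf 4580249873)) (.node (.leaf 268505105) (.leaf 1099511697664)))) (.node (.node (.node (.node (.leaf 1048577) (.leaf 17592202891536)) (.leaf 4296020241)) (.node (.leaf 268435713) (.leaf 69005807633))) (.node (.node (.node (.leaf 16777489) (.leaf 281475262976273)) (.leaf 68719542272)) (.node (.leaf 285282577) (.leaf 1099529457937))))))

def sevenWord : Janko.Tree (ℕ) := (.node (.node (.node sevenWord0 sevenWord4) (.node sevenWord2 sevenWord6)) (.node (.node sevenWord1 sevenWord5) (.node sevenWord3 sevenWord7)))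

def sevenPar0 : Janko.Tree (ℕ) :=
  (.node (.node (.node (.node (.node (.node (.leaf 0) (.leaf 3313)) (.leaf 1377)) (.node (.node (.leaf 544) (.leaf 4657)) (.leaf 2240))) (.node (.node (.node (.leaf 256) (.leaf 3921)) (.leaf 1776)) (.node (.leaf 944) (.leaf 2769)))) (.node (.node (.node (.node (.leaf 113) (.leaf 3665)) (.leaf 1552)) (.node (.node (.leaf 704) (.leaf 5057)) (.leaf 2481))) (.node (.node (.node (.leaf 401) (.leaf 4353)) (.leaf 2065)) (.node (.leaf 1104) (.leaf 3025))))) (.node (.node (.node (.node (.node (.leaf 49) (.leaf 3473)) (.leaf 1473)) (.node (.node (.leaf 624) (.leaf 4897)) (.leaf 2320))) (.node (.node (.node (.leaf 321) (.leaf 4097)) (.leaf 1889)) (.node (.leaf 1009) (.leaf 2944)))) (.node (.node (.node (.node (.leaf 192) (.leaf 3808)) (.leaf 1633)) (.node (.leaf 865) (.leaf 2609))) (.node (.node (.node (.leaf 480) (.leaf 4497)) (.leaf 2160)) (.node (.leaf 1233) (.leaf 3185))))))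

def sevenPar1 : Janko.Tree (ℕ) :=
  (.node (.node (.node (.node (.node (.node (.leaf 0) (.leaf 3329)) (.leaf 1393)) (.node (.node (.leaf 560) (.leaf 4673)) (.leaf 2256))) (.node (.node (.node (.leaf 257) (.leaf 3953)) (.leaf 1777)) (.node (.leaf 945) (.leaf 2880)))) (.node (.node (.node (.node (.leaf 128) (.leaf 3680)) (.leaf 1553)) (.node (.node (.leaf 705) (.leaf 5201)) (.leaf 2496))) (.node (.node (.node (.leaf 416) (.leaf 4385)) (.leaf 2081)) (.node (.leaf 1105) (.leaf 3040))))) (.node (.node (.node (.node (.node (.leaf 64) (.leaf 3489)) (.leaf 1488)) (.node (.node (.leaf 640) (.leaf 4913)) (.leaf 2321))) (.node (.node (.node (.leaf 336) (.leaf 4113)) (.leaf 1921)) (.node (.leaf 1024) (.leaf 2960)))) (.node (.node (.node (.node (.leaf 193) (.leaf 3809)) (.leaf 1648)) (.node (.leaf 880) (.leaf 2625))) (.node (.node (.node (.leaf 481) (.leaf 4513)) (.leaf 2176)) (.node (.leaf 1265) (.leaf 3201))))))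

def sevenPar2 : Janko.Tree (ℕ) :=
  (.node (.node (.node (.node (.node (.node (.leaf 1) (.leaf 3345)) (.leaf 1409)) (.node (.node (.leaf 561) (.leaf 4689)) (.leaf 2257))) (.node (.node (.node (.leaf 272) (.leaf 3969)) (.leaf 1809)) (.node (.leaf 960) (.leaf 2896)))) (.node (.node (.node (.node (.leaf 129) (.leaf 3681)) (.leaf 1568)) (.node (.node (.leaf 720) (.leaf 5217)) (.leaf 2497))) (.node (.node (.node (.leaf 432) (.leaf 4401)) (.leaf 2097)) (.node (.leaf 1120) (.leaf 3041))))) (.node (.node (.node (.node (.node (.leaf 65) (.leaf 3600)) (.leaf 1489)) (.node (.node (.leaf 641) (.leaf 4928)) (.leaf 2336))) (.node (.node (.node (.leaf 337) (.leaf 4129)) (.leaf 1937)) (.node (.leaf 1040) (.leaf 2976)))) (.node (.node (.node (.node (.leaf 208) (.leaf 3841)) (.leaf 1649)) (.node (.leaf 881) (.leaf 2640))) (.node (.node (.node (.leaf 496) (.leaf 4529)) (.leaf 2177)) (.node (.leaf 1281) (.leaf 3216))))))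

def sevenPar3 : Janko.Tree (ℕ) :=
  (.node (.node (.node (.node (.node (.node (.leaf 16) (.leaf 3360)) (.leaf 1425)) (.node (.node (.leaf 576) (.leaf 4800)) (.leaf 2272))) (.node (.node (.node (.leaf 273) (.leaf 3985)) (.leaf 1825)) (.node (.leaf 976) (.leaf 2897)))) (.node (.node (.node (.node (.leaf 144) (.leaf 3696)) (.leaf 1584)) (.node (.node (.leaf 768) (.leaf 5233)) (.leaf 2512))) (.node (.node (.node (.leaf 433) (.leaf 4416)) (.leaf 2113)) (.node (.leaf 1121) (.leaf 3056))))) (.node (.node (.node (.node (.node (.leaf 80) (.leaf 3616)) (.leaf 1504)) (.node (.node (.leaf 656) (.leaf 4977)) (.leaf 2384))) (.node (.node (.node (.leaf 352) (.leaf 4145)) (.leaf 1953)) (.node (.leaf 1056) (.leaf 2977)))) (.node (.node (.node (.node (.leaf 209) (.leaf 3857)) (.leaf 1664)) (.node (.leaf 897) (.leaf 2689))) (.node (.node (.node (.leaf 497) (.leaf 4545)) (.leaf 2192)) (.node (.leaf 1296) (.leaf 3217))))))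

def sevenPar4 : Janko.Tree (ℕ) :=
  (.node (.node (.node (.node (.node (.node (.leaf 17) (.leaf 3409)) (.leaf 1440)) (.node (.node (.leaf 577) (.leaf 4832)) (.leaf 2288))) (.node (.node (.node (.leaf 288) (.leaf 4001)) (.leaf 1840)) (.node (.leaf 977) (.leaf 2912)))) (.node (.node (.node (.node (.leaf 145) (.leaf 3697)) (.leaf 1600)) (.node (.node (.leaf 769) (.leaf 5249)) (.leaf 2544))) (.node (.node (.node (.leaf 448) (.leaf 4417)) (.leaf 2128)) (.node (.leaf 1136) (.leaf 3104))))) (.node (.node (.node (.node (.node (.leaf 81) (.leaf 3632)) (.leaf 1520)) (.node (.node (.leaf 672) (.leaf 4993)) (.leaf 2385))) (.node (.node (.node (.leaf 353) (.leaf 4256)) (.leaf 1969)) (.node (.leaf 1057) (.leaf 2992)))) (.node (.node (.node (.node (.leaf 224) (.leaf 3872)) (.leaf 1665)) (.node (.leaf 912) (.leaf 2705))) (.node (.node (.node (.leaf 512) (.leaf 4560)) (.leaf 2193)) (.node (.leaf 1297) (.leaf 3232))))))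

def sevenPar5 : Janko.Tree (ℕ) :=
  (.node (.node (.node (.node (.node (.node (.leaf 32) (.leaf 3425)) (.leaf 1456)) (.node (.node (.leaf 592) (.leaf 4833)) (.leaf 2289))) (.node (.node (.node (.leaf 289) (.leaf 4016)) (.leaf 1841)) (.node (.leaf 992) (.leaf 2913)))) (.node (.node (.node (.node (.leaf 160) (.leaf 3712)) (.leaf 1601)) (.node (.node (.leaf 816) (.leaf 5265)) (.leaf 2545))) (.node (.node (.node (.leaf 449) (.leaf 4432)) (.leaf 2129)) (.node (.leaf 1184) (.leaf 3105))))) (.node (.node (.node (.node (.node (.leaf 96) (.leaf 3633)) (.leaf 1521)) (.node (.node (.leaf 673) (.leaf 5009)) (.leaf 2432))) (.node (.node (.node (.leaf 368) (.leaf 4304)) (.leaf 1984)) (.node (.leaf 1072) (.leaf 3008)))) (.node (.node (.node (.node (.leaf 225) (.leaf 3873)) (.leaf 1680)) (.node (.leaf 913) (.leaf 2721))) (.node (.node (.node (.leaf 513) (.leaf 4609)) (.leaf 2208)) (.node (.leaf 1312) (.leaf 3264))))))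

def sevenPar6 : Janko.Tree (ℕ) :=
  (.node (.node (.node (.node (.node (.node (.leaf 33) (.leaf 3441)) (.leaf 1457)) (.node (.node (.leaf 593) (.leaf 4865)) (.leaf 2304))) (.node (.node (.node (.leaf 304) (.leaf 4065)) (.leaf 1856)) (.node (.leaf 993) (.leaf 2928)))) (.node (.node (.node (.node (.leaf 161) (.leaf 3760)) (.leaf 1616)) (.node (.node (.leaf 817) (.leaf 5281)) (.leaf 2577))) (.node (.node (.node (.leaf 464) (.leaf 4464)) (.leaf 2144)) (.node (.leaf 1185) (.leaf 3152))))) (.node (.node (.node (.node (.node (.leaf 97) (.leaf 3648)) (.leaf 1536)) (.node (.node (.leaf 688) (.leaf 5025)) (.leaf 2433))) (.node (.node (.node (.leaf 384) (.leaf 4305)) (.leaf 2033)) (.node (.leaf 1088) (.leaf 3009)))) (.node (.node (.node (.node (.leaf 240) (.leaf 3888)) (.leaf 1728)) (.node (.leaf 928) (.leaf 2737))) (.node (.node (.node (.leaf 528) (.leaf 4625)) (.leaf 2209)) (.node (.leaf 1344) (.leaf 3265))))))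

def sevenPar7 : Janko.Tree (ℕ) :=
  (.node (.node (.node (.node (.node (.node (.leaf 48) (.leaf 3457)) (.leaf 1472)) (.node (.node (.leaf 608) (.leaf 4881)) (.leaf 2305))) (.node (.node (.node (.leaf 320) (.leaf 4081)) (.leaf 1888)) (.node (.leaf 1008) (.leaf 2929)))) (.node (.node (.node (.node (.leaf 176) (.leaf 3761)) (.leaf 1632)) (.node (.leaf 849) (.leaf 2593))) (.node (.node (.node (.leaf 465) (.leaf 4465)) (.leaf 2145)) (.node (.leaf 1232) (.leaf 3153))))) (.node (.node (.node (.node (.node (.leaf 112) (.leaf 3664)) (.leaf 1537)) (.node (.node (.leaf 689) (.leaf 5041)) (.leaf 2465))) (.node (.node (.node (.leaf 400) (.leaf 4352)) (.leaf 2049)) (.node (.leaf 1089) (.leaf 3024)))) (.node (.node (.node (.node (.leaf 241) (.leaf 3920)) (.leaf 1729)) (.node (.leaf 929) (.leaf 2753))) (.node (.node (.node (.leaf 529) (.leaf 4641)) (.leaf 2224)) (.node (.leaf 1345) (.leaf 3297))))))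

def sevenPar : Janko.Tree (ℕ) := (.node (.node (.node sevenPar0 sevenPar4) (.node sevenPar2 sevenPar6)) (.node (.node sevenPar1 sevenPar5) (.node sevenPar3 sevenPar7)))

def sevenL0 : Janko.Tree (List ℤ) :=
  (.node (.node (.node (.node (.node (.node (.node (.leaf []) (.leaf [5, 5, 3, 4, 1, 1])) (.leaf [6, 6, 5, 5, 3, 2])) (.node (.node (.leaf []) (.leaf [6, 6, 2, 2, 1, 3])) (.leaf [0, 6, 0, 1, 1, 6]))) (.node (.node (.node (.leaf []) (.leaf [6, 6, 1])) (.leaf [2, 2, 0, 0, 5])) (.node (.node (.leaf []) (.leaf [5, 5, 0, 1, 2])) (.leaf [1, 1, 6, 0, 6, 1])))) (.node (.node (.node (.node (.leaf []) (.leaf [])) (.leaf [])) (.node (.node (.leaf [6, 6, 6, 1, 1]) (.leaf [0, 0, 4, 0, 6, 4])) (.leaf [6, 6, 0, 6, 1, 1]))) (.node (.node (.node (.leaf []) (.leaf [0, 6, 0, 1])) (.leaf [1, 1, 1, 6, 1, 5])) (.node (.leaf [5, 5, 1, 2, 5, 1]) (.leaf [0, 6, 0, 0, 1]))))) (.node (.node (.node (.node (.node (.leaf []) (.leaf [1, 1, 5, 3, 4, 1])) (.leaf [])) (.node (.node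 (.leaf [2, 2, 2, 2, 3, 5]) (.leaf [2, 1, 2, 3, 6, 2])) (.leaf [2, 2, 0, 4, 0, 1]))) (.node (.node (.node (.leaf []) (.leaf [0, 0, 0, 4, 4, 6])) (.leaf [6, 6, 1])) (.node (.leaf []) (.leaf [])))) (.node (.node (.node (.node (.leaf []) (.leaf [3, 2, 0, 0, 5])) (.leaf [])) (.node (.node (.leaf [5, 5, 6, 4, 4, 2]) (.leaf [0, 0, 1, 0, 0, 0])) (.leaf [0, 0, 3, 4, 1, 6]))) (.node (.node (.node (.leaf [1]) (.leaf [3, 3, 4, 2, 4, 1])) (.leaf [])) (.node (.leaf [6, 6, 0, 1]) (.leaf [2, 2, 0, 5])))))) (.node (.node (.node (.node (.node (.node (.leaf []) (.leaf [4, 4, 4, 0, 1, 5])) (.leaf [4, 4, 1, 1, 2, 6])) (.node (.node (.leaf []) (.leaf [3, 2, 1, 6, 5])) (.leaf [5, 5, 6, 1, 2]))) (.node (.node (.node (.leaf []) (.leaf [1, 1, 6, 1, 2, 4])) (.leaf [5, 5, 4, 0, 2, 3])) (.node (.leaf []) (.leaf [])))) (.node (.node (.node (.node (.leaf []) (.leaf [])) (.leaf [2, 2, 4, 2, 3, 3])) (.node (.node (.leaf []) (.leaf [1, 0, 0, 3, 3, 1])) (.leaf [1, 1, 6, 6, 5, 3]))) (.node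 (.node (.node (.leaf [5, 5, 1, 2, 5, 1]) (.leaf [])) (.leaf [])) (.node (.leaf []) (.leaf [6, 6, 2, 0, 2, 4]))))) (.node (.node (.node (.node (.node (.leaf []) (.leaf [1, 0, 1, 0, 6])) (.leaf [])) (.node (.node (.leaf [6, 6, 3, 4, 1]) (.leaf [2, 2, 4, 5, 5, 5])) (.leaf []))) (.node (.node (.node (.leaf []) (.leaf [])) (.leaf [4, 4, 2, 0, 0, 1])) (.node (.leaf []) (.leaf [3, 2, 0, 3, 0, 2])))) (.node (.node (.node (.node (.leaf []) (.leaf [5, 5, 2, 4, 3])) (.leaf [])) (.node (.node (.leaf []) (.leaf [2, 2, 6, 2, 1, 4])) (.leaf [0, 0, 2, 1, 4]))) (.node (.node (.node (.leaf []) (.leaf [3, 3, 2, 2, 4, 3])) (.leaf [])) (.node (.leaf []) (.leaf [1])))))))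

def sevenL1 : Janko.Tree (List ℤ) :=
  (.node (.node (.node (.node (.node (.node (.node (.leaf []) (.leaf [])) (.leaf [])) (.node (.node (.leaf [1, 1, 2, 5, 6]) (.leaf [1, 2, 6, 5, 5, 4])) (.leaf [6, 6, 4, 0, 4]))) (.node (.node (.node (.leaf []) (.leaf [])) (.leaf [4, 4, 2, 4, 5, 6])) (.node (.node (.leaf []) (.leaf [5, 5, 0, 1, 2])) (.leaf [6, 1, 0, 1, 0, 6])))) (.node (.node (.node (.node (.leaf []) (.leaf [])) (.leaf [])) (.node (.node (.leaf []) (.leaf [5, 6, 1, 5, 1, 2])) (.leaf []))) (.node (.node (.node (.leaf []) (.leaf [])) (.leaf [6, 1, 6, 5, 4, 6])) (.node (.leaf [0, 0, 0, 6, 0, 1]) (.leaf []))))) (.node (.node (.node (.node (.node (.leaf []) (.leaf [1, 3, 6, 6, 6, 1])) (.leaf [])) (.node (.node (.leaf [1, 1, 5, 6, 2]) (.leaf [])) (.leaf []))) (.node (.node (.node (.leaf []) (.leaf [1, 2, 5, 4, 2, 2])) (.leaf [])) (.node (.leaf []) (.leaf [1, 0, 5, 0, 6, 3])))) (.node (.node (.node (.node (.leaf [6, 6, 6, 4, 4, 1]) (.leaf [1, 1, 0, 3, 3]))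 (.leaf [])) (.node (.node (.leaf []) (.leaf [0, 0, 0, 1, 0, 0])) (.leaf []))) (.node (.node (.node (.leaf []) (.leaf [])) (.leaf [6, 6, 3, 2, 0, 3])) (.node (.leaf []) (.leaf [])))))) (.node (.node (.node (.node (.node (.node (.leaf []) (.leaf [0, 1])) (.leaf [])) (.node (.node (.leaf []) (.leaf [2, 1, 6, 5, 2])) (.leaf [4, 4, 3, 2, 0, 5]))) (.node (.node (.node (.leaf []) (.leaf [])) (.leaf [])) (.node (.leaf []) (.leaf [6, 6, 6, 4, 3, 2])))) (.node (.node (.node (.node (.leaf []) (.leaf [])) (.leaf [1, 1, 6, 5, 0, 2])) (.node (.node (.leaf []) (.leaf [0, 1, 6, 1, 4, 3])) (.leaf [6, 6, 3, 3, 5, 4]))) (.node (.node (.node (.leaf [1, 1, 3, 4, 3, 3]) (.leaf [0, 1])) (.leaf [1, 0, 1, 4, 3, 6])) (.node (.leaf [1, 1, 6, 0, 1, 6]) (.leaf [5, 5, 6, 0, 5, 5]))))) (.node (.node (.node (.node (.node (.leaf []) (.leaf [1, 0, 1, 4, 5, 4])) (.leaf [4, 4, 0, 1, 5, 4])) (.node (.node (.leaf [2, 2, 3, 1, 5, 3]) (.leaf [0, 1, 2, 4, 6, 2])) (.leaf []))) (.node (.node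 (.node (.leaf []) (.leaf [1, 0, 6, 3, 0, 5])) (.leaf [])) (.node (.leaf []) (.leaf [4, 4, 0, 6, 4])))) (.node (.node (.node (.node (.leaf []) (.leaf [])) (.leaf [])) (.node (.node (.leaf []) (.leaf [6, 6, 0, 1, 1])) (.leaf [1, 2, 2, 1, 0, 3]))) (.node (.node (.node (.leaf [0, 0, 0, 6, 0, 1]) (.leaf [])) (.leaf [])) (.node (.leaf [0, 1]) (.leaf [4, 4, 6, 2, 2])))))))

def sevenL2 : Janko.Tree (List ℤ) :=
  (.node (.node (.node (.node (.node (.node (.node (.leaf []) (.leaf [1, 1, 4, 6, 5, 5])) (.leaf [1, 1, 3, 2, 4, 4])) (.node (.node (.leaf []) (.leaf [5, 5, 4, 0, 5])) (.leaf [6, 5, 0, 1, 1]))) (.node (.node (.node (.leaf []) (.leaf [4, 4, 5, 4, 1])) (.leaf [6, 6, 0, 1])) (.node (.node (.leaf []) (.leaf [0, 0, 1, 6, 1])) (.leaf [])))) (.node (.node (.node (.node (.leaf []) (.leaf [1, 0, 5, 2, 5, 2])) (.leaf [])) (.node (.node (.leaf []) (.leaf [4, 3, 0, 4, 2, 5])) (.leaf [6, 6, 1, 3, 1, 3]))) (.node (.node (.node (.leaf [5, 5, 5, 5, 4, 2]) (.leaf [6,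 5, 5, 0, 4])) (.leaf [5, 5, 0, 2, 1, 6])) (.node (.leaf [6, 6, 0, 0, 1]) (.leaf [6, 6, 6, 1, 1]))))) (.node (.node (.node (.node (.node (.leaf []) (.leaf [5, 5, 1, 5, 2, 1])) (.leaf [])) (.node (.node (.leaf [5, 5, 4, 0, 6, 6]) (.leaf [5, 4, 5, 1, 2, 2])) (.leaf []))) (.node (.node (.node (.leaf []) (.leaf [4, 4, 1, 3, 3, 3])) (.leaf [5, 5, 6, 6, 5, 6])) (.node (.leaf []) (.leaf [2, 1, 3, 3, 5, 2])))) (.node (.node (.node (.node (.leaf []) (.leaf [0, 6, 0, 1])) (.leaf [4, 4, 2, 3, 0, 5])) (.node (.node (.leaf [2, 2, 6, 5, 5, 3]) (.leaf [0, 0, 0, 0, 1, 0])) (.leaf [2, 2, 1, 1, 2, 1]))) (.node (.node (.node (.leaf []) (.leaf [5, 5, 0, 3, 6])) (.leaf [])) (.node (.leaf [3, 3, 4, 1, 6]) (.leaf [2, 2, 1, 2, 0, 2])))))) (.node (.node (.node (.node (.node (.node (.leaf []) (.leaf [4, 4, 2, 3, 1, 4])) (.leaf [])) (.node (.node (.leaf []) (.leaf [0, 6, 1])) (.leaf []))) (.node (.node (.node (.leaf []) (.leaf [6, 6, 0, 4, 1, 3])) (.leaf [])) (.node (.leaf [])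 (.leaf [])))) (.node (.node (.node (.node (.leaf []) (.leaf [])) (.leaf [])) (.node (.node (.leaf [2, 2, 6, 2, 2, 2]) (.leaf [0, 6, 6, 0, 5, 4])) (.leaf [6, 6, 1]))) (.node (.node (.node (.leaf [6, 6, 0, 0, 1]) (.leaf [1])) (.leaf [])) (.node (.leaf [5, 5, 2, 3, 1, 3]) (.leaf []))))) (.node (.node (.node (.node (.node (.leaf []) (.leaf [])) (.leaf [])) (.node (.node (.leaf []) (.leaf [4, 4, 1, 4, 4, 1])) (.leaf [1, 1, 0, 3, 4, 6]))) (.node (.node (.node (.leaf []) (.leaf [5, 4, 6, 5, 5, 1])) (.leaf [3, 3, 0, 6, 5])) (.node (.leaf [1, 1, 0, 6, 6, 1]) (.leaf [6, 5, 5, 3, 6, 2])))) (.node (.node (.node (.node (.leaf []) (.leaf [])) (.leaf [])) (.node (.node (.leaf []) (.leaf [6, 6, 0, 0, 1, 1])) (.leaf [2, 2, 0, 5, 6, 1]))) (.node (.node (.node (.leaf []) (.leaf [4, 4, 3, 2, 5])) (.leaf [])) (.node (.leaf [1]) (.leaf [5, 5, 1, 4, 1, 3])))))))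

def sevenL3 : Janko.Tree (List ℤ) :=
  (.node (.node (.node (.node (.node (.node (.node (.leaf []) (.leaf [])) (.leaf [])) (.node (.node (.leaf [4, 4, 2, 4, 4]) (.leaf [2, 3, 0, 4, 2, 6])) (.leaf [2, 2, 6, 2, 1, 3]))) (.node (.node (.node (.leaf []) (.leaf [])) (.leaf [])) (.node (.node (.leaf []) (.leaf [2, 2, 0, 0, 6])) (.leaf [4, 3, 1, 1, 5, 4])))) (.node (.node (.node (.node (.leaf []) (.leaf [0, 0, 0, 6, 0, 1])) (.leaf [])) (.node (.node (.leaf []) (.leaf [0, 1])) (.leaf []))) (.node (.node (.node (.leaf [0, 0, 2, 0, 6, 6]) (.leaf [])) (.leaf [5, 0, 0, 2, 6])) (.node (.leaf []) (.leaf []))))) (.node (.node (.node (.node (.node (.leaf []) (.leaf [1, 3, 6, 4, 6, 3])) (.leaf [])) (.node (.node (.leaf [6, 6, 5, 6, 2, 2]) (.leaf [])) (.leaf []))) (.node (.node (.node (.leaf [5, 5, 2, 1, 4, 2]) (.leaf [3, 4, 1, 2, 6, 2])) (.leaf [])) (.node (.leaf [2, 2, 6, 6, 4, 3]) (.leaf [0, 0, 6, 0, 4, 4])))) (.node (.node (.node (.node (.leaf []) (.leaf [])) (.leaf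 [1, 1, 0, 3, 1, 2])) (.node (.node (.leaf []) (.leaf [0, 0, 0, 0, 0, 1])) (.leaf []))) (.node (.node (.node (.leaf []) (.leaf [])) (.leaf [2, 2, 1, 5, 6])) (.node (.leaf []) (.leaf [])))))) (.node (.node (.node (.node (.node (.node (.leaf []) (.leaf [1, 2, 0, 5, 1])) (.leaf [])) (.node (.node (.leaf []) (.leaf [])) (.leaf []))) (.node (.node (.node (.leaf []) (.leaf [])) (.leaf [0, 1])) (.node (.leaf [2, 2, 1, 5, 5, 1]) (.leaf [])))) (.node (.node (.node (.node (.leaf []) (.leaf [4, 3, 2, 2, 5, 2])) (.leaf [])) (.node (.node (.leaf [6, 6, 4, 1, 6, 4]) (.leaf [3, 4, 0, 1, 3])) (.leaf []))) (.node (.node (.node (.leaf []) (.leaf [0, 6, 0, 1])) (.leaf [])) (.node (.leaf [0, 0, 1, 4, 6, 3]) (.leaf []))))) (.node (.node (.node (.node (.node (.leaf []) (.leaf [])) (.leaf [])) (.node (.node (.leaf []) (.leaf [3, 4, 4, 0, 1, 6])) (.leaf [2, 2, 2, 3, 3, 4]))) (.node (.node (.node (.leaf [3, 3, 5, 5, 2, 6]) (.leaf [3, 2, 0, 0, 5])) (.leaf [])) (.node (.leaf [3,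 3, 0, 2, 3, 6]) (.leaf [0, 0, 4, 5, 6, 6])))) (.node (.node (.node (.node (.leaf []) (.leaf [0, 1])) (.leaf [3, 3, 4, 5, 4, 5])) (.node (.node (.leaf []) (.leaf [1, 1, 3, 2, 4, 5])) (.leaf [4, 6, 0, 2, 5, 2]))) (.node (.node (.node (.leaf []) (.leaf [0, 1])) (.leaf [])) (.node (.leaf [5, 5, 3, 5, 1]) (.leaf [0, 0, 1, 4, 0, 2])))))))

def sevenL4 : Janko.Tree (List ℤ) :=
  (.node (.node (.node (.node (.node (.node (.node (.leaf []) (.leaf [4, 4, 2, 0, 0, 1])) (.leaf [0, 0, 6, 5, 3])) (.node (.node (.leaf []) (.leaf [2, 2, 1, 0, 6, 5])) (.leaf []))) (.node (.node (.node (.leaf []) (.leaf [1, 1, 4, 0, 0, 2])) (.leaf [0, 0, 6, 6, 2])) (.node (.node (.leaf []) (.leaf [2, 2, 0, 6, 6, 1])) (.leaf [])))) (.node (.node (.node (.node (.leaf []) (.leaf [0, 6, 0, 0, 1])) (.leaf [])) (.node (.node (.leaf []) (.leaf [1, 0, 5, 2, 6, 1])) (.leaf []))) (.node (.node (.node (.leaf [4, 4, 2, 5, 3]) (.leaf [1, 0, 0, 3, 2, 2])) (.leaf [0, 0, 6, 4, 6, 5])) (.node (.leaf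 [2, 2, 5, 1, 1, 5]) (.leaf []))))) (.node (.node (.node (.node (.node (.leaf []) (.leaf [])) (.leaf [])) (.node (.node (.leaf []) (.leaf [2, 1, 6])) (.leaf []))) (.node (.node (.node (.leaf []) (.leaf [2, 2, 4, 2, 2, 4])) (.leaf [4, 4, 6, 1, 2, 1])) (.node (.leaf [1, 1, 5, 6, 4, 5]) (.leaf [6, 5, 4, 0, 6, 6])))) (.node (.node (.node (.node (.leaf []) (.leaf [2, 2, 0, 5])) (.leaf [6, 6, 0, 0, 1])) (.node (.node (.leaf []) (.leaf [4, 4, 4, 0, 4, 3])) (.leaf [2, 2, 1, 0, 0, 4]))) (.node (.node (.node (.leaf []) (.leaf [1, 1, 1, 5, 3, 4])) (.leaf [])) (.node (.leaf [6, 6, 0, 6, 1, 1]) (.leaf [1, 1, 2, 2, 6, 3])))))) (.node (.node (.node (.node (.node (.node (.leaf []) (.leaf [4, 4, 4, 5, 6, 2])) (.leaf [])) (.node (.node (.leaf []) (.leaf [0, 6, 6, 3, 6])) (.leaf [3, 3, 3, 4, 2, 2]))) (.node (.node (.node (.leaf []) (.leaf [2, 2, 5, 4, 2, 1])) (.leaf [1])) (.node (.leaf []) (.leaf [])))) (.node (.node (.node (.node (.leaf []) (.leaf [1, 0, 1, 6])) (.leaf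 [0, 0, 1, 0, 1, 5])) (.node (.node (.leaf [6, 6, 0, 1]) (.leaf [1, 0, 1, 6, 4, 3])) (.leaf [4, 4, 5, 4, 1]))) (.node (.node (.node (.leaf [5, 5, 2, 5, 2]) (.leaf [1])) (.leaf [])) (.node (.leaf []) (.leaf [2, 2, 0, 0, 5]))))) (.node (.node (.node (.node (.node (.leaf []) (.leaf [0, 6, 6, 0, 1, 1])) (.leaf [])) (.node (.node (.leaf [0, 0, 2, 1, 3, 1]) (.leaf [5, 5, 1, 0, 4, 4])) (.leaf [6, 6, 0, 1]))) (.node (.node (.node (.leaf [3, 3, 6, 5, 2, 5]) (.leaf [])) (.leaf [2, 2, 0, 0, 1, 4])) (.node (.leaf []) (.leaf [])))) (.node (.node (.node (.node (.leaf []) (.leaf [1])) (.leaf [4, 4, 2, 6, 0, 2])) (.node (.node (.leaf []) (.leaf [0, 0, 1, 6, 4, 4])) (.leaf [5, 5, 2, 5, 0, 2]))) (.node (.node (.node (.leaf []) (.leaf [5, 5, 0, 4, 3, 2])) (.leaf [])) (.node (.leaf [6, 6, 3, 4, 1]) (.leaf [6, 6, 1])))))))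

def sevenL5 : Janko.Tree (List ℤ) :=
  (.node (.node (.node (.node (.node (.node (.node (.leaf []) (.leaf [])) (.leaf [])) (.node (.node (.leaf []) (.leaf [6, 1, 0, 1, 0, 6])) (.leaf []))) (.node (.node (.node (.leaf [1, 1, 0, 3, 1, 2]) (.leaf [])) (.leaf [])) (.node (.node (.leaf [6, 6, 1, 6, 1]) (.leaf [2, 2, 6, 3, 3, 1])) (.leaf [4, 3, 2, 0, 3, 6])))) (.node (.node (.node (.node (.leaf []) (.leaf [])) (.leaf [6, 6, 5, 3, 5, 2])) (.node (.node (.leaf [1, 1, 2, 1, 3]) (.leaf [4, 5, 4, 2, 2, 2])) (.leaf [0, 1]))) (.node (.node (.node (.leaf [4, 4, 5, 5, 6, 1]) (.leaf [])) (.leaf [6, 1, 5, 0, 1, 1])) (.node (.leaf []) (.leaf []))))) (.node (.node (.node (.node (.node (.leaf []) (.leaf [5, 4, 6, 0, 6, 5])) (.leaf [])) (.node (.node (.leaf []) (.leaf [])) (.leaf [0, 0, 6, 3, 0, 5]))) (.node (.node (.node (.leaf []) (.leaf [4, 6, 1, 0, 1])) (.leaf [])) (.node (.leaf [2, 2, 5, 3, 3, 1]) (.leaf [6, 6, 5, 6, 2, 2])))) (.node (.node (.node (.node (.leaf [2,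 2, 3, 1, 4, 4]) (.leaf [])) (.leaf [])) (.node (.node (.leaf [0, 1]) (.leaf [0, 0, 2, 1, 1, 4])) (.leaf []))) (.node (.node (.node (.leaf []) (.leaf [])) (.leaf [])) (.node (.leaf []) (.leaf [])))))) (.node (.node (.node (.node (.node (.node (.leaf []) (.leaf [0, 1, 2, 6, 6])) (.leaf [])) (.node (.node (.leaf []) (.leaf [])) (.leaf [0, 0, 0, 6, 0, 1]))) (.node (.node (.node (.leaf [0, 0, 5, 2]) (.leaf [0, 1])) (.leaf [5, 5, 6, 6, 3, 1])) (.node (.leaf []) (.leaf [])))) (.node (.node (.node (.node (.leaf []) (.leaf [2, 2, 2, 3, 4, 3])) (.leaf [3, 3, 0, 2, 3, 6])) (.node (.node (.leaf []) (.leaf [3, 4, 2, 2, 2, 5])) (.leaf []))) (.node (.node (.node (.leaf []) (.leaf [3, 3, 0, 4])) (.leaf [])) (.node (.leaf []) (.leaf [6, 6, 0, 2, 1, 5]))))) (.node (.node (.node (.node (.node (.leaf []) (.leaf [0, 6, 5, 4, 0, 6])) (.leaf [2, 2, 0, 0, 2, 3])) (.node (.node (.leaf [2, 2, 0, 0, 2, 3]) (.leaf [6, 0, 1, 0, 2, 5])) (.leaf []))) (.node (.node (.node (.leaf [3,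 3, 3, 4, 5, 6]) (.leaf [])) (.leaf [0, 1])) (.node (.leaf [5, 5, 3, 6, 1, 6]) (.leaf [])))) (.node (.node (.node (.node (.leaf []) (.leaf [4, 3, 3, 4, 6, 5])) (.leaf [1, 1, 4, 2, 2, 5])) (.node (.node (.leaf [0, 0, 0, 6, 0, 1]) (.leaf [4, 4, 0, 5, 1, 5])) (.leaf [6, 1, 0, 6, 0, 1]))) (.node (.node (.node (.leaf []) (.leaf [0, 1, 0, 1, 0, 6])) (.leaf [])) (.node (.leaf [6, 6, 3, 3, 5, 4]) (.leaf [])))))))

def sevenL6 : Janko.Tree (List ℤ) :=
  (.node (.node (.node (.node (.node (.node (.node (.leaf []) (.leaf [0, 0, 6, 3, 6, 6])) (.leaf [0, 0, 1, 0, 0, 6])) (.node (.node (.leaf []) (.leaf [1])) (.leaf [2, 1, 3, 0, 1, 2]))) (.node (.node (.node (.leaf []) (.leaf [5, 5, 5, 6, 5])) (.leaf [6, 6, 0, 6, 1, 1])) (.node (.leaf []) (.leaf [])))) (.node (.node (.node (.node (.leaf []) (.leaf [6, 5, 5, 6, 4, 1])) (.leaf [1, 0, 1, 3, 5, 5])) (.node (.node (.leaf [4, 4, 1, 1, 4, 4]) (.leaf [1, 0, 6, 6, 1, 1])) (.leaf [1]))) (.node (.node (.node (.leaf []) (.leaf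 [6, 5, 3, 2, 6, 5])) (.leaf [4, 4, 0, 3, 5, 2])) (.node (.leaf []) (.leaf []))))) (.node (.node (.node (.node (.node (.leaf []) (.leaf [1, 0, 6, 0, 6, 2])) (.leaf [])) (.node (.node (.leaf [2, 2, 0, 3, 0, 2]) (.leaf [0, 0, 0, 6, 6, 2])) (.leaf [2, 2, 3, 3, 1, 5]))) (.node (.node (.node (.leaf []) (.leaf [4, 4, 5, 0, 6, 6])) (.leaf [5, 5, 3, 3, 6, 4])) (.node (.leaf [0, 0, 1, 0, 6]) (.leaf [])))) (.node (.node (.node (.node (.leaf []) (.leaf [6, 6, 0, 6, 1, 1])) (.leaf [0, 0, 0, 3, 5, 6])) (.node (.node (.leaf []) (.leaf [5, 5, 2, 6, 6, 3])) (.leaf [0, 0, 4, 5, 4, 1]))) (.node (.node (.node (.leaf []) (.leaf [2, 2, 3, 4, 1, 4])) (.leaf [])) (.node (.leaf [6, 6, 1, 3, 1, 3]) (.leaf [])))))) (.node (.node (.node (.node (.node (.node (.leaf []) (.leaf [3, 3, 6, 3, 3, 6])) (.leaf [])) (.node (.node (.leaf []) (.leaf [2, 1, 4, 0, 0, 2])) (.leaf [6, 6, 0, 0, 1]))) (.node (.node (.node (.leaf []) (.leaf [2, 2, 4, 5, 5, 5])) (.leaf [1, 1, 4, 3, 6])) (.node (.leaf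 []) (.leaf [])))) (.node (.node (.node (.node (.leaf []) (.leaf [])) (.leaf [])) (.node (.node (.leaf [2, 2, 0, 5]) (.leaf [1, 0, 0, 0, 0, 0])) (.leaf [6, 6, 1, 5, 3, 6]))) (.node (.node (.node (.leaf []) (.leaf [0, 6, 1])) (.leaf [])) (.node (.leaf [2, 2, 0, 0, 5]) (.leaf [6, 6, 0, 1]))))) (.node (.node (.node (.node (.node (.leaf []) (.leaf [3, 2, 6, 3, 6, 4])) (.leaf [])) (.node (.node (.leaf [6, 6, 0, 0, 1]) (.leaf [0, 0, 6, 4, 6, 5])) (.leaf [2, 2, 1, 3, 3, 5]))) (.node (.node (.node (.leaf [2, 2, 3, 4, 0, 5]) (.leaf [3, 2, 0, 0, 5])) (.leaf [5, 5, 5, 1, 4, 6])) (.node (.leaf []) (.leaf [4, 3, 1, 1, 3, 6])))) (.node (.node (.node (.node (.leaf []) (.leaf [6, 6, 0, 3, 6, 6])) (.leaf [])) (.node (.node (.leaf []) (.leaf [0, 0, 1])) (.leaf [3, 3, 2, 3, 4, 2]))) (.node (.node (.node (.leaf []) (.leaf [5, 5, 3, 4, 4, 5])) (.leaf [])) (.node (.leaf [6, 6, 1]) (.leaf [4, 4, 5, 4, 1])))))))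

def sevenL7 : Janko.Tree (List ℤ) :=
  (.node (.node (.node (.node (.node (.node (.node (.leaf []) (.leaf [])) (.leaf [])) (.node (.node (.leaf [5, 5, 6, 0, 2, 1]) (.leaf [2, 1, 5, 6, 3, 6])) (.leaf [3, 3, 0, 2, 3, 6]))) (.node (.node (.node (.leaf []) (.leaf [])) (.leaf [])) (.node (.leaf [3, 3, 5, 1, 5]) (.leaf [])))) (.node (.node (.node (.node (.leaf [0, 0, 0, 6, 0, 1]) (.leaf [])) (.leaf [0, 0, 1, 3, 3])) (.node (.node (.leaf [5, 5, 0, 5, 1, 3]) (.leaf [5, 6, 1, 0, 1])) (.leaf [3, 3, 6, 5, 1, 6]))) (.node (.node (.node (.leaf []) (.leaf [])) (.leaf [2, 4, 1, 4, 6])) (.node (.leaf []) (.leaf [4, 4, 5, 0, 1, 4]))))) (.node (.node (.node (.node (.node (.leaf [0, 0, 0, 6, 0, 1]) (.leaf [2, 1, 2, 5, 0, 6])) (.leaf [1, 1, 3, 3, 2, 5])) (.node (.node (.leaf [3, 3, 0, 2, 3, 6]) (.leaf [0, 1])) (.leaf [6, 6, 2, 5, 1]))) (.node (.node (.node (.leaf []) (.leaf [6, 1, 0, 1, 0, 6])) (.leaf [])) (.node (.leaf [1, 1, 1, 1, 6, 5]) (.leaf [])))) (.node (.node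 (.node (.node (.leaf []) (.leaf [])) (.leaf [])) (.node (.node (.leaf []) (.leaf [5, 5, 0, 6, 5, 6])) (.leaf [0, 1]))) (.node (.node (.node (.leaf []) (.leaf [])) (.leaf [4, 4, 2, 4, 3, 1])) (.node (.leaf []) (.leaf [0, 1])))))) (.node (.node (.node (.node (.node (.node (.leaf []) (.leaf [3, 5, 6, 3, 1])) (.leaf [0, 0, 0, 6, 0, 1])) (.node (.node (.leaf [4, 4, 6, 0, 6, 5]) (.leaf [])) (.leaf []))) (.node (.node (.node (.leaf [6, 6, 0, 2, 0, 6]) (.leaf [2, 3, 3, 3, 4, 2])) (.leaf [6, 6, 1, 0, 6, 1])) (.node (.leaf []) (.leaf [])))) (.node (.node (.node (.node (.leaf [2, 2, 6, 1, 5]) (.leaf [])) (.leaf [0, 0, 0, 6, 1])) (.node (.node (.leaf []) (.leaf [0, 1, 0, 0, 0, 0])) (.leaf []))) (.node (.node (.node (.leaf []) (.leaf [])) (.leaf [])) (.node (.leaf [2, 2, 5, 4, 5, 5]) (.leaf []))))) (.node (.node (.node (.node (.node (.leaf []) (.leaf [0, 0, 3, 0, 3, 1])) (.leaf [])) (.node (.node (.leaf []) (.leaf [5, 6, 4, 1, 3, 1])) (.leaf []))) (.node (.node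 (.node (.leaf [4, 4, 3, 2, 1, 4]) (.leaf [4, 4, 6, 3, 3, 5])) (.leaf [5, 0, 0, 4, 6, 5])) (.node (.leaf []) (.leaf [0, 0, 0, 6, 0, 1])))) (.node (.node (.node (.node (.leaf []) (.leaf [2, 2, 6, 2, 3, 1])) (.leaf [])) (.node (.node (.leaf []) (.leaf [5, 5, 0, 2, 2, 6])) (.leaf [0, 2, 1, 5, 4, 3]))) (.node (.node (.node (.leaf []) (.leaf [6, 0, 1, 4, 2, 1])) (.leaf [0, 0, 4, 2, 3, 5])) (.node (.leaf []) (.leaf [])))))))

def sevenL : Janko.Tree (List ℤ) := (.node (.node (.node sevenL0 sevenL4) (.node sevenL2 sevenL6)) (.node (.node sevenL1 sevenL5) (.node sevenL3 sevenL7)))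

def sevenKind0 : Janko.Tree (ℕ) :=
  (.node (.node (.node (.node (.node (.node (.node (.leaf 0) (.leaf 3)) (.leaf 3)) (.node (.node (.leaf 0) (.leaf 3)) (.leaf 3))) (.node (.node (.node (.leaf 0) (.leaf 3)) (.leaf 3)) (.node (.node (.leaf 0) (.leaf 3)) (.leaf 3)))) (.node (.node (.node (.node (.leaf 0) (.leaf 0)) (.leaf 0)) (.node (.node (.leaf 3) (.leaf 3)) (.leaf 3))) (.node (.node (.node (.leaf 0) (.leaf 3)) (.leaf 3)) (.node (.leaf 3) (.leaf 3))))) (.node (.node (.node (.node (.node (.leaf 0) (.leaf 3)) (.leaf 0)) (.node (.node (.leaf 3) (.leaf 3)) (.leaf 3))) (.node (.node (.node (.leaf 0) (.leaf 3)) (.leaf 3)) (.node (.leaf 0) (.leaf 0)))) (.node (.node (.node (.node (.leaf 0) (.leaf 3)) (.leaf 0)) (.node (.node (.leaf 3) (.leaf 2)) (.leaf 3))) (.node (.node (.node (.leaf 3) (.leaf 3)) (.leaf 0)) (.node (.leaf 3) (.leaf 3)))))) (.node (.node (.node (.node (.node (.node (.leaf 0) (.leaf 3)) (.leaf 3)) (.node (.node (.leaf 0) (.leaf 3)) (.leaf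 3))) (.node (.node (.node (.leaf 0) (.leaf 3)) (.leaf 3)) (.node (.leaf 0) (.leaf 0)))) (.node (.node (.node (.node (.leaf 0) (.leaf 0)) (.leaf 3)) (.node (.node (.leaf 0) (.leaf 3)) (.leaf 3))) (.node (.node (.node (.leaf 3) (.leaf 0)) (.leaf 0)) (.node (.leaf 0) (.leaf 3))))) (.node (.node (.node (.node (.node (.leaf 0) (.leaf 3)) (.leaf 0)) (.node (.node (.leaf 3) (.leaf 3)) (.leaf 0))) (.node (.node (.node (.leaf 0) (.leaf 0)) (.leaf 3)) (.node (.leaf 0) (.leaf 3)))) (.node (.node (.node (.node (.leaf 0) (.leaf 3)) (.leaf 0)) (.node (.node (.leaf 0) (.leaf 3)) (.leaf 3))) (.node (.node (.node (.leaf 0) (.leaf 3)) (.leaf 0)) (.node (.leaf 0) (.leaf 3)))))))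

def sevenKind1 : Janko.Tree (ℕ) :=
  (.node (.node (.node (.node (.node (.node (.node (.leaf 0) (.leaf 0)) (.leaf 0)) (.node (.node (.leaf 3) (.leaf 3)) (.leaf 3))) (.node (.node (.node (.leaf 0) (.leaf 0)) (.leaf 3)) (.node (.node (.leaf 0) (.leaf 3)) (.leaf 3)))) (.node (.node (.node (.node (.leaf 0) (.leaf 0)) (.leaf 0)) (.node (.node (.leaf 0) (.leaf 3)) (.leaf 0))) (.node (.node (.node (.leaf 0) (.leaf 0)) (.leaf 3)) (.node (.leaf 3) (.leaf 0))))) (.node (.node (.node (.node (.node (.leaf 0) (.leaf 3)) (.leaf 0)) (.node (.node (.leaf 3) (.leaf 0)) (.leaf 0))) (.node (.node (.node (.leaf 0) (.leaf 3)) (.leaf 0)) (.node (.leaf 0) (.leaf 3)))) (.node (.node (.node (.node (.leaf 3) (.leaf 3)) (.leaf 0)) (.node (.node (.leaf 0) (.leaf 2)) (.leaf 0))) (.node (.node (.node (.leaf 0) (.leaf 0)) (.leaf 3)) (.node (.leaf 0) (.leaf 0)))))) (.node (.node (.node (.node (.node (.node (.leaf 0) (.leaf 3)) (.leaf 0)) (.node (.node (.leaf 0) (.leaf 3)) (.leaf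 3))) (.node (.node (.node (.leaf 0) (.leaf 0)) (.leaf 0)) (.node (.leaf 0) (.leaf 3)))) (.node (.node (.node (.node (.leaf 0) (.leaf 0)) (.leaf 3)) (.node (.node (.leaf 0) (.leaf 3)) (.leaf 3))) (.node (.node (.node (.leaf 3) (.leaf 3)) (.leaf 3)) (.node (.leaf 3) (.leaf 3))))) (.node (.node (.node (.node (.node (.leaf 0) (.leaf 3)) (.leaf 3)) (.node (.node (.leaf 3) (.leaf 3)) (.leaf 0))) (.node (.node (.node (.leaf 0) (.leaf 3)) (.leaf 0)) (.node (.leaf 0) (.leaf 3)))) (.node (.node (.node (.node (.leaf 0) (.leaf 0)) (.leaf 0)) (.node (.node (.leaf 0) (.leaf 3)) (.leaf 3))) (.node (.node (.node (.leaf 3) (.leaf 0)) (.leaf 0)) (.node (.leaf 3) (.leaf 3)))))))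

def sevenKind2 : Janko.Tree (ℕ) :=
  (.node (.node (.node (.node (.node (.node (.node (.leaf 0) (.leaf 3)) (.leaf 3)) (.node (.node (.leaf 0) (.leaf 3)) (.leaf 3))) (.node (.node (.node (.leaf 0) (.leaf 3)) (.leaf 3)) (.node (.node (.leaf 0) (.leaf 3)) (.leaf 0)))) (.node (.node (.node (.node (.leaf 0) (.leaf 3)) (.leaf 0)) (.node (.node (.leaf 0) (.leaf 3)) (.leaf 3))) (.node (.node (.node (.leaf 3) (.leaf 3)) (.leaf 3)) (.node (.leaf 3) (.leaf 3))))) (.node (.node (.node (.node (.node (.leaf 0) (.leaf 3)) (.leaf 0)) (.node (.node (.leaf 3) (.leaf 3)) (.leaf 0))) (.node (.node (.node (.leaf 0) (.leaf 3)) (.leaf 3)) (.node (.leaf 0) (.leaf 3)))) (.node (.node (.node (.node (.leaf 0) (.leaf 3)) (.leaf 3)) (.node (.node (.leaf 3) (.leaf 2)) (.leaf 3))) (.node (.node (.node (.leaf 0) (.leaf 3)) (.leaf 0)) (.node (.leaf 3) (.leaf 3)))))) (.node (.node (.node (.node (.node (.node (.leaf 0) (.leaf 3)) (.leaf 0)) (.node (.node (.leaf 0) (.leaf 3)) (.leaf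 0))) (.node (.node (.node (.leaf 0) (.leaf 3)) (.leaf 0)) (.node (.leaf 0) (.leaf 0)))) (.node (.node (.node (.node (.leaf 0) (.leaf 0)) (.leaf 0)) (.node (.node (.leaf 3) (.leaf 3)) (.leaf 3))) (.node (.node (.node (.leaf 3) (.leaf 3)) (.leaf 0)) (.node (.leaf 3) (.leaf 0))))) (.node (.node (.node (.node (.node (.leaf 0) (.leaf 0)) (.leaf 0)) (.node (.node (.leaf 0) (.leaf 3)) (.leaf 3))) (.node (.node (.node (.leaf 0) (.leaf 3)) (.leaf 3)) (.node (.leaf 3) (.leaf 3)))) (.node (.node (.node (.node (.leaf 0) (.leaf 0)) (.leaf 0)) (.node (.node (.leaf 0) (.leaf 3)) (.leaf 3))) (.node (.node (.node (.leaf 0) (.leaf 3)) (.leaf 0)) (.node (.leaf 3) (.leaf 3)))))))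

def sevenKind3 : Janko.Tree (ℕ) :=
  (.node (.node (.node (.node (.node (.node (.node (.leaf 0) (.leaf 0)) (.leaf 0)) (.node (.node (.leaf 3) (.leaf 3)) (.leaf 3))) (.node (.node (.node (.leaf 0) (.leaf 0)) (.leaf 0)) (.node (.node (.leaf 0) (.leaf 3)) (.leaf 3)))) (.node (.node (.node (.node (.leaf 0) (.leaf 3)) (.leaf 0)) (.node (.node (.leaf 0) (.leaf 3)) (.leaf 0))) (.node (.node (.node (.leaf 3) (.leaf 0)) (.leaf 3)) (.node (.leaf 0) (.leaf 0))))) (.node (.node (.node (.node (.node (.leaf 0) (.leaf 3)) (.leaf 0)) (.node (.node (.leaf 3) (.leaf 0)) (.leaf 0))) (.node (.node (.node (.leaf 3) (.leaf 3)) (.leaf 0)) (.node (.leaf 3) (.leaf 3)))) (.node (.node (.node (.node (.leaf 0) (.leaf 0)) (.leaf 3)) (.node (.node (.leaf 0) (.leaf 2)) (.leaf 0))) (.node (.node (.node (.leaf 0) (.leaf 0)) (.leaf 3)) (.node (.leaf 0) (.leaf 0)))))) (.node (.node (.node (.node (.node (.node (.leaf 0) (.leaf 3)) (.leaf 0)) (.node (.node (.leaf 0) (.leaf 0)) (.leaf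 0))) (.node (.node (.node (.leaf 0) (.leaf 0)) (.leaf 3)) (.node (.leaf 3) (.leaf 0)))) (.node (.node (.node (.node (.leaf 0) (.leaf 3)) (.leaf 0)) (.node (.node (.leaf 3) (.leaf 3)) (.leaf 0))) (.node (.node (.node (.leaf 0) (.leaf 3)) (.leaf 0)) (.node (.leaf 3) (.leaf 0))))) (.node (.node (.node (.node (.node (.leaf 0) (.leaf 0)) (.leaf 0)) (.node (.node (.leaf 0) (.leaf 3)) (.leaf 3))) (.node (.node (.node (.leaf 3) (.leaf 3)) (.leaf 0)) (.node (.leaf 3) (.leaf 3)))) (.node (.node (.node (.node (.leaf 0) (.leaf 3)) (.leaf 3)) (.node (.node (.leaf 0) (.leaf 3)) (.leaf 3))) (.node (.node (.node (.leaf 0) (.leaf 3)) (.leaf 0)) (.node (.leaf 3) (.leaf 3)))))))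

def sevenKind4 : Janko.Tree (ℕ) :=
  (.node (.node (.node (.node (.node (.node (.node (.leaf 0) (.leaf 3)) (.leaf 3)) (.node (.node (.leaf 0) (.leaf 3)) (.leaf 0))) (.node (.node (.node (.leaf 0) (.leaf 3)) (.leaf 3)) (.node (.node (.leaf 0) (.leaf 3)) (.leaf 0)))) (.node (.node (.node (.node (.leaf 0) (.leaf 3)) (.leaf 0)) (.node (.node (.leaf 0) (.leaf 3)) (.leaf 0))) (.node (.node (.node (.leaf 3) (.leaf 3)) (.leaf 3)) (.node (.leaf 3) (.leaf 0))))) (.node (.node (.node (.node (.node (.leaf 0) (.leaf 0)) (.leaf 0)) (.node (.node (.leaf 0) (.leaf 3)) (.leaf 0))) (.node (.node (.node (.leaf 0) (.leaf 3)) (.leaf 3)) (.node (.leaf 3) (.leaf 3)))) (.node (.node (.node (.node (.leaf 0) (.leaf 3)) (.leaf 3)) (.node (.node (.leaf 0) (.leaf 3)) (.leaf 3))) (.node (.node (.node (.leaf 0) (.leaf 3)) (.leaf 0)) (.node (.leaf 3) (.leaf 3)))))) (.node (.node (.node (.node (.node (.node (.leaf 0) (.leaf 3)) (.leaf 0)) (.node (.node (.leaf 0) (.leaf 3)) (.leaf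 3))) (.node (.node (.node (.leaf 0) (.leaf 3)) (.leaf 3)) (.node (.leaf 0) (.leaf 0)))) (.node (.node (.node (.node (.leaf 0) (.leaf 3)) (.leaf 3)) (.node (.node (.leaf 3) (.leaf 3)) (.leaf 3))) (.node (.node (.node (.leaf 3) (.leaf 3)) (.leaf 0)) (.node (.leaf 0) (.leaf 3))))) (.node (.node (.node (.node (.node (.leaf 0) (.leaf 3)) (.leaf 0)) (.node (.node (.leaf 3) (.leaf 3)) (.leaf 3))) (.node (.node (.node (.leaf 3) (.leaf 0)) (.leaf 3)) (.node (.leaf 3) (.leaf 0)))) (.node (.node (.node (.node (.leaf 0) (.leaf 3)) (.leaf 3)) (.node (.node (.leaf 0) (.leaf 3)) (.leaf 3))) (.node (.node (.node (.leaf 0) (.leaf 3)) (.leaf 0)) (.node (.leaf 3) (.leaf 3)))))))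

def sevenKind5 : Janko.Tree (ℕ) :=
  (.node (.node (.node (.node (.node (.node (.node (.leaf 0) (.leaf 0)) (.leaf 0)) (.node (.node (.leaf 0) (.leaf 3)) (.leaf 0))) (.node (.node (.node (.leaf 3) (.leaf 0)) (.leaf 0)) (.node (.node (.leaf 3) (.leaf 3)) (.leaf 3)))) (.node (.node (.node (.node (.leaf 0) (.leaf 0)) (.leaf 3)) (.node (.node (.leaf 3) (.leaf 3)) (.leaf 3))) (.node (.node (.node (.leaf 3) (.leaf 0)) (.leaf 3)) (.node (.leaf 0) (.leaf 0))))) (.node (.node (.node (.node (.node (.leaf 0) (.leaf 3)) (.leaf 0)) (.node (.node (.leaf 0) (.leaf 0)) (.leaf 3))) (.node (.node (.node (.leaf 0) (.leaf 3)) (.leaf 0)) (.node (.leaf 3) (.leaf 3)))) (.node (.node (.node (.node (.leaf 3) (.leaf 0)) (.leaf 0)) (.node (.node (.leaf 3) (.leaf 3)) (.leaf 0))) (.node (.node (.node (.leaf 0) (.leaf 0)) (.leaf 0)) (.node (.leaf 0) (.leaf 0)))))) (.node (.node (.node (.node (.node (.node (.leaf 0) (.leaf 3)) (.leaf 0)) (.node (.node (.leaf 0) (.leaf 0)) (.leaf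 3))) (.node (.node (.node (.leaf 3) (.leaf 3)) (.leaf 3)) (.node (.leaf 0) (.leaf 0)))) (.node (.node (.node (.node (.leaf 0) (.leaf 3)) (.leaf 3)) (.node (.node (.leaf 0) (.leaf 3)) (.leaf 0))) (.node (.node (.node (.leaf 0) (.leaf 3)) (.leaf 0)) (.node (.leaf 0) (.leaf 3))))) (.node (.node (.node (.node (.node (.leaf 0) (.leaf 3)) (.leaf 3)) (.node (.node (.leaf 3) (.leaf 3)) (.leaf 0))) (.node (.node (.node (.leaf 3) (.leaf 0)) (.leaf 3)) (.node (.leaf 3) (.leaf 0)))) (.node (.node (.node (.node (.leaf 0) (.leaf 3)) (.leaf 3)) (.node (.node (.leaf 3) (.leaf 3)) (.leaf 3))) (.node (.node (.node (.leaf 0) (.leaf 3)) (.leaf 0)) (.node (.leaf 3) (.leaf 0)))))))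

def sevenKind6 : Janko.Tree (ℕ) :=
  (.node (.node (.node (.node (.node (.node (.node (.leaf 0) (.leaf 3)) (.leaf 3)) (.node (.node (.leaf 0) (.leaf 3)) (.leaf 3))) (.node (.node (.node (.leaf 0) (.leaf 3)) (.leaf 3)) (.node (.leaf 0) (.leaf 0)))) (.node (.node (.node (.node (.leaf 0) (.leaf 3)) (.leaf 3)) (.node (.node (.leaf 3) (.leaf 3)) (.leaf 3))) (.node (.node (.node (.leaf 0) (.leaf 3)) (.leaf 3)) (.node (.leaf 0) (.leaf 0))))) (.node (.node (.node (.node (.node (.leaf 0) (.leaf 3)) (.leaf 0)) (.node (.node (.leaf 3) (.leaf 3)) (.leaf 3))) (.node (.node (.node (.leaf 0) (.leaf 3)) (.leaf 3)) (.node (.leaf 3) (.leaf 0)))) (.node (.node (.node (.node (.leaf 0) (.leaf 3)) (.leaf 3)) (.node (.node (.leaf 0) (.leaf 3)) (.leaf 3))) (.node (.node (.node (.leaf 0) (.leaf 3)) (.leaf 0)) (.node (.leaf 3) (.leaf 0)))))) (.node (.node (.node (.node (.node (.node (.leaf 0) (.leaf 3)) (.leaf 0)) (.node (.node (.leaf 0) (.leaf 3)) (.leaf 3))) (.node (.node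 (.node (.leaf 0) (.leaf 3)) (.leaf 3)) (.node (.leaf 0) (.leaf 0)))) (.node (.node (.node (.node (.leaf 0) (.leaf 0)) (.leaf 3)) (.node (.node (.leaf 3) (.leaf 2)) (.leaf 3))) (.node (.node (.node (.leaf 0) (.leaf 3)) (.leaf 0)) (.node (.leaf 3) (.leaf 3))))) (.node (.node (.node (.node (.node (.leaf 0) (.leaf 3)) (.leaf 0)) (.node (.node (.leaf 3) (.leaf 3)) (.leaf 3))) (.node (.node (.node (.leaf 3) (.leaf 3)) (.leaf 3)) (.node (.leaf 0) (.leaf 3)))) (.node (.node (.node (.node (.leaf 0) (.leaf 3)) (.leaf 0)) (.node (.node (.leaf 0) (.leaf 3)) (.leaf 3))) (.node (.node (.node (.leaf 0) (.leaf 3)) (.leaf 0)) (.node (.leaf 3) (.leaf 3)))))))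

def sevenKind7 : Janko.Tree (ℕ) :=
  (.node (.node (.node (.node (.node (.node (.node (.leaf 0) (.leaf 0)) (.leaf 0)) (.node (.node (.leaf 3) (.leaf 3)) (.leaf 3))) (.node (.node (.node (.leaf 0) (.leaf 0)) (.leaf 0)) (.node (.leaf 3) (.leaf 0)))) (.node (.node (.node (.node (.leaf 3) (.leaf 0)) (.leaf 3)) (.node (.node (.leaf 3) (.leaf 3)) (.leaf 3))) (.node (.node (.node (.leaf 0) (.leaf 0)) (.leaf 3)) (.node (.leaf 0) (.leaf 3))))) (.node (.node (.node (.node (.node (.leaf 3) (.leaf 3)) (.leaf 3)) (.node (.node (.leaf 3) (.leaf 3)) (.leaf 3))) (.node (.node (.node (.leaf 0) (.leaf 3)) (.leaf 0)) (.node (.leaf 3) (.leaf 0)))) (.node (.node (.node (.node (.leaf 0) (.leaf 0)) (.leaf 0)) (.node (.node (.leaf 0) (.leaf 3)) (.leaf 3))) (.node (.node (.node (.leaf 0) (.leaf 0)) (.leaf 3)) (.node (.leaf 0) (.leaf 3)))))) (.node (.node (.node (.node (.node (.node (.leaf 0) (.leaf 3)) (.leaf 3)) (.node (.node (.leaf 3) (.leaf 0)) (.leaf 0))) (.node (.node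 (.node (.leaf 3) (.leaf 3)) (.leaf 3)) (.node (.leaf 0) (.leaf 0)))) (.node (.node (.node (.node (.leaf 3) (.leaf 0)) (.leaf 3)) (.node (.node (.leaf 0) (.leaf 2)) (.leaf 0))) (.node (.node (.node (.leaf 0) (.leaf 0)) (.leaf 0)) (.node (.leaf 3) (.leaf 0))))) (.node (.node (.node (.node (.node (.leaf 0) (.leaf 3)) (.leaf 0)) (.node (.node (.leaf 0) (.leaf 3)) (.leaf 0))) (.node (.node (.node (.leaf 3) (.leaf 3)) (.leaf 3)) (.node (.leaf 0) (.leaf 3)))) (.node (.node (.node (.node (.leaf 0) (.leaf 3)) (.leaf 0)) (.node (.node (.leaf 0) (.leaf 3)) (.leaf 3))) (.node (.node (.node (.leaf 0) (.leaf 3)) (.leaf 3)) (.node (.leaf 0) (.leaf 0)))))))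

def sevenKind : Janko.Tree (ℕ) := (.node (.node (.node sevenKind0 sevenKind4) (.node sevenKind2 sevenKind6)) (.node (.node sevenKind1 sevenKind5) (.node sevenKind3 sevenKind7)))

def sevenRank0 : Janko.Tree (ℕ) :=
  (.node (.node (.node (.node (.node (.node (.node (.leaf 0) (.leaf 649)) (.leaf 474)) (.node (.node (.leaf 104) (.leaf 579)) (.leaf 405))) (.node (.node (.node (.leaf 59) (.leaf 367)) (.leaf 432)) (.node (.node (.leaf 141) (.leaf 417)) (.leaf 539)))) (.node (.node (.node (.node (.leaf 31) (.leaf 302)) (.leaf 197)) (.node (.node (.leaf 401) (.leaf 495)) (.leaf 393))) (.node (.node (.node (.leaf 82) (.leaf 380)) (.leaf 692)) (.node (.leaf 473) (.leaf 389))))) (.node (.node (.node (.node (.node (.leaf 16) (.leaf 522)) (.leaf 184)) (.node (.node (.leaf 689) (.leaf 535)) (.leaf 437))) (.node (.node (.node (.leaf 72) (.leaf 694)) (.leaf 370)) (.node (.leaf 154) (.leaf 276)))) (.node (.node (.node (.node (.leaf 45) (.leaf 425)) (.leaf 204)) (.node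 (.node (.leaf 505) (.leaf 366)) (.leaf 650))) (.node (.node (.node (.leaf 350) (.leaf 590)) (.leaf 231)) (.node (.leaf 378) (.leaf 435)))))) (.node (.node (.node (.node (.node (.node (.leaf 8) (.leaf 547)) (.leaf 568)) (.node (.node (.leaf 109) (.leaf 407)) (.leaf 399))) (.node (.node (.node (.leaf 66) (.leaf 619)) (.leaf 659)) (.node (.leaf 147) (.leaf 269)))) (.node (.node (.node (.node (.leaf 38) (.leaf 306)) (.leaf 531)) (.node (.node (.leaf 125) (.leaf 445)) (.leaf 624))) (.node (.node (.node (.leaf 463) (.leaf 329)) (.leaf 224)) (.node (.leaf 165) (.leaf 543))))) (.node (.node (.node (.node (.node (.leaf 23) (.leaf 398)) (.leaf 191)) (.node (.node (.leaf 664) (.leaf 623)) (.leaf 252))) (.node (.node (.node (.leaf 79) (.leaf 322)) (.leaf 572)) (.node (.leaf 157) (.leaf 597)))) (.node (.node (.node (.node (.leaf 51) (.leaf 593)) (.leaf 208)) (.node (.node (.leaf 134) (.leaf 480)) (.leaf 513))) (.node (.node (.node (.leaf 97) (.leaf 576)) (.leaf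 236)) (.node (.leaf 172) (.leaf 346)))))))

def sevenRank1 : Janko.Tree (ℕ) :=
  (.node (.node (.node (.node (.node (.node (.node (.leaf 1) (.leaf 295)) (.leaf 174)) (.node (.node (.leaf 503) (.leaf 581)) (.leaf 652))) (.node (.node (.node (.leaf 60) (.leaf 316)) (.leaf 625)) (.node (.node (.leaf 142) (.leaf 400)) (.leaf 418)))) (.node (.node (.node (.node (.leaf 32) (.leaf 303)) (.leaf 198)) (.node (.node (.leaf 121) (.leaf 607)) (.leaf 256))) (.node (.node (.node (.leaf 83) (.leaf 325)) (.leaf 616)) (.node (.leaf 433) (.leaf 281))))) (.node (.node (.node (.node (.node (.leaf 17) (.leaf 520)) (.leaf 185)) (.node (.node (.leaf 645) (.leaf 339)) (.leaf 248))) (.node (.node (.node (.leaf 73) (.leaf 705)) (.leaf 218)) (.node (.leaf 155) (.leaf 615)))) (.node (.node (.node (.node (.leaf 610) (.leaf 565)) (.leaf 205)) (.node (.node (.leaf 129) (.leaf 374)) (.leaf 262))) (.node (.node (.node (.leaf 90) (.leaf 331)) (.leaf 632)) (.node (.leaf 168) (.leaf 289))))))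 (.node (.node (.node (.node (.node (.node (.leaf 9) (.leaf 358)) (.leaf 178)) (.node (.node (.leaf 110) (.leaf 468)) (.leaf 544))) (.node (.node (.node (.leaf 67) (.leaf 320)) (.leaf 216)) (.node (.leaf 148) (.leaf 479)))) (.node (.node (.node (.node (.leaf 39) (.leaf 307)) (.leaf 591)) (.node (.node (.leaf 126) (.leaf 492)) (.leaf 661))) (.node (.node (.node (.leaf 628) (.leaf 355)) (.leaf 523)) (.node (.leaf 583) (.leaf 594))))) (.node (.node (.node (.node (.node (.leaf 24) (.leaf 507)) (.leaf 541)) (.node (.node (.leaf 667) (.leaf 647)) (.leaf 253))) (.node (.node (.node (.leaf 80) (.leaf 690)) (.leaf 222)) (.node (.leaf 158) (.leaf 423)))) (.node (.node (.node (.node (.leaf 52) (.leaf 314)) (.leaf 209)) (.node (.node (.leaf 135) (.leaf 402)) (.leaf 670))) (.node (.node (.node (.leaf 391) (.leaf 335)) (.leaf 237)) (.node (.leaf 364) (.leaf 457)))))))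

def sevenRank2 : Janko.Tree (ℕ) :=
  (.node (.node (.node (.node (.node (.node (.node (.leaf 2) (.leaf 681)) (.leaf 514)) (.node (.node (.leaf 105) (.leaf 663)) (.leaf 429))) (.node (.node (.node (.leaf 61) (.leaf 472)) (.leaf 377)) (.node (.node (.leaf 143) (.leaf 414)) (.leaf 265)))) (.node (.node (.node (.node (.leaf 33) (.leaf 558)) (.leaf 199)) (.node (.node (.leaf 122) (.leaf 589)) (.leaf 644))) (.node (.node (.node (.leaf 614) (.leaf 555)) (.leaf 411)) (.node (.leaf 385) (.leaf 419))))) (.node (.node (.node (.node (.node (.leaf 18) (.leaf 477)) (.leaf 186)) (.node (.node (.leaf 604) (.leaf 577)) (.leaf 249))) (.node (.node (.node (.leaf 74) (.leaf 580)) (.leaf 506)) (.node (.leaf 156) (.leaf 641)))) (.node (.node (.node (.node (.leaf 46) (.leaf 381)) (.leaf 566)) (.node (.node (.leaf 655) (.leaf 382)) (.leaf 582))) (.node (.node (.node (.leaf 91) (.leaf 487)) (.leaf 232)) (.node (.leaf 609) (.leaf 440)))))) (.node (.node (.node (.node (.node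 (.node (.leaf 10) (.leaf 511)) (.leaf 179)) (.node (.node (.leaf 111) (.leaf 372)) (.leaf 245))) (.node (.node (.node (.leaf 68) (.leaf 596)) (.leaf 217)) (.node (.leaf 149) (.leaf 270)))) (.node (.node (.node (.node (.leaf 40) (.leaf 308)) (.leaf 202)) (.node (.node (.leaf 524) (.leaf 574)) (.leaf 369))) (.node (.node (.node (.leaf 387) (.leaf 344)) (.leaf 225)) (.node (.leaf 669) (.leaf 286))))) (.node (.node (.node (.node (.node (.leaf 25) (.leaf 300)) (.leaf 192)) (.node (.node (.leaf 118) (.leaf 637)) (.leaf 453))) (.node (.node (.node (.leaf 81) (.leaf 509)) (.leaf 521)) (.node (.leaf 569) (.leaf 562)))) (.node (.node (.node (.node (.leaf 53) (.leaf 315)) (.leaf 210)) (.node (.node (.leaf 136) (.leaf 394)) (.leaf 702))) (.node (.node (.node (.leaf 98) (.leaf 560)) (.leaf 238)) (.node (.leaf 349) (.leaf 602)))))))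

def sevenRank3 : Janko.Tree (ℕ) :=
  (.node (.node (.node (.node (.node (.node (.node (.leaf 3) (.leaf 296)) (.leaf 175)) (.node (.node (.leaf 458) (.leaf 675)) (.leaf 481))) (.node (.node (.node (.leaf 62) (.leaf 317)) (.leaf 213)) (.node (.node (.leaf 144) (.leaf 422)) (.leaf 666)))) (.node (.node (.node (.node (.leaf 34) (.leaf 416)) (.leaf 200)) (.node (.node (.leaf 123) (.leaf 352)) (.leaf 257))) (.node (.node (.node (.leaf 612) (.leaf 326)) (.leaf 436)) (.node (.leaf 161) (.leaf 282))))) (.node (.node (.node (.node (.node (.leaf 19) (.leaf 540)) (.leaf 187)) (.node (.node (.leaf 693) (.leaf 340)) (.leaf 250))) (.node (.node (.node (.leaf 605) (.leaf 672)) (.leaf 219)) (.node (.leaf 627) (.leaf 656)))) (.node (.node (.node (.node (.leaf 47) (.leaf 311)) (.leaf 454)) (.node (.node (.leaf 130) (.leaf 390)) (.leaf 263))) (.node (.node (.node (.leaf 92) (.leaf 332)) (.leaf 415)) (.node (.leaf 169) (.leaf 290)))))) (.node (.node (.node (.node (.node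 (.node (.leaf 11) (.leaf 534)) (.leaf 180)) (.node (.node (.leaf 112) (.leaf 336)) (.leaf 246))) (.node (.node (.node (.leaf 69) (.leaf 321)) (.leaf 363)) (.node (.leaf 532) (.leaf 271)))) (.node (.node (.node (.node (.leaf 41) (.leaf 442)) (.leaf 203)) (.node (.node (.leaf 552) (.leaf 599)) (.leaf 259))) (.node (.node (.node (.leaf 86) (.leaf 444)) (.leaf 226)) (.node (.leaf 658) (.leaf 287))))) (.node (.node (.node (.node (.node (.leaf 26) (.leaf 301)) (.leaf 193)) (.node (.node (.leaf 119) (.leaf 683)) (.leaf 601))) (.node (.node (.node (.leaf 671) (.leaf 484)) (.leaf 223)) (.node (.leaf 455) (.leaf 651)))) (.node (.node (.node (.node (.leaf 54) (.leaf 357)) (.leaf 668)) (.node (.node (.leaf 137) (.leaf 700)) (.leaf 691))) (.node (.node (.node (.leaf 99) (.leaf 354)) (.leaf 239)) (.node (.leaf 608) (.leaf 586)))))))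

def sevenRank4 : Janko.Tree (ℕ) :=
  (.node (.node (.node (.node (.node (.node (.node (.leaf 4) (.leaf 639)) (.leaf 701)) (.node (.node (.leaf 106) (.leaf 606)) (.leaf 243))) (.node (.node (.node (.leaf 63) (.leaf 646)) (.leaf 525)) (.node (.node (.leaf 145) (.leaf 420)) (.leaf 266)))) (.node (.node (.node (.node (.leaf 35) (.leaf 388)) (.leaf 201)) (.node (.node (.leaf 124) (.leaf 688)) (.leaf 258))) (.node (.node (.node (.leaf 630) (.leaf 447)) (.leaf 483)) (.node (.leaf 587) (.leaf 283))))) (.node (.node (.node (.node (.node (.leaf 20) (.leaf 299)) (.leaf 188)) (.node (.node (.leaf 116) (.leaf 443)) (.leaf 251))) (.node (.node (.node (.leaf 75) (.leaf 676)) (.leaf 654)) (.node (.leaf 674) (.leaf 538)))) (.node (.node (.node (.node (.leaf 48) (.leaf 456)) (.leaf 384)) (.node (.node (.leaf 131) (.leaf 709)) (.leaf 677))) (.node (.node (.node (.leaf 93) (.leaf 618)) (.leaf 233)) (.node (.leaf 406) (.leaf 488)))))) (.node (.node (.node (.node (.node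 (.node (.leaf 12) (.leaf 696)) (.leaf 181)) (.node (.node (.leaf 113) (.leaf 486)) (.leaf 467))) (.node (.node (.node (.leaf 70) (.leaf 559)) (.leaf 348)) (.node (.leaf 150) (.leaf 272)))) (.node (.node (.node (.node (.leaf 42) (.leaf 519)) (.leaf 512)) (.node (.node (.leaf 379) (.leaf 494)) (.leaf 462))) (.node (.node (.node (.leaf 706) (.leaf 412)) (.leaf 227)) (.node (.leaf 166) (.leaf 450))))) (.node (.node (.node (.node (.node (.leaf 27) (.leaf 395)) (.leaf 194)) (.node (.node (.leaf 611) (.leaf 491)) (.leaf 376))) (.node (.node (.node (.leaf 441) (.leaf 323)) (.leaf 549)) (.node (.leaf 430) (.leaf 279)))) (.node (.node (.node (.node (.leaf 55) (.leaf 345)) (.leaf 528)) (.node (.node (.leaf 138) (.leaf 490)) (.leaf 570))) (.node (.node (.node (.leaf 100) (.leaf 648)) (.leaf 240)) (.node (.leaf 553) (.leaf 368)))))))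

def sevenRank5 : Janko.Tree (ℕ) :=
  (.node (.node (.node (.node (.node (.node (.node (.leaf 5) (.leaf 297)) (.leaf 176)) (.node (.node (.leaf 107) (.leaf 403)) (.leaf 244))) (.node (.node (.node (.leaf 452) (.leaf 318)) (.leaf 214)) (.node (.node (.leaf 653) (.leaf 461)) (.leaf 660)))) (.node (.node (.node (.node (.leaf 36) (.leaf 304)) (.leaf 546)) (.node (.node (.leaf 673) (.leaf 489)) (.leaf 361))) (.node (.node (.node (.leaf 585) (.leaf 327)) (.leaf 575)) (.node (.leaf 162) (.leaf 284))))) (.node (.node (.node (.node (.node (.leaf 21) (.leaf 571)) (.leaf 189)) (.node (.node (.leaf 117) (.leaf 341)) (.leaf 642))) (.node (.node (.node (.leaf 76) (.leaf 508)) (.leaf 220)) (.node (.leaf 518) (.leaf 536)))) (.node (.node (.node (.node (.leaf 685) (.leaf 312)) (.leaf 206)) (.node (.node (.leaf 365) (.leaf 708)) (.leaf 264))) (.node (.node (.node (.leaf 94) (.leaf 333)) (.leaf 234)) (.node (.leaf 170) (.leaf 291)))))) (.node (.node (.node (.node (.node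 (.node (.leaf 13) (.leaf 703)) (.leaf 182)) (.node (.node (.leaf 114) (.leaf 337)) (.leaf 449))) (.node (.node (.node (.leaf 459) (.leaf 356)) (.leaf 698)) (.node (.leaf 151) (.leaf 273)))) (.node (.node (.node (.node (.leaf 43) (.leaf 516)) (.leaf 451)) (.node (.node (.leaf 127) (.leaf 526)) (.leaf 260))) (.node (.node (.node (.leaf 87) (.leaf 564)) (.leaf 228)) (.node (.leaf 167) (.leaf 448))))) (.node (.node (.node (.node (.node (.leaf 28) (.leaf 464)) (.leaf 485)) (.node (.node (.leaf 699) (.leaf 603)) (.leaf 254))) (.node (.node (.node (.leaf 665) (.leaf 324)) (.leaf 362)) (.node (.leaf 529) (.leaf 280)))) (.node (.node (.node (.node (.leaf 56) (.leaf 613)) (.leaf 643)) (.node (.node (.leaf 424) (.leaf 573)) (.leaf 410))) (.node (.node (.node (.leaf 101) (.leaf 392)) (.leaf 241)) (.node (.leaf 551) (.leaf 293)))))))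

def sevenRank6 : Janko.Tree (ℕ) :=
  (.node (.node (.node (.node (.node (.node (.node (.leaf 6) (.leaf 662)) (.leaf 413)) (.node (.node (.leaf 108) (.leaf 343)) (.leaf 697))) (.node (.node (.node (.leaf 64) (.leaf 638)) (.leaf 496)) (.node (.leaf 146) (.leaf 267)))) (.node (.node (.node (.node (.leaf 37) (.leaf 550)) (.leaf 504)) (.node (.node (.leaf 626) (.leaf 617)) (.leaf 347))) (.node (.node (.node (.leaf 84) (.leaf 515)) (.leaf 465)) (.node (.leaf 163) (.leaf 285))))) (.node (.node (.node (.node (.node (.leaf 22) (.leaf 633)) (.leaf 190)) (.node (.node (.leaf 542) (.leaf 588)) (.leaf 622))) (.node (.node (.node (.leaf 77) (.leaf 478)) (.leaf 501)) (.node (.leaf 396) (.leaf 277)))) (.node (.node (.node (.node (.leaf 49) (.leaf 460)) (.leaf 635)) (.node (.node (.leaf 132) (.leaf 707)) (.leaf 548))) (.node (.node (.node (.leaf 95) (.leaf 595)) (.leaf 235)) (.node (.leaf 499) (.leaf 292)))))) (.node (.node (.node (.node (.node (.node (.leaf 14) (.leaf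 584)) (.leaf 183)) (.node (.node (.leaf 115) (.leaf 530)) (.leaf 383))) (.node (.node (.node (.leaf 71) (.leaf 545)) (.leaf 680)) (.node (.leaf 152) (.leaf 274)))) (.node (.node (.node (.node (.leaf 44) (.leaf 309)) (.leaf 517)) (.node (.node (.leaf 428) (.leaf 342)) (.leaf 498))) (.node (.node (.node (.leaf 88) (.leaf 373)) (.leaf 229)) (.node (.leaf 557) (.leaf 375))))) (.node (.node (.node (.node (.node (.leaf 29) (.leaf 657)) (.leaf 195)) (.node (.node (.leaf 386) (.leaf 600)) (.leaf 493))) (.node (.node (.node (.leaf 686) (.leaf 421)) (.leaf 592)) (.node (.leaf 159) (.leaf 475)))) (.node (.node (.node (.node (.leaf 57) (.leaf 446)) (.leaf 211)) (.node (.node (.leaf 139) (.leaf 397)) (.leaf 563))) (.node (.node (.node (.leaf 102) (.leaf 682)) (.leaf 242)) (.node (.leaf 371) (.leaf 497)))))))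

def sevenRank7 : Janko.Tree (ℕ) :=
  (.node (.node (.node (.node (.node (.node (.node (.leaf 7) (.leaf 298)) (.leaf 177)) (.node (.node (.leaf 470) (.leaf 567)) (.leaf 427))) (.node (.node (.node (.leaf 65) (.leaf 319)) (.leaf 215)) (.node (.leaf 466) (.leaf 268)))) (.node (.node (.node (.node (.leaf 431) (.leaf 305)) (.leaf 510)) (.node (.node (.leaf 561) (.leaf 636)) (.leaf 598))) (.node (.node (.node (.leaf 85) (.leaf 328)) (.leaf 469)) (.node (.leaf 164) (.leaf 634))))) (.node (.node (.node (.node (.node (.leaf 556) (.leaf 631)) (.leaf 640)) (.node (.node (.leaf 434) (.leaf 353)) (.leaf 620))) (.node (.node (.node (.leaf 78) (.leaf 476)) (.leaf 221)) (.node (.leaf 471) (.leaf 278)))) (.node (.node (.node (.node (.leaf 50) (.leaf 313)) (.leaf 207)) (.node (.node (.leaf 133) (.leaf 704)) (.leaf 360))) (.node (.node (.node (.leaf 96) (.leaf 334)) (.leaf 537)) (.node (.leaf 171) (.leaf 359)))))) (.node (.node (.node (.node (.node (.node (.leaf 15)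 (.leaf 554)) (.leaf 409)) (.node (.node (.leaf 533) (.leaf 338)) (.leaf 247))) (.node (.node (.node (.leaf 438) (.leaf 500)) (.leaf 678)) (.node (.leaf 153) (.leaf 275)))) (.node (.node (.node (.node (.leaf 439) (.leaf 310)) (.leaf 621)) (.node (.node (.leaf 128) (.leaf 351)) (.leaf 261))) (.node (.node (.node (.leaf 89) (.leaf 330)) (.leaf 230)) (.node (.leaf 679) (.leaf 288))))) (.node (.node (.node (.node (.node (.leaf 30) (.leaf 502)) (.leaf 196)) (.node (.node (.leaf 120) (.leaf 629)) (.leaf 255))) (.node (.node (.node (.leaf 684) (.leaf 408)) (.leaf 687)) (.node (.leaf 160) (.leaf 426)))) (.node (.node (.node (.node (.leaf 58) (.leaf 527)) (.leaf 212)) (.node (.node (.leaf 140) (.leaf 404)) (.leaf 482))) (.node (.node (.node (.leaf 103) (.leaf 695)) (.leaf 578)) (.node (.leaf 173) (.leaf 294)))))))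

def sevenRank : Janko.Tree (ℕ) := (.node (.node (.node sevenRank0 sevenRank4) (.node sevenRank2 sevenRank6)) (.node (.node sevenRank1 sevenRank5) (.node sevenRank3 sevenRank7)))

def sevenVia0 : Janko.Tree (ℕ × ℕ) :=
  (.node (.node (.node (.node (.node (.node (.node (.leaf (0, 0)) (.leaf (23, 318))) (.leaf (23, 69))) (.node (.node (.leaf (0, 0)) (.leaf (22, 320))) (.leaf (17, 95)))) (.node (.node (.node (.leaf (0, 0)) (.leaf (2, 56))) (.leaf (22, 111))) (.node (.node (.leaf (0, 0)) (.leaf (18, 324))) (.leaf (23, 224))))) (.node (.node (.node (.node (.leaf (0, 0)) (.leaf (0, 0))) (.leaf (0, 0))) (.node (.node (.leaf (19, 274)) (.leaf (23, 336))) (.leaf (4, 60)))) (.node (.node (.node (.leaf (0, 0)) (.leaf (3, 1))) (.leaf (23, 339))) (.node (.leaf (22, 37)) (.leaf (4, 0)))))) (.node (.node (.node (.node (.node (.leaf (0, 0)) (.leaf (23, 124))) (.leaf (0, 0))) (.node (.node (.leaf (23, 338)) (.leaf (23, 328))) (.leaf (22, 191)))) (.node (.node (.node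 (.leaf (0, 0)) (.leaf (23, 296))) (.leaf (2, 7))) (.node (.leaf (0, 0)) (.leaf (0, 0))))) (.node (.node (.node (.node (.leaf (0, 0)) (.leaf (22, 238))) (.leaf (0, 0))) (.node (.node (.leaf (19, 61)) (.leaf (2, 0))) (.leaf (23, 216)))) (.node (.node (.node (.leaf (0, 56)) (.leaf (23, 337))) (.leaf (0, 0))) (.node (.leaf (3, 7)) (.leaf (20, 10))))))) (.node (.node (.node (.node (.node (.node (.leaf (0, 0)) (.leaf (19, 32))) (.leaf (23, 282))) (.node (.node (.leaf (0, 0)) (.leaf (12, 302))) (.leaf (12, 143)))) (.node (.node (.node (.leaf (0, 0)) (.leaf (23, 292))) (.leaf (23, 229))) (.node (.leaf (0, 0)) (.leaf (0, 0))))) (.node (.node (.node (.node (.leaf (0, 0)) (.leaf (0, 0))) (.leaf (21, 327))) (.node (.node (.leaf (0, 0)) (.leaf (22, 160))) (.leaf (21, 159)))) (.node (.node (.node (.leaf (22, 14)) (.leaf (0, 0))) (.leaf (0, 0))) (.node (.leaf (0, 0)) (.leaf (21, 179)))))) (.node (.node (.node (.node (.node (.leaf (0, 0)) (.leaf (16, 227))) (.leaf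 (0, 0))) (.node (.node (.leaf (23, 116)) (.leaf (23, 135))) (.leaf (0, 0)))) (.node (.node (.node (.leaf (0, 0)) (.leaf (0, 0))) (.leaf (23, 112))) (.node (.leaf (0, 0)) (.leaf (22, 187))))) (.node (.node (.node (.node (.leaf (0, 0)) (.leaf (23, 242))) (.leaf (0, 0))) (.node (.node (.leaf (0, 0)) (.leaf (10, 268))) (.leaf (18, 62)))) (.node (.node (.node (.leaf (0, 0)) (.leaf (23, 285))) (.leaf (0, 0))) (.node (.leaf (0, 0)) (.leaf (0, 252))))))))

def sevenVia1 : Janko.Tree (ℕ × ℕ) :=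
  (.node (.node (.node (.node (.node (.node (.node (.leaf (0, 0)) (.leaf (0, 0))) (.leaf (0, 0))) (.node (.node (.leaf (21, 131)) (.leaf (19, 71))) (.leaf (22, 75)))) (.node (.node (.node (.leaf (0, 0)) (.leaf (0, 0))) (.leaf (23, 212))) (.node (.node (.leaf (0, 0)) (.leaf (19, 1))) (.leaf (18, 252))))) (.node (.node (.node (.node (.leaf (0, 0)) (.leaf (0, 0))) (.leaf (0, 0))) (.node (.node (.leaf (0, 0)) (.leaf (23, 88))) (.leaf (0, 0)))) (.node (.node (.node (.leaf (0, 0)) (.leaf (0, 0))) (.leaf (23, 26))) (.node (.leaf (22, 56)) (.leaf (0, 0)))))) (.node (.node (.node (.node (.node (.leaf (0, 0)) (.leaf (22, 277))) (.leaf (0, 0))) (.node (.node (.leaf (22, 236)) (.leaf (0, 0))) (.leaf (0, 0)))) (.node (.node (.node (.leaf (0, 0)) (.leaf (9, 339))) (.leaf (0, 0))) (.node (.leaf (0, 0)) (.leaf (22, 308))))) (.node (.node (.node (.node (.leaf (23, 213)) (.leaf (23, 178))) (.leaf (0, 0))) (.node (.node (.leaf (0, 0)) (.leaf (3, 0))) (.leaf (0, 0))))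 (.node (.node (.node (.leaf (0, 0)) (.leaf (0, 0))) (.leaf (23, 215))) (.node (.leaf (0, 0)) (.leaf (0, 0))))))) (.node (.node (.node (.node (.node (.node (.leaf (0, 0)) (.leaf (1, 260))) (.leaf (0, 0))) (.node (.node (.leaf (0, 0)) (.leaf (23, 252))) (.leaf (23, 46)))) (.node (.node (.node (.leaf (0, 0)) (.leaf (0, 0))) (.leaf (0, 0))) (.node (.leaf (0, 0)) (.leaf (23, 265))))) (.node (.node (.node (.node (.leaf (0, 0)) (.leaf (0, 0))) (.leaf (23, 312))) (.node (.node (.leaf (0, 0)) (.leaf (23, 146))) (.leaf (23, 323)))) (.node (.node (.node (.leaf (22, 193)) (.leaf (1, 308))) (.leaf (11, 300))) (.node (.leaf (20, 196)) (.leaf (23, 327)))))) (.node (.node (.node (.node (.node (.leaf (0, 0)) (.leaf (23, 169))) (.leaf (23, 325))) (.node (.node (.leaf (23, 256)) (.leaf (23, 234))) (.leaf (0, 0)))) (.node (.node (.node (.leaf (0, 0)) (.leaf (23, 177))) (.leaf (0, 0))) (.node (.leaf (0, 0)) (.leaf (21, 324))))) (.node (.node (.node (.node (.leaf (0, 0))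 (.leaf (0, 0))) (.leaf (0, 0))) (.node (.node (.leaf (0, 0)) (.leaf (11, 15))) (.leaf (23, 117)))) (.node (.node (.node (.leaf (5, 56)) (.leaf (0, 0))) (.leaf (0, 0))) (.node (.leaf (1, 124)) (.leaf (19, 66))))))))

def sevenVia2 : Janko.Tree (ℕ × ℕ) :=
  (.node (.node (.node (.node (.node (.node (.node (.leaf (0, 0)) (.leaf (23, 301))) (.leaf (23, 220))) (.node (.node (.leaf (0, 0)) (.leaf (23, 321))) (.leaf (20, 141)))) (.node (.node (.node (.leaf (0, 0)) (.leaf (23, 289))) (.leaf (3, 15))) (.node (.node (.leaf (0, 0)) (.leaf (20, 232))) (.leaf (0, 0))))) (.node (.node (.node (.node (.leaf (0, 0)) (.leaf (23, 137))) (.leaf (0, 0))) (.node (.node (.leaf (0, 0)) (.leaf (23, 331))) (.leaf (23, 209)))) (.node (.node (.node (.leaf (23, 341)) (.leaf (21, 266))) (.leaf (19, 232))) (.node (.leaf (4, 15)) (.leaf (17, 154)))))) (.node (.node (.node (.node (.node (.leaf (0, 0)) (.leaf (20, 238))) (.leaf (0, 0))) (.node (.node (.leaf (23, 105)) (.leaf (23, 316)))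 (.leaf (0, 0)))) (.node (.node (.node (.leaf (0, 0)) (.leaf (22, 297))) (.leaf (23, 240))) (.node (.leaf (0, 0)) (.leaf (22, 185))))) (.node (.node (.node (.node (.leaf (0, 0)) (.leaf (3, 0))) (.leaf (23, 211))) (.node (.node (.leaf (23, 241)) (.leaf (4, 0))) (.leaf (23, 231)))) (.node (.node (.node (.leaf (0, 0)) (.leaf (22, 313))) (.leaf (0, 0))) (.node (.leaf (23, 272)) (.leaf (22, 2))))))) (.node (.node (.node (.node (.node (.node (.leaf (0, 0)) (.leaf (20, 302))) (.leaf (0, 0))) (.node (.node (.leaf (0, 0)) (.leaf (2, 1))) (.leaf (0, 0)))) (.node (.node (.node (.leaf (0, 0)) (.leaf (23, 70))) (.leaf (0, 0))) (.node (.leaf (0, 0)) (.leaf (0, 0))))) (.node (.node (.node (.node (.leaf (0, 0)) (.leaf (0, 0))) (.leaf (0, 0))) (.node (.node (.leaf (22, 51)) (.leaf (15, 341))) (.leaf (2, 15)))) (.node (.node (.node (.leaf (4, 3)) (.leaf (0, 309))) (.leaf (0, 0))) (.node (.leaf (23, 192)) (.leaf (0, 0)))))) (.node (.node (.node (.node (.node (.leaf (0,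 0)) (.leaf (0, 0))) (.leaf (0, 0))) (.node (.node (.leaf (0, 0)) (.leaf (23, 139))) (.leaf (22, 152)))) (.node (.node (.node (.leaf (0, 0)) (.leaf (22, 300))) (.leaf (22, 325))) (.node (.leaf (23, 223)) (.leaf (23, 188))))) (.node (.node (.node (.node (.leaf (0, 0)) (.leaf (0, 0))) (.leaf (0, 0))) (.node (.node (.leaf (0, 0)) (.leaf (12, 56))) (.leaf (19, 221)))) (.node (.node (.node (.leaf (0, 0)) (.leaf (23, 324))) (.leaf (0, 0))) (.node (.leaf (0, 125)) (.leaf (23, 253))))))))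

def sevenVia3 : Janko.Tree (ℕ × ℕ) :=
  (.node (.node (.node (.node (.node (.node (.node (.leaf (0, 0)) (.leaf (0, 0))) (.leaf (0, 0))) (.node (.node (.leaf (18, 154)) (.leaf (23, 183))) (.leaf (10, 302)))) (.node (.node (.node (.leaf (0, 0)) (.leaf (0, 0))) (.leaf (0, 0))) (.node (.node (.leaf (0, 0)) (.leaf (21, 7))) (.leaf (23, 133))))) (.node (.node (.node (.node (.leaf (0, 0)) (.leaf (20, 324))) (.leaf (0, 0))) (.node (.node (.leaf (0, 0)) (.leaf (1, 337))) (.leaf (0, 0)))) (.node (.node (.node (.leaf (23, 317)) (.leaf (0, 0))) (.leaf (21, 191))) (.node (.leaf (0, 0)) (.leaf (0, 0)))))) (.node (.node (.node (.node (.node (.leaf (0, 0)) (.leaf (23, 249))) (.leaf (0, 0))) (.node (.node (.leaf (23, 204)) (.leaf (0, 0))) (.leaf (0, 0)))) (.node (.node (.node (.leaf (23, 145)) (.leaf (23, 190))) (.leaf (0, 0))) (.node (.leaf (23, 239)) (.leaf (23, 170))))) (.node (.node (.node (.node (.leaf (0, 0)) (.leaf (0, 0))) (.leaf (22, 0))) (.node (.node (.leaf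 (0, 0)) (.leaf (5, 0))) (.leaf (0, 0)))) (.node (.node (.node (.leaf (0, 0)) (.leaf (0, 0))) (.leaf (20, 274))) (.node (.leaf (0, 0)) (.leaf (0, 0))))))) (.node (.node (.node (.node (.node (.node (.leaf (0, 0)) (.leaf (23, 19))) (.leaf (0, 0))) (.node (.node (.leaf (0, 0)) (.leaf (0, 0))) (.leaf (0, 0)))) (.node (.node (.node (.leaf (0, 0)) (.leaf (0, 0))) (.leaf (1, 165))) (.node (.leaf (23, 342)) (.leaf (0, 0))))) (.node (.node (.node (.node (.leaf (0, 0)) (.leaf (20, 248))) (.leaf (0, 0))) (.node (.node (.leaf (23, 286)) (.leaf (23, 236))) (.leaf (0, 0)))) (.node (.node (.node (.leaf (0, 0)) (.leaf (18, 308))) (.leaf (0, 0))) (.node (.leaf (23, 300)) (.leaf (0, 0)))))) (.node (.node (.node (.node (.node (.leaf (0, 0)) (.leaf (0, 0))) (.leaf (0, 0))) (.node (.node (.leaf (0, 0)) (.leaf (23, 280))) (.leaf (23, 335)))) (.node (.node (.node (.leaf (23, 314)) (.leaf (23, 243))) (.leaf (0, 0))) (.node (.leaf (18, 18)) (.leaf (23, 278))))) (.node (.node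 (.node (.node (.leaf (0, 0)) (.leaf (1, 285))) (.leaf (23, 297))) (.node (.node (.leaf (0, 0)) (.leaf (13, 296))) (.leaf (22, 281)))) (.node (.node (.node (.leaf (0, 0)) (.leaf (1, 317))) (.leaf (0, 0))) (.node (.leaf (23, 227)) (.leaf (21, 323))))))))

def sevenVia4 : Janko.Tree (ℕ × ℕ) :=
  (.node (.node (.node (.node (.node (.node (.node (.leaf (0, 0)) (.leaf (23, 258))) (.leaf (13, 329))) (.node (.node (.leaf (0, 0)) (.leaf (23, 322))) (.leaf (0, 0)))) (.node (.node (.node (.leaf (0, 0)) (.leaf (23, 290))) (.leaf (23, 96))) (.node (.node (.leaf (0, 0)) (.leaf (22, 232))) (.leaf (0, 0))))) (.node (.node (.node (.node (.leaf (0, 0)) (.leaf (4, 1))) (.leaf (0, 0))) (.node (.node (.leaf (0, 0)) (.leaf (23, 332))) (.leaf (0, 0)))) (.node (.node (.node (.leaf (22, 213)) (.leaf (12, 245))) (.leaf (23, 308))) (.node (.leaf (23, 134)) (.leaf (0, 0)))))) (.node (.node (.node (.node (.node (.leaf (0, 0)) (.leaf (0, 0))) (.leaf (0, 0))) (.node (.node (.leaf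 (0, 0)) (.leaf (20, 308))) (.leaf (0, 0)))) (.node (.node (.node (.leaf (0, 0)) (.leaf (23, 305))) (.leaf (23, 261))) (.node (.leaf (23, 222)) (.leaf (23, 31))))) (.node (.node (.node (.node (.leaf (0, 0)) (.leaf (20, 18))) (.leaf (4, 30))) (.node (.node (.leaf (0, 0)) (.leaf (6, 240))) (.leaf (23, 235)))) (.node (.node (.node (.leaf (0, 0)) (.leaf (10, 184))) (.leaf (0, 0))) (.node (.leaf (19, 95)) (.leaf (22, 12))))))) (.node (.node (.node (.node (.node (.node (.leaf (0, 0)) (.leaf (23, 302))) (.leaf (0, 0))) (.node (.node (.leaf (0, 0)) (.leaf (23, 326))) (.leaf (23, 144)))) (.node (.node (.node (.leaf (0, 0)) (.leaf (23, 260))) (.leaf (0, 166))) (.node (.leaf (0, 0)) (.leaf (0, 0))))) (.node (.node (.node (.node (.leaf (0, 0)) (.leaf (23, 35))) (.leaf (21, 302))) (.node (.node (.leaf (3, 3)) (.leaf (23, 288))) (.leaf (23, 274)))) (.node (.node (.node (.leaf (23, 101)) (.leaf (11, 232))) (.leaf (0, 0))) (.node (.leaf (0, 0)) (.leaf (22, 1)))))) (.node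 (.node (.node (.node (.node (.leaf (0, 0)) (.leaf (12, 134))) (.leaf (0, 0))) (.node (.node (.leaf (23, 125)) (.leaf (14, 334))) (.leaf (3, 30)))) (.node (.node (.node (.leaf (19, 12)) (.leaf (0, 0))) (.leaf (23, 174))) (.node (.leaf (11, 68)) (.leaf (0, 0))))) (.node (.node (.node (.node (.leaf (0, 0)) (.leaf (0, 286))) (.leaf (22, 108))) (.node (.node (.leaf (0, 0)) (.leaf (14, 135))) (.leaf (23, 330)))) (.node (.node (.node (.leaf (0, 0)) (.leaf (23, 295))) (.leaf (0, 0))) (.node (.leaf (23, 189)) (.leaf (2, 30))))))))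

def sevenVia5 : Janko.Tree (ℕ × ℕ) :=
  (.node (.node (.node (.node (.node (.node (.node (.leaf (0, 0)) (.leaf (0, 0))) (.leaf (0, 0))) (.node (.node (.leaf (0, 0)) (.leaf (11, 134))) (.leaf (0, 0)))) (.node (.node (.node (.leaf (22, 287)) (.leaf (0, 0))) (.leaf (0, 0))) (.node (.node (.leaf (23, 129)) (.leaf (23, 66))) (.leaf (23, 115))))) (.node (.node (.node (.node (.leaf (0, 0)) (.leaf (0, 0))) (.leaf (23, 171))) (.node (.node (.leaf (23, 281)) (.leaf (23, 268))) (.leaf (1, 210)))) (.node (.node (.node (.leaf (23, 263)) (.leaf (0, 0))) (.leaf (23, 202))) (.node (.leaf (0, 0)) (.leaf (0, 0)))))) (.node (.node (.node (.node (.node (.leaf (0, 0)) (.leaf (21, 340))) (.leaf (0, 0))) (.node (.node (.leaf (0, 0)) (.leaf (0, 0))) (.leaf (23, 233)))) (.node (.node (.node (.leaf (0, 0)) (.leaf (22, 88))) (.leaf (0, 0))) (.node (.leaf (23, 0)) (.leaf (22, 328))))) (.node (.node (.node (.node (.leaf (23, 214)) (.leaf (0, 0))) (.leaf (0, 0))) (.node (.node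 (.leaf (1, 90)) (.leaf (7, 277))) (.leaf (0, 0)))) (.node (.node (.node (.leaf (0, 0)) (.leaf (0, 0))) (.leaf (0, 0))) (.node (.leaf (0, 0)) (.leaf (0, 0))))))) (.node (.node (.node (.node (.node (.node (.leaf (0, 0)) (.leaf (23, 329))) (.leaf (0, 0))) (.node (.node (.leaf (0, 0)) (.leaf (0, 0))) (.leaf (18, 287)))) (.node (.node (.node (.leaf (21, 154)) (.leaf (1, 294))) (.leaf (23, 173))) (.node (.leaf (0, 0)) (.leaf (0, 0))))) (.node (.node (.node (.node (.leaf (0, 0)) (.leaf (23, 307))) (.leaf (18, 33))) (.node (.node (.leaf (0, 0)) (.leaf (23, 254))) (.leaf (0, 0)))) (.node (.node (.node (.leaf (0, 0)) (.leaf (23, 248))) (.leaf (0, 0))) (.node (.leaf (0, 0)) (.leaf (19, 287)))))) (.node (.node (.node (.node (.node (.leaf (0, 0)) (.leaf (23, 182))) (.leaf (17, 46))) (.node (.node (.leaf (23, 298)) (.leaf (22, 162))) (.leaf (0, 0)))) (.node (.node (.node (.leaf (23, 149)) (.leaf (0, 0))) (.leaf (1, 174))) (.node (.leaf (22, 336)) (.leaf (0, 0)))))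 (.node (.node (.node (.node (.leaf (0, 0)) (.leaf (23, 152))) (.leaf (23, 320))) (.node (.node (.leaf (22, 324)) (.leaf (15, 266))) (.leaf (4, 232)))) (.node (.node (.node (.leaf (0, 0)) (.leaf (1, 318))) (.leaf (0, 0))) (.node (.leaf (23, 33)) (.leaf (0, 0))))))))

def sevenVia6 : Janko.Tree (ℕ × ℕ) :=
  (.node (.node (.node (.node (.node (.node (.node (.leaf (0, 0)) (.leaf (23, 259))) (.leaf (16, 232))) (.node (.node (.leaf (0, 0)) (.leaf (0, 323))) (.leaf (23, 262)))) (.node (.node (.node (.leaf (0, 0)) (.leaf (23, 333))) (.leaf (23, 163))) (.node (.leaf (0, 0)) (.leaf (0, 0))))) (.node (.node (.node (.node (.leaf (0, 0)) (.leaf (23, 9))) (.leaf (23, 99))) (.node (.node (.leaf (23, 147)) (.leaf (23, 184))) (.leaf (0, 211)))) (.node (.node (.node (.leaf (0, 0)) (.leaf (23, 276))) (.leaf (23, 111))) (.node (.leaf (0, 0)) (.leaf (0, 0)))))) (.node (.node (.node (.node (.node (.leaf (0, 0)) (.leaf (23, 226))) (.leaf (0, 0))) (.node (.node (.leaf (23,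 75)) (.leaf (22, 294))) (.leaf (23, 78)))) (.node (.node (.node (.leaf (0, 0)) (.leaf (23, 306))) (.leaf (18, 246))) (.node (.leaf (5, 134)) (.leaf (0, 0))))) (.node (.node (.node (.node (.leaf (0, 0)) (.leaf (22, 4))) (.leaf (22, 335))) (.node (.node (.leaf (0, 0)) (.leaf (8, 240))) (.leaf (23, 287)))) (.node (.node (.node (.leaf (0, 0)) (.leaf (23, 340))) (.leaf (0, 0))) (.node (.leaf (22, 95)) (.leaf (0, 0))))))) (.node (.node (.node (.node (.node (.node (.leaf (0, 0)) (.leaf (23, 304))) (.leaf (0, 0))) (.node (.node (.leaf (0, 0)) (.leaf (17, 158))) (.leaf (4, 56)))) (.node (.node (.node (.leaf (0, 0)) (.leaf (23, 244))) (.leaf (23, 230))) (.node (.leaf (0, 0)) (.leaf (0, 0))))) (.node (.node (.node (.node (.leaf (0, 0)) (.leaf (0, 0))) (.leaf (23, 102))) (.node (.node (.leaf (20, 59)) (.leaf (0, 0))) (.leaf (22, 215)))) (.node (.node (.node (.leaf (0, 0)) (.leaf (2, 0))) (.leaf (0, 0))) (.node (.leaf (22, 77)) (.leaf (3, 56)))))) (.node (.node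 (.node (.node (.node (.leaf (0, 0)) (.leaf (23, 7))) (.leaf (0, 0))) (.node (.node (.leaf (4, 7)) (.leaf (23, 251))) (.leaf (22, 207)))) (.node (.node (.node (.leaf (23, 299)) (.leaf (22, 272))) (.leaf (22, 200))) (.node (.leaf (0, 0)) (.leaf (22, 138))))) (.node (.node (.node (.node (.leaf (0, 0)) (.leaf (11, 191))) (.leaf (0, 0))) (.node (.node (.leaf (0, 0)) (.leaf (16, 66))) (.leaf (23, 277)))) (.node (.node (.node (.leaf (0, 0)) (.leaf (23, 319))) (.leaf (0, 0))) (.node (.leaf (2, 3)) (.leaf (23, 53))))))))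

def sevenVia7 : Janko.Tree (ℕ × ℕ) :=
  (.node (.node (.node (.node (.node (.node (.node (.leaf (0, 0)) (.leaf (0, 0))) (.leaf (0, 0))) (.node (.node (.leaf (23, 18)) (.leaf (23, 238))) (.leaf (18, 59)))) (.node (.node (.node (.leaf (0, 0)) (.leaf (0, 0))) (.leaf (0, 0))) (.node (.leaf (23, 311)) (.leaf (0, 0))))) (.node (.node (.node (.node (.leaf (12, 68)) (.leaf (0, 0))) (.leaf (23, 61))) (.node (.node (.leaf (23, 275)) (.leaf (23, 228))) (.leaf (22, 289)))) (.node (.node (.node (.leaf (0, 0)) (.leaf (0, 0))) (.leaf (22, 211))) (.node (.leaf (0, 0)) (.leaf (23, 334)))))) (.node (.node (.node (.node (.node (.leaf (23, 21)) (.leaf (23, 181))) (.leaf (23, 303))) (.node (.node (.leaf (18, 10)) (.leaf (1, 331))) (.leaf (21, 70)))) (.node (.node (.node (.leaf (0, 0)) (.leaf (21, 128))) (.leaf (0, 0))) (.node (.leaf (18, 56)) (.leaf (0, 0))))) (.node (.node (.node (.node (.leaf (0, 0)) (.leaf (0, 0))) (.leaf (0, 0))) (.node (.node (.leaf (0, 0)) (.leaf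 (9, 333))) (.leaf (1, 219)))) (.node (.node (.node (.leaf (0, 0)) (.leaf (0, 0))) (.leaf (23, 128))) (.node (.leaf (0, 0)) (.leaf (1, 251))))))) (.node (.node (.node (.node (.node (.node (.leaf (0, 0)) (.leaf (22, 266))) (.leaf (19, 324))) (.node (.node (.leaf (21, 9)) (.leaf (0, 0))) (.leaf (0, 0)))) (.node (.node (.node (.leaf (20, 113)) (.leaf (16, 304))) (.leaf (23, 218))) (.node (.leaf (0, 0)) (.leaf (0, 0))))) (.node (.node (.node (.node (.leaf (21, 113)) (.leaf (0, 0))) (.leaf (23, 313))) (.node (.node (.leaf (0, 0)) (.leaf (1, 0))) (.leaf (0, 0)))) (.node (.node (.node (.leaf (0, 0)) (.leaf (0, 0))) (.leaf (0, 0))) (.node (.leaf (23, 309)) (.leaf (0, 0)))))) (.node (.node (.node (.node (.node (.leaf (0, 0)) (.leaf (22, 131))) (.leaf (0, 0))) (.node (.node (.leaf (0, 0)) (.leaf (23, 14))) (.leaf (0, 0)))) (.node (.node (.node (.leaf (23, 237)) (.leaf (17, 324))) (.leaf (23, 47))) (.node (.leaf (0, 0)) (.leaf (22, 3))))) (.node (.node (.node (.node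 (.leaf (0, 0)) (.leaf (23, 166))) (.leaf (0, 0))) (.node (.node (.leaf (0, 0)) (.leaf (17, 274))) (.leaf (21, 243)))) (.node (.node (.node (.leaf (0, 0)) (.leaf (23, 246))) (.leaf (23, 52))) (.node (.leaf (0, 0)) (.leaf (0, 0))))))))

def sevenVia : Janko.Tree (ℕ × ℕ) := (.node (.node (.node sevenVia0 sevenVia4) (.node sevenVia2 sevenVia6)) (.node (.node sevenVia1 sevenVia5) (.node sevenVia3 sevenVia7)))

def sevenOrd0 : Janko.Tree (ℕ) :=
  (.node (.node (.node (.node (.node (.node (.leaf 10) (.leaf 58)) (.leaf 76)) (.node (.node (.leaf 273) (.leaf 28)) (.leaf 137))) (.node (.node (.node (.leaf 189) (.leaf 154)) (.leaf 321)) (.node (.leaf 93) (.leaf 199)))) (.node (.node (.node (.node (.leaf 166) (.leaf 206)) (.leaf 14)) (.node (.node (.leaf 192) (.leaf 122)) (.leaf 308))) (.node (.node (.node (.leaf 1) (.leaf 49)) (.leaf 195)) (.node (.leaf 23) (.leaf 217))))) (.node (.node (.node (.node (.node (.leaf 91) (.leaf 282)) (.leaf 176)) (.node (.node (.leaf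 330) (.leaf 336)) (.leaf 169))) (.node (.node (.node (.leaf 159) (.leaf 293)) (.leaf 4)) (.node (.leaf 164) (.leaf 239)))) (.node (.node (.node (.node (.leaf 40) (.leaf 305)) (.leaf 95)) (.node (.leaf 144) (.leaf 244))) (.node (.node (.node (.leaf 200) (.leaf 127)) (.leaf 215)) (.node (.leaf 269) (.leaf 229))))))

def sevenOrd1 : Janko.Tree (ℕ) :=
  (.node (.node (.node (.node (.node (.node (.leaf 221) (.leaf 8)) (.leaf 21)) (.node (.node (.leaf 278) (.leaf 7)) (.leaf 249))) (.node (.node (.node (.leaf 307) (.leaf 286)) (.leaf 230)) (.node (.leaf 257) (.leaf 62)))) (.node (.node (.node (.node (.leaf 123) (.leaf 2)) (.leaf 235)) (.node (.node (.leaf 125) (.leaf 65)) (.leaf 98))) (.node (.node (.node (.leaf 337) (.leaf 304)) (.leaf 142)) (.node (.leaf 126) (.leaf 284))))) (.node (.node (.node (.node (.node (.leaf 43) (.leaf 63)) (.leaf 332)) (.node (.node (.leaf 39) (.leaf 74)) (.leaf 320))) (.node (.node (.node (.leaf 250) (.leaf 56)) (.leaf 75)) (.node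 (.leaf 16) (.leaf 188)))) (.node (.node (.node (.node (.leaf 171) (.leaf 242)) (.leaf 329)) (.node (.leaf 88) (.leaf 42))) (.node (.node (.node (.leaf 262) (.leaf 87)) (.leaf 248)) (.node (.leaf 41) (.leaf 237))))))

def sevenOrd2 : Janko.Tree (ℕ) :=
  (.node (.node (.node (.node (.node (.node (.leaf 213) (.leaf 34)) (.leaf 114)) (.node (.node (.leaf 101) (.leaf 89)) (.leaf 29))) (.node (.node (.node (.leaf 216) (.leaf 156)) (.leaf 218)) (.node (.leaf 77) (.leaf 109)))) (.node (.node (.node (.node (.leaf 46) (.leaf 319)) (.leaf 78)) (.node (.node (.leaf 25) (.leaf 247)) (.leaf 317))) (.node (.node (.node (.leaf 168) (.leaf 32)) (.leaf 33)) (.node (.leaf 181) (.leaf 256))))) (.node (.node (.node (.node (.node (.leaf 0) (.leaf 165)) (.leaf 52)) (.node (.node (.leaf 272) (.leaf 193)) (.leaf 167))) (.node (.node (.node (.leaf 132) (.leaf 96)) (.leaf 150)) (.node (.leaf 211) (.leaf 149)))) (.node (.node (.node (.node (.leaf 285) (.leaf 271)) (.leaf 116))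 (.node (.leaf 53) (.leaf 146))) (.node (.node (.node (.leaf 204) (.leaf 178)) (.leaf 22)) (.node (.leaf 303) (.leaf 259))))))

def sevenOrd3 : Janko.Tree (ℕ) :=
  (.node (.node (.node (.node (.node (.node (.leaf 117) (.leaf 228)) (.leaf 209)) (.node (.node (.leaf 335) (.leaf 334)) (.leaf 113))) (.node (.node (.node (.leaf 270) (.leaf 238)) (.leaf 277)) (.node (.leaf 99) (.leaf 210)))) (.node (.node (.node (.node (.leaf 35) (.leaf 135)) (.leaf 201)) (.node (.node (.leaf 6) (.leaf 155)) (.leaf 290))) (.node (.node (.node (.leaf 18) (.leaf 198)) (.leaf 212)) (.node (.leaf 291) (.leaf 331))))) (.node (.node (.node (.node (.node (.leaf 105) (.leaf 107)) (.leaf 234)) (.node (.node (.leaf 64) (.leaf 296)) (.leaf 121))) (.node (.node (.node (.leaf 92) (.leaf 197)) (.leaf 274)) (.node (.leaf 316) (.leaf 342)))) (.node (.node (.node (.node (.leaf 103) (.leaf 38)) (.leaf 298)) (.node (.leaf 314) (.leaf 311))) (.node (.node (.node (.leaf 148) (.leaf 300)) (.leaf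 161)) (.node (.leaf 225) (.leaf 338))))))

def sevenOrd4 : Janko.Tree (ℕ) :=
  (.node (.node (.node (.node (.node (.node (.leaf 47) (.leaf 177)) (.leaf 223)) (.node (.node (.leaf 90) (.leaf 112)) (.leaf 24))) (.node (.node (.node (.leaf 295) (.leaf 5)) (.leaf 44)) (.node (.leaf 315) (.leaf 310)))) (.node (.node (.node (.node (.leaf 124) (.leaf 26)) (.leaf 83)) (.node (.node (.leaf 85) (.leaf 255)) (.leaf 226))) (.node (.node (.node (.leaf 243) (.leaf 86)) (.leaf 140)) (.node (.leaf 17) (.leaf 119))))) (.node (.node (.node (.node (.node (.leaf 134) (.leaf 130)) (.leaf 268)) (.node (.node (.leaf 187) (.leaf 36)) (.leaf 19))) (.node (.node (.node (.leaf 72) (.leaf 289)) (.leaf 325)) (.node (.leaf 133) (.leaf 9)))) (.node (.node (.node (.node (.leaf 55) (.leaf 299)) (.leaf 240)) (.node (.leaf 251) (.leaf 222))) (.node (.node (.node (.leaf 50) (.leaf 60)) (.leaf 184)) (.node (.leaf 190) (.leaf 182))))))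

def sevenOrd5 : Janko.Tree (ℕ) :=
  (.node (.node (.node (.node (.node (.node (.leaf 252) (.leaf 258)) (.leaf 31)) (.node (.node (.leaf 185) (.leaf 100)) (.leaf 84))) (.node (.node (.node (.leaf 37) (.leaf 219)) (.leaf 57)) (.node (.leaf 11) (.leaf 30)))) (.node (.node (.node (.node (.leaf 158) (.leaf 281)) (.leaf 333)) (.node (.node (.leaf 208) (.leaf 115)) (.leaf 246))) (.node (.node (.node (.leaf 97) (.leaf 326)) (.leaf 260)) (.node (.leaf 51) (.leaf 294))))) (.node (.node (.node (.node (.node (.leaf 110) (.leaf 313)) (.leaf 245)) (.node (.node (.leaf 203) (.leaf 139)) (.leaf 261))) (.node (.node (.node (.leaf 3) (.leaf 191)) (.leaf 264)) (.node (.leaf 67) (.leaf 312)))) (.node (.node (.node (.node (.leaf 128) (.leaf 236)) (.leaf 179)) (.node (.leaf 136) (.leaf 141))) (.node (.node (.node (.leaf 73) (.leaf 241)) (.leaf 280)) (.node (.leaf 138) (.leaf 186))))))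

def sevenOrd6 : Janko.Tree (ℕ) :=
  (.node (.node (.node (.node (.node (.node (.leaf 45) (.leaf 292)) (.leaf 71)) (.node (.node (.leaf 297) (.leaf 339)) (.leaf 61))) (.node (.node (.node (.leaf 118) (.leaf 174)) (.leaf 183)) (.node (.leaf 151) (.leaf 175)))) (.node (.node (.node (.node (.leaf 68) (.leaf 79)) (.leaf 94)) (.node (.node (.leaf 153) (.leaf 202)) (.leaf 160))) (.node (.node (.node (.leaf 27) (.leaf 227)) (.leaf 323)) (.node (.leaf 318) (.leaf 254))))) (.node (.node (.node (.node (.node (.leaf 279) (.leaf 275)) (.leaf 129)) (.node (.node (.leaf 288) (.leaf 163)) (.leaf 20))) (.node (.node (.node (.leaf 147) (.leaf 224)) (.leaf 276)) (.node (.leaf 327) (.leaf 194)))) (.node (.node (.node (.node (.leaf 306) (.leaf 322)) (.leaf 265)) (.node (.leaf 328) (.leaf 120))) (.node (.node (.node (.leaf 15) (.leaf 70)) (.leaf 196)) (.node (.leaf 152) (.leaf 309))))))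

def sevenOrd7 : Janko.Tree (ℕ) :=
  (.node (.node (.node (.node (.node (.node (.leaf 13) (.leaf 82)) (.leaf 232)) (.node (.node (.leaf 131) (.leaf 59)) (.leaf 253))) (.node (.node (.node (.leaf 145) (.leaf 48)) (.leaf 170)) (.node (.leaf 207) (.leaf 12)))) (.node (.node (.node (.node (.leaf 205) (.leaf 172)) (.leaf 324)) (.node (.leaf 80) (.leaf 214))) (.node (.node (.node (.leaf 266) (.leaf 111)) (.leaf 104)) (.node (.leaf 162) (.leaf 233))))) (.node (.node (.node (.node (.node (.leaf 108) (.leaf 81)) (.leaf 263)) (.node (.node (.leaf 341) (.leaf 180)) (.leaf 302))) (.node (.node (.node (.leaf 102) (.leaf 157)) (.leaf 69)) (.node (.leaf 267) (.leaf 220)))) (.node (.node (.node (.node (.leaf 287) (.leaf 301)) (.leaf 340)) (.node (.leaf 173) (.leaf 66))) (.node (.node (.node (.leaf 106) (.leaf 283)) (.leaf 231)) (.node (.leaf 54) (.leaf 143))))))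

def sevenOrd : Janko.Tree (ℕ) := (.node (.node (.node sevenOrd0 sevenOrd4) (.node sevenOrd2 sevenOrd6)) (.node (.node sevenOrd1 sevenOrd5) (.node sevenOrd3 sevenOrd7)))

def sevenRels : List (List ℕ) := [[0, 0, 0, 0, 0, 0, 0],
  [1, 1, 1, 1, 1, 1, 1],
  [0, 0, 0, 0, 0, 1, 0, 1, 1, 1, 1, 1, 0, 1],
  [0, 0, 0, 0, 0, 1, 1, 0, 1, 1, 1, 0, 1, 1],
  [0, 0, 0, 0, 0, 1, 1, 1, 0, 1, 0, 1, 1, 1],
  [0, 0, 0, 0, 1, 0, 0, 1, 1, 1, 1, 0, 1, 1],
  [0, 0, 0, 0, 1, 0, 1, 0, 1, 1, 0, 1, 1, 1],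
  [0, 0, 0, 0, 1, 0, 1, 1, 0, 0, 1, 1, 1, 1],
  [0, 0, 0, 0, 1, 1, 0, 0, 1, 0, 1, 1, 1, 1],
  [0, 0, 0, 0, 1, 1, 0, 1, 1, 1, 1, 0, 0, 1],
  [0, 0, 0, 0, 1, 1, 1, 0, 1, 1, 0, 1, 0, 1],
  [0, 0, 0, 0, 1, 1, 1, 1, 0, 0, 1, 1, 0, 1],
  [0, 0, 0, 0, 1, 1, 1, 1, 0, 1, 0, 0, 1, 1],
  [0, 0, 0, 1, 0, 0, 0, 1, 1, 1, 0, 1, 1, 1],
  [0, 0, 0, 1, 0, 1, 0, 0, 0, 1, 1, 1, 1, 1],
  [0, 0, 0, 1, 0, 1, 1, 0, 1, 1, 0, 0, 1, 1],
  [0, 0, 0, 1, 0, 1, 1, 1, 0, 0, 1, 0, 1, 1],
  [0, 0, 0, 1, 1, 0, 0, 1, 1, 0, 1, 1, 0, 1],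
  [0, 0, 0, 1, 1, 0, 0, 1, 1, 1, 0, 0, 1, 1],
  [0, 0, 0, 1, 1, 0, 1, 0, 0, 1, 1, 1, 0, 1],
  [0, 0, 0, 1, 1, 0, 1, 0, 1, 0, 1, 0, 1, 1],
  [0, 0, 0, 1, 1, 0, 1, 1, 0, 0, 0, 1, 1, 1],
  [0, 0, 0, 1, 1, 1, 0, 0, 1, 0, 0, 1, 1, 1],
  [0, 0, 1, 0, 1, 0, 0, 1, 0, 1, 1, 1, 0, 1]]

/-- the generators, their inverses and their factorisations along the chain -/
def sevenGens : List (List ℕ) := [[4, 2, 3, 2, 3, 0, 1, 2, 3, 6, 3, 1, 2, 3, 6, 3, 2, 1, 3, 1, 2, 3, 6, 3, 2, 1, 3, 2, 3, 1, 2, 3, 6, 3, 2, 1, 2, 1, 0, 1, 3, 2, 3, 2, 1, 2, 3, 6, 3, 2, 1, 3, 2, 3, 2, 3, 2, 1, 0, 2, 3, 6, 3, 2, 1, 2, 3, 2, 3, 2, 3, 1, 2, 3, 6, 3, 2, 0, 2, 3, 6, 3, 2, 1, 3, 2, 3, 2, 3, 2, 1, 0, 2, 3, 6, 3, 2, 1, 2, 3, 2, 3, 2, 3, 1, 2, 3, 6, 3, 2, 0, 1, 3, 2, 1, 0, 1, 2],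
  [3, 5, 0, 1, 2, 3, 2, 3, 0, 1, 2, 3, 6, 1, 0, 1, 2, 1, 0, 1, 2, 3, 2, 3, 1, 2, 3, 6, 3, 2, 1, 3, 2, 3, 2, 3, 2, 1, 0, 1, 2, 3, 1, 2, 3, 6, 3, 2, 1, 3, 2, 3, 2, 3, 2, 1, 0, 2, 3, 6, 3, 2, 1, 2, 3, 2, 3, 2, 3, 1, 2, 3, 6, 3, 2, 1, 3, 2, 1, 0, 1, 2, 3, 1, 2, 3, 6, 3, 2, 1, 3, 2, 3, 2, 3, 2, 1, 0, 2, 3, 6, 3, 2, 1, 2, 3, 2, 3, 2, 3, 1, 2, 3, 6, 3, 2, 1, 2, 1, 0, 1, 2, 3]]

/-- the additional relations with conjugating elements -/
def sevenSpecs : List Spec := [((7, [1, 1, 1, 1, 1, 0, 1, 1], [], [0, 1, 0, 1, 1, 1, 1, 1], []), [4, 3, 5, 6, 3, 2, 3, 0, 1, 2, 3, 6, 0, 1, 2, 3, 2, 3, 2, 3, 1, 2, 3, 6, 3, 2, 1, 3, 2, 3, 2, 3, 1, 2, 3, 6, 3, 2, 0, 1, 2, 1, 0, 2, 3, 6, 3, 2, 1, 3, 2, 3, 2, 3, 2, 1, 0, 2, 3, 6, 3, 2, 1, 2, 3, 2, 3, 2, 3, 1, 2, 3, 6, 3, 2, 0, 2, 3, 6, 3, 2, 1, 3, 2, 3, 2, 3, 2, 1, 0, 2, 3, 6, 3, 2, 1, 2, 3, 2, 3, 2, 3, 1, 2, 3, 6, 3, 2, 0, 1, 2, 1, 0, 1, 2, 3, 2, 1, 0, 1, 2, 3]),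
  ((0, [1, 1, 1, 1, 1, 0, 1, 1], [0], [0, 1, 0, 1, 1, 1, 1, 1], [0, 1, 1, 1, 1, 0, 1, 1]), [4, 3, 5, 6, 3, 2, 3, 0, 1, 2, 3, 6, 0, 1, 2, 3, 2, 3, 2, 3, 1, 2, 3, 6, 3, 2, 1, 3, 2, 3, 2, 3, 1, 2, 3, 6, 3, 2, 0, 1, 2, 1, 0, 2, 3, 6, 3, 2, 1, 3, 2, 3, 2, 3, 2, 1, 0, 2, 3, 6, 3, 2, 1, 2, 3, 2, 3, 2, 3, 1, 2, 3, 6, 3, 2, 0, 2, 3, 6, 3, 2, 1, 3, 2, 3, 2, 3, 2, 1, 0, 2, 3, 6, 3, 2, 1, 2, 3, 2, 3, 2, 3, 1, 2, 3, 6, 3, 2, 0, 1, 2, 1, 0, 1, 2, 3, 2, 1, 0, 1, 2, 3]),
  ((7, [0, 0, 0, 0, 0, 0, 1, 1, 1, 1, 1], [], [0, 0, 0, 1, 1, 0, 1, 0], []), [3, 5, 6, 3, 4, 2, 3, 1, 2, 3, 6, 1, 2, 3, 1, 2, 3, 6, 3, 2, 1, 2, 3, 2, 3, 1, 2, 3, 6, 3, 2, 1, 2, 3, 2, 1, 2, 3, 6, 3, 2, 1, 3, 2, 3, 2, 3, 2, 1, 0, 2, 3, 6, 3, 2, 1, 2, 3, 2, 3, 2, 3, 1, 2, 3, 6, 3, 2, 0, 2, 3, 6, 3, 2, 1, 3, 2, 3, 2, 3, 2, 1, 0, 2, 3, 6, 3, 2, 1, 2, 3, 2, 3, 2, 3, 1, 2, 3, 6, 3, 2, 1, 3, 2, 1, 0, 1, 2, 1, 0, 1, 2, 1, 0, 1, 2, 3, 2, 1, 0, 1, 2, 3, 2, 1, 0, 1, 2]),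
  ((0, [1, 1, 1, 1, 0, 1], [0, 0, 0, 1], [0, 1, 0], [0, 0, 0, 0, 1, 1, 0, 1, 1, 1, 1]), [3, 2, 3, 2, 3, 5, 3, 1, 2, 3, 2, 1, 2, 3, 2, 3, 2, 3, 1, 2, 3, 6, 3, 2, 1, 3, 2, 3, 2, 1, 0, 1, 2, 3, 1, 2, 3, 6, 3, 2, 1, 2, 3, 2, 3, 1, 2, 3, 6, 3, 2, 1, 3, 2, 3, 2, 3, 2, 1, 0, 2, 3, 6, 3, 2, 1, 2, 3, 2, 3, 2, 3, 1, 2, 3, 6, 3, 2, 1, 3, 2, 1, 0, 1, 2, 3, 1, 2, 3, 6, 3, 2, 1, 3, 2, 3, 2, 3, 2, 1, 0, 2, 3, 6, 3, 2, 1, 2, 3, 2, 3, 2, 3, 1, 2, 3, 6, 3, 2, 0, 1, 2, 1, 0, 1, 2, 3, 2, 1, 0, 1, 2, 3])]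

/-- the combinations -/
def sevenCombos : List (List (ℤ × ℕ) × List (ℤ × (ℕ × ℕ))) := [([(4, 0), (5, 2)], [(3, (0, 6)), (2, (0, 10))]),
  ([(5, 0), (5, 2)], [(4, (0, 6)), (4, (0, 10))]),
  ([(4, 1), (3, 2), (2, 0), (6, 3)], [(1, (0, 10)), (6, (0, 6))]),
  ([(3, 1), (4, 3), (3, 2), (2, 0)], [(1, (0, 6)), (3, (0, 10))]),
  ([(3, 2), (2, 0), (4, 1), (1, 3)], [(3, (0, 6)), (5, (0, 10))]),
  ([(4, 3), (5, 1), (3, 2), (2, 0)], [(6, (0, 10))])]

/-- the certificate -/
def sevenCert : CentralLocal.Cert :=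
  { act := actC sevenGens, one := oneC, N := 343, k := 2, q := 7, rels := sevenRels, P := 6,
    elt := sevenElt, next := sevenNext, word := sevenWord, par := sevenPar, L := sevenL, kind := sevenKind, rank := sevenRank,
    via := sevenVia, pv := [686, 687, 688, 689, 690, 691] }

end Cfsg.Agent.Spor.HeMult
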