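import Cfsg.Agent.Lib.Lie.CentralLocal
import Cfsg.Agent.Lib.Spor.HeMult.Defs

/-!
Central table on a Sylow subgroup for the prime 3 of the Held group (generated).
-/

set_option autoImplicit false
set_option maxRecDepth 100000
set_option maxHeartbeats 0

namespace Cfsg.Agent.Spor.HeMult

open Cfsg.Agent.Lie

def threeElt0 : Janko.Tree (ℕ) :=
  (.node (.node (.leaf 2336713871360) (.leaf 74862104596685)) (.node (.leaf 123287376847408) (.leaf 120287626532158)))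

def threeElt1 : Janko.Tree (ℕ) :=
  (.node (.node (.leaf 110532813562643) (.leaf 47996016186141)) (.node (.leaf 56994501653228) (.leaf 7578640123762)))

def threeElt2 : Janko.Tree (ℕ) :=
  (.node (.node (.leaf 45356468925560) (.leaf 3593399534548)) (.node (.leaf 3468941394421) (.leaf 53128315237152)))

def threeElt3 : Janko.Tree (ℕ) :=
  (.node (.node (.leaf 24554043832026) (.leaf 111194560209662)) (.leaf 17468193174889))

def threeElt4 : Janko.Tree (ℕ) :=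
  (.node (.node (.leaf 50198338990206) (.leaf 136781960885425)) (.leaf 86400431256921))

def threeElt5 : Janko.Tree (ℕ) :=
  (.node (.node (.leaf 93403245478629) (.leaf 9080726831167)) (.leaf 105928289088836))

def threeElt6 : Janko.Tree (ℕ) :=
  (.node (.node (.leaf 66063462310666) (.leaf 107065552348945)) (.leaf 136890731451948))

def threeElt7 : Janko.Tree (ℕ) :=
  (.node (.node (.leaf 94981642195825) (.leaf 60683291832801)) (.leaf 26126588749107))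

def threeElt : Janko.Tree (ℕ) := (.node (.node (.node threeElt0 threeElt4) (.node threeElt2 threeElt6)) (.node (.node threeElt1 threeElt5) (.node threeElt3 threeElt7)))

def threeNext0 : Janko.Tree (ℕ) :=
  (.node (.node (.node (.leaf 1) (.leaf 6)) (.node (.leaf 15) (.leaf 26))) (.node (.node (.leaf 8) (.leaf 7)) (.leaf 16)))

def threeNext1 : Janko.Tree (ℕ) :=
  (.node (.node (.node (.leaf 2) (.leaf 23)) (.node (.leaf 16) (.leaf 10))) (.node (.node (.leaf 9) (.leaf 12)) (.leaf 19)))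

def threeNext2 : Janko.Tree (ℕ) :=
  (.node (.node (.node (.leaf 3) (.leaf 21)) (.node (.leaf 17) (.leaf 18))) (.node (.node (.leaf 10) (.leaf 9)) (.leaf 20)))

def threeNext3 : Janko.Tree (ℕ) :=
  (.node (.node (.node (.leaf 4) (.leaf 24)) (.node (.leaf 1) (.leaf 13))) (.node (.node (.leaf 11) (.leaf 25)) (.leaf 21)))

def threeNext4 : Janko.Tree (ℕ) :=
  (.node (.node (.node (.leaf 5) (.leaf 23)) (.node (.leaf 2) (.leaf 19))) (.node (.node (.leaf 12) (.leaf 11)) (.leaf 22)))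

def threeNext5 : Janko.Tree (ℕ) :=
  (.node (.node (.node (.leaf 6) (.leaf 5)) (.node (.leaf 17) (.leaf 15))) (.node (.node (.leaf 0) (.leaf 26)) (.leaf 3)))

def threeNext6 : Janko.Tree (ℕ) :=
  (.node (.node (.node (.leaf 0) (.leaf 24)) (.leaf 14)) (.node (.node (.leaf 13) (.leaf 25)) (.leaf 4)))

def threeNext7 : Janko.Tree (ℕ) :=
  (.node (.node (.node (.leaf 7) (.leaf 20)) (.leaf 18)) (.node (.node (.leaf 14) (.leaf 8)) (.leaf 22)))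

def threeNext : Janko.Tree (ℕ) := (.node (.node (.node threeNext0 threeNext4) (.node threeNext2 threeNext6)) (.node (.node threeNext1 threeNext5) (.node threeNext3 threeNext7)))

def threeWord0 : Janko.Tree (ℕ) :=
  (.node (.node (.leaf 1) (.leaf 65793)) (.node (.leaf 4112) (.leaf 1052929)))

def threeWord1 : Janko.Tree (ℕ) :=
  (.node (.node (.leaf 16) (.leaf 65808)) (.node (.leaf 4113) (.leaf 16781329)))

def threeWord2 : Janko.Tree (ℕ) :=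
  (.node (.node (.leaf 17) (.leaf 69649)) (.node (.leaf 4352) (.leaf 16781569)))

def threeWord3 : Janko.Tree (ℕ) :=
  (.node (.node (.leaf 256) (.leaf 69889)) (.leaf 4353))

def threeWord4 : Janko.Tree (ℕ) :=
  (.node (.node (.leaf 257) (.leaf 1048832)) (.leaf 4368))

def threeWord5 : Janko.Tree (ℕ) :=
  (.node (.node (.leaf 272) (.leaf 1048833)) (.leaf 65552))

def threeWord6 : Janko.Tree (ℕ) :=
  (.node (.node (.leaf 273) (.leaf 1048848)) (.leaf 65553))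

def threeWord7 : Janko.Tree (ℕ) :=
  (.node (.node (.leaf 4097) (.leaf 1052689)) (.leaf 65792))

def threeWord : Janko.Tree (ℕ) := (.node (.node (.node threeWord0 threeWord4) (.node threeWord2 threeWord6)) (.node (.node threeWord1 threeWord5) (.node threeWord3 threeWord7)))

def threePar0 : Janko.Tree (ℕ) :=
  (.node (.node (.leaf 0) (.leaf 129)) (.node (.leaf 64) (.leaf 273)))

def threePar1 : Janko.Tree (ℕ) :=
  (.node (.node (.leaf 0) (.leaf 144)) (.node (.leaf 65) (.leaf 337)))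

def threePar2 : Janko.Tree (ℕ) :=
  (.node (.node (.leaf 1) (.leaf 177)) (.node (.leaf 80) (.leaf 353)))

def threePar3 : Janko.Tree (ℕ) :=
  (.node (.node (.leaf 16) (.leaf 193)) (.leaf 81))

def threePar4 : Janko.Tree (ℕ) :=
  (.node (.node (.leaf 17) (.leaf 208)) (.leaf 96))

def threePar5 : Janko.Tree (ℕ) :=
  (.node (.node (.leaf 32) (.leaf 209)) (.leaf 112))

def threePar6 : Janko.Tree (ℕ) :=
  (.node (.node (.leaf 33) (.leaf 224)) (.leaf 113))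

def threePar7 : Janko.Tree (ℕ) :=
  (.node (.node (.leaf 49) (.leaf 257)) (.leaf 128))

def threePar : Janko.Tree (ℕ) := (.node (.node (.node threePar0 threePar4) (.node threePar2 threePar6)) (.node (.node threePar1 threePar5) (.node threePar3 threePar7)))

def threeL0 : Janko.Tree (List ℤ) :=
  (.node (.node (.node (.leaf []) (.leaf [0, 2, 1])) (.node (.leaf []) (.leaf [0, 1, 1, 1]))) (.node (.node (.leaf []) (.leaf [1])) (.node (.leaf [1, 1, 2]) (.leaf [0, 0, 1, 0]))))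

def threeL1 : Janko.Tree (List ℤ) :=
  (.node (.node (.node (.leaf []) (.leaf [])) (.node (.leaf []) (.leaf [2, 2, 0, 2]))) (.node (.node (.leaf []) (.leaf [2, 2, 0, 1])) (.node (.leaf []) (.leaf [0, 0, 0, 1]))))

def threeL2 : Janko.Tree (List ℤ) :=
  (.node (.node (.node (.leaf []) (.leaf [1, 1, 2])) (.node (.leaf []) (.leaf [1, 2, 2, 2]))) (.node (.node (.leaf []) (.leaf [0, 2, 1])) (.node (.leaf []) (.leaf [0, 0, 0, 2]))))

def threeL3 : Janko.Tree (List ℤ) :=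
  (.node (.node (.node (.leaf []) (.leaf [])) (.node (.leaf [0, 1]) (.leaf [0, 1]))) (.node (.node (.leaf []) (.leaf [])) (.leaf [])))

def threeL4 : Janko.Tree (List ℤ) :=
  (.node (.node (.node (.leaf []) (.leaf [0, 2, 2, 2])) (.node (.leaf [1]) (.leaf [1, 1, 1, 1]))) (.node (.node (.leaf []) (.leaf [2, 1, 2])) (.leaf [])))

def threeL5 : Janko.Tree (List ℤ) :=
  (.node (.node (.node (.leaf []) (.leaf [0, 1])) (.node (.leaf [1, 2, 0, 1]) (.leaf [2, 2, 0, 2]))) (.node (.node (.leaf [0, 1]) (.leaf [])) (.leaf [0, 1])))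

def threeL6 : Janko.Tree (List ℤ) :=
  (.node (.node (.node (.leaf [1]) (.leaf [0, 1, 1, 1])) (.node (.leaf [2, 2, 1]) (.leaf [1, 0, 0, 0]))) (.node (.node (.leaf []) (.leaf [0, 2, 2, 2])) (.leaf [1])))

def threeL7 : Janko.Tree (List ℤ) :=
  (.node (.node (.node (.leaf []) (.leaf [1, 2, 0, 2])) (.node (.leaf []) (.leaf [0, 1, 0, 0]))) (.node (.node (.leaf []) (.leaf [0, 1])) (.leaf [1, 2, 0, 1])))

def threeL : Janko.Tree (List ℤ) := (.node (.node (.node threeL0 threeL4) (.node threeL2 threeL6)) (.node (.node threeL1 threeL5) (.node threeL3 threeL7)))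

def threeKind0 : Janko.Tree (ℕ) :=
  (.node (.node (.node (.leaf 0) (.leaf 3)) (.node (.leaf 0) (.leaf 3))) (.node (.node (.leaf 0) (.leaf 3)) (.node (.leaf 3) (.leaf 2))))

def threeKind1 : Janko.Tree (ℕ) :=
  (.node (.node (.node (.leaf 0) (.leaf 0)) (.node (.leaf 0) (.leaf 3))) (.node (.node (.leaf 0) (.leaf 3)) (.node (.leaf 0) (.leaf 2))))

def threeKind2 : Janko.Tree (ℕ) :=
  (.node (.node (.node (.leaf 0) (.leaf 3)) (.node (.leaf 0) (.leaf 3))) (.node (.node (.leaf 0) (.leaf 3)) (.node (.leaf 0) (.leaf 3))))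

def threeKind3 : Janko.Tree (ℕ) :=
  (.node (.node (.node (.leaf 0) (.leaf 0)) (.node (.leaf 3) (.leaf 3))) (.node (.node (.leaf 0) (.leaf 0)) (.leaf 0)))

def threeKind4 : Janko.Tree (ℕ) :=
  (.node (.node (.node (.leaf 0) (.leaf 3)) (.node (.leaf 3) (.leaf 3))) (.node (.node (.leaf 0) (.leaf 3)) (.leaf 0)))

def threeKind5 : Janko.Tree (ℕ) :=
  (.node (.node (.node (.leaf 0) (.leaf 3)) (.node (.leaf 3) (.leaf 3))) (.node (.node (.leaf 3) (.leaf 0)) (.leaf 3)))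

def threeKind6 : Janko.Tree (ℕ) :=
  (.node (.node (.node (.leaf 3) (.leaf 3)) (.node (.leaf 3) (.leaf 2))) (.node (.node (.leaf 0) (.leaf 3)) (.leaf 3)))

def threeKind7 : Janko.Tree (ℕ) :=
  (.node (.node (.node (.leaf 0) (.leaf 3)) (.node (.leaf 0) (.leaf 2))) (.node (.node (.leaf 0) (.leaf 3)) (.leaf 3)))

def threeKind : Janko.Tree (ℕ) := (.node (.node (.node threeKind0 threeKind4) (.node threeKind2 threeKind6)) (.node (.node threeKind1 threeKind5) (.node threeKind3 threeKind7)))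

def threeRank0 : Janko.Tree (ℕ) :=
  (.node (.node (.node (.leaf 0) (.leaf 41)) (.node (.leaf 14) (.leaf 54))) (.node (.node (.leaf 7) (.leaf 27)) (.node (.leaf 42) (.leaf 38))))

def threeRank1 : Janko.Tree (ℕ) :=
  (.node (.node (.node (.leaf 1) (.leaf 22)) (.node (.leaf 15) (.leaf 57))) (.node (.node (.leaf 8) (.leaf 51)) (.node (.leaf 18) (.leaf 45))))

def threeRank2 : Janko.Tree (ℕ) :=
  (.node (.node (.node (.leaf 2) (.leaf 40)) (.node (.leaf 16) (.leaf 49))) (.node (.node (.leaf 9) (.leaf 39)) (.node (.leaf 19) (.leaf 48))))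

def threeRank3 : Janko.Tree (ℕ) :=
  (.node (.node (.node (.leaf 3) (.leaf 23)) (.node (.leaf 36) (.leaf 32))) (.node (.node (.leaf 10) (.leaf 24)) (.leaf 20)))

def threeRank4 : Janko.Tree (ℕ) :=
  (.node (.node (.node (.leaf 4) (.leaf 47)) (.node (.leaf 29) (.leaf 53))) (.node (.node (.leaf 11) (.leaf 44)) (.leaf 21)))

def threeRank5 : Janko.Tree (ℕ) :=
  (.node (.node (.node (.leaf 5) (.leaf 34)) (.node (.leaf 56) (.leaf 55))) (.node (.node (.leaf 37) (.leaf 25)) (.leaf 35)))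

def threeRank6 : Janko.Tree (ℕ) :=
  (.node (.node (.node (.leaf 30) (.leaf 58)) (.node (.leaf 43) (.leaf 26))) (.node (.node (.leaf 12) (.leaf 50)) (.leaf 28)))

def threeRank7 : Janko.Tree (ℕ) :=
  (.node (.node (.node (.leaf 6) (.leaf 52)) (.node (.leaf 17) (.leaf 31))) (.node (.node (.leaf 13) (.leaf 33)) (.leaf 46)))

def threeRank : Janko.Tree (ℕ) := (.node (.node (.node threeRank0 threeRank4) (.node threeRank2 threeRank6)) (.node (.node threeRank1 threeRank5) (.node threeRank3 threeRank7)))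

def threeVia0 : Janko.Tree (ℕ × ℕ) :=
  (.node (.node (.node (.leaf (0, 0)) (.leaf (2, 16))) (.node (.leaf (0, 0)) (.leaf (3, 24)))) (.node (.node (.leaf (0, 0)) (.leaf (0, 20))) (.node (.leaf (0, 16)) (.leaf (2, 0)))))

def threeVia1 : Janko.Tree (ℕ × ℕ) :=
  (.node (.node (.node (.leaf (0, 0)) (.leaf (0, 0))) (.node (.leaf (0, 0)) (.leaf (1, 24)))) (.node (.node (.leaf (0, 0)) (.leaf (2, 23))) (.node (.leaf (0, 0)) (.leaf (3, 0)))))

def threeVia2 : Janko.Tree (ℕ × ℕ) :=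
  (.node (.node (.node (.leaf (0, 0)) (.leaf (0, 21))) (.node (.leaf (0, 0)) (.leaf (4, 25)))) (.node (.node (.leaf (0, 0)) (.leaf (2, 21))) (.node (.leaf (0, 0)) (.leaf (4, 18)))))

def threeVia3 : Janko.Tree (ℕ × ℕ) :=
  (.node (.node (.node (.leaf (0, 0)) (.leaf (0, 0))) (.node (.leaf (1, 9)) (.leaf (1, 25)))) (.node (.node (.leaf (0, 0)) (.leaf (0, 0))) (.leaf (0, 0))))

def threeVia4 : Janko.Tree (ℕ × ℕ) :=
  (.node (.node (.node (.leaf (0, 0)) (.leaf (2, 22))) (.node (.leaf (0, 10)) (.leaf (4, 26)))) (.node (.node (.leaf (0, 0)) (.leaf (0, 22))) (.leaf (0, 0))))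

def threeVia5 : Janko.Tree (ℕ × ℕ) :=
  (.node (.node (.node (.leaf (0, 0)) (.leaf (1, 18))) (.node (.leaf (4, 24)) (.leaf (2, 24)))) (.node (.node (.leaf (1, 6)) (.leaf (0, 0))) (.leaf (1, 14))))

def threeVia6 : Janko.Tree (ℕ × ℕ) :=
  (.node (.node (.node (.leaf (0, 3)) (.leaf (4, 19))) (.node (.leaf (2, 11)) (.leaf (0, 0)))) (.node (.node (.leaf (0, 0)) (.leaf (3, 23))) (.leaf (0, 15))))

def threeVia7 : Janko.Tree (ℕ × ℕ) :=
  (.node (.node (.node (.leaf (0, 0)) (.leaf (1, 20))) (.node (.leaf (0, 0)) (.leaf (1, 0)))) (.node (.node (.leaf (0, 0)) (.leaf (1, 23))) (.leaf (3, 22))))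

def threeVia : Janko.Tree (ℕ × ℕ) := (.node (.node (.node threeVia0 threeVia4) (.node threeVia2 threeVia6)) (.node (.node threeVia1 threeVia5) (.node threeVia3 threeVia7)))

def threeOrd0 : Janko.Tree (ℕ) :=
  (.node (.node (.leaf 0) (.leaf 12)) (.node (.leaf 2) (.leaf 8)))

def threeOrd1 : Janko.Tree (ℕ) :=
  (.node (.node (.leaf 10) (.leaf 5)) (.node (.leaf 17) (.leaf 20)))

def threeOrd2 : Janko.Tree (ℕ) :=
  (.node (.node (.leaf 18) (.leaf 7)) (.node (.leaf 4) (.leaf 14)))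

def threeOrd3 : Janko.Tree (ℕ) :=
  (.node (.node (.leaf 25) (.leaf 13)) (.leaf 26))

def threeOrd4 : Janko.Tree (ℕ) :=
  (.node (.node (.leaf 21) (.leaf 22)) (.leaf 9))

def threeOrd5 : Janko.Tree (ℕ) :=
  (.node (.node (.leaf 11) (.leaf 1)) (.leaf 23))

def threeOrd6 : Janko.Tree (ℕ) :=
  (.node (.node (.leaf 3) (.leaf 19)) (.leaf 6))

def threeOrd7 : Janko.Tree (ℕ) :=
  (.node (.node (.leaf 15) (.leaf 24)) (.leaf 16))

def threeOrd : Janko.Tree (ℕ) := (.node (.node (.node threeOrd0 threeOrd4) (.node threeOrd2 threeOrd6)) (.node (.node threeOrd1 threeOrd5) (.node threeOrd3 threeOrd7)))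

def threeRels : List (List ℕ) := [[0, 0, 0],
  [1, 1, 1],
  [0, 1, 0, 1, 0, 1],
  [0, 0, 1, 0, 0, 1, 0, 0, 1],
  [0, 1, 1, 0, 1, 1, 0, 1, 1]]

/-- the generators, their inverses and their factorisations along the chain -/
def threeGens : List (List ℕ) := [[2, 3, 5, 4, 3, 2, 3, 5, 0, 1, 2, 3, 6, 2, 3, 6, 3, 2, 1, 2, 3, 2, 3, 2, 3, 1, 2, 3, 6, 3, 2, 1, 2, 1, 2, 3, 6, 3, 2, 1, 3, 2, 3, 2, 3, 2, 1, 0, 2, 3, 6, 3, 2, 1, 2, 3, 2, 3, 2, 3, 1, 2, 3, 6, 3, 2, 1, 2, 1, 0, 1, 2, 3, 1, 2, 3, 6, 3, 2, 1, 3, 2, 3, 2, 3, 2, 1, 0, 2, 3, 6, 3, 2, 1, 2, 3, 2, 3, 2, 3, 1, 2, 3, 6, 3, 2, 0, 2, 3, 6, 3, 2, 1, 3, 2, 3, 2, 3, 2, 1, 0, 2, 3, 6, 3, 2, 1, 2, 3, 2, 3, 2, 3, 1, 2, 3, 6, 3, 2, 1, 2, 1, 0, 1, 2],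
  [5, 2, 3, 2, 3, 5, 0, 1, 2, 3, 2, 1, 3, 2, 3, 1, 2, 3, 6, 3, 2, 1, 3, 2, 1, 0, 1, 2, 3, 2, 3, 2, 3, 1, 2, 3, 6, 3, 2, 1, 3, 2, 1, 0, 1, 2, 3, 1, 2, 3, 6, 3, 2, 1, 3, 2, 3, 2, 3, 2, 1, 0, 2, 3, 6, 3, 2, 1, 2, 3, 2, 3, 2, 3, 1, 2, 3, 6, 3, 2, 1, 2, 1, 0, 1, 2, 3, 2, 1, 0, 1, 2]]

/-- the additional relations with conjugating elements -/
def threeSpecs : List Spec := [((3, [0, 0, 1, 0], [], [0, 0], []), [5, 6, 3, 1, 2, 3, 6, 0, 1, 3, 1, 2, 3, 6, 3, 2, 1, 2, 3, 1, 2, 3, 6, 3, 2, 1, 2, 1, 0, 1, 3, 1, 2, 3, 6, 3, 2, 1, 2, 3, 2, 3, 1, 2, 3, 6, 3, 2, 1, 3, 2, 3, 2, 3, 2, 1, 0, 2, 3, 6, 3, 2, 1, 2, 3, 2, 3, 2, 3, 1, 2, 3, 6, 3, 2, 0, 2, 3, 6, 3, 2, 1, 3, 2, 3, 2, 3, 2, 1, 0, 2, 3, 6, 3, 2, 1, 2, 3, 2, 3, 2, 3, 1, 2, 3, 6, 3, 2, 1, 3, 2, 1, 0, 1, 2, 1, 0, 1, 2, 1, 0, 1, 2, 3, 2, 1, 0, 1, 2, 3, 2, 1, 0, 1, 2]),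
  ((3, [1, 0, 0], [], [1, 0, 1], []), [3, 5, 2, 3, 4, 2, 3, 6, 2, 3, 1, 2, 3, 2, 1, 2, 3, 2, 1, 0, 1, 3, 2, 3, 1, 2, 3, 6, 3, 2, 1, 3, 2, 3, 2, 3, 1, 2, 3, 6, 3, 2, 1, 3, 2, 3, 2, 3, 2, 1, 0, 2, 3, 6, 3, 2, 1, 2, 3, 2, 3, 2, 3, 1, 2, 3, 6, 3, 2, 1, 2, 1, 0, 1, 2, 1, 2, 3, 6, 3, 2, 1, 3, 2, 3, 2, 3, 2, 1, 0, 2, 3, 6, 3, 2, 1, 2, 3, 2, 3, 2, 3, 1, 2, 3, 6, 3, 2, 0, 1, 2, 1, 0, 1, 2, 3, 2, 1, 0, 1, 2, 3, 2, 1, 0, 1, 2]),
  ((3, [1, 1], [], [0, 0, 1, 0], []), [3, 4, 2, 3, 1, 2, 3, 1, 2, 3, 1, 2, 3, 6, 3, 2, 3, 2, 1, 0, 1, 2, 3, 1, 2, 3, 6, 3, 2, 1, 2, 3, 1, 2, 3, 6, 3, 2, 1, 2, 3, 2, 3, 1, 2, 3, 6, 3, 2, 1, 2, 3, 1, 0, 1, 2, 1, 2, 3, 6, 3, 2, 1, 3, 2, 3, 2, 3, 2, 1, 0, 2, 3, 6, 3, 2, 1, 2, 3, 2, 3, 2, 3, 1, 2, 3, 6, 3, 2, 1, 3, 2, 1, 0, 1, 2, 3, 1, 2, 3, 6, 3, 2, 1, 3, 2, 3, 2, 3, 2, 1, 0, 2, 3, 6, 3, 2, 1, 2, 3, 2, 3, 2, 3, 1, 2, 3, 6, 3, 2, 1, 3, 2, 1, 0, 1, 2]),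
  ((3, [0, 0, 1], [], [1, 0], []), [1, 2, 3, 2, 3, 6, 4, 3, 0, 1, 2, 3, 2, 1, 2, 3, 2, 1, 0, 1, 2, 1, 2, 3, 6, 3, 2, 1, 3, 2, 3, 2, 3, 2, 1, 0, 2, 3, 6, 3, 2, 1, 2, 3, 2, 3, 2, 3, 1, 2, 3, 6, 3, 2, 1, 3, 2, 1, 0, 1, 2, 3, 1, 2, 3, 6, 3, 2, 1, 3, 2, 3, 2, 3, 2, 1, 0, 2, 3, 6, 3, 2, 1, 2, 3, 2, 3, 2, 3, 1, 2, 3, 6, 3, 2, 1, 3, 2, 1, 0, 1, 2, 3, 2, 1, 0, 1, 2])]

/-- the combinations -/
def threeCombos : List (List (ℤ × ℕ) × List (ℤ × (ℕ × ℕ))) := [([(1, 0), (2, 2)], []),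
  ([(1, 2)], []),
  ([(2, 3), (2, 1)], []),
  ([(2, 1)], [])]

/-- the certificate -/
def threeCert : CentralLocal.Cert :=
  { act := actC threeGens, one := oneC, N := 27, k := 2, q := 3, rels := threeRels, P := 4,
    elt := threeElt, next := threeNext, word := threeWord, par := threePar, L := threeL, kind := threeKind, rank := threeRank,
    via := threeVia, pv := [54, 55, 56, 57] }

end Cfsg.Agent.Spor.HeMult
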