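import Cfsg.Agent.Lib.Lie.CentralLocal
import Cfsg.Agent.Lib.Spor.HeMult.Defs

/-!
Central table on a Sylow subgroup for the prime 2 of the Held group (generated).
-/

set_option autoImplicit false
set_option maxRecDepth 100000
set_option maxHeartbeats 0

namespace Cfsg.Agent.Spor.HeMult

open Cfsg.Agent.Lie

def twoElt0 : Janko.Tree (ℕ) :=
  (.node (.node (.node (.node (.node (.node (.node (.leaf 2336713871360) (.leaf 62563631097146)) (.node (.leaf 2349772063245) (.leaf 35883285520681))) (.node (.node (.leaf 62546190890544) (.leaf 13694102475163)) (.node (.leaf 302948024748) (.leaf 82419540050813)))) (.node (.node (.node (.leaf 124198797337210) (.leaf 111633824903789)) (.node (.leaf 82409206674577) (.leaf 290079846405))) (.node (.node (.leaf 141385360793940) (.leaf 111611589101245)) (.node (.leaf 13610473947860) (.leaf 79246918112175))))) (.node (.node (.node (.node (.leaf 79245744735248) (.leaf 295480518556)) (.node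 (.leaf 79260508685271) (.leaf 13608842523633))) (.node (.node (.leaf 97585667044581) (.leaf 97318237930732)) (.node (.leaf 13694222843962) (.leaf 111602685137977)))) (.node (.node (.node (.leaf 13637853688281) (.leaf 124203043820596)) (.node (.leaf 62536978527116) (.leaf 281227785466))) (.node (.node (.leaf 111471698957902) (.leaf 97312675471805)) (.node (.leaf 97330908053872) (.leaf 35890616968778)))))) (.node (.node (.node (.node (.node (.leaf 124182441907569) (.leaf 13639863419487)) (.node (.leaf 107157794788341) (.leaf 13613258073034))) (.node (.node (.leaf 79250254701783) (.leaf 129705462237049)) (.node (.leaf 129702647112499) (.leaf 111491839706279)))) (.node (.node (.node (.leaf 107146453303719) (.leaf 107144826230166)) (.node (.leaf 107146722056054) (.leaf 2336721421891))) (.node (.node (.leaf 13610468688504) (.leaf 141372976829270)) (.node (.leaf 97598307936256) (.leaf 129705485685607))))) (.node (.node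 (.node (.node (.leaf 111493945591709) (.leaf 79255053615377)) (.node (.leaf 79236013654245) (.leaf 2357071463253))) (.node (.node (.leaf 107145374991623) (.leaf 129698673312025)) (.node (.leaf 301087774099) (.leaf 97598306632450)))) (.node (.node (.node (.leaf 13615972791438) (.leaf 62538202162031)) (.node (.leaf 124176530793568) (.leaf 294759670827))) (.node (.node (.leaf 35898515056624) (.leaf 141384608229359)) (.node (.leaf 2344199017580) (.leaf 111479636256613))))))) (.node (.node (.node (.node (.node (.node (.leaf 35883282413312) (.leaf 97615064548820)) (.node (.leaf 97319334223964) (.leaf 13637754069153))) (.node (.node (.leaf 97316293575209) (.leaf 82410912252081)) (.node (.leaf 13706129909186) (.leaf 82422721262014)))) (.node (.node (.node (.leaf 97613053472963) (.leaf 82407008977121)) (.node (.leaf 107153735304740) (.leaf 97312671450187))) (.node (.node (.leaf 97615061165122) (.leaf 111492740056382)) (.node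 (.leaf 111616892960901) (.leaf 35884879160144))))) (.node (.node (.node (.node (.leaf 79233663677992) (.leaf 111495396077763)) (.node (.leaf 97331397117576) (.leaf 13625388892826))) (.node (.node (.leaf 62563636028371) (.leaf 35898514653828)) (.node (.leaf 301087159197) (.leaf 111476549989052)))) (.node (.node (.node (.leaf 111629074969265) (.leaf 2367857616695)) (.node (.leaf 2336563127558) (.leaf 141361857683631))) (.node (.node (.leaf 79245021558512) (.leaf 35879302669296)) (.node (.leaf 35897778750548) (.leaf 111629959738342)))))) (.node (.node (.node (.node (.node (.leaf 124181032198813) (.leaf 111633823815253)) (.node (.leaf 35902056383436) (.leaf 303724877121))) (.node (.node (.leaf 141379252785645) (.leaf 283626542111)) (.node (.leaf 141359442404379) (.leaf 97583961788425)))) (.node (.node (.node (.leaf 35894841024590) (.leaf 13702355214544)) (.node (.leaf 82428059268139) (.leaf 97609044051865))) (.node (.node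 (.leaf 35904138163817) (.leaf 79249513326392)) (.node (.leaf 97326667671109) (.leaf 35872929502289))))) (.node (.node (.node (.node (.leaf 13675435357031) (.leaf 97602267555440)) (.node (.leaf 141390155973722) (.leaf 129704909553975))) (.node (.node (.leaf 288266270453) (.leaf 13677977921169)) (.node (.leaf 97315072460645) (.leaf 82425139332146)))) (.node (.node (.node (.leaf 2355506713649) (.leaf 107165474181362)) (.node (.leaf 107148210426371) (.leaf 141364441290736))) (.node (.node (.leaf 13623320856145) (.leaf 62548872077861)) (.node (.leaf 111611637433432) (.leaf 97613003150476))))))))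

def twoElt1 : Janko.Tree (ℕ) :=
  (.node (.node (.node (.node (.node (.node (.node (.leaf 287662412259) (.leaf 97323478271234)) (.node (.leaf 97609728963062) (.leaf 13611392484339))) (.node (.node (.leaf 141367422846841) (.leaf 13681067898179)) (.node (.leaf 79260743377633) (.leaf 111478948123203)))) (.node (.node (.node (.leaf 82396906276604) (.leaf 13705666916438)) (.node (.leaf 107157909213993) (.leaf 129691174720663))) (.node (.node (.leaf 79267754684931) (.leaf 13697766090458)) (.node (.leaf 2355509872319) (.leaf 13676794585750))))) (.node (.node (.node (.node (.leaf 129696353793459) (.leaf 2352154571681)) (.node (.leaf 129674912511429) (.leaf 129703684579536))) (.node (.node (.leaf 111491982656649) (.leaf 2346902873413)) (.node (.leaf 141387311314147) (.leaf 141362313520646)))) (.node (.node (.node (.leaf 62551182533519) (.leaf 111494281146892)) (.node (.leaf 288356717244) (.leaf 2370506360482))) (.node (.node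 (.leaf 124197588599684) (.leaf 306721386907)) (.node (.leaf 97587432875994) (.leaf 111471134765904)))))) (.node (.node (.node (.node (.node (.leaf 13676794310727) (.leaf 124177358348738)) (.node (.leaf 2346904889145) (.leaf 124188279870863))) (.node (.node (.leaf 35894274519225) (.leaf 97613472609840)) (.node (.leaf 62563363214844) (.leaf 82418281584387)))) (.node (.node (.node (.leaf 129692232951165) (.leaf 13614812640007)) (.node (.leaf 97338041783097) (.leaf 97584108221257))) (.node (.node (.leaf 13704166973924) (.leaf 82405963752924)) (.node (.leaf 107165004076864) (.leaf 97338613497856))))) (.node (.node (.node (.node (.leaf 141377457771436) (.leaf 82411518763433)) (.node (.leaf 111613910386668) (.leaf 35885126538110))) (.node (.node (.leaf 2349940970224) (.leaf 62563689337004)) (.node (.leaf 129706169385235) (.leaf 111613215459026)))) (.node (.node (.node (.leaf 124203039757619) (.leaf 141384872683089)) (.node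 (.leaf 141378670683285) (.leaf 111604410966963))) (.node (.node (.leaf 35872833237611) (.leaf 141359973716044)) (.node (.leaf 2362319124124) (.leaf 82403014316924))))))) (.node (.node (.node (.node (.node (.node (.leaf 298164950787) (.leaf 299698114975)) (.node (.leaf 107135962714441) (.leaf 124189489513421))) (.node (.node (.leaf 82421600360018) (.leaf 141359976341946)) (.node (.leaf 82403012495058) (.leaf 79244872610965)))) (.node (.node (.node (.leaf 107144873305151) (.leaf 97331029041487)) (.node (.leaf 62537125638999) (.leaf 97609729012815))) (.node (.node (.leaf 111487611662617) (.leaf 124202301150097)) (.node (.leaf 13635099211628) (.leaf 13626528290618))))) (.node (.node (.node (.node (.leaf 97329361335245) (.leaf 62567161033358)) (.node (.leaf 111613908993528) (.leaf 79262619108882))) (.node (.node (.leaf 62537175294777) (.leaf 141370109625432)) (.node (.leaf 13694224561988) (.leaf 2352155739003)))) (.node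 (.node (.node (.leaf 13618222379965) (.leaf 111611744391802)) (.node (.leaf 13697765818549) (.leaf 35877104854993))) (.node (.node (.leaf 111614815999063) (.leaf 97588000371091)) (.node (.leaf 111632944788492) (.leaf 107134136923055)))))) (.node (.node (.node (.node (.node (.leaf 111474708608124) (.leaf 2367859630116)) (.node (.leaf 13699189515199) (.leaf 111632860767356))) (.node (.node (.leaf 82407001527367) (.leaf 124208611607214)) (.node (.leaf 82407205008055) (.leaf 2355037516257)))) (.node (.node (.node (.leaf 111487006430884) (.leaf 13705662583557)) (.node (.leaf 111479692817939) (.leaf 107166234683244))) (.node (.node (.leaf 97583955711535) (.leaf 300738794868)) (.node (.leaf 79237537936643) (.leaf 13626528715660))))) (.node (.node (.node (.node (.leaf 141365484732716) (.leaf 35891638216461)) (.node (.leaf 129704910337084) (.leaf 35885129552100))) (.node (.node (.leaf 111484334670020) (.leaf 13691435504360))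 (.node (.leaf 111625250390891) (.leaf 141383147630802)))) (.node (.node (.node (.leaf 97338608645699) (.leaf 2362318840722)) (.node (.leaf 2360708228525) (.leaf 13618221769353))) (.node (.node (.leaf 35895028134767) (.leaf 13695064880596)) (.node (.leaf 79233811542876) (.leaf 107135965754503))))))))

def twoElt2 : Janko.Tree (ℕ) :=
  (.node (.node (.node (.node (.node (.node (.node (.leaf 111602684711608) (.leaf 129686705631683)) (.node (.leaf 79260942549473) (.leaf 124198799632155))) (.node (.node (.leaf 79257689043413) (.leaf 13700064568739)) (.node (.leaf 97331398939807) (.leaf 111489251152707)))) (.node (.node (.node (.leaf 111483343935490) (.leaf 13694107821950)) (.node (.leaf 107148210439593) (.leaf 13632400741848))) (.node (.node (.leaf 124199367247782) (.leaf 303722999978)) (.node (.leaf 111608567398672) (.leaf 79235860964183))))) (.node (.node (.node (.node (.leaf 97602014717839) (.leaf 2359737262676)) (.node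 (.leaf 79258173547705) (.leaf 107154440090110))) (.node (.node (.leaf 141380528001113) (.leaf 82418786582903)) (.node (.leaf 97309184008422) (.leaf 13683651907873)))) (.node (.node (.node (.leaf 13609933385883) (.leaf 107162727265435)) (.node (.leaf 2361276433489) (.leaf 111480561846196))) (.node (.node (.leaf 79264897708275) (.leaf 13677979665420)) (.node (.leaf 79235856347782) (.leaf 13630079713773)))))) (.node (.node (.node (.node (.node (.leaf 82426503013515) (.leaf 13696521543758)) (.node (.leaf 82418779133280) (.leaf 111483761832374))) (.node (.node (.leaf 289021134430) (.leaf 13688486753336)) (.node (.leaf 13679192876505) (.leaf 124206128580269)))) (.node (.node (.node (.leaf 13627801182804) (.leaf 97315493557518)) (.node (.leaf 107134142095643) (.leaf 82408015372696))) (.node (.node (.leaf 124200658829704) (.leaf 2349517784703)) (.node (.leaf 129676058088583) (.leaf 107156957665105))))) (.node (.node (.node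 (.node (.leaf 62543081247706) (.leaf 107157124653814)) (.node (.leaf 13699990168403) (.leaf 62538705625186))) (.node (.node (.leaf 82399593116747) (.leaf 2348230853085)) (.node (.leaf 111630179464650) (.leaf 97315070694171)))) (.node (.node (.node (.leaf 97324197290821) (.leaf 79250253861047)) (.node (.leaf 2361282367886) (.leaf 62550418612385))) (.node (.node (.leaf 62548867146455) (.leaf 13699185959321)) (.node (.leaf 82418112602466) (.leaf 62543081615843))))))) (.node (.node (.node (.node (.node (.node (.leaf 79266039399830) (.leaf 97602267410942)) (.node (.leaf 107166235776588) (.leaf 13640501913451))) (.node (.node (.leaf 13639867443096) (.leaf 141375849756568)) (.node (.leaf 79239580034274) (.leaf 107164923114313)))) (.node (.node (.node (.leaf 107154441258608) (.leaf 129688198481386)) (.node (.leaf 97338624755679) (.leaf 35897510241255))) (.node (.node (.leaf 141357223662287) (.leaf 124202303258875)) (.node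 (.leaf 129679197106284) (.leaf 129676052009289))))) (.node (.node (.node (.node (.leaf 82424684077111) (.leaf 107165062411778)) (.node (.leaf 129684809806564) (.leaf 79266044564223))) (.node (.node (.leaf 13681072681971) (.leaf 141375849882207)) (.node (.leaf 283018064500) (.leaf 13607822017363)))) (.node (.node (.node (.leaf 79250205132465) (.leaf 13703249819446)) (.node (.leaf 111630461759956) (.leaf 124200656569557))) (.node (.node (.leaf 283619173679) (.leaf 97338630014835)) (.node (.leaf 13636206567675) (.leaf 111479637308187)))))) (.node (.node (.node (.node (.node (.leaf 13626811451274) (.leaf 107146017182078)) (.node (.leaf 35904047904110) (.leaf 79265992093984))) (.node (.node (.leaf 82397105009724) (.leaf 13704926929821)) (.node (.leaf 141374888662899) (.leaf 2338080375594)))) (.node (.node (.node (.leaf 82428064052543) (.leaf 141358351675894)) (.node (.leaf 13683419148841) (.leaf 82405864842181))) (.node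 (.node (.leaf 129705479209226) (.leaf 111616392287640)) (.node (.leaf 107159519826890) (.leaf 35879929413902))))) (.node (.node (.node (.node (.leaf 2344752820994) (.leaf 299127973669)) (.node (.leaf 141356440961182) (.leaf 13620019054367))) (.node (.node (.leaf 124199365136968) (.leaf 129686202225891)) (.node (.leaf 107144823079679) (.leaf 124178477199788)))) (.node (.node (.node (.leaf 107159607330044) (.leaf 97324197050269)) (.node (.leaf 82409198527731) (.leaf 107162507444947))) (.node (.node (.leaf 82399670899320) (.leaf 111611594266571)) (.node (.leaf 107150527226250) (.leaf 2344753084416))))))))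

def twoElt3 : Janko.Tree (ℕ) :=
  (.node (.node (.node (.node (.node (.node (.node (.leaf 141358354416719) (.leaf 111611643794727)) (.node (.leaf 129691168244522) (.leaf 2357070295786))) (.node (.node (.leaf 35871674642960) (.leaf 2365521432973)) (.node (.leaf 35900479084146) (.leaf 79250203367098)))) (.node (.node (.node (.leaf 111483769546652) (.leaf 129689104605469)) (.node (.leaf 62568924018304) (.leaf 124192740389305))) (.node (.node (.leaf 79245741081430) (.leaf 107167054193596)) (.node (.leaf 13700064298234) (.leaf 111480514781300))))) (.node (.node (.node (.node (.leaf 111484332561775) (.leaf 35883750704971)) (.node (.leaf 303785083305) (.leaf 129685363286670))) (.node (.node (.leaf 62558348515023) (.leaf 141358768341267)) (.node (.leaf 2368892829993) (.leaf 13704705495704)))) (.node (.node (.node (.leaf 97340826965159) (.leaf 2347621959356)) (.node (.leaf 62555326625248) (.leaf 79266944852806))) (.node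 (.node (.leaf 141376035746873) (.leaf 62543436441059)) (.node (.leaf 62568773207361) (.leaf 111464351015787)))))) (.node (.node (.node (.node (.node (.leaf 107149621875317) (.leaf 2359738082510)) (.node (.leaf 141359726663584) (.leaf 107133769789573))) (.node (.node (.leaf 13699796387537) (.leaf 2348226217562)) (.node (.leaf 124193510102828) (.leaf 97318544946145)))) (.node (.node (.node (.leaf 288353702267) (.leaf 97587433484871)) (.node (.leaf 111632865124908) (.leaf 107153730576893))) (.node (.node (.leaf 82418279760644) (.leaf 13683421890259)) (.node (.leaf 129689913439148) (.leaf 35884874396345))))) (.node (.node (.node (.node (.leaf 62543438456678) (.leaf 279898284108)) (.node (.leaf 281219839395) (.leaf 79263088341844))) (.node (.node (.leaf 107164928287594) (.leaf 111479453259304)) (.node (.leaf 111630180078060) (.leaf 129681947213928)))) (.node (.node (.node (.leaf 129689909868175) (.leaf 111613484925100))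 (.node (.leaf 35872828911864) (.leaf 111480514508577))) (.node (.node (.leaf 141384609322601) (.leaf 2336903865268)) (.node (.leaf 2342485304169) (.leaf 79235175352097))))))) (.node (.node (.node (.node (.node (.node (.leaf 97309163258302) (.leaf 35900531237433)) (.node (.leaf 13620839163436) (.leaf 129699916066929))) (.node (.node (.leaf 13699788395524) (.leaf 2367349413122)) (.node (.leaf 298338497563) (.leaf 97316298069715)))) (.node (.node (.node (.leaf 124206989537463) (.leaf 97596208853311)) (.node (.leaf 129702646870889) (.leaf 97319329609536))) (.node (.node (.leaf 62541521544564) (.leaf 111608910513576)) (.node (.leaf 97585670709462) (.leaf 35891634190076))))) (.node (.node (.node (.node (.leaf 35900632118083) (.leaf 79250975598018)) (.node (.leaf 111617297716538) (.leaf 129681394922101))) (.node (.node (.leaf 124201114211487) (.leaf 2367357404451)) (.node (.leaf 79250971763979) (.leaf 35879922177558))))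 (.node (.node (.node (.leaf 35874371191470) (.leaf 107145382191392)) (.node (.leaf 35894842738666) (.leaf 97595046801589))) (.node (.node (.leaf 13704927749523) (.leaf 107146455126791)) (.node (.leaf 13636208280465) (.leaf 111464352953507)))))) (.node (.node (.node (.node (.node (.leaf 129679196018207) (.leaf 299128182786)) (.node (.leaf 13608842475318) (.leaf 13637848597398))) (.node (.node (.leaf 111495473956811) (.leaf 141358770335812)) (.node (.leaf 2342488695603) (.leaf 82421604849064)))) (.node (.node (.node (.leaf 107149116311373) (.leaf 82424685822731)) (.node (.leaf 2349522917243) (.leaf 290566120758))) (.node (.node (.leaf 283022828600) (.leaf 97588458935186)) (.node (.leaf 82426470430448) (.leaf 97309179392863))))) (.node (.node (.node (.node (.leaf 124209503134659) (.leaf 295481844150)) (.node (.leaf 82405859910075) (.leaf 124177454138722))) (.node (.node (.leaf 35895578535389) (.leaf 141369359950439))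 (.node (.leaf 107150528120434) (.leaf 111495477106365)))) (.node (.node (.node (.leaf 107165474194668) (.leaf 129690118174137)) (.node (.leaf 141390155960639) (.leaf 97592092751718))) (.node (.node (.leaf 13620837950012) (.leaf 82427217859249)) (.node (.leaf 124201117513352) (.leaf 13675435630858))))))))

def twoElt4 : Janko.Tree (ℕ) :=
  (.node (.node (.node (.node (.node (.node (.node (.leaf 2355037254039) (.leaf 111629069596406)) (.node (.leaf 62538706874606) (.leaf 129674917221016))) (.node (.node (.leaf 13629043851879) (.leaf 280654328285)) (.node (.leaf 111479689515195) (.leaf 13615972839781)))) (.node (.node (.node (.leaf 124188275806322) (.leaf 141357229401062)) (.node (.leaf 97312805561217) (.leaf 79265995203847))) (.node (.node (.leaf 35895579747252) (.leaf 298172187396)) (.node (.leaf 280656205402) (.leaf 82409853560009))))) (.node (.node (.node (.node (.leaf 129689108963987) (.leaf 298893809135)) (.node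 (.leaf 13691877540011) (.leaf 302952518465))) (.node (.node (.leaf 62567127884694) (.leaf 111471706648643)) (.node (.leaf 141381907771397) (.leaf 62547281016821)))) (.node (.node (.node (.leaf 97609045352595) (.leaf 13626814064045)) (.node (.leaf 62548080485323) (.leaf 97311803246041))) (.node (.node (.leaf 97324297679510) (.leaf 97331667759666)) (.node (.leaf 97612548513979) (.leaf 111623717996239)))))) (.node (.node (.node (.node (.node (.leaf 97592098731491) (.leaf 97307255592370)) (.node (.leaf 111479454610974) (.leaf 82417240397309))) (.node (.node (.leaf 35883751104561) (.leaf 2340438671645)) (.node (.leaf 124206986237143) (.leaf 124193609880703)))) (.node (.node (.node (.leaf 97586590230274) (.leaf 97311797986274)) (.node (.leaf 13686485439624) (.leaf 124207928394588))) (.node (.node (.leaf 111495388386814) (.leaf 79263092666818)) (.node (.leaf 111608572625421) (.leaf 141379253154156))))) (.node (.node (.node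 (.node (.leaf 107139443409889) (.leaf 111611739682587)) (.node (.leaf 97325356892477) (.leaf 97324302532679))) (.node (.node (.leaf 129674124145611) (.leaf 111496379651615)) (.node (.leaf 82411513832492) (.leaf 62549924709351)))) (.node (.node (.node (.leaf 35904135542767) (.leaf 97585421456736)) (.node (.leaf 62563367987196) (.leaf 141364437226116))) (.node (.node (.leaf 79239583868041) (.leaf 2336900310493)) (.node (.leaf 307443152892) (.leaf 62548086047402))))))) (.node (.node (.node (.node (.node (.node (.leaf 82406836409960) (.leaf 35871674508175)) (.node (.leaf 35880311268292) (.leaf 82402890593422))) (.node (.node (.leaf 124177356055380) (.leaf 124181113791717)) (.node (.leaf 13706133300491) (.leaf 107164959405366)))) (.node (.node (.node (.leaf 35900477358474) (.leaf 97340971058419)) (.node (.leaf 280767473311) (.leaf 79258123845718))) (.node (.node (.leaf 107164960573405) (.leaf 62546493063751)) (.node (.leaf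 141380532335564) (.leaf 124189651174904))))) (.node (.node (.node (.node (.leaf 13631342330372) (.leaf 111616895006443)) (.node (.leaf 111603903772401) (.leaf 62546490316762))) (.node (.node (.leaf 124182118373352) (.leaf 2353880425662)) (.node (.leaf 141367422833242) (.leaf 97307256324504)))) (.node (.node (.node (.leaf 35887829304385) (.leaf 62567212552932)) (.node (.leaf 82406840897758) (.leaf 111490373674365))) (.node (.node (.leaf 111491950740096) (.leaf 107149123511219)) (.node (.leaf 13616893855310) (.leaf 13683465807537)))))) (.node (.node (.node (.node (.node (.leaf 62567207420356) (.leaf 97596207895642)) (.node (.leaf 62563684204710) (.leaf 13686491177145))) (.node (.node (.leaf 13696522364906) (.leaf 2362674094572)) (.node (.leaf 2361485378745) (.leaf 97595013411291)))) (.node (.node (.node (.leaf 97588458727068) (.leaf 13703252558833)) (.node (.leaf 290564794333) (.leaf 300738585563))) (.node (.node (.leaf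 82427222632182) (.leaf 82410909991185)) (.node (.leaf 97315488465760) (.leaf 13619766182375))))) (.node (.node (.node (.node (.leaf 111478449926448) (.leaf 124189657110508)) (.node (.leaf 111621774692936) (.leaf 35897506214400))) (.node (.node (.leaf 2349935036191) (.leaf 62551183364624)) (.node (.leaf 2365520601210) (.leaf 13627234755413)))) (.node (.node (.node (.leaf 62547275854988) (.leaf 124207940560564)) (.node (.leaf 13692195999793) (.leaf 111632952075921))) (.node (.node (.leaf 97331659814406) (.leaf 107144874198622)) (.node (.leaf 35885713408443) (.leaf 124177460072863))))))))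

def twoElt5 : Janko.Tree (ℕ) :=
  (.node (.node (.node (.node (.node (.node (.node (.leaf 13683466860218) (.leaf 124181032072863)) (.node (.leaf 97613471649915) (.leaf 97338042515473))) (.node (.node (.leaf 124206130574049) (.leaf 35887825814404)) (.node (.leaf 107157793334553) (.leaf 2347627091310)))) (.node (.node (.node (.leaf 79245911438043) (.leaf 283121848620)) (.node (.leaf 35895025513104) (.leaf 97339182987063))) (.node (.node (.leaf 111617450116495) (.leaf 97613047494142)) (.node (.leaf 79233661634078) (.leaf 287669650394))))) (.node (.node (.node (.node (.leaf 111613215650684) (.leaf 97602014925609)) (.node (.leaf 13699992105196) (.leaf 280770855581))) (.node (.node (.leaf 107162512082795) (.leaf 13631338624369)) (.node (.leaf 97589898294969) (.leaf 62560981258711)))) (.node (.node (.node (.leaf 79260736091821) (.leaf 129690668287592)) (.node (.leaf 79249516967630) (.leaf 82425137070182))) (.node (.node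 (.leaf 111614808630702) (.leaf 111608906860114)) (.node (.leaf 129704610047788) (.leaf 97325355128622)))))) (.node (.node (.node (.node (.node (.leaf 13693751293849) (.leaf 35894270194824)) (.node (.leaf 111603909145334) (.leaf 111624992206950))) (.node (.node (.leaf 13627234611946) (.leaf 107146718904889)) (.node (.leaf 111626690855034) (.leaf 124193662572309)))) (.node (.node (.node (.leaf 97319127758322) (.leaf 79266948495098)) (.node (.leaf 13695060096066) (.leaf 62536972699450))) (.node (.node (.leaf 111491836958575) (.leaf 13632400315593)) (.node (.leaf 82422724068351) (.leaf 13607823409388))))) (.node (.node (.node (.node (.leaf 82427167105206) (.leaf 97326663648195)) (.node (.leaf 2342001201990) (.leaf 97332639654543))) (.node (.node (.leaf 62542460651320) (.leaf 35902052892761)) (.node (.leaf 2361477387643) (.leaf 141381901944105)))) (.node (.node (.node (.leaf 111491983185122) (.leaf 129677411365877)) (.node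 (.leaf 141370108732711) (.leaf 82424183808248))) (.node (.node (.leaf 292451624639) (.leaf 35898746708023)) (.node (.leaf 111600866763428) (.leaf 97583274284159))))))) (.node (.node (.node (.node (.node (.node (.leaf 290083874089) (.leaf 307448526332)) (.node (.leaf 111492737946708) (.leaf 97597351830765))) (.node (.node (.leaf 82409858287064) (.leaf 82417241573109)) (.node (.leaf 13688485036660) (.leaf 111621921976657)))) (.node (.node (.node (.leaf 62555077534031) (.leaf 107165054718083)) (.node (.leaf 97606675649540) (.leaf 141358264791270))) (.node (.node (.leaf 97330905364384) (.leaf 107139438773439)) (.node (.leaf 111471732318780) (.leaf 35872932516238))))) (.node (.node (.node (.node (.leaf 124208613602941) (.leaf 13635101832780)) (.node (.leaf 303791445036) (.leaf 13625503990900))) (.node (.node (.leaf 111487608361463) (.leaf 129684816355780)) (.node (.leaf 62546182742139) (.leaf 13614812447143)))) (.node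 (.node (.node (.leaf 13616898945091) (.leaf 97581915328692)) (.node (.leaf 111486999585444) (.leaf 141383145636308))) (.node (.node (.leaf 111617291355091) (.leaf 2340445872787)) (.node (.leaf 129706167607364) (.leaf 79264902324919)))))) (.node (.node (.node (.node (.node (.leaf 13617668657701) (.leaf 97331026429546)) (.node (.leaf 13623322579994) (.leaf 111629964448463))) (.node (.node (.leaf 141385362248411) (.leaf 2362673276362)) (.node (.leaf 13704170365825) (.leaf 124203477807421)))) (.node (.node (.node (.leaf 35879306310211) (.leaf 13702356960583)) (.node (.leaf 97611057041441) (.leaf 111616393376876))) (.node (.node (.leaf 111468768285321) (.leaf 129699915932827)) (.node (.leaf 129677414057241) (.leaf 124193665730122))))) (.node (.node (.node (.node (.leaf 13613255458866) (.leaf 111604406609741)) (.node (.leaf 298151145668) (.leaf 35895196680223))) (.node (.node (.leaf 111625251783843) (.leaf 97340825089903))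 (.node (.leaf 82418107830427) (.leaf 111474707358252)))) (.node (.node (.node (.leaf 62560980428306) (.leaf 129704545338783)) (.node (.leaf 62555077817962) (.leaf 2344199808408))) (.node (.node (.leaf 97612997072885) (.leaf 97586593611951)) (.node (.leaf 97595012628638) (.leaf 141356435399131))))))))

def twoElt6 : Janko.Tree (ℕ) :=
  (.node (.node (.node (.node (.node (.node (.node (.leaf 129681393832589) (.leaf 13688648770430)) (.node (.leaf 129705466311258) (.leaf 124185607517881))) (.node (.node (.leaf 124178480005953) (.leaf 2336563959225)) (.node (.leaf 62538490266069) (.leaf 141361857558274)))) (.node (.node (.node (.leaf 82399676244692) (.leaf 124193617430526)) (.node (.leaf 111493946118981) (.leaf 97610502157986))) (.node (.node (.leaf 13606896083353) (.leaf 35880312480304)) (.node (.leaf 79262521349759) (.leaf 82397110182199))))) (.node (.node (.node (.node (.leaf 35877108495292) (.leaf 111617446461554))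 (.node (.leaf 141368750248206) (.leaf 141376029917880))) (.node (.node (.leaf 97612611265726) (.leaf 129682128684339)) (.node (.leaf 13683918693806) (.leaf 107149622665869)))) (.node (.node (.node (.leaf 129704136946901) (.leaf 62567159783706)) (.node (.leaf 107144099976032) (.leaf 79237541044528))) (.node (.node (.leaf 111618001422148) (.leaf 79260505030945)) (.node (.leaf 124190472659908) (.leaf 111494825747559)))))) (.node (.node (.node (.node (.node (.leaf 2338072827031) (.leaf 97595050510042)) (.node (.leaf 13640502522579) (.leaf 35895189444433))) (.node (.node (.leaf 13688650707172) (.leaf 82402893398373)) (.node (.leaf 129686208303288) (.leaf 82407201968371)))) (.node (.node (.node (.leaf 129685367644442) (.leaf 2370510996210)) (.node (.leaf 13679187530722) (.leaf 82396901549837))) (.node (.node (.leaf 107157125748465) (.leaf 97332637041847)) (.node (.leaf 129690668687582) (.leaf 107159602603388))))) (.node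 (.node (.node (.node (.leaf 97318242005234) (.leaf 97589898342855)) (.node (.leaf 129703049643079) (.leaf 82405966046643))) (.node (.node (.leaf 62549930537472) (.leaf 141377462105743)) (.node (.leaf 289027494975) (.leaf 97612547675667)))) (.node (.node (.node (.leaf 79236358796130) (.leaf 79257688707240)) (.node (.leaf 79245911101780) (.leaf 124182443082244))) (.node (.node (.leaf 111626692899213) (.leaf 298151761263)) (.node (.leaf 111600874133156) (.leaf 82397051754031))))))) (.node (.node (.node (.node (.node (.node (.leaf 111623718188749) (.leaf 129686712181376)) (.node (.leaf 79245020598862) (.leaf 111478448678147))) (.node (.node (.leaf 111469787943567) (.leaf 107133768439531)) (.node (.leaf 82397054791689) (.leaf 141387306152120)))) (.node (.node (.node (.leaf 141378664944710) (.leaf 129696358503900)) (.node (.leaf 97312805319140) (.leaf 124207920845929))) (.node (.node (.leaf 124207937933978) (.leaf 97600585655435))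 (.node (.leaf 124190479503920) (.leaf 79233816396905))))) (.node (.node (.node (.node (.leaf 124185610322375) (.leaf 13617666933463)) (.node (.leaf 124209503008325) (.leaf 2342001993466))) (.node (.node (.leaf 111613490090150) (.leaf 62555334338263)) (.node (.leaf 2350842176815) (.leaf 111480563561588)))) (.node (.node (.node (.leaf 13683922248791) (.leaf 288274216445)) (.node (.leaf 13692191512395) (.leaf 283585640249))) (.node (.node (.leaf 13637753926741) (.leaf 129698675134967)) (.node (.leaf 62542459852494) (.leaf 62537130799750)))))) (.node (.node (.node (.node (.node (.leaf 97327550768608) (.leaf 129688202557056)) (.node (.leaf 97338070082465) (.leaf 141372980892688))) (.node (.node (.leaf 62564118401356) (.leaf 124197586338881)) (.node (.leaf 129690118038790) (.leaf 62558348883661)))) (.node (.node (.node (.leaf 124181111165142) (.leaf 97327549441751)) (.node (.leaf 129703046951137) (.leaf 306725054334)))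 (.node (.node (.leaf 2353877033088) (.leaf 97339177893924)) (.node (.leaf 283591619909) (.leaf 129674123362986))))) (.node (.node (.node (.node (.leaf 13611396506947) (.leaf 294763054399)) (.node (.leaf 97319130448204) (.leaf 307275067523))) (.node (.node (.leaf 97323480093987) (.leaf 141365481993094)) (.node (.leaf 141384873575450) (.leaf 62537180856337)))) (.node (.node (.node (.leaf 111471739164204) (.leaf 97612615098496)) (.node (.leaf 97309167752191) (.leaf 111469791147191))) (.node (.node (.leaf 79262621151703) (.leaf 35904054453948)) (.node (.leaf 299695101282) (.leaf 79236012922879))))))))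

def twoElt7 : Janko.Tree (ℕ) :=
  (.node (.node (.node (.node (.node (.node (.node (.leaf 111615636723068) (.leaf 141387227152613)) (.node (.leaf 62538482815144) (.leaf 111491953889731))) (.node (.node (.leaf 79262516184955) (.leaf 141358269952863)) (.node (.leaf 141359725207920) (.leaf 141374891288543)))) (.node (.node (.node (.leaf 107167053404113) (.leaf 13683656397783)) (.node (.leaf 2349768904976) (.leaf 13620020445936))) (.node (.node (.leaf 13606897296319) (.leaf 82427168850786)) (.node (.leaf 35885715133381) (.leaf 62568770457770))))) (.node (.node (.node (.node (.leaf 277131862525) (.leaf 2368900032256)) (.node (.leaf 82408010200498) (.leaf 62540262037077))) (.node (.node (.leaf 129704547160235) (.leaf 97588004078461)) (.node (.leaf 2350845731871) (.leaf 111490374727649)))) (.node (.node (.node (.leaf 111489252505257) (.leaf 62567125869017)) (.node (.leaf 62540262834797) (.leaf 82424186102379))) (.node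 (.node (.leaf 13625383634612) (.leaf 111468771034045)) (.node (.leaf 79236366082230) (.leaf 35890612205333)))))) (.node (.node (.node (.node (.node (.leaf 35887023730786) (.leaf 279894618554)) (.node (.leaf 35898748486411) (.leaf 307281049090))) (.node (.node (.leaf 129681948516793) (.leaf 129682129085492)) (.node (.leaf 111617996193850) (.leaf 107165007114332)))) (.node (.node (.node (.leaf 13627802895566) (.leaf 124203477546798)) (.node (.leaf 124193509573135) (.leaf 129692231649249))) (.node (.node (.leaf 124182117843485) (.leaf 97597351686668)) (.node (.leaf 283117355910) (.leaf 111476548051323))))) (.node (.node (.node (.node (.leaf 124189488338910) (.leaf 62550410900565)) (.node (.leaf 97611057377662) (.leaf 13630079906156))) (.node (.node (.leaf 107156955840543) (.leaf 124192740126824)) (.node (.leaf 79246918844699) (.leaf 129704609804815)))) (.node (.node (.node (.leaf 97318546822335) (.leaf 107159523029042))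 (.node (.leaf 107157912418191) (.leaf 82419538874771))) (.node (.node (.leaf 13609936007522) (.leaf 129703686358343)) (.node (.leaf 298886440032) (.leaf 79260940784023))))))) (.node (.node (.node (.node (.node (.node (.leaf 141369359681285) (.leaf 35887026839790)) (.node (.leaf 107144107668750) (.leaf 111615637148924))) (.node (.node (.leaf 111494288860397) (.leaf 97610501546738)) (.node (.leaf 97606676489937) (.leaf 13629040146181)))) (.node (.node (.node (.leaf 97584107438954) (.leaf 79244868285510)) (.node (.leaf 79258172708219) (.leaf 124184233776281))) (.node (.node (.leaf 111478948922352) (.leaf 111494825472180)) (.node (.leaf 35897777038654) (.leaf 277127837220))))) (.node (.node (.node (.node (.leaf 97600581988418) (.leaf 82426497667138)) (.node (.leaf 111621774079910) (.leaf 111624995779634))) (.node (.node (.leaf 107146015727649) (.leaf 97610652164637)) (.node (.leaf 35874369414781) (.leaf 13619760956569))))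 (.node (.node (.node (.leaf 35900524689270) (.leaf 97329369282526)) (.node (.leaf 124176537638383) (.leaf 111621925548776))) (.node (.node (.leaf 79235170496628) (.leaf 97610648332264)) (.node (.leaf 62541521826779) (.leaf 141368750618134)))))) (.node (.node (.node (.node (.node (.leaf 97581908853863) (.leaf 79267753727401)) (.node (.leaf 97583267809278) (.leaf 111483347138341))) (.node (.node (.leaf 97340975133841) (.leaf 129704140517768)) (.node (.leaf 82426462282318) (.leaf 13693750239379)))) (.node (.node (.node (.leaf 111496380448876) (.leaf 82399588331965)) (.node (.leaf 62568915871210) (.leaf 13691439837521))) (.node (.node (.leaf 298333122753) (.leaf 79258120356613)) (.node (.leaf 97585421791607) (.leaf 13625498765236))))) (.node (.node (.node (.node (.leaf 13691869549983) (.leaf 13704711235013)) (.node (.leaf 2360708511626) (.leaf 124184236933607))) (.node (.node (.leaf 62564125853170) (.leaf 97338068755323))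 (.node (.leaf 62538197389968) (.leaf 141387221592063)))) (.node (.node (.node (.leaf 141362313249330) (.leaf 107162725912689)) (.node (.leaf 111630469046482) (.leaf 79255050125489))) (.node (.node (.leaf 292446860337) (.leaf 35900631983785)) (.node (.leaf 141359443497153) (.leaf 111471133049529))))))))

def twoElt : Janko.Tree (ℕ) := (.node (.node (.node twoElt0 twoElt4) (.node twoElt2 twoElt6)) (.node (.node twoElt1 twoElt5) (.node twoElt3 twoElt7)))

def twoNext0 : Janko.Tree (ℕ) :=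
  (.node (.node (.node (.node (.node (.node (.node (.node (.node (.leaf 1) (.leaf 324)) (.node (.leaf 219) (.leaf 517))) (.node (.node (.leaf 54) (.leaf 861)) (.node (.leaf 611) (.leaf 733)))) (.node (.node (.node (.leaf 148) (.leaf 342)) (.node (.leaf 542) (.leaf 921))) (.node (.node (.leaf 374) (.leaf 604)) (.node (.leaf 692) (.leaf 1021))))) (.node (.node (.node (.node (.leaf 78) (.leaf 319)) (.node (.leaf 202) (.leaf 955))) (.node (.node (.leaf 71) (.leaf 429)) (.node (.leaf 407) (.leaf 1004)))) (.node (.node (.node (.leaf 213) (.leaf 371)) (.node (.leaf 440) (.leaf 643))) (.node (.node (.leaf 105) (.leaf 553)) (.node (.leaf 263) (.leaf 989)))))) (.node (.node (.node (.node (.node (.leaf 43) (.leaf 782)) (.node (.leaf 479) (.leaf 609))) (.node (.node (.leaf 243) (.leaf 415)) (.node (.leaf 436) (.leaf 795)))) (.node (.node (.node (.leaf 31) (.leaf 841)) (.node (.leaf 566) (.leaf 965))) (.node (.node (.leaf 95)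 (.leaf 905)) (.node (.leaf 328) (.leaf 1009))))) (.node (.node (.node (.node (.leaf 29) (.leaf 667)) (.node (.leaf 519) (.leaf 570))) (.node (.node (.leaf 84) (.leaf 445)) (.node (.leaf 668) (.leaf 851)))) (.node (.node (.node (.leaf 236) (.leaf 386)) (.node (.leaf 187) (.leaf 660))) (.node (.node (.leaf 140) (.leaf 626)) (.node (.leaf 737) (.leaf 985))))))) (.node (.node (.node (.node (.node (.node (.leaf 24) (.leaf 748)) (.node (.leaf 124) (.leaf 894))) (.node (.node (.leaf 284) (.leaf 433)) (.node (.leaf 504) (.leaf 685)))) (.node (.node (.node (.leaf 165) (.leaf 350)) (.node (.leaf 464) (.leaf 614))) (.node (.node (.leaf 91) (.leaf 490)) (.node (.leaf 705) (.leaf 831))))) (.node (.node (.node (.node (.leaf 15) (.leaf 778)) (.node (.leaf 447) (.leaf 897))) (.node (.node (.leaf 334) (.leaf 529)) (.node (.leaf 669) (.leaf 839)))) (.node (.node (.node (.leaf 63) (.leaf 706)) (.node (.leaf 184) (.leaf 794))) (.node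 (.node (.leaf 428) (.leaf 636)) (.node (.leaf 713) (.leaf 930)))))) (.node (.node (.node (.node (.node (.leaf 8) (.leaf 402)) (.node (.leaf 133) (.leaf 537))) (.node (.node (.leaf 239) (.leaf 423)) (.node (.leaf 335) (.leaf 1017)))) (.node (.node (.node (.leaf 194) (.leaf 789)) (.node (.leaf 579) (.leaf 982))) (.node (.node (.leaf 404) (.leaf 903)) (.node (.leaf 260) (.leaf 827))))) (.node (.node (.node (.node (.leaf 37) (.leaf 375)) (.node (.leaf 543) (.leaf 966))) (.node (.node (.leaf 360) (.leaf 909)) (.node (.leaf 352) (.leaf 759)))) (.node (.node (.node (.leaf 255) (.leaf 657)) (.node (.leaf 587) (.leaf 819))) (.node (.node (.leaf 117) (.leaf 634)) (.node (.leaf 392) (.leaf 919)))))))) (.node (.node (.node (.node (.node (.node (.node (.leaf 13) (.leaf 292)) (.node (.leaf 472) (.leaf 923))) (.node (.node (.leaf 276) (.leaf 673)) (.node (.leaf 557) (.leaf 775)))) (.node (.node (.node (.leaf 145) (.leaf 742)) (.node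 (.leaf 512) (.leaf 902))) (.node (.node (.leaf 367) (.leaf 922)) (.node (.leaf 273) (.leaf 855))))) (.node (.node (.node (.node (.leaf 90) (.leaf 755)) (.node (.leaf 516) (.leaf 901))) (.node (.node (.leaf 99) (.leaf 889)) (.node (.leaf 258) (.leaf 843)))) (.node (.node (.node (.leaf 122) (.leaf 786)) (.node (.leaf 532) (.leaf 807))) (.node (.node (.leaf 163) (.leaf 933)) (.node (.leaf 266) (.leaf 961)))))) (.node (.node (.node (.node (.node (.leaf 52) (.leaf 356)) (.node (.leaf 132) (.leaf 635))) (.node (.node (.leaf 64) (.leaf 880)) (.node (.leaf 216) (.leaf 790)))) (.node (.node (.node (.leaf 176) (.leaf 359)) (.node (.leaf 197) (.leaf 986))) (.node (.node (.leaf 278) (.leaf 884)) (.node (.leaf 658) (.leaf 1011))))) (.node (.node (.node (.node (.leaf 20) (.leaf 366)) (.node (.leaf 182) (.leaf 926))) (.node (.node (.leaf 295) (.leaf 448)) (.node (.leaf 400) (.leaf 997)))) (.node (.node (.node (.leaf 75) (.leaf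 389)) (.node (.leaf 190) (.leaf 724))) (.node (.node (.leaf 446) (.leaf 503)) (.node (.leaf 683) (.leaf 940))))))) (.node (.node (.node (.node (.node (.node (.leaf 33) (.leaf 777)) (.node (.leaf 486) (.leaf 526))) (.node (.node (.leaf 240) (.leaf 873)) (.node (.leaf 515) (.leaf 731)))) (.node (.node (.node (.leaf 172) (.leaf 351)) (.node (.leaf 419) (.leaf 953))) (.node (.node (.leaf 92) (.leaf 476)) (.node (.leaf 385) (.leaf 817))))) (.node (.node (.node (.node (.leaf 103) (.leaf 361)) (.node (.leaf 147) (.leaf 594))) (.node (.node (.leaf 76) (.leaf 438)) (.node (.leaf 232) (.leaf 1012)))) (.node (.node (.node (.leaf 45) (.leaf 382)) (.node (.leaf 590) (.leaf 834))) (.node (.node (.leaf 112) (.leaf 520)) (.node (.leaf 743) (.leaf 928)))))) (.node (.node (.node (.node (.node (.leaf 11) (.leaf 322)) (.node (.leaf 136) (.leaf 550))) (.node (.node (.leaf 316) (.leaf 432)) (.node (.leaf 223) (.leaf 1001)))) (.node (.node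 (.node (.leaf 204) (.leaf 704)) (.node (.leaf 497) (.leaf 937))) (.node (.node (.leaf 167) (.leaf 493)) (.node (.leaf 716) (.leaf 993))))) (.node (.node (.node (.node (.leaf 138) (.leaf 825)) (.node (.leaf 156) (.leaf 925))) (.node (.node (.leaf 83) (.leaf 623)) (.node (.leaf 307) (.leaf 799)))) (.node (.node (.node (.leaf 264) (.leaf 744)) (.node (.leaf 617) (.leaf 863))) (.node (.node (.leaf 125) (.leaf 638)) (.node (.leaf 403) (.leaf 973))))))))) (.node (.node (.node (.node (.node (.node (.node (.node (.leaf 5) (.leaf 662)) (.node (.leaf 420) (.leaf 547))) (.node (.node (.leaf 275) (.leaf 405)) (.node (.leaf 624) (.leaf 677)))) (.node (.node (.node (.leaf 149) (.leaf 730)) (.node (.leaf 540) (.leaf 876))) (.node (.node (.leaf 88) (.leaf 616)) (.node (.leaf 397) (.leaf 845))))) (.node (.node (.node (.node (.leaf 74) (.leaf 317)) (.node (.leaf 511) (.leaf 549))) (.node (.node (.leaf 101) (.leaf 629)) (.node (.leaf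 329) (.leaf 1000)))) (.node (.node (.node (.leaf 201) (.leaf 679)) (.node (.leaf 510) (.leaf 991))) (.node (.node (.leaf 417) (.leaf 879)) (.node (.leaf 647) (.leaf 963)))))) (.node (.node (.node (.node (.node (.leaf 6) (.leaf 303)) (.node (.leaf 477) (.leaf 612))) (.node (.node (.leaf 222) (.leaf 468)) (.node (.leaf 536) (.leaf 693)))) (.node (.node (.node (.leaf 185) (.leaf 812)) (.node (.leaf 509) (.leaf 990))) (.node (.node (.leaf 279) (.leaf 471)) (.node (.leaf 398) (.leaf 1013))))) (.node (.node (.node (.node (.leaf 121) (.leaf 333)) (.node (.leaf 441) (.leaf 565))) (.node (.node (.leaf 86) (.leaf 478)) (.node (.leaf 666) (.leaf 853)))) (.node (.node (.node (.leaf 242) (.leaf 752)) (.node (.leaf 521) (.leaf 726))) (.node (.node (.leaf 114) (.leaf 501)) (.node (.leaf 750) (.leaf 977))))))) (.node (.node (.node (.node (.node (.node (.leaf 3) (.leaf 321)) (.node (.leaf 484) (.leaf 552))) (.node (.node (.leaf 60)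 (.leaf 870)) (.node (.leaf 625) (.leaf 849)))) (.node (.node (.node (.leaf 34) (.leaf 378)) (.node (.leaf 181) (.leaf 599))) (.node (.node (.leaf 288) (.leaf 463)) (.node (.leaf 250) (.leaf 1014))))) (.node (.node (.node (.node (.leaf 102) (.leaf 655)) (.node (.leaf 469) (.leaf 602))) (.node (.node (.leaf 339) (.leaf 473)) (.node (.leaf 327) (.leaf 995)))) (.node (.node (.node (.leaf 227) (.leaf 762)) (.node (.leaf 601) (.leaf 757))) (.node (.node (.leaf 430) (.leaf 494)) (.node (.leaf 712) (.leaf 969)))))) (.node (.node (.node (.node (.node (.leaf 67) (.leaf 311)) (.node (.leaf 134) (.leaf 872))) (.node (.node (.leaf 313) (.leaf 434)) (.node (.leaf 357) (.leaf 708)))) (.node (.node (.node (.leaf 36) (.leaf 810)) (.node (.leaf 174) (.leaf 951))) (.node (.node (.leaf 393) (.leaf 578)) (.node (.leaf 727) (.leaf 852))))) (.node (.node (.node (.node (.leaf 39) (.leaf 816)) (.node (.leaf 439) (.leaf 983))) (.node (.node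 (.leaf 363) (.leaf 918)) (.node (.leaf 257) (.leaf 766)))) (.node (.node (.node (.leaf 100) (.leaf 760)) (.node (.leaf 586) (.leaf 709))) (.node (.node (.leaf 458) (.leaf 618)) (.node (.leaf 751) (.leaf 975)))))))) (.node (.node (.node (.node (.node (.node (.node (.leaf 18) (.leaf 297)) (.node (.leaf 475) (.leaf 523))) (.node (.node (.leaf 282) (.leaf 622)) (.node (.leaf 205) (.leaf 836)))) (.node (.node (.node (.leaf 27) (.leaf 829)) (.node (.leaf 558) (.leaf 589))) (.node (.node (.leaf 365) (.leaf 462)) (.node (.leaf 702) (.leaf 824))))) (.node (.node (.node (.node (.leaf 94) (.leaf 796)) (.node (.leaf 505) (.leaf 899))) (.node (.node (.leaf 73) (.leaf 871)) (.node (.leaf 229) (.leaf 718)))) (.node (.node (.node (.leaf 42) (.leaf 840)) (.node (.leaf 595) (.leaf 650))) (.node (.node (.leaf 425) (.leaf 580)) (.node (.leaf 268) (.leaf 941)))))) (.node (.node (.node (.node (.node (.leaf 9) (.leaf 787)) (.node (.leaf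 212) (.leaf 916))) (.node (.node (.leaf 305) (.leaf 514)) (.node (.leaf 409) (.leaf 698)))) (.node (.node (.node (.leaf 178) (.leaf 791)) (.node (.leaf 576) (.leaf 947))) (.node (.node (.leaf 399) (.leaf 882)) (.node (.leaf 721) (.leaf 856))))) (.node (.node (.node (.node (.leaf 128) (.leaf 336)) (.node (.leaf 153) (.leaf 613))) (.node (.node (.leaf 308) (.leaf 487)) (.node (.leaf 684) (.leaf 857)))) (.node (.node (.node (.leaf 49) (.leaf 391)) (.node (.leaf 192) (.leaf 767))) (.node (.node (.leaf 451) (.leaf 531)) (.node (.leaf 281) (.leaf 970))))))) (.node (.node (.node (.node (.node (.node (.leaf 17) (.leaf 780)) (.node (.leaf 129) (.leaf 528))) (.node (.node (.leaf 238) (.leaf 875)) (.node (.leaf 466) (.leaf 1005)))) (.node (.node (.node (.leaf 32) (.leaf 364)) (.node (.leaf 168) (.leaf 939))) (.node (.node (.leaf 93) (.leaf 934)) (.node (.leaf 710) (.leaf 1007))))) (.node (.node (.node (.node (.leaf 111) (.leaf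 326)) (.node (.leaf 527) (.leaf 563))) (.node (.node (.leaf 346) (.leaf 541)) (.node (.leaf 234) (.leaf 813)))) (.node (.node (.node (.leaf 233) (.leaf 646)) (.node (.leaf 564) (.leaf 659))) (.node (.node (.leaf 142) (.leaf 498)) (.node (.leaf 746) (.leaf 987)))))) (.node (.node (.node (.node (.node (.leaf 77) (.leaf 320)) (.node (.leaf 203) (.leaf 591))) (.node (.node (.leaf 318) (.leaf 431)) (.node (.leaf 653) (.leaf 820)))) (.node (.node (.node (.leaf 38) (.leaf 381)) (.node (.leaf 584) (.leaf 893))) (.node (.node (.leaf 146) (.leaf 483)) (.node (.leaf 690) (.leaf 850))))) (.node (.node (.node (.node (.leaf 25) (.leaf 749)) (.node (.leaf 158) (.leaf 865))) (.node (.node (.leaf 372) (.leaf 454)) (.node (.leaf 244) (.leaf 773)))) (.node (.node (.node (.leaf 267) (.leaf 764)) (.node (.leaf 620) (.leaf 776))) (.node (.node (.leaf 127) (.leaf 954)) (.node (.leaf 354) (.leaf 959))))))))))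

def twoNext1 : Janko.Tree (ℕ) :=
  (.node (.node (.node (.node (.node (.node (.node (.node (.node (.leaf 2) (.leaf 290)) (.node (.leaf 450) (.leaf 957))) (.node (.node (.leaf 270) (.leaf 862)) (.node (.leaf 604) (.leaf 745)))) (.node (.node (.node (.leaf 149) (.leaf 814)) (.node (.leaf 540) (.leaf 961))) (.node (.node (.leaf 85) (.leaf 611)) (.node (.leaf 652) (.leaf 1012))))) (.node (.node (.node (.node (.leaf 77) (.leaf 796)) (.node (.leaf 203) (.leaf 954))) (.node (.node (.leaf 70) (.leaf 428)) (.node (.leaf 245) (.leaf 848)))) (.node (.node (.node (.leaf 133) (.leaf 784)) (.node (.leaf 505) (.leaf 642))) (.node (.node (.leaf 107) (.leaf 872)) (.node (.leaf 275) (.leaf 866)))))) (.node (.node (.node (.node (.node (.leaf 44) (.leaf 302)) (.node (.leaf 477) (.leaf 608))) (.node (.node (.leaf 242) (.leaf 632)) (.node (.leaf 214) (.leaf 693)))) (.node (.node (.node (.leaf 151) (.leaf 685)) (.node (.leaf 526) (.leaf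 928))) (.node (.node (.leaf 94) (.leaf 541)) (.node (.leaf 393) (.leaf 851))))) (.node (.node (.node (.node (.leaf 116) (.leaf 812)) (.node (.leaf 169) (.leaf 564))) (.node (.node (.leaf 86) (.leaf 443)) (.node (.leaf 666) (.leaf 1009)))) (.node (.node (.node (.leaf 46) (.leaf 394)) (.node (.leaf 199) (.leaf 761))) (.node (.node (.leaf 142) (.leaf 634)) (.node (.leaf 730) (.leaf 986))))))) (.node (.node (.node (.node (.node (.node (.leaf 25) (.leaf 344)) (.node (.leaf 417) (.leaf 529))) (.node (.node (.leaf 57) (.leaf 595)) (.node (.leaf 525) (.leaf 841)))) (.node (.node (.node (.leaf 42) (.leaf 349)) (.node (.leaf 218) (.leaf 902))) (.node (.node (.leaf 90) (.leaf 488)) (.node (.leaf 646) (.leaf 1023))))) (.node (.node (.node (.node (.leaf 97) (.leaf 757)) (.node (.leaf 446) (.leaf 636))) (.node (.node (.leaf 335) (.leaf 894)) (.node (.leaf 235) (.leaf 817)))) (.node (.node (.node (.leaf 222) (.leaf 383)) (.node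 (.leaf 556) (.leaf 736))) (.node (.node (.leaf 429) (.leaf 897)) (.node (.leaf 712) (.leaf 937)))))) (.node (.node (.node (.node (.node (.leaf 62) (.leaf 309)) (.node (.leaf 213) (.leaf 601))) (.node (.node (.leaf 308) (.leaf 422)) (.node (.leaf 334) (.leaf 1014)))) (.node (.node (.node (.leaf 35) (.leaf 791)) (.node (.leaf 520) (.leaf 913))) (.node (.node (.leaf 326) (.leaf 494)) (.node (.leaf 682) (.leaf 1003))))) (.node (.node (.node (.node (.leaf 39) (.leaf 822)) (.node (.leaf 159) (.leaf 906))) (.node (.node (.leaf 361) (.leaf 478)) (.node (.leaf 294) (.leaf 838)))) (.node (.node (.node (.leaf 230) (.leaf 656)) (.node (.leaf 586) (.leaf 821))) (.node (.node (.leaf 171) (.leaf 626)) (.node (.leaf 651) (.leaf 918)))))))) (.node (.node (.node (.node (.node (.node (.node (.leaf 14) (.leaf 684)) (.node (.leaf 473) (.leaf 908))) (.node (.node (.leaf 55) (.leaf 863)) (.node (.leaf 508) (.leaf 774)))) (.node (.node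 (.node (.leaf 26) (.leaf 703)) (.node (.leaf 511) (.leaf 614))) (.node (.node (.leaf 365) (.leaf 927)) (.node (.leaf 697) (.leaf 1013))))) (.node (.node (.node (.node (.leaf 91) (.leaf 754)) (.node (.leaf 438) (.leaf 618))) (.node (.node (.leaf 101) (.leaf 431)) (.node (.leaf 228) (.leaf 1005)))) (.node (.node (.node (.leaf 211) (.leaf 785)) (.node (.leaf 439) (.leaf 649))) (.node (.node (.leaf 420) (.leaf 929)) (.node (.leaf 315) (.leaf 921)))))) (.node (.node (.node (.node (.node (.leaf 53) (.leaf 314)) (.node (.leaf 131) (.leaf 534))) (.node (.node (.leaf 66) (.leaf 881)) (.node (.leaf 558) (.leaf 725)))) (.node (.node (.node (.leaf 178) (.leaf 753)) (.node (.leaf 571) (.leaf 985))) (.node (.node (.leaf 279) (.leaf 882)) (.node (.leaf 327) (.leaf 997))))) (.node (.node (.node (.node (.leaf 115) (.leaf 816)) (.node (.leaf 152) (.leaf 949))) (.node (.node (.leaf 338) (.leaf 873)) (.node (.leaf 399) (.leaf 1011))))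 (.node (.node (.node (.leaf 48) (.leaf 674)) (.node (.leaf 427) (.leaf 726))) (.node (.node (.leaf 447) (.leaf 502)) (.node (.leaf 396) (.leaf 960))))))) (.node (.node (.node (.node (.node (.node (.leaf 34) (.leaf 691)) (.node (.leaf 126) (.leaf 566))) (.node (.node (.leaf 238) (.leaf 448)) (.node (.leaf 500) (.leaf 772)))) (.node (.node (.node (.leaf 173) (.leaf 379)) (.node (.leaf 170) (.leaf 967))) (.node (.node (.leaf 289) (.leaf 895)) (.node (.leaf 701) (.leaf 839))))) (.node (.node (.node (.node (.leaf 16) (.leaf 360)) (.node (.leaf 411) (.leaf 560))) (.node (.node (.leaf 247) (.leaf 516)) (.node (.leaf 672) (.leaf 1021)))) (.node (.node (.node (.leaf 221) (.leaf 810)) (.node (.leaf 549) (.leaf 829))) (.node (.node (.leaf 111) (.leaf 579)) (.node (.leaf 665) (.leaf 965)))))) (.node (.node (.node (.node (.node (.leaf 10) (.leaf 320)) (.node (.leaf 135) (.leaf 544))) (.node (.node (.leaf 317) (.leaf 434)) (.node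 (.leaf 299) (.leaf 850)))) (.node (.node (.node (.leaf 137) (.leaf 384)) (.node (.leaf 575) (.leaf 930))) (.node (.node (.leaf 166) (.leaf 481)) (.node (.leaf 675) (.leaf 847))))) (.node (.node (.node (.node (.leaf 23) (.leaf 826)) (.node (.leaf 546) (.leaf 963))) (.node (.node (.leaf 305) (.leaf 453)) (.node (.leaf 246) (.leaf 770)))) (.node (.node (.node (.leaf 226) (.leaf 808)) (.node (.leaf 539) (.leaf 673))) (.node (.node (.leaf 127) (.leaf 637)) (.node (.leaf 388) (.leaf 938))))))))) (.node (.node (.node (.node (.node (.node (.node (.node (.leaf 0) (.leaf 661)) (.node (.leaf 163) (.leaf 956))) (.node (.node (.leaf 263) (.leaf 864)) (.node (.leaf 625) (.leaf 767)))) (.node (.node (.node (.leaf 148) (.leaf 737)) (.node (.leaf 542) (.leaf 582))) (.node (.node (.leaf 87) (.leaf 577)) (.node (.leaf 256) (.leaf 1006))))) (.node (.node (.node (.node (.leaf 12) (.leaf 316)) (.node (.leaf 512) (.leaf 590))) (.node (.node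 (.leaf 99) (.leaf 628)) (.node (.leaf 647) (.leaf 860)))) (.node (.node (.node (.leaf 215) (.leaf 779)) (.node (.leaf 189) (.leaf 992))) (.node (.node (.leaf 124) (.leaf 878)) (.node (.leaf 329) (.leaf 925)))))) (.node (.node (.node (.node (.node (.leaf 47) (.leaf 758)) (.node (.leaf 479) (.leaf 533))) (.node (.node (.leaf 63) (.leaf 426)) (.node (.leaf 535) (.leaf 795)))) (.node (.node (.node (.leaf 186) (.leaf 667)) (.node (.leaf 180) (.leaf 924))) (.node (.node (.leaf 278) (.leaf 627)) (.node (.leaf 265) (.leaf 855))))) (.node (.node (.node (.node (.leaf 106) (.leaf 331)) (.node (.leaf 521) (.leaf 870))) (.node (.node (.leaf 84) (.leaf 909)) (.node (.leaf 668) (.leaf 1007)))) (.node (.node (.node (.leaf 243) (.leaf 760)) (.node (.leaf 441) (.leaf 724))) (.node (.node (.leaf 144) (.leaf 548)) (.node (.leaf 751) (.leaf 899))))))) (.node (.node (.node (.node (.node (.node (.leaf 28) (.leaf 721)) (.node (.leaf 485)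 (.leaf 874))) (.node (.node (.leaf 59) (.leaf 565)) (.node (.leaf 624) (.leaf 824)))) (.node (.node (.node (.leaf 33) (.leaf 376)) (.node (.leaf 410) (.leaf 883))) (.node (.node (.leaf 286) (.leaf 491)) (.node (.leaf 707) (.leaf 1017))))) (.node (.node (.node (.node (.leaf 72) (.leaf 801)) (.node (.leaf 442) (.leaf 620))) (.node (.node (.leaf 332) (.leaf 472)) (.node (.leaf 658) (.leaf 1020)))) (.node (.node (.node (.leaf 50) (.leaf 804)) (.node (.leaf 537) (.leaf 778))) (.node (.node (.leaf 110) (.leaf 903)) (.node (.leaf 713) (.leaf 939)))))) (.node (.node (.node (.node (.node (.leaf 68) (.leaf 310)) (.node (.leaf 155) (.leaf 553))) (.node (.node (.leaf 79) (.leaf 432)) (.node (.leaf 330) (.leaf 783)))) (.node (.node (.node (.leaf 200) (.leaf 382)) (.node (.leaf 581) (.leaf 950))) (.node (.node (.leaf 328) (.leaf 496)) (.node (.leaf 663) (.leaf 1008))))) (.node (.node (.node (.node (.leaf 37) (.leaf 366)) (.node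 (.leaf 532) (.leaf 572))) (.node (.node (.leaf 82) (.leaf 919)) (.node (.leaf 298) (.leaf 800)))) (.node (.node (.node (.leaf 259) (.leaf 752)) (.node (.leaf 587) (.leaf 671))) (.node (.node (.leaf 459) (.leaf 901)) (.node (.leaf 750) (.leaf 945)))))))) (.node (.node (.node (.node (.node (.node (.node (.leaf 19) (.leaf 353)) (.node (.leaf 123) (.leaf 900))) (.node (.node (.leaf 283) (.leaf 456)) (.node (.leaf 630) (.leaf 840)))) (.node (.node (.node (.leaf 160) (.leaf 834)) (.node (.leaf 216) (.leaf 952))) (.node (.node (.leaf 367) (.leaf 461)) (.node (.leaf 689) (.leaf 849))))) (.node (.node (.node (.node (.leaf 95) (.leaf 319)) (.node (.leaf 440) (.leaf 977))) (.node (.node (.leaf 220) (.leaf 631)) (.node (.leaf 664) (.leaf 811)))) (.node (.node (.node (.leaf 165) (.leaf 836)) (.node (.leaf 433) (.leaf 818))) (.node (.node (.leaf 120) (.leaf 495)) (.node (.leaf 267) (.leaf 971)))))) (.node (.node (.node (.node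 (.node (.leaf 7) (.leaf 788)) (.node (.leaf 210) (.leaf 935))) (.node (.node (.leaf 83) (.leaf 421)) (.node (.leaf 465) (.leaf 1016)))) (.node (.node (.node (.leaf 176) (.leaf 789)) (.node (.leaf 563) (.leaf 621))) (.node (.node (.leaf 400) (.leaf 884)) (.node (.leaf 321) (.leaf 833))))) (.node (.node (.node (.node (.leaf 129) (.leaf 780)) (.node (.leaf 538) (.leaf 568))) (.node (.node (.leaf 239) (.leaf 915)) (.node (.leaf 292) (.leaf 858)))) (.node (.node (.node (.leaf 51) (.leaf 390)) (.node (.leaf 191) (.leaf 677))) (.node (.node (.leaf 444) (.leaf 530)) (.node (.leaf 756) (.leaf 920))))))) (.node (.node (.node (.node (.node (.node (.leaf 4) (.leaf 336)) (.node (.leaf 128) (.leaf 527))) (.node (.node (.leaf 240) (.leaf 414)) (.node (.leaf 217) (.leaf 843)))) (.node (.node (.node (.leaf 30) (.leaf 802)) (.node (.leaf 408) (.leaf 969))) (.node (.node (.leaf 231) (.leaf 559)) (.node (.leaf 251) (.leaf 853))))) (.node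 (.node (.node (.node (.leaf 112) (.leaf 404)) (.node (.leaf 528) (.leaf 576))) (.node (.node (.leaf 347) (.leaf 905)) (.node (.leaf 233) (.leaf 999)))) (.node (.node (.node (.leaf 234) (.leaf 705)) (.node (.leaf 570) (.leaf 738))) (.node (.node (.leaf 140) (.leaf 506)) (.node (.leaf 728) (.leaf 962)))))) (.node (.node (.node (.node (.node (.leaf 78) (.leaf 322)) (.node (.leaf 202) (.leaf 585))) (.node (.node (.leaf 69) (.leaf 889)) (.node (.leaf 654) (.leaf 1015)))) (.node (.node (.node (.leaf 208) (.leaf 369)) (.node (.leaf 175) (.leaf 640))) (.node (.node (.leaf 104) (.leaf 877)) (.node (.leaf 696) (.leaf 1001))))) (.node (.node (.node (.node (.leaf 24) (.leaf 341)) (.node (.leaf 157) (.leaf 605))) (.node (.node (.leaf 373) (.leaf 907)) (.node (.leaf 296) (.leaf 1022)))) (.node (.node (.node (.leaf 268) (.leaf 763)) (.node (.leaf 602) (.leaf 680))) (.node (.node (.leaf 125) (.leaf 955)) (.node (.leaf 293) (.leaf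 958))))))))))

def twoNext2 : Janko.Tree (ℕ) :=
  (.node (.node (.node (.node (.node (.node (.node (.node (.node (.leaf 3) (.leaf 661)) (.node (.leaf 460) (.leaf 928))) (.node (.node (.leaf 271) (.leaf 403)) (.node (.leaf 218) (.leaf 1008)))) (.node (.node (.node (.leaf 150) (.leaf 829)) (.node (.leaf 552) (.leaf 579))) (.node (.node (.leaf 377) (.leaf 455)) (.node (.leaf 244) (.leaf 776))))) (.node (.node (.node (.node (.leaf 82) (.leaf 313)) (.node (.leaf 490) (.leaf 974))) (.node (.node (.leaf 324) (.leaf 891)) (.node (.leaf 225) (.leaf 768)))) (.node (.node (.node (.leaf 193) (.leaf 666)) (.node (.leaf 176) (.leaf 947))) (.node (.node (.leaf 415) (.leaf 484)) (.node (.leaf 731) (.leaf 909)))))) (.node (.node (.node (.node (.node (.leaf 5) (.leaf 335)) (.node (.leaf 495) (.leaf 630))) (.node (.node (.leaf 62) (.leaf 878)) (.node (.leaf 535) (.leaf 1014)))) (.node (.node (.node (.leaf 181) (.leaf 760)) (.node (.leaf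 168) (.leaf 602))) (.node (.node (.leaf 394) (.leaf 531)) (.node (.leaf 252) (.leaf 804))))) (.node (.node (.node (.node (.leaf 18) (.leaf 813)) (.node (.leaf 149) (.leaf 959))) (.node (.node (.leaf 352) (.leaf 574)) (.node (.leaf 678) (.leaf 740)))) (.node (.node (.node (.leaf 239) (.leaf 787)) (.node (.leaf 605) (.leaf 750))) (.node (.node (.leaf 434) (.leaf 643)) (.node (.leaf 294) (.leaf 896))))))) (.node (.node (.node (.node (.node (.node (.leaf 2) (.leaf 296)) (.node (.leaf 481) (.leaf 960))) (.node (.node (.leaf 287) (.leaf 866)) (.node (.leaf 206) (.leaf 998)))) (.node (.node (.node (.leaf 159) (.leaf 799)) (.node (.leaf 553) (.leaf 950))) (.node (.node (.leaf 386) (.leaf 923)) (.node (.leaf 249) (.leaf 789))))) (.node (.node (.node (.node (.leaf 98) (.leaf 320)) (.node (.leaf 520) (.leaf 555))) (.node (.node (.leaf 336) (.leaf 435)) (.node (.leaf 663) (.leaf 721)))) (.node (.node (.node (.leaf 43) (.leaf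 379)) (.node (.leaf 511) (.leaf 651))) (.node (.node (.leaf 109) (.leaf 945)) (.node (.leaf 741) (.leaf 984)))))) (.node (.node (.node (.node (.node (.leaf 63) (.leaf 790)) (.node (.leaf 468) (.leaf 970))) (.node (.node (.leaf 309) (.leaf 493)) (.node (.leaf 646) (.leaf 701)))) (.node (.node (.node (.leaf 197) (.leaf 367)) (.node (.leaf 173) (.leaf 623))) (.node (.node (.leaf 405) (.leaf 941)) (.node (.leaf 399) (.leaf 1000))))) (.node (.node (.node (.node (.leaf 134) (.leaf 337)) (.node (.leaf 537) (.leaf 571))) (.node (.node (.leaf 81) (.leaf 462)) (.node (.leaf 679) (.leaf 1023)))) (.node (.node (.node (.leaf 49) (.leaf 739)) (.node (.leaf 615) (.leaf 669))) (.node (.node (.leaf 454) (.leaf 592)) (.node (.leaf 282) (.leaf 915)))))))) (.node (.node (.node (.node (.node (.node (.node (.leaf 15) (.leaf 767)) (.node (.leaf 122) (.leaf 521))) (.node (.node (.leaf 258) (.leaf 406)) (.node (.leaf 607) (.leaf 1011))))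 (.node (.node (.node (.leaf 156) (.leaf 354)) (.node (.leaf 160) (.leaf 985))) (.node (.node (.leaf 383) (.leaf 458)) (.node (.leaf 698) (.leaf 782))))) (.node (.node (.node (.node (.leaf 13) (.leaf 801)) (.node (.leaf 517) (.leaf 976))) (.node (.node (.leaf 322) (.leaf 475)) (.node (.leaf 660) (.leaf 717)))) (.node (.node (.node (.leaf 41) (.leaf 374)) (.node (.leaf 204) (.leaf 687))) (.node (.node (.leaf 421) (.leaf 944)) (.node (.leaf 736) (.leaf 873)))))) (.node (.node (.node (.node (.node (.leaf 54) (.leaf 781)) (.node (.leaf 498) (.leaf 935))) (.node (.node (.leaf 303) (.leaf 420)) (.node (.leaf 641) (.leaf 723)))) (.node (.node (.node (.leaf 190) (.leaf 751)) (.node (.leaf 572) (.leaf 618))) (.node (.node (.leaf 378) (.leaf 938)) (.node (.leaf 280) (.leaf 814))))) (.node (.node (.node (.node (.leaf 124) (.leaf 817)) (.node (.leaf 534) (.leaf 566))) (.node (.node (.leaf 348) (.leaf 913)) (.node (.leaf 236)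 (.leaf 748)))) (.node (.node (.node (.leaf 246) (.leaf 821)) (.node (.leaf 610) (.leaf 668))) (.node (.node (.leaf 448) (.leaf 877)) (.node (.leaf 733) (.leaf 908))))))) (.node (.node (.node (.node (.node (.node (.leaf 35) (.leaf 300)) (.node (.leaf 489) (.leaf 963))) (.node (.node (.leaf 293) (.leaf 413)) (.node (.leaf 636) (.leaf 1012)))) (.node (.node (.node (.leaf 174) (.leaf 709)) (.node (.leaf 167) (.leaf 988))) (.node (.node (.leaf 356) (.leaf 465)) (.node (.leaf 256) (.leaf 796))))) (.node (.node (.node (.node (.leaf 106) (.leaf 325)) (.node (.leaf 524) (.leaf 919))) (.node (.node (.leaf 342) (.leaf 903)) (.node (.leaf 673) (.leaf 727)))) (.node (.node (.node (.leaf 230) (.leaf 764)) (.node (.leaf 185) (.leaf 653))) (.node (.node (.leaf 436) (.leaf 948)) (.node (.leaf 270) (.leaf 886)))))) (.node (.node (.node (.node (.node (.leaf 73) (.leaf 734)) (.node (.leaf 506) (.leaf 972))) (.node (.node (.leaf 68)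 (.leaf 884)) (.node (.leaf 650) (.leaf 703)))) (.node (.node (.node (.leaf 205) (.leaf 846)) (.node (.leaf 180) (.leaf 629))) (.node (.node (.leaf 103) (.leaf 942)) (.node (.leaf 261) (.leaf 844))))) (.node (.node (.node (.node (.leaf 141) (.leaf 340)) (.node (.leaf 547) (.leaf 573))) (.node (.node (.leaf 369) (.leaf 562)) (.node (.leaf 243) (.leaf 1022)))) (.node (.node (.node (.leaf 52) (.leaf 396)) (.node (.leaf 194) (.leaf 710))) (.node (.node (.leaf 464) (.leaf 620)) (.node (.leaf 762) (.leaf 931))))))))) (.node (.node (.node (.node (.node (.node (.node (.node (.leaf 8) (.leaf 291)) (.node (.leaf 132) (.leaf 518))) (.node (.node (.leaf 61) (.leaf 835)) (.node (.leaf 200) (.leaf 763)))) (.node (.node (.node (.leaf 153) (.leaf 343)) (.node (.leaf 164) (.leaf 870))) (.node (.node (.leaf 380) (.leaf 466)) (.node (.leaf 693) (.leaf 778))))) (.node (.node (.node (.node (.leaf 85) (.leaf 798)) (.node (.leaf 138) (.leaf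 958))) (.node (.node (.leaf 327) (.leaf 894)) (.node (.leaf 655) (.leaf 713)))) (.node (.node (.node (.leaf 40) (.leaf 372)) (.node (.leaf 580) (.leaf 648))) (.node (.node (.leaf 105) (.leaf 486)) (.node (.leaf 278) (.leaf 867)))))) (.node (.node (.node (.node (.node (.leaf 48) (.leaf 785)) (.node (.leaf 142) (.leaf 966))) (.node (.node (.leaf 298) (.leaf 874)) (.node (.leaf 215) (.leaf 754)))) (.node (.node (.node (.leaf 32) (.leaf 657)) (.node (.leaf 567) (.leaf 609))) (.node (.node (.leaf 397) (.leaf 625)) (.node (.leaf 706) (.leaf 807))))) (.node (.node (.node (.node (.leaf 19) (.leaf 700)) (.node (.leaf 529) (.leaf 982))) (.node (.node (.leaf 345) (.leaf 910)) (.node (.leaf 240) (.leaf 745)))) (.node (.node (.node (.leaf 47) (.leaf 769)) (.node (.leaf 202) (.leaf 1001))) (.node (.node (.leaf 442) (.leaf 914)) (.node (.leaf 276) (.leaf 934))))))) (.node (.node (.node (.node (.node (.node (.leaf 29) (.leaf 773))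 (.node (.leaf 125) (.leaf 962))) (.node (.node (.leaf 290) (.leaf 412)) (.node (.leaf 208) (.leaf 686)))) (.node (.node (.node (.leaf 169) (.leaf 830)) (.node (.leaf 166) (.leaf 881))) (.node (.node (.leaf 370) (.leaf 583)) (.node (.leaf 708) (.leaf 792))))) (.node (.node (.node (.node (.leaf 89) (.leaf 323)) (.node (.leaf 146) (.leaf 558))) (.node (.node (.leaf 75) (.leaf 437)) (.node (.leaf 671) (.leaf 724)))) (.node (.node (.node (.leaf 44) (.leaf 852)) (.node (.leaf 187) (.leaf 658))) (.node (.node (.leaf 433) (.leaf 638)) (.node (.leaf 288) (.leaf 887)))))) (.node (.node (.node (.node (.node (.leaf 69) (.leaf 381)) (.node (.leaf 504) (.leaf 969))) (.node (.node (.leaf 67) (.leaf 608)) (.node (.leaf 222) (.leaf 702)))) (.node (.node (.node (.leaf 201) (.leaf 848)) (.node (.leaf 582) (.leaf 955))) (.node (.node (.leaf 384) (.leaf 939)) (.node (.leaf 263) (.leaf 861))))) (.node (.node (.node (.node (.leaf 127)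 (.leaf 350)) (.node (.leaf 545) (.leaf 905))) (.node (.node (.leaf 366) (.leaf 452)) (.node (.leaf 242) (.leaf 1019)))) (.node (.node (.node (.leaf 260) (.leaf 718)) (.node (.leaf 212) (.leaf 1006))) (.node (.node (.leaf 117) (.leaf 508)) (.node (.leaf 284) (.leaf 929)))))))) (.node (.node (.node (.node (.node (.node (.node (.leaf 1) (.leaf 770)) (.node (.leaf 478) (.leaf 961))) (.node (.node (.leaf 56) (.leaf 408)) (.node (.leaf 631) (.leaf 683)))) (.node (.node (.node (.leaf 161) (.leaf 346)) (.node (.leaf 559) (.leaf 987))) (.node (.node (.leaf 101) (.leaf 892)) (.node (.leaf 248) (.leaf 786))))) (.node (.node (.node (.node (.leaf 14) (.leaf 363)) (.node (.leaf 496) (.leaf 551))) (.node (.node (.leaf 330) (.leaf 432)) (.node (.leaf 665) (.leaf 1010)))) (.node (.node (.node (.leaf 219) (.leaf 851)) (.node (.leaf 429) (.leaf 834))) (.node (.node (.leaf 108) (.leaf 491)) (.node (.leaf 738) (.leaf 904)))))) (.node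 (.node (.node (.node (.node (.leaf 57) (.leaf 308)) (.node (.leaf 482) (.leaf 536))) (.node (.node (.leaf 64) (.leaf 883)) (.node (.leaf 644) (.leaf 743)))) (.node (.node (.node (.leaf 39) (.leaf 845)) (.node (.leaf 172) (.leaf 957))) (.node (.node (.leaf 97) (.leaf 479)) (.node (.leaf 317) (.leaf 818))))) (.node (.node (.node (.node (.leaf 20) (.leaf 820)) (.node (.leaf 539) (.leaf 983))) (.node (.node (.leaf 91) (.leaf 449)) (.node (.leaf 685) (.leaf 840)))) (.node (.node (.node (.leaf 251) (.leaf 784)) (.node (.leaf 612) (.leaf 1004))) (.node (.node (.leaf 116) (.leaf 613)) (.node (.leaf 757) (.leaf 912))))))) (.node (.node (.node (.node (.node (.node (.leaf 38) (.leaf 301)) (.node (.leaf 492) (.leaf 964))) (.node (.node (.leaf 274) (.leaf 447)) (.node (.leaf 213) (.leaf 690)))) (.node (.node (.node (.leaf 177) (.leaf 353)) (.node (.leaf 459) (.leaf 604))) (.node (.node (.leaf 392) (.leaf 634)) (.node (.leaf 696)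 (.leaf 800))))) (.node (.node (.node (.node (.leaf 17) (.leaf 810)) (.node (.leaf 147) (.leaf 980))) (.node (.node (.leaf 76) (.leaf 906)) (.node (.leaf 675) (.leaf 732)))) (.node (.node (.node (.leaf 45) (.leaf 855)) (.node (.leaf 186) (.leaf 656))) (.node (.node (.leaf 439) (.leaf 880)) (.node (.leaf 747) (.leaf 890)))))) (.node (.node (.node (.node (.node (.leaf 79) (.leaf 791)) (.node (.leaf 509) (.leaf 546))) (.node (.node (.leaf 321) (.leaf 425)) (.node (.leaf 223) (.leaf 707)))) (.node (.node (.node (.leaf 209) (.leaf 849)) (.node (.leaf 570) (.leaf 951))) (.node (.node (.leaf 410) (.leaf 540)) (.node (.leaf 262) (.leaf 859))))) (.node (.node (.node (.node (.leaf 144) (.leaf 688)) (.node (.leaf 549) (.leaf 586))) (.node (.node (.leaf 84) (.leaf 922)) (.node (.leaf 347) (.leaf 802)))) (.node (.node (.node (.leaf 53) (.leaf 746)) (.node (.leaf 621) (.leaf 674))) (.node (.node (.leaf 457) (.leaf 515)) (.node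 (.leaf 289) (.leaf 956))))))))))

def twoNext3 : Janko.Tree (ℕ) :=
  (.node (.node (.node (.node (.node (.node (.node (.node (.node (.leaf 4) (.leaf 764)) (.node (.leaf 120) (.leaf 612))) (.node (.node (.leaf 272) (.leaf 863)) (.node (.leaf 197) (.leaf 675)))) (.node (.node (.node (.leaf 24) (.leaf 830)) (.node (.leaf 157) (.leaf 945))) (.node (.node (.leaf 378) (.leaf 571)) (.node (.leaf 693) (.leaf 773))))) (.node (.node (.node (.node (.leaf 11) (.leaf 762)) (.node (.leaf 136) (.leaf 547))) (.node (.node (.leaf 102) (.leaf 630)) (.node (.leaf 658) (.leaf 708)))) (.node (.node (.node (.leaf 38) (.leaf 774)) (.node (.leaf 183) (.leaf 892))) (.node (.node (.leaf 207) (.leaf 905)) (.node (.leaf 270) (.leaf 943)))))) (.node (.node (.node (.node (.node (.leaf 45) (.leaf 371)) (.node (.leaf 128) (.leaf 527))) (.node (.node (.leaf 296) (.leaf 628)) (.node (.leaf 638) (.leaf 691)))) (.node (.node (.node (.leaf 182) (.leaf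 355)) (.node (.leaf 567) (.leaf 921))) (.node (.node (.leaf 280) (.leaf 469)) (.node (.leaf 259) (.leaf 856))))) (.node (.node (.node (.node (.leaf 117) (.leaf 330)) (.node (.leaf 532) (.leaf 611))) (.node (.node (.leaf 77) (.leaf 484)) (.node (.leaf 233) (.leaf 833)))) (.node (.node (.node (.leaf 240) (.leaf 857)) (.node (.leaf 194) (.leaf 1000))) (.node (.node (.leaf 112) (.leaf 498)) (.node (.leaf 273) (.leaf 963))))))) (.node (.node (.node (.node (.node (.node (.leaf 26) (.leaf 772)) (.node (.leaf 482) (.leaf 523))) (.node (.node (.leaf 288) (.leaf 410)) (.node (.leaf 413) (.leaf 798)))) (.node (.node (.node (.leaf 27) (.leaf 379)) (.node (.leaf 163) (.leaf 591))) (.node (.node (.leaf 289) (.leaf 461)) (.node (.leaf 706) (.leaf 991))))) (.node (.node (.node (.node (.leaf 99) (.leaf 692)) (.node (.leaf 144) (.leaf 645))) (.node (.node (.leaf 73) (.leaf 900)) (.node (.leaf 229) (.leaf 995)))) (.node (.node (.node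 (.leaf 223) (.leaf 814)) (.node (.leaf 598) (.leaf 721))) (.node (.node (.leaf 205) (.leaf 492)) (.node (.leaf 267) (.leaf 880)))))) (.node (.node (.node (.node (.node (.leaf 64) (.leaf 791)) (.node (.leaf 208) (.leaf 556))) (.node (.node (.leaf 65) (.leaf 435)) (.node (.leaf 220) (.leaf 698)))) (.node (.node (.node (.leaf 198) (.leaf 361)) (.node (.leaf 580) (.leaf 976))) (.node (.node (.leaf 98) (.leaf 476)) (.node (.leaf 724) (.leaf 839))))) (.node (.node (.node (.node (.leaf 21) (.leaf 685)) (.node (.leaf 153) (.leaf 924))) (.node (.node (.leaf 362) (.leaf 451)) (.node (.leaf 239) (.leaf 753)))) (.node (.node (.node (.leaf 256) (.leaf 390)) (.node (.leaf 191) (.leaf 780))) (.node (.node (.leaf 455) (.leaf 506)) (.node (.leaf 301) (.leaf 970)))))))) (.node (.node (.node (.node (.node (.node (.node (.leaf 0) (.leaf 395)) (.node (.leaf 474) (.leaf 520))) (.node (.node (.leaf 279) (.leaf 405)) (.node (.leaf 201)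 (.leaf 680)))) (.node (.node (.node (.leaf 134) (.leaf 344)) (.node (.leaf 555) (.leaf 585))) (.node (.node (.leaf 87) (.leaf 928)) (.node (.leaf 246) (.leaf 1007))))) (.node (.node (.node (.node (.leaf 92) (.leaf 316)) (.node (.leaf 139) (.leaf 550))) (.node (.node (.leaf 71) (.leaf 897)) (.node (.leaf 393) (.leaf 1017)))) (.node (.node (.node (.leaf 218) (.leaf 768)) (.node (.leaf 179) (.leaf 735))) (.node (.node (.leaf 106) (.leaf 487)) (.node (.leaf 688) (.leaf 975)))))) (.node (.node (.node (.node (.node (.leaf 6) (.leaf 304)) (.node (.leaf 213) (.leaf 953))) (.node (.node (.leaf 283) (.leaf 633)) (.node (.leaf 507) (.leaf 695)))) (.node (.node (.node (.leaf 33) (.leaf 844)) (.node (.leaf 170) (.leaf 925))) (.node (.node (.leaf 95) (.leaf 472)) (.node (.leaf 255) (.leaf 854))))) (.node (.node (.node (.node (.leaf 125) (.leaf 332)) (.node (.leaf 505) (.leaf 899))) (.node (.node (.leaf 79) (.leaf 552)) (.node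 (.leaf 681) (.leaf 747)))) (.node (.node (.node (.leaf 247) (.leaf 656)) (.node (.leaf 562) (.leaf 662))) (.node (.node (.leaf 114) (.leaf 546)) (.node (.leaf 277) (.leaf 906))))))) (.node (.node (.node (.node (.node (.node (.leaf 3) (.leaf 778)) (.node (.leaf 490) (.leaf 888))) (.node (.node (.leaf 59) (.leaf 874)) (.node (.leaf 209) (.leaf 689)))) (.node (.node (.node (.leaf 29) (.leaf 374)) (.node (.leaf 564) (.leaf 596))) (.node (.node (.leaf 284) (.leaf 639)) (.node (.leaf 250) (.leaf 1020))))) (.node (.node (.node (.node (.leaf 107) (.leaf 792)) (.node (.leaf 525) (.leaf 610))) (.node (.node (.leaf 343) (.leaf 499)) (.node (.leaf 674) (.leaf 1022)))) (.node (.node (.node (.leaf 231) (.leaf 802)) (.node (.leaf 602) (.leaf 998))) (.node (.node (.leaf 143) (.leaf 495)) (.node (.leaf 744) (.leaf 961)))))) (.node (.node (.node (.node (.node (.leaf 74) (.leaf 310)) (.node (.leaf 204) (.leaf 641))) (.node (.node (.leaf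 281) (.leaf 423)) (.node (.leaf 651) (.leaf 824)))) (.node (.node (.node (.leaf 36) (.leaf 366)) (.node (.leaf 174) (.leaf 881))) (.node (.node (.leaf 408) (.leaf 903)) (.node (.leaf 728) (.leaf 999))))) (.node (.node (.node (.node (.leaf 142) (.leaf 827)) (.node (.leaf 548) (.leaf 941))) (.node (.node (.leaf 370) (.leaf 890)) (.node (.leaf 690) (.leaf 766)))) (.node (.node (.node (.leaf 265) (.leaf 670)) (.node (.leaf 618) (.leaf 864))) (.node (.node (.leaf 118) (.leaf 512)) (.node (.leaf 285) (.leaf 972))))))))) (.node (.node (.node (.node (.node (.node (.node (.node (.leaf 9) (.leaf 727)) (.node (.leaf 121) (.leaf 517))) (.node (.node (.leaf 54) (.leaf 738)) (.node (.leaf 626) (.leaf 743)))) (.node (.node (.node (.leaf 25) (.leaf 697)) (.node (.leaf 158) (.leaf 986))) (.node (.node (.leaf 368) (.leaf 456)) (.node (.leaf 245) (.leaf 843))))) (.node (.node (.node (.node (.leaf 86) (.leaf 756)) (.node (.leaf 513)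 (.leaf 620))) (.node (.node (.leaf 70) (.leaf 428)) (.node (.leaf 226) (.leaf 723)))) (.node (.node (.node (.leaf 216) (.leaf 812)) (.node (.leaf 177) (.leaf 993))) (.node (.node (.leaf 418) (.leaf 642)) (.node (.leaf 264) (.leaf 971)))))) (.node (.node (.node (.node (.node (.leaf 49) (.leaf 754)) (.node (.leaf 129) (.leaf 955))) (.node (.node (.leaf 299) (.leaf 416)) (.node (.leaf 601) (.leaf 777)))) (.node (.node (.node (.leaf 187) (.leaf 357)) (.node (.leaf 169) (.leaf 959))) (.node (.node (.leaf 94) (.leaf 937)) (.node (.leaf 253) (.leaf 853))))) (.node (.node (.node (.node (.leaf 122) (.leaf 372)) (.node (.leaf 150) (.leaf 631))) (.node (.node (.leaf 78) (.leaf 444)) (.node (.leaf 234) (.leaf 1011)))) (.node (.node (.node (.leaf 244) (.leaf 386)) (.node (.leaf 188) (.leaf 661))) (.node (.node (.leaf 443) (.leaf 530)) (.node (.leaf 752) (.leaf 982))))))) (.node (.node (.node (.node (.node (.node (.leaf 30) (.leaf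 298)) (.node (.leaf 447) (.leaf 524))) (.node (.node (.leaf 241) (.leaf 871)) (.node (.leaf 634) (.leaf 1012)))) (.node (.node (.node (.leaf 28) (.leaf 349)) (.node (.leaf 560) (.leaf 593))) (.node (.node (.leaf 90) (.leaf 486)) (.node (.leaf 709) (.leaf 1016))))) (.node (.node (.node (.node (.leaf 15) (.leaf 807)) (.node (.leaf 522) (.leaf 606))) (.node (.node (.leaf 340) (.leaf 885)) (.node (.leaf 230) (.leaf 825)))) (.node (.node (.node (.leaf 228) (.leaf 380)) (.node (.leaf 184) (.leaf 652))) (.node (.node (.leaf 434) (.leaf 895)) (.node (.leaf 268) (.leaf 883)))))) (.node (.node (.node (.node (.node (.leaf 8) (.leaf 323)) (.node (.leaf 149) (.leaf 541))) (.node (.node (.leaf 314) (.leaf 422)) (.node (.leaf 648) (.leaf 1018)))) (.node (.node (.node (.leaf 202) (.leaf 364)) (.node (.leaf 583) (.leaf 625))) (.node (.node (.leaf 100) (.leaf 478)) (.node (.leaf 260) (.leaf 834))))) (.node (.node (.node (.node (.leaf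 22) (.leaf 339)) (.node (.leaf 154) (.leaf 973))) (.node (.node (.leaf 367) (.leaf 920)) (.node (.leaf 686) (.leaf 785)))) (.node (.node (.node (.leaf 50) (.leaf 394)) (.node (.leaf 192) (.leaf 700))) (.node (.node (.leaf 460) (.leaf 544)) (.node (.leaf 760) (.leaf 922)))))))) (.node (.node (.node (.node (.node (.node (.node (.leaf 20) (.leaf 293)) (.node (.leaf 479) (.leaf 608))) (.node (.node (.leaf 68) (.leaf 865)) (.node (.leaf 632) (.leaf 822)))) (.node (.node (.node (.leaf 162) (.leaf 835)) (.node (.leaf 161) (.leaf 635))) (.node (.node (.leaf 88) (.leaf 491)) (.node (.leaf 703) (.leaf 1021))))) (.node (.node (.node (.node (.leaf 96) (.leaf 804)) (.node (.leaf 141) (.leaf 913))) (.node (.node (.leaf 331) (.leaf 566)) (.node (.leaf 666) (.leaf 739)))) (.node (.node (.node (.leaf 160) (.leaf 375)) (.node (.leaf 181) (.leaf 821))) (.node (.node (.leaf 426) (.leaf 907)) (.node (.leaf 714) (.leaf 876)))))) (.node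 (.node (.node (.node (.node (.leaf 58) (.leaf 759)) (.node (.leaf 131) (.leaf 969))) (.node (.node (.leaf 306) (.leaf 884)) (.node (.leaf 217) (.leaf 845)))) (.node (.node (.node (.leaf 34) (.leaf 360)) (.node (.leaf 577) (.leaf 980))) (.node (.node (.leaf 401) (.leaf 473)) (.node (.leaf 257) (.leaf 1010))))) (.node (.node (.node (.node (.leaf 130) (.leaf 678)) (.node (.leaf 540) (.leaf 902))) (.node (.node (.leaf 80) (.leaf 559)) (.node (.leaf 237) (.leaf 750)))) (.node (.node (.node (.leaf 252) (.leaf 672)) (.node (.leaf 588) (.leaf 665))) (.node (.node (.leaf 452) (.leaf 502)) (.node (.leaf 758) (.leaf 910))))))) (.node (.node (.node (.node (.node (.node (.leaf 39) (.leaf 781)) (.node (.leaf 480) (.leaf 894))) (.node (.node (.leaf 60) (.leaf 483)) (.node (.leaf 417) (.leaf 1014)))) (.node (.node (.node (.leaf 178) (.leaf 765)) (.node (.leaf 427) (.leaf 599))) (.node (.node (.leaf 225) (.leaf 467)) (.node (.leaf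 713) (.leaf 997))))) (.node (.node (.node (.node (.leaf 113) (.leaf 387)) (.node (.leaf 529) (.leaf 616))) (.node (.node (.leaf 348) (.leaf 442)) (.node (.leaf 669) (.leaf 1023)))) (.node (.node (.node (.leaf 235) (.leaf 383)) (.node (.leaf 604) (.leaf 861))) (.node (.node (.leaf 111) (.leaf 950)) (.node (.leaf 271) (.leaf 919)))))) (.node (.node (.node (.node (.node (.leaf 10) (.leaf 311)) (.node (.leaf 135) (.leaf 904))) (.node (.node (.leaf 322) (.leaf 636)) (.node (.leaf 655) (.leaf 851)))) (.node (.node (.node (.leaf 210) (.leaf 810)) (.node (.leaf 587) (.leaf 879))) (.node (.node (.leaf 411) (.leaf 867)) (.node (.leaf 730) (.leaf 849))))) (.node (.node (.node (.node (.leaf 145) (.leaf 797)) (.node (.leaf 543) (.leaf 576))) (.node (.node (.leaf 335) (.leaf 923)) (.node (.leaf 315) (.leaf 1001)))) (.node (.node (.node (.leaf 269) (.leaf 400)) (.node (.leaf 195) (.leaf 782))) (.node (.node (.leaf 119) (.leaf 956))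 (.node (.leaf 305) (.leaf 940))))))))))

def twoNext4 : Janko.Tree (ℕ) :=
  (.node (.node (.node (.node (.node (.node (.node (.node (.node (.leaf 0) (.leaf 401)) (.node (.leaf 442) (.leaf 957))) (.node (.node (.leaf 270) (.leaf 793)) (.node (.leaf 460) (.leaf 808)))) (.node (.node (.node (.leaf 151) (.leaf 383)) (.node (.leaf 522) (.leaf 913))) (.node (.node (.leaf 379) (.leaf 456)) (.node (.leaf 245) (.leaf 996))))) (.node (.node (.node (.node (.leaf 12) (.leaf 729)) (.node (.leaf 137) (.leaf 869))) (.node (.node (.leaf 285) (.leaf 644)) (.node (.leaf 226) (.leaf 809)))) (.node (.node (.node (.leaf 41) (.leaf 784)) (.node (.leaf 177) (.leaf 830))) (.node (.node (.leaf 107) (.leaf 496)) (.node (.leaf 271) (.leaf 988)))))) (.node (.node (.node (.node (.node (.leaf 14) (.leaf 680)) (.node (.leaf 452) (.leaf 533))) (.node (.node (.leaf 68) (.leaf 632)) (.node (.leaf 513) (.leaf 833)))) (.node (.node (.node (.leaf 141)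 (.leaf 719)) (.node (.leaf 169) (.leaf 906))) (.node (.node (.leaf 237) (.leaf 470)) (.node (.leaf 253) (.leaf 1010))))) (.node (.node (.node (.node (.leaf 118) (.leaf 331)) (.node (.leaf 150) (.leaf 972))) (.node (.node (.leaf 353) (.leaf 907)) (.node (.leaf 648) (.leaf 1019)))) (.node (.node (.node (.leaf 241) (.leaf 394)) (.node (.leaf 195) (.leaf 761))) (.node (.node (.leaf 113) (.leaf 597)) (.node (.leaf 348) (.leaf 976))))))) (.node (.node (.node (.node (.node (.node (.leaf 22) (.leaf 370)) (.node (.leaf 217) (.leaf 524))) (.node (.node (.leaf 289) (.leaf 867)) (.node (.leaf 218) (.leaf 720)))) (.node (.node (.node (.leaf 166) (.leaf 355)) (.node (.leaf 418) (.leaf 592))) (.node (.node (.leaf 98) (.leaf 488)) (.node (.leaf 345) (.leaf 1002))))) (.node (.node (.node (.node (.leaf 97) (.leaf 736)) (.node (.leaf 518) (.leaf 929))) (.node (.node (.leaf 337) (.leaf 555)) (.node (.leaf 230) (.leaf 860)))) (.node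 (.node (.node (.leaf 224) (.leaf 380)) (.node (.leaf 556) (.leaf 652))) (.node (.node (.leaf 110) (.leaf 639)) (.node (.leaf 697) (.leaf 924)))))) (.node (.node (.node (.node (.node (.leaf 62) (.leaf 792)) (.node (.leaf 502) (.leaf 641))) (.node (.node (.leaf 310) (.leaf 645)) (.node (.leaf 406) (.leaf 832)))) (.node (.node (.node (.leaf 199) (.leaf 362)) (.node (.leaf 457) (.leaf 950))) (.node (.node (.leaf 265) (.leaf 545)) (.node (.leaf 682) (.leaf 1008))))) (.node (.node (.node (.node (.leaf 135) (.leaf 695)) (.node (.leaf 154) (.leaf 572))) (.node (.node (.leaf 82) (.leaf 489)) (.node (.leaf 306) (.leaf 844)))) (.node (.node (.node (.leaf 50) (.leaf 859)) (.node (.leaf 571) (.leaf 676))) (.node (.node (.leaf 171) (.leaf 881)) (.node (.leaf 294) (.leaf 920)))))))) (.node (.node (.node (.node (.node (.node (.node (.leaf 2) (.leaf 768)) (.node (.leaf 123) (.leaf 958))) (.node (.node (.leaf 280) (.leaf 665)) (.node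 (.leaf 628) (.leaf 804)))) (.node (.node (.node (.leaf 157) (.leaf 347)) (.node (.leaf 507) (.leaf 967))) (.node (.node (.leaf 340) (.leaf 890)) (.node (.leaf 699) (.leaf 848))))) (.node (.node (.node (.node (.leaf 56) (.leaf 802)) (.node (.leaf 189) (.leaf 551))) (.node (.node (.leaf 72) (.leaf 898)) (.node (.leaf 661) (.leaf 740)))) (.node (.node (.node (.leaf 162) (.leaf 822)) (.node (.leaf 410) (.leaf 801))) (.node (.node (.leaf 422) (.leaf 575)) (.node (.leaf 315) (.leaf 948)))))) (.node (.node (.node (.node (.node (.leaf 7) (.leaf 785)) (.node (.leaf 139) (.leaf 600))) (.node (.node (.leaf 66) (.leaf 421)) (.node (.leaf 642) (.leaf 999)))) (.node (.node (.node (.leaf 191) (.leaf 753)) (.node (.leaf 573) (.leaf 946))) (.node (.node (.leaf 96) (.leaf 935)) (.node (.leaf 298) (.leaf 1003))))) (.node (.node (.node (.node (.leaf 115) (.leaf 818)) (.node (.leaf 535) (.leaf 567))) (.node (.node (.leaf 330) (.leaf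 914)) (.node (.leaf 395) (.leaf 1015)))) (.node (.node (.node (.leaf 248) (.leaf 674)) (.node (.leaf 427) (.leaf 663))) (.node (.node (.leaf 449) (.leaf 874)) (.node (.leaf 754) (.leaf 978))))))) (.node (.node (.node (.node (.node (.node (.leaf 4) (.leaf 651)) (.node (.leaf 491) (.leaf 631))) (.node (.node (.leaf 81) (.leaf 414)) (.node (.leaf 450) (.leaf 696)))) (.node (.node (.node (.leaf 30) (.leaf 838)) (.node (.leaf 562) (.leaf 962))) (.node (.node (.leaf 390) (.leaf 891)) (.node (.leaf 251) (.leaf 1020))))) (.node (.node (.node (.node (.leaf 108) (.leaf 388)) (.node (.leaf 411) (.leaf 942))) (.node (.node (.leaf 247) (.leaf 904)) (.node (.leaf 672) (.leaf 998)))) (.node (.node (.node (.leaf 221) (.leaf 747)) (.node (.leaf 198) (.leaf 735))) (.node (.node (.leaf 209) (.leaf 574)) (.node (.leaf 732) (.leaf 910)))))) (.node (.node (.node (.node (.node (.leaf 48) (.leaf 686)) (.node (.leaf 161) (.leaf 583))) (.node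 (.node (.leaf 69) (.leaf 424)) (.node (.leaf 299) (.leaf 828)))) (.node (.node (.node (.leaf 206) (.leaf 815)) (.node (.leaf 175) (.leaf 640))) (.node (.node (.leaf 109) (.leaf 896)) (.node (.leaf 274) (.leaf 992))))) (.node (.node (.node (.node (.leaf 143) (.leaf 341)) (.node (.leaf 546) (.leaf 582))) (.node (.node (.leaf 293) (.leaf 615)) (.node (.leaf 688) (.leaf 769)))) (.node (.node (.node (.leaf 252) (.leaf 763)) (.node (.leaf 606) (.leaf 862))) (.node (.node (.leaf 465) (.leaf 619)) (.node (.leaf 338) (.leaf 960))))))))) (.node (.node (.node (.node (.node (.node (.node (.node (.leaf 10) (.leaf 396)) (.node (.leaf 211) (.leaf 539))) (.node (.node (.leaf 55) (.leaf 864)) (.node (.leaf 215) (.leaf 806)))) (.node (.node (.node (.leaf 26) (.leaf 344)) (.node (.leaf 159) (.leaf 971))) (.node (.node (.leaf 369) (.leaf 459)) (.node (.leaf 246) (.leaf 994))))) (.node (.node (.node (.node (.leaf 87) (.leaf 770)) (.node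 (.leaf 499) (.leaf 607))) (.node (.node (.leaf 228) (.leaf 895)) (.node (.leaf 332) (.leaf 715)))) (.node (.node (.node (.leaf 164) (.leaf 384)) (.node (.leaf 585) (.leaf 649))) (.node (.node (.leaf 106) (.leaf 915)) (.node (.leaf 734) (.leaf 938)))))) (.node (.node (.node (.node (.node (.leaf 47) (.leaf 758)) (.node (.leaf 130) (.leaf 534))) (.node (.node (.leaf 300) (.leaf 878)) (.node (.leaf 508) (.leaf 739)))) (.node (.node (.node (.leaf 188) (.leaf 358)) (.node (.leaf 170) (.leaf 944))) (.node (.node (.leaf 259) (.leaf 627)) (.node (.leaf 711) (.leaf 847))))) (.node (.node (.node (.node (.leaf 119) (.leaf 814)) (.node (.leaf 444) (.leaf 888))) (.node (.node (.leaf 79) (.leaf 911)) (.node (.leaf 235) (.leaf 854)))) (.node (.node (.node (.leaf 53) (.leaf 723)) (.node (.leaf 608) (.leaf 823))) (.node (.node (.leaf 144) (.leaf 548)) (.node (.leaf 291) (.leaf 980))))))) (.node (.node (.node (.node (.node (.node (.leaf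 28) (.leaf 774)) (.node (.leaf 126) (.leaf 887))) (.node (.node (.leaf 277) (.leaf 525)) (.node (.leaf 437) (.leaf 689)))) (.node (.node (.node (.leaf 116) (.leaf 376)) (.node (.leaf 561) (.leaf 932))) (.node (.node (.leaf 286) (.leaf 931)) (.node (.leaf 707) (.leaf 835))))) (.node (.node (.node (.node (.leaf 16) (.leaf 681)) (.node (.leaf 413) (.leaf 559))) (.node (.node (.leaf 249) (.leaf 500)) (.node (.leaf 373) (.leaf 846)))) (.node (.node (.node (.leaf 225) (.leaf 765)) (.node (.leaf 186) (.leaf 654))) (.node (.node (.leaf 435) (.leaf 621)) (.node (.leaf 269) (.leaf 981)))))) (.node (.node (.node (.node (.node (.leaf 70) (.leaf 771)) (.node (.leaf 155) (.leaf 912))) (.node (.node (.leaf 283) (.leaf 560)) (.node (.leaf 301) (.leaf 772)))) (.node (.node (.node (.leaf 200) (.leaf 671)) (.node (.leaf 581) (.leaf 633))) (.node (.node (.leaf 256) (.leaf 908)) (.node (.leaf 262) (.leaf 1006))))) (.node (.node (.node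 (.node (.leaf 23) (.leaf 377)) (.node (.leaf 485) (.leaf 984))) (.node (.node (.leaf 368) (.leaf 453)) (.node (.leaf 687) (.leaf 800)))) (.node (.node (.node (.leaf 261) (.leaf 788)) (.node (.leaf 193) (.leaf 717))) (.node (.node (.leaf 461) (.leaf 637)) (.node (.leaf 325) (.leaf 945)))))))) (.node (.node (.node (.node (.node (.node (.node (.leaf 21) (.leaf 304)) (.node (.leaf 480) (.leaf 900))) (.node (.node (.leaf 57) (.leaf 482)) (.node (.leaf 630) (.leaf 728)))) (.node (.node (.node (.leaf 160) (.leaf 797)) (.node (.leaf 426) (.leaf 936))) (.node (.node (.leaf 89) (.leaf 467)) (.node (.leaf 343) (.leaf 837))))) (.node (.node (.node (.node (.leaf 58) (.leaf 805)) (.node (.leaf 180) (.leaf 868))) (.node (.node (.leaf 220) (.leaf 610)) (.node (.leaf 664) (.leaf 725)))) (.node (.node (.node (.leaf 44) (.leaf 701)) (.node (.leaf 596) (.leaf 678))) (.node (.node (.leaf 207) (.leaf 492)) (.node (.leaf 694) (.leaf 917))))))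 (.node (.node (.node (.node (.node (.leaf 59) (.leaf 309)) (.node (.leaf 210) (.leaf 598))) (.node (.node (.leaf 65) (.leaf 885)) (.node (.leaf 416) (.leaf 1016)))) (.node (.node (.node (.leaf 35) (.leaf 842)) (.node (.leaf 455) (.leaf 964))) (.node (.node (.leaf 387) (.leaf 474)) (.node (.leaf 722) (.leaf 826))))) (.node (.node (.node (.node (.leaf 131) (.leaf 821)) (.node (.leaf 538) (.leaf 883))) (.node (.node (.leaf 287) (.leaf 569)) (.node (.leaf 314) (.leaf 858)))) (.node (.node (.node (.leaf 51) (.leaf 781)) (.node (.leaf 568) (.leaf 779))) (.node (.node (.leaf 173) (.leaf 952)) (.node (.leaf 756) (.leaf 949))))))) (.node (.node (.node (.node (.node (.node (.leaf 40) (.leaf 302)) (.node (.leaf 481) (.leaf 927))) (.node (.node (.leaf 61) (.leaf 554)) (.node (.leaf 214) (.leaf 691)))) (.node (.node (.node (.leaf 179) (.leaf 798)) (.node (.leaf 408) (.leaf 979))) (.node (.node (.leaf 231) (.leaf 593)) (.node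 (.leaf 714) (.leaf 1018))))) (.node (.node (.node (.node (.leaf 19) (.leaf 811)) (.node (.leaf 530) (.leaf 605))) (.node (.node (.leaf 349) (.leaf 443)) (.node (.leaf 670) (.leaf 1023)))) (.node (.node (.node (.leaf 46) (.leaf 700)) (.node (.leaf 196) (.leaf 738))) (.node (.node (.leaf 152) (.leaf 506)) (.node (.leaf 703) (.leaf 974)))))) (.node (.node (.node (.node (.node (.leaf 80) (.leaf 312)) (.node (.leaf 183) (.leaf 956))) (.node (.node (.leaf 323) (.leaf 603)) (.node (.leaf 656) (.leaf 783)))) (.node (.node (.node (.leaf 208) (.leaf 803)) (.node (.leaf 588) (.leaf 892))) (.node (.node (.leaf 412) (.leaf 877)) (.node (.leaf 272) (.leaf 866))))) (.node (.node (.node (.node (.leaf 104) (.leaf 741)) (.node (.leaf 544) (.leaf 968))) (.node (.node (.leaf 85) (.leaf 495)) (.node (.leaf 296) (.leaf 1022)))) (.node (.node (.node (.leaf 254) (.leaf 745)) (.node (.leaf 577) (.leaf 675))) (.node (.node (.leaf 120) (.leaf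 886)) (.node (.leaf 290) (.leaf 943))))))))))

def twoNext5 : Janko.Tree (ℕ) :=
  (.node (.node (.node (.node (.node (.node (.node (.node (.node (.leaf 5) (.leaf 681)) (.node (.leaf 469) (.leaf 517))) (.node (.node (.leaf 54) (.leaf 805)) (.node (.leaf 615) (.leaf 744)))) (.node (.node (.node (.leaf 31) (.leaf 706)) (.node (.leaf 470) (.leaf 982))) (.node (.node (.leaf 351) (.leaf 622)) (.node (.leaf 407) (.leaf 832))))) (.node (.node (.node (.node (.leaf 74) (.leaf 797)) (.node (.leaf 204) (.leaf 554))) (.node (.node (.leaf 325) (.leaf 892)) (.node (.leaf 264) (.leaf 740)))) (.node (.node (.node (.leaf 40) (.leaf 371)) (.node (.leaf 518) (.leaf 815))) (.node (.node (.leaf 105) (.leaf 578)) (.node (.leaf 732) (.leaf 979)))))) (.node (.node (.node (.node (.node (.leaf 13) (.leaf 776)) (.node (.leaf 489) (.leaf 612))) (.node (.node (.leaf 67) (.leaf 415)) (.node (.leaf 555) (.leaf 856)))) (.node (.node (.node (.leaf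 183) (.leaf 695)) (.node (.leaf 519) (.leaf 966))) (.node (.node (.leaf 395) (.leaf 522)) (.node (.leaf 406) (.leaf 806))))) (.node (.node (.node (.node (.leaf 119) (.leaf 333)) (.node (.leaf 188) (.leaf 936))) (.node (.node (.leaf 297) (.leaf 454)) (.node (.leaf 358) (.leaf 1018)))) (.node (.node (.node (.leaf 61) (.leaf 386)) (.node (.leaf 606) (.leaf 660))) (.node (.node (.leaf 143) (.leaf 596)) (.node (.leaf 741) (.leaf 944))))))) (.node (.node (.node (.node (.node (.node (.leaf 21) (.leaf 306)) (.node (.leaf 466) (.leaf 911))) (.node (.node (.leaf 92) (.leaf 868)) (.node (.leaf 464) (.leaf 686)))) (.node (.node (.node (.leaf 167) (.leaf 798)) (.node (.leaf 482) (.leaf 904))) (.node (.node (.leaf 387) (.leaf 490)) (.node (.leaf 343) (.leaf 846))))) (.node (.node (.node (.node (.leaf 15) (.leaf 794)) (.node (.leaf 177) (.leaf 933))) (.node (.node (.leaf 304) (.leaf 513)) (.node (.leaf 255) (.leaf 1000)))) (.node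 (.node (.node (.leaf 225) (.leaf 771)) (.node (.leaf 184) (.leaf 692))) (.node (.node (.leaf 430) (.leaf 896)) (.node (.leaf 273) (.leaf 990)))))) (.node (.node (.node (.node (.node (.leaf 8) (.leaf 362)) (.node (.leaf 503) (.leaf 551))) (.node (.node (.leaf 311) (.leaf 492)) (.node (.leaf 253) (.leaf 996)))) (.node (.node (.node (.leaf 187) (.leaf 792)) (.node (.leaf 455) (.leaf 951))) (.node (.node (.leaf 398) (.leaf 583)) (.node (.leaf 260) (.leaf 852))))) (.node (.node (.node (.node (.leaf 136) (.leaf 719)) (.node (.leaf 179) (.leaf 983))) (.node (.node (.leaf 363) (.leaf 452)) (.node (.leaf 370) (.leaf 837)))) (.node (.node (.node (.leaf 227) (.leaf 715)) (.node (.leaf 197) (.leaf 670))) (.node (.node (.leaf 117) (.leaf 880)) (.node (.leaf 352) (.leaf 970)))))))) (.node (.node (.node (.node (.node (.node (.node (.leaf 1) (.leaf 769)) (.node (.leaf 475) (.leaf 959))) (.node (.node (.leaf 96) (.leaf 743)) (.node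 (.leaf 629) (.leaf 762)))) (.node (.node (.node (.leaf 158) (.leaf 346)) (.node (.leaf 161) (.leaf 953))) (.node (.node (.leaf 377) (.leaf 603)) (.node (.leaf 700) (.leaf 1004))))) (.node (.node (.node (.node (.leaf 58) (.leaf 364)) (.node (.leaf 510) (.leaf 641))) (.node (.node (.leaf 102) (.leaf 886)) (.node (.leaf 662) (.leaf 809)))) (.node (.node (.node (.leaf 164) (.leaf 375)) (.node (.leaf 181) (.leaf 655))) (.node (.node (.leaf 423) (.leaf 497)) (.node (.leaf 266) (.leaf 980)))))) (.node (.node (.node (.node (.node (.leaf 9) (.leaf 786)) (.node (.leaf 499) (.leaf 598))) (.node (.node (.leaf 64) (.leaf 514)) (.node (.leaf 643) (.leaf 813)))) (.node (.node (.node (.leaf 192) (.leaf 359)) (.node (.leaf 574) (.leaf 974))) (.node (.node (.leaf 280) (.leaf 916)) (.node (.leaf 257) (.leaf 827))))) (.node (.node (.node (.node (.leaf 20) (.leaf 650)) (.node (.leaf 536) (.leaf 888))) (.node (.node (.leaf 357) (.leaf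 912)) (.node (.leaf 237) (.leaf 820)))) (.node (.node (.node (.leaf 249) (.leaf 389)) (.node (.leaf 190) (.leaf 727))) (.node (.node (.leaf 416) (.leaf 552)) (.node (.leaf 755) (.leaf 964))))))) (.node (.node (.node (.node (.node (.node (.leaf 17) (.leaf 392)) (.node (.leaf 463) (.leaf 871))) (.node (.node (.leaf 287) (.leaf 875)) (.node (.leaf 219) (.leaf 690)))) (.node (.node (.node (.leaf 32) (.leaf 759)) (.node (.leaf 561) (.leaf 987))) (.node (.node (.leaf 391) (.leaf 467)) (.node (.leaf 710) (.leaf 995))))) (.node (.node (.node (.node (.leaf 109) (.leaf 403)) (.node (.leaf 147) (.leaf 917))) (.node (.node (.leaf 76) (.leaf 592)) (.node (.leaf 232) (.leaf 835)))) (.node (.node (.node (.leaf 45) (.leaf 854)) (.node (.leaf 196) (.leaf 734))) (.node (.node (.leaf 437) (.leaf 573)) (.node (.leaf 271) (.leaf 932)))))) (.node (.node (.node (.node (.node (.leaf 75) (.leaf 720)) (.node (.leaf 507) (.leaf 545))) (.node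 (.node (.leaf 318) (.leaf 435)) (.node (.leaf 223) (.leaf 994)))) (.node (.node (.node (.leaf 207) (.leaf 830)) (.node (.leaf 584) (.leaf 893))) (.node (.node (.leaf 108) (.leaf 639)) (.node (.leaf 272) (.leaf 991))))) (.node (.node (.node (.node (.leaf 113) (.leaf 749)) (.node (.leaf 156) (.leaf 876))) (.node (.node (.leaf 354) (.leaf 460)) (.node (.leaf 687) (.leaf 768)))) (.node (.node (.node (.leaf 254) (.leaf 764)) (.node (.leaf 195) (.leaf 861))) (.node (.node (.leaf 409) (.leaf 607)) (.node (.leaf 295) (.leaf 940))))))))) (.node (.node (.node (.node (.node (.node (.node (.node (.leaf 11) (.leaf 683)) (.node (.leaf 122) (.leaf 617))) (.node (.node (.leaf 276) (.leaf 405)) (.node (.leaf 201) (.leaf 1010)))) (.node (.node (.node (.leaf 145) (.leaf 748)) (.node (.leaf 543) (.leaf 941))) (.node (.node (.leaf 381) (.leaf 458)) (.node (.leaf 307) (.leaf 828))))) (.node (.node (.node (.node (.leaf 88) (.leaf 799))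 (.node (.leaf 139) (.leaf 619))) (.node (.node (.leaf 258) (.leaf 476)) (.node (.leaf 339) (.leaf 859)))) (.node (.node (.node (.leaf 162) (.leaf 704)) (.node (.leaf 591) (.leaf 807))) (.node (.node (.leaf 121) (.leaf 487)) (.node (.leaf 735) (.leaf 973)))))) (.node (.node (.node (.node (.node (.leaf 6) (.leaf 303)) (.node (.leaf 480) (.leaf 635))) (.node (.node (.leaf 301) (.leaf 879)) (.node (.leaf 557) (.leaf 694)))) (.node (.node (.node (.leaf 150) (.leaf 648)) (.node (.leaf 419) (.leaf 976))) (.node (.node (.leaf 100) (.leaf 471)) (.node (.leaf 717) (.leaf 993))))) (.node (.node (.node (.node (.leaf 118) (.leaf 342)) (.node (.leaf 451) (.leaf 567))) (.node (.node (.leaf 313) (.leaf 524)) (.node (.leaf 669) (.leaf 747)))) (.node (.node (.node (.leaf 52) (.leaf 722)) (.node (.leaf 609) (.leaf 842))) (.node (.node (.leaf 114) (.leaf 501)) (.node (.leaf 277) (.leaf 948))))))) (.node (.node (.node (.node (.node (.node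 (.leaf 3) (.leaf 775)) (.node (.leaf 486) (.leaf 610))) (.node (.node (.leaf 291) (.leaf 504)) (.node (.leaf 209) (.leaf 702)))) (.node (.node (.node (.leaf 29) (.leaf 378)) (.node (.leaf 562) (.leaf 910))) (.node (.node (.leaf 288) (.leaf 633)) (.node (.leaf 250) (.leaf 998))))) (.node (.node (.node (.node (.leaf 103) (.leaf 401)) (.node (.leaf 412) (.leaf 934))) (.node (.node (.leaf 248) (.leaf 515)) (.node (.leaf 372) (.leaf 1002)))) (.node (.node (.node (.leaf 224) (.leaf 803)) (.node (.leaf 185) (.leaf 653))) (.node (.node (.leaf 424) (.leaf 947)) (.node (.leaf 714) (.leaf 984)))))) (.node (.node (.node (.node (.node (.leaf 71) (.leaf 380)) (.node (.leaf 134) (.leaf 914))) (.node (.node (.leaf 282) (.leaf 594)) (.node (.leaf 300) (.leaf 731)))) (.node (.node (.node (.leaf 36) (.leaf 709)) (.node (.leaf 174) (.leaf 931))) (.node (.node (.leaf 397) (.leaf 923)) (.node (.leaf 261) (.leaf 845))))) (.node (.node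 (.node (.node (.leaf 138) (.leaf 340)) (.node (.leaf 484) (.leaf 981))) (.node (.node (.leaf 89) (.leaf 623)) (.node (.leaf 688) (.leaf 766)))) (.node (.node (.node (.leaf 262) (.leaf 787)) (.node (.leaf 588) (.leaf 711))) (.node (.node (.leaf 462) (.leaf 638)) (.node (.leaf 285) (.leaf 975)))))))) (.node (.node (.node (.node (.node (.node (.node (.leaf 22) (.leaf 337)) (.node (.leaf 130) (.leaf 523))) (.node (.node (.leaf 284) (.leaf 418)) (.node (.leaf 205) (.leaf 746)))) (.node (.node (.node (.leaf 27) (.leaf 729)) (.node (.leaf 468) (.leaf 972))) (.node (.node (.leaf 368) (.leaf 891)) (.node (.leaf 345) (.leaf 844))))) (.node (.node (.node (.node (.leaf 56) (.leaf 793)) (.node (.leaf 509) (.leaf 867))) (.node (.node (.leaf 73) (.leaf 887)) (.node (.leaf 229) (.leaf 790)))) (.node (.node (.node (.leaf 43) (.leaf 385)) (.node (.leaf 597) (.leaf 781))) (.node (.node (.leaf 206) (.leaf 645)) (.node (.leaf 739) (.leaf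 942)))))) (.node (.node (.node (.node (.node (.leaf 60) (.leaf 402)) (.node (.leaf 212) (.leaf 600))) (.node (.node (.leaf 80) (.leaf 474)) (.node (.leaf 449) (.leaf 698)))) (.node (.node (.node (.leaf 194) (.leaf 823)) (.node (.leaf 457) (.leaf 978))) (.node (.node (.leaf 98) (.leaf 885)) (.node (.leaf 723) (.leaf 825))))) (.node (.node (.node (.node (.leaf 132) (.leaf 819)) (.node (.leaf 153) (.leaf 599))) (.node (.node (.leaf 81) (.leaf 593)) (.node (.leaf 356) (.leaf 857)))) (.node (.node (.node (.leaf 49) (.leaf 678)) (.node (.leaf 613) (.leaf 679))) (.node (.node (.leaf 172) (.leaf 589)) (.node (.leaf 281) (.leaf 926))))))) (.node (.node (.node (.node (.node (.node (.leaf 41) (.leaf 782)) (.node (.leaf 493) (.leaf 922))) (.node (.node (.leaf 241) (.leaf 869)) (.node (.leaf 436) (.leaf 777)))) (.node (.node (.node (.leaf 154) (.leaf 355)) (.node (.leaf 168) (.leaf 988))) (.node (.node (.leaf 93) (.leaf 569))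 (.node (.leaf 269) (.leaf 1019))))) (.node (.node (.node (.node (.leaf 18) (.leaf 718)) (.node (.leaf 531) (.leaf 865))) (.node (.node (.leaf 350) (.leaf 445)) (.node (.leaf 676) (.leaf 831)))) (.node (.node (.node (.leaf 236) (.leaf 699)) (.node (.leaf 198) (.leaf 659))) (.node (.node (.leaf 182) (.leaf 498)) (.node (.leaf 742) (.leaf 946)))))) (.node (.node (.node (.node (.node (.leaf 65) (.leaf 323)) (.node (.leaf 141) (.leaf 547))) (.node (.node (.leaf 312) (.leaf 890)) (.node (.leaf 657) (.leaf 708)))) (.node (.node (.node (.leaf 38) (.leaf 765)) (.node (.leaf 193) (.leaf 644))) (.node (.node (.leaf 413) (.leaf 483)) (.node (.leaf 274) (.leaf 989))))) (.node (.node (.node (.node (.leaf 146) (.leaf 348)) (.node (.leaf 550) (.leaf 943))) (.node (.node (.leaf 374) (.leaf 580)) (.node (.leaf 244) (.leaf 773)))) (.node (.node (.node (.leaf 252) (.leaf 733)) (.node (.leaf 616) (.leaf 716))) (.node (.node (.leaf 425)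 (.leaf 898)) (.node (.leaf 324) (.leaf 968))))))))))

def twoNext6 : Janko.Tree (ℕ) :=
  (.node (.node (.node (.node (.node (.node (.node (.node (.node (.leaf 6) (.leaf 765)) (.node (.leaf 121) (.leaf 626))) (.node (.node (.leaf 273) (.leaf 404)) (.node (.leaf 199) (.leaf 1009)))) (.node (.node (.node (.leaf 25) (.leaf 831)) (.node (.leaf 158) (.leaf 581))) (.node (.node (.leaf 96) (.leaf 925)) (.node (.leaf 694) (.leaf 774))))) (.node (.node (.node (.node (.leaf 83) (.leaf 314)) (.node (.leaf 510) (.leaf 548))) (.node (.node (.leaf 70) (.leaf 428)) (.node (.leaf 659) (.leaf 1018)))) (.node (.node (.node (.leaf 214) (.leaf 850)) (.node (.leaf 590) (.leaf 647))) (.node (.node (.leaf 416) (.leaf 485)) (.node (.leaf 264) (.leaf 869)))))) (.node (.node (.node (.node (.node (.leaf 46) (.leaf 306)) (.node (.leaf 129) (.leaf 530))) (.node (.node (.leaf 297) (.leaf 594)) (.node (.leaf 639) (.leaf 692)))) (.node (.node (.node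 (.leaf 184) (.leaf 357)) (.node (.leaf 568) (.leaf 606))) (.node (.node (.leaf 94) (.leaf 936)) (.node (.leaf 716) (.leaf 841))))) (.node (.node (.node (.node (.leaf 120) (.leaf 775)) (.node (.leaf 533) (.leaf 564))) (.node (.node (.leaf 78) (.leaf 443)) (.node (.leaf 234) (.leaf 744)))) (.node (.node (.node (.leaf 235) (.leaf 722)) (.node (.leaf 188) (.leaf 842))) (.node (.node (.leaf 441) (.leaf 499)) (.node (.leaf 275) (.leaf 897))))))) (.node (.node (.node (.node (.node (.node (.leaf 27) (.leaf 772)) (.node (.leaf 483) (.leaf 927))) (.node (.node (.leaf 269) (.leaf 411)) (.node (.leaf 207) (.leaf 826)))) (.node (.node (.node (.leaf 28) (.leaf 349)) (.node (.leaf 165) (.leaf 977))) (.node (.node (.leaf 90) (.leaf 930)) (.node (.leaf 254) (.leaf 794))))) (.node (.node (.node (.node (.leaf 100) (.leaf 328)) (.node (.leaf 145) (.leaf 557))) (.node (.node (.leaf 74) (.leaf 901)) (.node (.leaf 670) (.leaf 1021))))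 (.node (.node (.node (.leaf 226) (.leaf 825)) (.node (.leaf 599) (.leaf 996))) (.node (.node (.leaf 431) (.leaf 946)) (.node (.leaf 268) (.leaf 882)))))) (.node (.node (.node (.node (.node (.leaf 65) (.leaf 312)) (.node (.leaf 133) (.leaf 971))) (.node (.node (.leaf 66) (.leaf 422)) (.node (.leaf 221) (.leaf 699)))) (.node (.node (.node (.leaf 42) (.leaf 847)) (.node (.leaf 178) (.leaf 933))) (.node (.node (.leaf 99) (.leaf 477)) (.node (.leaf 725) (.leaf 836))))) (.node (.node (.node (.node (.leaf 22) (.leaf 339)) (.node (.leaf 544) (.leaf 617))) (.node (.node (.leaf 364) (.leaf 917)) (.node (.leaf 241) (.leaf 755)))) (.node (.node (.node (.leaf 257) (.leaf 391)) (.node (.leaf 192) (.leaf 1005))) (.node (.node (.leaf 456) (.leaf 507)) (.node (.leaf 283) (.leaf 967)))))))) (.node (.node (.node (.node (.node (.node (.node (.leaf 16) (.leaf 292)) (.node (.leaf 476) (.leaf 522))) (.node (.node (.leaf 281) (.leaf 407))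 (.node (.leaf 203) (.leaf 681)))) (.node (.node (.node (.leaf 26) (.leaf 833)) (.node (.leaf 556) (.leaf 587))) (.node (.node (.leaf 88) (.leaf 588)) (.node (.leaf 247) (.leaf 811))))) (.node (.node (.node (.node (.leaf 93) (.leaf 318)) (.node (.leaf 140) (.leaf 637))) (.node (.node (.leaf 329) (.leaf 899)) (.node (.leaf 228) (.leaf 857)))) (.node (.node (.node (.leaf 198) (.leaf 758)) (.node (.leaf 593) (.leaf 993))) (.node (.node (.leaf 107) (.leaf 488)) (.node (.leaf 737) (.leaf 875)))))) (.node (.node (.node (.node (.node (.leaf 55) (.leaf 305)) (.node (.leaf 131) (.leaf 968))) (.node (.node (.leaf 304) (.leaf 512)) (.node (.leaf 216) (.leaf 697)))) (.node (.node (.node (.leaf 34) (.leaf 823)) (.node (.leaf 171) (.leaf 619))) (.node (.node (.leaf 398) (.leaf 473)) (.node (.leaf 719) (.leaf 819))))) (.node (.node (.node (.node (.leaf 126) (.leaf 333)) (.node (.leaf 152) (.leaf 628))) (.node (.node (.leaf 80) (.leaf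 450)) (.node (.leaf 682) (.leaf 749)))) (.node (.node (.node (.leaf 250) (.leaf 860)) (.node (.leaf 611) (.leaf 1003))) (.node (.node (.leaf 115) (.leaf 502)) (.node (.leaf 279) (.leaf 907))))))) (.node (.node (.node (.node (.node (.node (.leaf 36) (.leaf 779)) (.node (.leaf 137) (.leaf 532))) (.node (.node (.leaf 60) (.leaf 876)) (.node (.leaf 210) (.leaf 992)))) (.node (.node (.node (.leaf 175) (.leaf 351)) (.node (.leaf 565) (.leaf 598))) (.node (.node (.leaf 92) (.leaf 932)) (.node (.leaf 711) (.leaf 797))))) (.node (.node (.node (.node (.leaf 110) (.leaf 809)) (.node (.leaf 526) (.leaf 560))) (.node (.node (.leaf 344) (.leaf 438)) (.node (.leaf 358) (.leaf 728)))) (.node (.node (.node (.leaf 232) (.leaf 382)) (.node (.leaf 603) (.leaf 756))) (.node (.node (.leaf 111) (.leaf 949)) (.node (.leaf 664) (.leaf 889)))))) (.node (.node (.node (.node (.node (.leaf 10) (.leaf 311)) (.node (.leaf 135) (.leaf 973))) (.node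 (.node (.leaf 319) (.leaf 888)) (.node (.leaf 652) (.leaf 705)))) (.node (.node (.node (.leaf 37) (.leaf 368)) (.node (.leaf 585) (.leaf 986))) (.node (.node (.leaf 409) (.leaf 500)) (.node (.leaf 729) (.leaf 863))))) (.node (.node (.node (.node (.leaf 130) (.leaf 828)) (.node (.leaf 470) (.leaf 576))) (.node (.node (.leaf 371) (.leaf 920)) (.node (.leaf 691) (.leaf 854)))) (.node (.node (.node (.leaf 266) (.leaf 805)) (.node (.leaf 538) (.leaf 1007))) (.node (.node (.leaf 119) (.leaf 513)) (.node (.leaf 286) (.leaf 937))))))))) (.node (.node (.node (.node (.node (.node (.node (.node (.leaf 0) (.leaf 766)) (.node (.leaf 471) (.leaf 519))) (.node (.node (.leaf 277) (.leaf 752)) (.node (.leaf 627) (.leaf 677)))) (.node (.node (.node (.leaf 154) (.leaf 832)) (.node (.leaf 554) (.leaf 642))) (.node (.node (.leaf 87) (.leaf 926)) (.node (.leaf 695) (.leaf 780))))) (.node (.node (.node (.node (.leaf 12) (.leaf 316)) (.node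 (.leaf 514) (.leaf 975))) (.node (.node (.leaf 71) (.leaf 430)) (.node (.leaf 227) (.leaf 1020)))) (.node (.node (.node (.leaf 217) (.leaf 373)) (.node (.leaf 179) (.leaf 994))) (.node (.node (.leaf 419) (.leaf 632)) (.node (.leaf 265) (.leaf 871)))))) (.node (.node (.node (.node (.node (.leaf 50) (.leaf 720)) (.node (.leaf 497) (.leaf 624))) (.node (.node (.leaf 302) (.leaf 417)) (.node (.leaf 640) (.leaf 1016)))) (.node (.node (.node (.leaf 33) (.leaf 843)) (.node (.leaf 569) (.leaf 614))) (.node (.node (.leaf 95) (.leaf 916)) (.node (.leaf 255) (.leaf 815))))) (.node (.node (.node (.node (.leaf 123) (.leaf 331)) (.node (.leaf 151) (.leaf 981))) (.node (.node (.leaf 355) (.leaf 445)) (.node (.leaf 680) (.leaf 864)))) (.node (.node (.node (.leaf 245) (.leaf 387)) (.node (.leaf 189) (.leaf 662))) (.node (.node (.leaf 444) (.leaf 953)) (.node (.leaf 753) (.leaf 900))))))) (.node (.node (.node (.node (.node (.node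 (.leaf 31) (.leaf 299)) (.node (.leaf 487) (.leaf 525))) (.node (.node (.leaf 59) (.leaf 872)) (.node (.leaf 635) (.leaf 1013)))) (.node (.node (.node (.leaf 170) (.leaf 837)) (.node (.leaf 563) (.leaf 595))) (.node (.node (.leaf 389) (.leaf 463)) (.node (.leaf 334) (.leaf 793))))) (.node (.node (.node (.node (.leaf 104) (.leaf 808)) (.node (.leaf 523) (.leaf 965))) (.node (.node (.leaf 341) (.leaf 902)) (.node (.leaf 231) (.leaf 730)))) (.node (.node (.node (.leaf 229) (.leaf 853)) (.node (.leaf 550) (.leaf 997))) (.node (.node (.leaf 113) (.leaf 494)) (.node (.leaf 742) (.leaf 885)))))) (.node (.node (.node (.node (.node (.leaf 9) (.leaf 310)) (.node (.leaf 505) (.leaf 543))) (.node (.node (.leaf 315) (.leaf 423)) (.node (.leaf 649) (.leaf 712)))) (.node (.node (.node (.leaf 182) (.leaf 365)) (.node (.leaf 446) (.leaf 990))) (.node (.node (.leaf 102) (.leaf 480)) (.node (.leaf 676) (.leaf 838))))) (.node (.node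 (.node (.node (.leaf 139) (.leaf 824)) (.node (.leaf 155) (.leaf 575))) (.node (.node (.leaf 362) (.leaf 921)) (.node (.leaf 689) (.leaf 858)))) (.node (.node (.node (.leaf 51) (.leaf 395)) (.node (.leaf 616) (.leaf 672))) (.node (.node (.leaf 118) (.leaf 898)) (.node (.leaf 761) (.leaf 954)))))))) (.node (.node (.node (.node (.node (.node (.node (.leaf 23) (.leaf 771)) (.node (.leaf 474) (.leaf 561))) (.node (.node (.leaf 285) (.leaf 865)) (.node (.leaf 633) (.leaf 684)))) (.node (.node (.node (.leaf 163) (.leaf 714)) (.node (.leaf 162) (.leaf 591))) (.node (.node (.leaf 385) (.leaf 461)) (.node (.leaf 704) (.leaf 1017))))) (.node (.node (.node (.node (.leaf 86) (.leaf 806)) (.node (.leaf 143) (.leaf 978))) (.node (.node (.leaf 332) (.leaf 440)) (.node (.leaf 667) (.leaf 788)))) (.node (.node (.node (.leaf 220) (.leaf 376)) (.node (.leaf 183) (.leaf 995))) (.node (.node (.leaf 427) (.leaf 918)) (.node (.leaf 267)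 (.leaf 879)))))) (.node (.node (.node (.node (.node (.leaf 7) (.leaf 400)) (.node (.leaf 501) (.leaf 542))) (.node (.node (.leaf 307) (.leaf 424)) (.node (.leaf 645) (.leaf 812)))) (.node (.node (.node (.leaf 195) (.leaf 361)) (.node (.leaf 578) (.leaf 622))) (.node (.node (.leaf 402) (.leaf 940)) (.node (.leaf 259) (.leaf 822))))) (.node (.node (.node (.node (.leaf 21) (.leaf 338)) (.node (.leaf 541) (.leaf 597))) (.node (.node (.leaf 359) (.leaf 451)) (.node (.leaf 238) (.leaf 862)))) (.node (.node (.node (.leaf 253) (.leaf 390)) (.node (.leaf 191) (.leaf 1002))) (.node (.node (.leaf 453) (.leaf 503)) (.node (.leaf 759) (.leaf 911))))))) (.node (.node (.node (.node (.node (.node (.leaf 4) (.leaf 783)) (.node (.leaf 128) (.leaf 527))) (.node (.node (.leaf 295) (.leaf 418)) (.node (.leaf 472) (.leaf 1015)))) (.node (.node (.node (.leaf 30) (.leaf 839)) (.node (.leaf 528) (.leaf 601))) (.node (.node (.leaf 393) (.leaf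 469)) (.node (.leaf 715) (.leaf 803))))) (.node (.node (.node (.node (.leaf 114) (.leaf 326)) (.node (.leaf 148) (.leaf 979))) (.node (.node (.leaf 77) (.leaf 868)) (.node (.leaf 233) (.leaf 735)))) (.node (.node (.node (.leaf 237) (.leaf 856)) (.node (.leaf 600) (.leaf 999))) (.node (.node (.leaf 112) (.leaf 596)) (.node (.leaf 272) (.leaf 893)))))) (.node (.node (.node (.node (.node (.leaf 11) (.leaf 795)) (.node (.leaf 136) (.leaf 584))) (.node (.node (.leaf 72) (.leaf 426)) (.node (.leaf 224) (.leaf 777)))) (.node (.node (.node (.leaf 211) (.leaf 388)) (.node (.leaf 589) (.leaf 989))) (.node (.node (.leaf 414) (.leaf 943)) (.node (.leaf 726) (.leaf 895))))) (.node (.node (.node (.node (.leaf 24) (.leaf 827)) (.node (.leaf 157) (.leaf 577))) (.node (.node (.leaf 375) (.leaf 924)) (.node (.leaf 654) (.leaf 816)))) (.node (.node (.node (.leaf 58) (.leaf 401)) (.node (.leaf 196) (.leaf 991))) (.node (.node (.leaf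 467) (.leaf 516)) (.node (.leaf 360) (.leaf 952))))))))))

def twoNext7 : Janko.Tree (ℕ) :=
  (.node (.node (.node (.node (.node (.node (.node (.node (.node (.leaf 7) (.leaf 290)) (.node (.leaf 470) (.leaf 533))) (.node (.node (.leaf 274) (.leaf 796)) (.node (.leaf 623) (.leaf 676)))) (.node (.node (.node (.leaf 152) (.leaf 342)) (.node (.leaf 553) (.leaf 944))) (.node (.node (.leaf 85) (.leaf 605)) (.node (.leaf 327) (.leaf 1004))))) (.node (.node (.node (.node (.leaf 84) (.leaf 347)) (.node (.leaf 200) (.leaf 875))) (.node (.node (.leaf 326) (.leaf 893)) (.node (.leaf 398) (.leaf 711)))) (.node (.node (.node (.leaf 165) (.leaf 775)) (.node (.leaf 441) (.leaf 646))) (.node (.node (.leaf 206) (.leaf 909)) (.node (.leaf 733) (.leaf 866)))))) (.node (.node (.node (.node (.node (.leaf 5) (.leaf 302)) (.node (.leaf 496) (.leaf 954))) (.node (.node (.leaf 62) (.leaf 629)) (.node (.leaf 214) (.leaf 806)))) (.node (.node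 (.node (.leaf 31) (.leaf 842)) (.node (.leaf 439) (.leaf 990))) (.node (.node (.leaf 396) (.leaf 872)) (.node (.leaf 329) (.leaf 1015))))) (.node (.node (.node (.node (.leaf 18) (.leaf 373)) (.node (.leaf 510) (.leaf 981))) (.node (.node (.leaf 354) (.leaf 908)) (.node (.leaf 679) (.leaf 832)))) (.node (.node (.node (.leaf 46) (.leaf 858)) (.node (.leaf 607) (.leaf 860))) (.node (.node (.leaf 138) (.leaf 952)) (.node (.leaf 749) (.leaf 949))))))) (.node (.node (.node (.node (.node (.node (.leaf 2) (.leaf 297)) (.node (.leaf 124) (.leaf 914))) (.node (.node (.leaf 57) (.leaf 869)) (.node (.leaf 420) (.leaf 736)))) (.node (.node (.node (.leaf 168) (.leaf 836)) (.node (.leaf 465) (.leaf 613))) (.node (.node (.leaf 388) (.leaf 462)) (.node (.leaf 249) (.leaf 790))))) (.node (.node (.node (.node (.leaf 101) (.leaf 321)) (.node (.leaf 521) (.leaf 915))) (.node (.node (.leaf 338) (.leaf 436)) (.node (.leaf 397) (.leaf 722))))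 (.node (.node (.node (.leaf 43) (.leaf 805)) (.node (.leaf 600) (.leaf 795))) (.node (.node (.leaf 432) (.leaf 493)) (.node (.leaf 307) (.leaf 958)))))) (.node (.node (.node (.node (.node (.leaf 66) (.leaf 309)) (.node (.leaf 156) (.leaf 539))) (.node (.node (.leaf 312) (.leaf 886)) (.node (.leaf 647) (.leaf 848)))) (.node (.node (.node (.leaf 35) (.leaf 402)) (.node (.leaf 173) (.leaf 624))) (.node (.node (.leaf 406) (.leaf 573)) (.node (.leaf 726) (.leaf 829))))) (.node (.node (.node (.node (.leaf 137) (.leaf 823)) (.node (.leaf 509) (.leaf 938))) (.node (.node (.leaf 365) (.leaf 578)) (.node (.leaf 353) (.leaf 788)))) (.node (.node (.node (.leaf 258) (.leaf 660)) (.node (.leaf 419) (.leaf 767))) (.node (.node (.leaf 457) (.leaf 931)) (.node (.leaf 308) (.leaf 932)))))))) (.node (.node (.node (.node (.node (.node (.node (.leaf 17) (.leaf 770)) (.node (.leaf 477) (.leaf 960))) (.node (.node (.leaf 55) (.leaf 808))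 (.node (.leaf 429) (.leaf 771)))) (.node (.node (.node (.leaf 159) (.leaf 741)) (.node (.leaf 557) (.leaf 597))) (.node (.node (.leaf 384) (.leaf 458)) (.node (.leaf 701) (.leaf 783))))) (.node (.node (.node (.node (.leaf 13) (.leaf 803)) (.node (.leaf 518) (.leaf 617))) (.node (.node (.leaf 97) (.leaf 431)) (.node (.leaf 663) (.leaf 717)))) (.node (.node (.node (.leaf 41) (.leaf 841)) (.node (.leaf 594) (.leaf 649))) (.node (.node (.leaf 424) (.leaf 581)) (.node (.leaf 687) (.leaf 974)))))) (.node (.node (.node (.node (.node (.leaf 56) (.leaf 769)) (.node (.leaf 500) (.leaf 535))) (.node (.node (.leaf 282) (.leaf 882)) (.node (.leaf 644) (.leaf 831)))) (.node (.node (.node (.leaf 193) (.leaf 837)) (.node (.leaf 575) (.leaf 978))) (.node (.node (.leaf 276) (.leaf 939)) (.node (.leaf 720) (.leaf 817))))) (.node (.node (.node (.node (.leaf 127) (.leaf 819)) (.node (.leaf 537) (.leaf 870))) (.node (.node (.leaf 358)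 (.leaf 448)) (.node (.leaf 683) (.leaf 1009)))) (.node (.node (.node (.leaf 48) (.leaf 657)) (.node (.leaf 561) (.leaf 682))) (.node (.node (.leaf 450) (.leaf 911)) (.node (.leaf 317) (.leaf 947))))))) (.node (.node (.node (.node (.node (.node (.leaf 37) (.leaf 300)) (.node (.leaf 126) (.leaf 526))) (.node (.node (.leaf 294) (.leaf 877)) (.node (.leaf 425) (.leaf 737)))) (.node (.node (.node (.leaf 176) (.leaf 359)) (.node (.leaf 167) (.leaf 918))) (.node (.node (.leaf 232) (.leaf 933)) (.node (.leaf 712) (.leaf 826))))) (.node (.node (.node (.node (.leaf 16) (.leaf 325)) (.node (.leaf 504) (.leaf 979))) (.node (.node (.leaf 345) (.leaf 568)) (.node (.leaf 389) (.leaf 828)))) (.node (.node (.node (.leaf 93) (.leaf 855)) (.node (.leaf 185) (.leaf 653))) (.node (.node (.leaf 438) (.leaf 497)) (.node (.leaf 745) (.leaf 987)))))) (.node (.node (.node (.node (.node (.leaf 76) (.leaf 794)) (.node (.leaf 508) (.leaf 574)))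 (.node (.node (.leaf 320) (.leaf 430)) (.node (.leaf 392) (.leaf 852)))) (.node (.node (.node (.leaf 109) (.leaf 705)) (.node (.leaf 586) (.leaf 878))) (.node (.node (.leaf 103) (.leaf 481)) (.node (.leaf 261) (.leaf 847))))) (.node (.node (.node (.node (.leaf 23) (.leaf 729)) (.node (.leaf 501) (.leaf 985))) (.node (.node (.leaf 83) (.leaf 453)) (.node (.leaf 243) (.leaf 799)))) (.node (.node (.node (.leaf 52) (.leaf 399)) (.node (.leaf 619) (.leaf 673))) (.node (.node (.leaf 466) (.leaf 590)) (.node (.leaf 313) (.leaf 966))))))))) (.node (.node (.node (.node (.node (.node (.node (.node (.leaf 12) (.leaf 291)) (.node (.leaf 464) (.leaf 901))) (.node (.node (.leaf 278) (.leaf 659)) (.node (.leaf 558) (.leaf 820)))) (.node (.node (.node (.leaf 155) (.leaf 731)) (.node (.leaf 538) (.leaf 582))) (.node (.node (.leaf 382) (.leaf 615)) (.node (.leaf 696) (.leaf 1008))))) (.node (.node (.node (.node (.leaf 89) (.leaf 800))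 (.node (.leaf 515) (.leaf 549))) (.node (.node (.leaf 328) (.leaf 896)) (.node (.leaf 377) (.leaf 761)))) (.node (.node (.node (.leaf 40) (.leaf 816)) (.node (.leaf 592) (.leaf 734))) (.node (.node (.leaf 211) (.leaf 934)) (.node (.leaf 654) (.leaf 936)))))) (.node (.node (.node (.node (.node (.leaf 51) (.leaf 755)) (.node (.leaf 475) (.leaf 967))) (.node (.node (.leaf 63) (.leaf 643)) (.node (.leaf 215) (.leaf 809)))) (.node (.node (.node (.leaf 189) (.leaf 779)) (.node (.leaf 570) (.leaf 926))) (.node (.node (.leaf 227) (.leaf 930)) (.node (.leaf 718) (.leaf 813))))) (.node (.node (.node (.node (.leaf 19) (.leaf 815)) (.node (.leaf 489) (.leaf 565))) (.node (.node (.leaf 356) (.leaf 912)) (.node (.leaf 664) (.leaf 1013)))) (.node (.node (.node (.leaf 47) (.leaf 859)) (.node (.leaf 528) (.leaf 1002))) (.node (.node (.leaf 445) (.leaf 531)) (.node (.leaf 684) (.leaf 946))))))) (.node (.node (.node (.node (.node (.node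 (.leaf 32) (.leaf 776)) (.node (.leaf 488) (.leaf 595))) (.node (.node (.leaf 292) (.leaf 412)) (.node (.leaf 516) (.leaf 742)))) (.node (.node (.node (.leaf 171) (.leaf 350)) (.node (.leaf 166) (.leaf 962))) (.node (.node (.leaf 91) (.leaf 471)) (.node (.leaf 671) (.leaf 994))))) (.node (.node (.node (.node (.leaf 105) (.leaf 324)) (.node (.leaf 146) (.leaf 891))) (.node (.node (.leaf 75) (.leaf 437)) (.node (.leaf 334) (.leaf 725)))) (.node (.node (.node (.leaf 44) (.leaf 381)) (.node (.leaf 199) (.leaf 801))) (.node (.node (.leaf 110) (.leaf 948)) (.node (.leaf 710) (.leaf 983)))))) (.node (.node (.node (.node (.node (.leaf 72) (.leaf 793)) (.node (.leaf 148) (.leaf 873))) (.node (.node (.leaf 67) (.leaf 887)) (.node (.leaf 222) (.leaf 702)))) (.node (.node (.node (.leaf 203) (.leaf 699)) (.node (.leaf 545) (.leaf 627))) (.node (.node (.leaf 407) (.leaf 579)) (.node (.leaf 275) (.leaf 1005))))) (.node (.node (.node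 (.node (.leaf 140) (.leaf 704)) (.node (.leaf 446) (.leaf 572))) (.node (.node (.leaf 82) (.leaf 603)) (.node (.leaf 242) (.leaf 786)))) (.node (.node (.node (.leaf 263) (.leaf 838)) (.node (.leaf 584) (.leaf 811))) (.node (.node (.leaf 463) (.leaf 511)) (.node (.leaf 404) (.leaf 927)))))))) (.node (.node (.node (.node (.node (.node (.node (.leaf 1) (.leaf 295)) (.node (.leaf 123) (.leaf 609))) (.node (.node (.leaf 286) (.leaf 409)) (.node (.leaf 415) (.leaf 732)))) (.node (.node (.node (.leaf 164) (.leaf 346)) (.node (.leaf 449) (.leaf 984))) (.node (.node (.leaf 363) (.leaf 929)) (.node (.leaf 248) (.leaf 787))))) (.node (.node (.node (.node (.leaf 14) (.leaf 319)) (.node (.leaf 519) (.leaf 554))) (.node (.node (.leaf 333) (.leaf 433)) (.node (.leaf 668) (.leaf 719)))) (.node (.node (.node (.leaf 221) (.leaf 707)) (.node (.leaf 589) (.leaf 650))) (.node (.node (.leaf 108) (.leaf 898)) (.node (.leaf 740) (.leaf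 988)))))) (.node (.node (.node (.node (.node (.leaf 61) (.leaf 789)) (.node (.leaf 132) (.leaf 536))) (.node (.node (.leaf 287) (.leaf 421)) (.node (.leaf 219) (.leaf 1006)))) (.node (.node (.node (.leaf 196) (.leaf 846)) (.node (.leaf 172) (.leaf 621))) (.node (.node (.leaf 403) (.leaf 514)) (.node (.leaf 715) (.leaf 1003))))) (.node (.node (.node (.node (.leaf 133) (.leaf 336)) (.node (.leaf 542) (.leaf 569))) (.node (.node (.leaf 352) (.leaf 916)) (.node (.leaf 337) (.leaf 751)))) (.node (.node (.node (.leaf 254) (.leaf 818)) (.node (.leaf 614) (.leaf 667))) (.node (.node (.leaf 116) (.leaf 534)) (.node (.leaf 303) (.leaf 977))))))) (.node (.node (.node (.node (.node (.node (.leaf 42) (.leaf 784)) (.node (.leaf 494) (.leaf 965))) (.node (.node (.leaf 236) (.leaf 414)) (.node (.leaf 637) (.leaf 757)))) (.node (.node (.node (.leaf 180) (.leaf 840)) (.node (.leaf 190) (.leaf 989))) (.node (.node (.leaf 224) (.leaf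 935)) (.node (.leaf 251) (.leaf 996))))) (.node (.node (.node (.node (.leaf 115) (.leaf 694)) (.node (.leaf 503) (.leaf 563))) (.node (.node (.leaf 351) (.leaf 485)) (.node (.leaf 677) (.leaf 992)))) (.node (.node (.node (.leaf 238) (.leaf 385)) (.node (.leaf 186) (.leaf 862))) (.node (.node (.leaf 440) (.leaf 951)) (.node (.leaf 748) (.leaf 964)))))) (.node (.node (.node (.node (.node (.leaf 81) (.leaf 318)) (.node (.leaf 151) (.leaf 957))) (.node (.node (.leaf 69) (.leaf 459)) (.node (.leaf 391) (.leaf 1019)))) (.node (.node (.node (.leaf 212) (.leaf 369)) (.node (.leaf 175) (.leaf 640))) (.node (.node (.leaf 104) (.leaf 868)) (.node (.leaf 262) (.leaf 968))))) (.node (.node (.node (.node (.leaf 147) (.leaf 341)) (.node (.leaf 551) (.leaf 917))) (.node (.node (.leaf 376) (.leaf 454)) (.node (.leaf 266) (.leaf 850)))) (.node (.node (.node (.leaf 53) (.leaf 716)) (.node (.leaf 622) (.leaf 746))) (.node (.node (.leaf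 468) (.leaf 889)) (.node (.leaf 763) (.leaf 942))))))))))

def twoNext : Janko.Tree (ℕ) := (.node (.node (.node twoNext0 twoNext4) (.node twoNext2 twoNext6)) (.node (.node twoNext1 twoNext5) (.node twoNext3 twoNext7)))

def twoWord0 : Janko.Tree (ℕ) :=
  (.node (.node (.node (.node (.node (.node (.node (.leaf 1) (.leaf 271712545)) (.node (.leaf 16909091) (.leaf 4347405088))) (.node (.node (.leaf 1057568) (.leaf 320872754)) (.node (.leaf 19079459) (.leaf 69024743715)))) (.node (.node (.node (.leaf 70147) (.leaf 302133280)) (.node (.leaf 17969667) (.leaf 4834136578))) (.node (.node (.leaf 1192225) (.leaf 4328665138)) (.node (.leaf 270537266) (.leaf 73553486627))))) (.node (.node (.node (.node (.leaf 4627) (.leaf 287506946)) (.node (.leaf 16978451) (.leaf 4600176675))) (.node (.node (.leaf 1126913) (.leaf 4314042881)) (.node (.leaf 269615890) (.leaf 69258649635)))) (.node (.node (.node (.leaf 78115) (.leaf 305144608))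 (.node (.leaf 18886706) (.leaf 5133971969))) (.node (.node (.leaf 16850992) (.leaf 4331680258)) (.node (.leaf 270610992) (.leaf 1104345637665)))))) (.node (.node (.node (.node (.node (.leaf 4114) (.leaf 287318817)) (.node (.leaf 16921091) (.leaf 4597101059))) (.node (.node (.leaf 1122322) (.leaf 4313853984)) (.node (.leaf 20054305) (.leaf 69257532195)))) (.node (.node (.node (.leaf 74016) (.leaf 302194723)) (.node (.leaf 18879026) (.leaf 4851892786))) (.node (.node (.leaf 1249793) (.leaf 4329701907)) (.node (.leaf 270544946) (.leaf 73603752242))))) (.node (.node (.node (.node (.leaf 66050) (.leaf 302063651)) (.node (.leaf 17957650) (.leaf 4833022513))) (.node (.node (.leaf 1180419) (.leaf 4328595505)) (.node (.leaf 269627907) (.leaf 69307859506)))) (.node (.node (.node (.leaf 1053473) (.leaf 318898464)) (.node (.leaf 18952752) (.leaf 69022658848))) (.node (.node (.leaf 16855571) (.leaf 4345430307)) (.node (.leaf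 270737699) (.leaf 1104395899442))))))) (.node (.node (.node (.node (.node (.node (.leaf 274) (.leaf 287314482)) (.node (.leaf 16920608) (.leaf 4597093155))) (.node (.node (.leaf 1061153) (.leaf 4313850147)) (.node (.leaf 19935746) (.leaf 69040349984)))) (.node (.node (.node (.leaf 70435) (.leaf 302187009)) (.node (.leaf 18030883) (.leaf 4835115539))) (.node (.node (.leaf 1245697) (.leaf 4328718851)) (.node (.leaf 270541586) (.leaf 73570394162))))) (.node (.node (.node (.node (.leaf 4896) (.leaf 287514674)) (.node (.leaf 17957155) (.leaf 4615836210))) (.node (.node (.leaf 1179939) (.leaf 4314047234)) (.node (.leaf 269620003) (.leaf 69275230978)))) (.node (.node (.node (.leaf 1053186) (.leaf 305210114)) (.node (.leaf 18948896) (.leaf 69021610034))) (.node (.node (.leaf 16851730) (.leaf 4331798819)) (.node (.leaf 270733827) (.leaf 1104362541571)))))) (.node (.node (.node (.node (.node (.leaf 4384) (.leaf 287384353))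 (.node (.leaf 16974384) (.leaf 4598149680))) (.node (.node (.leaf 1122595) (.leaf 4313920001)) (.node (.leaf 269615395) (.leaf 69258519331)))) (.node (.node (.node (.leaf 74529) (.leaf 303182355)) (.node (.leaf 18883346) (.leaf 4884464178))) (.node (.node (.leaf 1253411) (.leaf 4329775139)) (.node (.leaf 270607136) (.leaf 77344158256))))) (.node (.node (.node (.node (.leaf 66307) (.leaf 302068226)) (.node (.leaf 17961763) (.leaf 4834009874))) (.node (.node (.leaf 1184306) (.leaf 4328657411)) (.node (.leaf 269689123) (.leaf 69526888739)))) (.node (.node (.node (.leaf 1056818) (.leaf 318910979)) (.node (.leaf 19075587) (.leaf 69022720770))) (.node (.node (.leaf 16908848) (.leaf 4346478883)) (.node (.leaf 271593986) (.leaf 1108121616914))))))))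

def twoWord1 : Janko.Tree (ℕ) :=
  (.node (.node (.node (.node (.node (.node (.node (.leaf 16) (.leaf 271712547)) (.node (.leaf 16912898) (.leaf 4347405089))) (.node (.node (.leaf 1057569) (.leaf 320873218)) (.node (.leaf 19079938) (.leaf 69024743955)))) (.node (.node (.node (.leaf 70162) (.leaf 302133283)) (.node (.leaf 17969682) (.leaf 4834140178))) (.node (.node (.leaf 1192227) (.leaf 4328665376)) (.node (.leaf 270537504) (.leaf 73553490434))))) (.node (.node (.node (.node (.leaf 4656) (.leaf 287506994)) (.node (.leaf 16978480) (.leaf 4600176690))) (.node (.node (.leaf 1126914) (.leaf 4314042882)) (.node (.leaf 269615904) (.leaf 69259501603)))) (.node (.node (.node (.leaf 78337) (.leaf 305144609)) (.node (.leaf 18886944) (.leaf 69021541155))) (.node (.node (.leaf 16850993) (.leaf 4331680274)) (.node (.leaf 270729730) (.leaf 1104345637667)))))) (.node (.node (.node (.node (.node (.leaf 4115) (.leaf 287318819))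 (.node (.leaf 16921106) (.leaf 4597154306))) (.node (.node (.leaf 1122323) (.leaf 4313853985)) (.node (.leaf 20054307) (.leaf 69257540098)))) (.node (.node (.node (.leaf 74019) (.leaf 303170066)) (.node (.leaf 18879264) (.leaf 4882301458))) (.node (.node (.leaf 1249794) (.leaf 4329701936)) (.node (.leaf 270545184) (.leaf 73603752737))))) (.node (.node (.node (.node (.leaf 66051) (.leaf 302063664)) (.node (.leaf 17957664) (.leaf 4833022514))) (.node (.node (.leaf 1180434) (.leaf 4328595506)) (.node (.leaf 269627922) (.leaf 69308781106)))) (.node (.node (.node (.leaf 1053475) (.leaf 318898465)) (.node (.leaf 19071490) (.leaf 69022658849))) (.node (.node (.leaf 16855600) (.leaf 4345430546)) (.node (.leaf 270738178) (.leaf 1104395903282))))))) (.node (.node (.node (.node (.node (.node (.leaf 275) (.leaf 287314723)) (.node (.leaf 16920611) (.leaf 4597100576))) (.node (.node (.leaf 1061155) (.leaf 4313850162)) (.node (.leaf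 19935762) (.leaf 69257527857)))) (.node (.node (.node (.leaf 73746) (.leaf 302187010)) (.node (.leaf 18031362) (.leaf 4835115568))) (.node (.node (.leaf 1245698) (.leaf 4328718867)) (.node (.leaf 270541587) (.leaf 73570394403))))) (.node (.node (.node (.node (.leaf 4897) (.leaf 287514915)) (.node (.leaf 17957170) (.leaf 4615840050))) (.node (.node (.leaf 1179954) (.leaf 4315021603)) (.node (.leaf 269627424) (.leaf 69275423235)))) (.node (.node (.node (.leaf 1053187) (.leaf 305266976)) (.node (.leaf 18948897) (.leaf 69021610272))) (.node (.node (.leaf 16851744) (.leaf 4331799059)) (.node (.leaf 270733842) (.leaf 1104362545202)))))) (.node (.node (.node (.node (.node (.leaf 4385) (.leaf 287384355)) (.node (.leaf 16974386) (.leaf 4598210595))) (.node (.node (.leaf 1122610) (.leaf 4313920002)) (.node (.leaf 269615410) (.leaf 69258523138)))) (.node (.node (.node (.leaf 74531) (.leaf 303182384)) (.node (.leaf 18883347)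 (.leaf 5102375427))) (.node (.node (.leaf 1253426) (.leaf 4329775154)) (.node (.leaf 270607137) (.leaf 77346119715))))) (.node (.node (.node (.node (.leaf 66322) (.leaf 302125570)) (.node (.leaf 17969184) (.leaf 4834009888))) (.node (.node (.leaf 1184544) (.leaf 4328657457)) (.node (.leaf 269689602) (.leaf 69526958610)))) (.node (.node (.node (.leaf 1057056) (.leaf 318910994)) (.node (.leaf 19075602) (.leaf 69024620577))) (.node (.node (.leaf 16908849) (.leaf 4346479122)) (.node (.leaf 271594002) (.leaf 1108136309296))))))))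

def twoWord2 : Janko.Tree (ℕ) :=
  (.node (.node (.node (.node (.node (.node (.node (.leaf 17) (.leaf 271712786)) (.node (.leaf 16912899) (.leaf 4347405091))) (.node (.node (.leaf 1057571) (.leaf 320873248)) (.node (.leaf 19931154) (.leaf 69024743984)))) (.node (.node (.node (.leaf 70163) (.leaf 302133298)) (.node (.leaf 17969683) (.leaf 4834140193))) (.node (.node (.leaf 1192449) (.leaf 4328665379)) (.node (.leaf 270537507) (.leaf 73553609266))))) (.node (.node (.node (.node (.leaf 4657) (.leaf 287511041)) (.node (.leaf 16982034) (.leaf 4600234272))) (.node (.node (.leaf 1126915) (.leaf 4314042883)) (.node (.leaf 269615907) (.leaf 69259501874)))) (.node (.node (.node (.leaf 78338) (.leaf 305148418)) (.node (.leaf 18886947) (.leaf 69021602354))) (.node (.node (.leaf 16850994) (.leaf 4331741202)) (.node (.leaf 270729731) (.leaf 1104345641474)))))) (.node (.node (.node (.node (.node (.leaf 4128) (.leaf 287322144))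 (.node (.leaf 16921107) (.leaf 4597162017))) (.node (.node (.leaf 1122337) (.leaf 4313854243)) (.node (.leaf 20054546) (.leaf 69257540144)))) (.node (.node (.node (.leaf 74034) (.leaf 303170067)) (.node (.leaf 18879267) (.leaf 4882313746))) (.node (.node (.leaf 1249795) (.leaf 4329713952)) (.node (.leaf 270545187) (.leaf 73603940914))))) (.node (.node (.node (.node (.leaf 66066) (.leaf 302063665)) (.node (.leaf 17957667) (.leaf 4833022752))) (.node (.node (.leaf 1180435) (.leaf 4328595747)) (.node (.leaf 269627923) (.leaf 69308784946)))) (.node (.node (.node (.leaf 1056786) (.leaf 318898467)) (.node (.leaf 19071491) (.leaf 69022659075))) (.node (.node (.leaf 16908576) (.leaf 4345434912)) (.node (.leaf 271589394) (.leaf 1104395903777))))))) (.node (.node (.node (.node (.node (.node (.leaf 288) (.leaf 287318307)) (.node (.leaf 16920626) (.leaf 4597100579))) (.node (.node (.leaf 1061377) (.leaf 4313850626)) (.node (.leaf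 19996690) (.leaf 69257527858)))) (.node (.node (.node (.leaf 73747) (.leaf 302187011)) (.node (.leaf 18878978) (.leaf 4850721059))) (.node (.node (.leaf 1245699) (.leaf 4328718896)) (.node (.leaf 270541600) (.leaf 73570394882))))) (.node (.node (.node (.node (.leaf 4899) (.leaf 287515394)) (.node (.leaf 17957394) (.leaf 4615840514))) (.node (.node (.leaf 1180178) (.leaf 4315021842)) (.node (.leaf 269627427) (.leaf 69275426866)))) (.node (.node (.node (.leaf 1053202) (.leaf 305266979)) (.node (.leaf 18948899) (.leaf 69021610275))) (.node (.node (.leaf 16851745) (.leaf 4331799088)) (.node (.leaf 270733843) (.leaf 1104362545443)))))) (.node (.node (.node (.node (.node (.leaf 4387) (.leaf 287388161)) (.node (.leaf 16974624) (.leaf 4598210851))) (.node (.node (.leaf 1123074) (.leaf 4313920003)) (.node (.leaf 269615634) (.leaf 69258641922)))) (.node (.node (.node (.leaf 77856) (.leaf 303243299)) (.node (.leaf 18883360)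 (.leaf 5102375443))) (.node (.node (.leaf 1253667) (.leaf 4329775395)) (.node (.leaf 270607139) (.leaf 77346243091))))) (.node (.node (.node (.node (.leaf 66323) (.leaf 302125571)) (.node (.leaf 17969187) (.leaf 4834009889))) (.node (.node (.leaf 1184545) (.leaf 4328657458)) (.node (.leaf 270537218) (.leaf 69558473504)))) (.node (.node (.node (.leaf 1057059) (.leaf 319947043)) (.node (.leaf 19075603) (.leaf 69024621345))) (.node (.node (.leaf 16908850) (.leaf 4346479154)) (.node (.leaf 271654930) (.leaf 1108138270755))))))))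

def twoWord3 : Janko.Tree (ℕ) :=
  (.node (.node (.node (.node (.node (.node (.node (.leaf 18) (.leaf 271712787)) (.node (.leaf 16912945) (.leaf 4347593266))) (.node (.node (.leaf 1060896) (.leaf 320873249)) (.node (.leaf 19931169) (.leaf 69024743986)))) (.node (.node (.node (.leaf 70192) (.leaf 302133536)) (.node (.leaf 17969712) (.leaf 4834140195))) (.node (.node (.leaf 1192450) (.leaf 4328665601)) (.node (.leaf 270541088) (.leaf 73553613314))))) (.node (.node (.node (.node (.leaf 4658) (.leaf 287511042)) (.node (.leaf 16982049) (.leaf 4600234275))) (.node (.node (.leaf 1126930) (.leaf 4314046482)) (.node (.leaf 269619714) (.leaf 69259502368)))) (.node (.node (.node (.leaf 78339) (.leaf 305148434)) (.node (.leaf 18887170) (.leaf 69021602592))) (.node (.node (.leaf 16851232) (.leaf 4331741217)) (.node (.leaf 270729778) (.leaf 1104345760306)))))) (.node (.node (.node (.node (.node (.leaf 4129) (.leaf 287322145))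 (.node (.leaf 16921136) (.leaf 4598149408))) (.node (.node (.leaf 1122339) (.leaf 4313854466)) (.node (.leaf 20054547) (.leaf 69257601057)))) (.node (.node (.node (.leaf 74498) (.leaf 303170096)) (.node (.leaf 18882848) (.leaf 4883350066))) (.node (.node (.leaf 1249810) (.leaf 4329713953)) (.node (.leaf 270545410) (.leaf 77328294691))))) (.node (.node (.node (.node (.leaf 66067) (.leaf 302063666)) (.node (.leaf 17961474) (.leaf 4833022755))) (.node (.node (.leaf 1180448) (.leaf 4328595762)) (.node (.leaf 269627952) (.leaf 69308785441)))) (.node (.node (.node (.leaf 1056787) (.leaf 318898706)) (.node (.leaf 19071538) (.leaf 69022659090))) (.node (.node (.leaf 16908577) (.leaf 4345434913)) (.node (.leaf 271589409) (.leaf 1104396091954))))))) (.node (.node (.node (.node (.node (.node (.leaf 289) (.leaf 287318322)) (.node (.leaf 16920864) (.leaf 4597100594))) (.node (.node (.leaf 1061378) (.leaf 4313850627)) (.node (.leaf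 19996705) (.leaf 69257528096)))) (.node (.node (.node (.leaf 73761) (.leaf 302187027)) (.node (.leaf 18878979) (.leaf 4850721538))) (.node (.node (.leaf 1245715) (.leaf 4328718898)) (.node (.leaf 270541601) (.leaf 73571369522))))) (.node (.node (.node (.node (.leaf 65824) (.leaf 288489763)) (.node (.leaf 17957395) (.leaf 4615840544))) (.node (.node (.leaf 1180179) (.leaf 4315021843)) (.node (.leaf 269627442) (.leaf 69275427107)))) (.node (.node (.node (.leaf 1053203) (.leaf 305267219)) (.node (.leaf 18952705) (.leaf 69021610497))) (.node (.node (.leaf 16851747) (.leaf 4331799090)) (.node (.leaf 270733872) (.leaf 1104362545922)))))) (.node (.node (.node (.node (.node (.leaf 4402) (.leaf 287388162)) (.node (.leaf 16974625) (.leaf 4598211330))) (.node (.node (.leaf 1123075) (.leaf 4313920018)) (.node (.leaf 269615635) (.leaf 69258641923)))) (.node (.node (.node (.leaf 77857) (.leaf 303243314)) (.node (.leaf 18883361)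 (.leaf 5102379299))) (.node (.node (.leaf 1254146) (.leaf 4329775874)) (.node (.leaf 270610945) (.leaf 77359886850))))) (.node (.node (.node (.node (.leaf 66336) (.leaf 302125617)) (.node (.leaf 17969202) (.leaf 4834009891))) (.node (.node (.leaf 1184547) (.leaf 4328657696)) (.node (.leaf 270537219) (.leaf 69558473505)))) (.node (.node (.node (.leaf 1057074) (.leaf 319947282)) (.node (.leaf 19075632) (.leaf 69024686098))) (.node (.node (.leaf 16909058) (.leaf 4347400707)) (.node (.leaf 271654945) (.leaf 1108138394131))))))))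

def twoWord4 : Janko.Tree (ℕ) :=
  (.node (.node (.node (.node (.node (.node (.node (.leaf 19) (.leaf 271712816)) (.node (.leaf 16912946) (.leaf 4597031715))) (.node (.node (.leaf 1060897) (.leaf 320873251)) (.node (.leaf 19931171) (.leaf 69024755747)))) (.node (.node (.node (.leaf 70193) (.leaf 302133539)) (.node (.leaf 18030610) (.leaf 4834992163))) (.node (.node (.leaf 1192451) (.leaf 4328665602)) (.node (.leaf 270541091) (.leaf 73553616914))))) (.node (.node (.node (.node (.leaf 4866) (.leaf 287511043)) (.node (.leaf 16982051) (.leaf 4600234515))) (.node (.node (.leaf 1126931) (.leaf 4314046497)) (.node (.leaf 269619761) (.leaf 69259624978)))) (.node (.node (.node (.leaf 78354) (.leaf 305209362)) (.node (.leaf 18887171) (.leaf 69021602593))) (.node (.node (.leaf 16851235) (.leaf 4331741219)) (.node (.leaf 270730016) (.leaf 1104345764354)))))) (.node (.node (.node (.node (.node (.leaf 4131) (.leaf 287322403))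 (.node (.leaf 16974337) (.leaf 4598149409))) (.node (.node (.leaf 1122352) (.leaf 4313916178)) (.node (.leaf 20054576) (.leaf 69258518563)))) (.node (.node (.node (.leaf 74499) (.leaf 303182112)) (.node (.leaf 18882851) (.leaf 4884271666))) (.node (.node (.leaf 1249811) (.leaf 4329714179)) (.node (.leaf 270545411) (.leaf 77328298498))))) (.node (.node (.node (.node (.leaf 66096) (.leaf 302063907)) (.node (.leaf 17961521) (.leaf 4833030658))) (.node (.node (.leaf 1180451) (.leaf 4328596256)) (.node (.leaf 269688850) (.leaf 69308785443)))) (.node (.node (.node (.leaf 1056801) (.leaf 318903072)) (.node (.leaf 19071776) (.leaf 69022659091))) (.node (.node (.leaf 16908579) (.leaf 4345442817)) (.node (.leaf 271589411) (.leaf 1108120445731))))))) (.node (.node (.node (.node (.node (.node (.leaf 291) (.leaf 287318786)) (.node (.leaf 16920865) (.leaf 4597100832))) (.node (.node (.leaf 1061379) (.leaf 4313850642)) (.node (.leaf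 19996707) (.leaf 69257528099)))) (.node (.node (.node (.leaf 73763) (.leaf 302187056)) (.node (.leaf 18878994) (.leaf 4850913795))) (.node (.node (.leaf 1245744) (.leaf 4328722946)) (.node (.leaf 270541603) (.leaf 73601778194))))) (.node (.node (.node (.node (.leaf 65825) (.leaf 288490002)) (.node (.leaf 17957424) (.leaf 4833018417))) (.node (.node (.leaf 1180208) (.leaf 4315021872)) (.node (.leaf 269627680) (.leaf 69275427586)))) (.node (.node (.node (.leaf 1053232) (.leaf 305267248)) (.node (.leaf 18952706) (.leaf 69021610498))) (.node (.node (.leaf 16855553) (.leaf 4331799331)) (.node (.leaf 270737426) (.leaf 1104363520562)))))) (.node (.node (.node (.node (.node (.leaf 4609) (.leaf 287388163)) (.node (.leaf 16978433) (.leaf 4600111137))) (.node (.node (.leaf 1123090) (.leaf 4313920019)) (.node (.leaf 269615664) (.leaf 69258641970)))) (.node (.node (.node (.leaf 77859) (.leaf 303243555)) (.node (.leaf 18883363)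 (.leaf 5102449170))) (.node (.node (.leaf 16850962) (.leaf 4331675681)) (.node (.leaf 270610946) (.leaf 77614620722))))) (.node (.node (.node (.node (.leaf 66337) (.leaf 302125618)) (.node (.leaf 17969440) (.leaf 4834013698))) (.node (.node (.leaf 1191968) (.leaf 4328657697)) (.node (.leaf 270537234) (.leaf 69558473507)))) (.node (.node (.node (.leaf 1057538) (.leaf 319947314)) (.node (.leaf 19079186) (.leaf 69024686113))) (.node (.node (.leaf 16909059) (.leaf 4347400723)) (.node (.leaf 271654947) (.leaf 1108152037890))))))))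

def twoWord5 : Janko.Tree (ℕ) :=
  (.node (.node (.node (.node (.node (.node (.node (.leaf 257) (.leaf 271712818)) (.node (.leaf 16913184) (.leaf 4597092914))) (.node (.node (.leaf 1060899) (.leaf 321061426)) (.node (.leaf 19931442) (.leaf 69040345650)))) (.node (.node (.node (.leaf 70194) (.leaf 302133761)) (.node (.leaf 18030625) (.leaf 4834992434))) (.node (.node (.leaf 1192466) (.leaf 4328665603)) (.node (.leaf 270541106) (.leaf 73553616931))))) (.node (.node (.node (.node (.leaf 4867) (.leaf 287514642)) (.node (.leaf 16982066) (.leaf 4600234544))) (.node (.node (.leaf 1126960) (.leaf 4314046499)) (.node (.leaf 269619762) (.leaf 69259624979)))) (.node (.node (.node (.leaf 78355) (.leaf 305209377)) (.node (.leaf 18948129) (.leaf 69021602595))) (.node (.node (.leaf 16851250) (.leaf 4331741234)) (.node (.leaf 270730017) (.leaf 1104345767954)))))) (.node (.node (.node (.node (.node (.leaf 4144) (.leaf 287322626))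 (.node (.leaf 16974338) (.leaf 4598149635))) (.node (.node (.leaf 1122353) (.leaf 4313916192)) (.node (.leaf 20054578) (.leaf 69258519314)))) (.node (.node (.node (.leaf 74514) (.leaf 303182113)) (.node (.leaf 18882866) (.leaf 4884275506))) (.node (.node (.leaf 1249840) (.leaf 4329714194)) (.node (.leaf 270606369) (.leaf 77328360227))))) (.node (.node (.node (.node (.leaf 66097) (.leaf 302063922)) (.node (.leaf 17961522) (.leaf 4833030704))) (.node (.node (.leaf 1184258) (.leaf 4328596259)) (.node (.leaf 269688865) (.leaf 69308973618)))) (.node (.node (.node (.leaf 1056803) (.leaf 318903073)) (.node (.leaf 19071777) (.leaf 69022659120))) (.node (.node (.leaf 16908594) (.leaf 4345442818)) (.node (.leaf 271589682) (.leaf 1108120449538))))))) (.node (.node (.node (.node (.node (.node (.leaf 304) (.leaf 287318787)) (.node (.leaf 16920867) (.leaf 4597100835))) (.node (.node (.leaf 1061394) (.leaf 4313850656)) (.node (.leaf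 19996722) (.leaf 69257531953)))) (.node (.node (.node (.leaf 73776) (.leaf 302187058)) (.node (.leaf 18878995) (.leaf 4850917426))) (.node (.node (.leaf 1245746) (.leaf 4328726561)) (.node (.leaf 270544928) (.leaf 73601790482))))) (.node (.node (.node (.node (.leaf 65827) (.leaf 288490003)) (.node (.leaf 17957425) (.leaf 4833018418))) (.node (.node (.leaf 1180209) (.leaf 4315021874)) (.node (.leaf 269627681) (.leaf 69276402226)))) (.node (.node (.node (.leaf 1053233) (.leaf 305267250)) (.node (.leaf 18952707) (.leaf 69021610499))) (.node (.node (.leaf 16855554) (.leaf 4331810851)) (.node (.leaf 270737441) (.leaf 1104393929234)))))) (.node (.node (.node (.node (.node (.leaf 4610) (.leaf 287388178)) (.node (.leaf 16978434) (.leaf 4600111905))) (.node (.node (.leaf 1123104) (.leaf 4313920048)) (.node (.leaf 269615665) (.leaf 69258646018)))) (.node (.node (.node (.leaf 77874) (.leaf 303244034)) (.node (.leaf 18886688)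 (.leaf 5133964064))) (.node (.node (.leaf 16850963) (.leaf 4331675683)) (.node (.leaf 270610947) (.leaf 77614690339))))) (.node (.node (.node (.node (.leaf 66339) (.leaf 302125856)) (.node (.leaf 17969441) (.leaf 4834132482))) (.node (.node (.leaf 1191971) (.leaf 4328657699)) (.node (.leaf 270537235) (.leaf 69558481409)))) (.node (.node (.node (.leaf 1057539) (.leaf 320868867)) (.node (.leaf 19079201) (.leaf 69024686115))) (.node (.node (.leaf 16909074) (.leaf 4347400754)) (.node (.leaf 271654962) (.leaf 1108406771762))))))))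

def twoWord6 : Janko.Tree (ℕ) :=
  (.node (.node (.node (.node (.node (.node (.node (.leaf 258) (.leaf 271713059)) (.node (.leaf 16913185) (.leaf 4597093152))) (.node (.node (.leaf 1060914) (.leaf 4313846322)) (.node (.leaf 19931936) (.leaf 69040349490)))) (.node (.node (.node (.leaf 70432) (.leaf 302133762)) (.node (.leaf 18030627) (.leaf 4834992928))) (.node (.node (.leaf 1192467) (.leaf 4328718849)) (.node (.leaf 270541570) (.leaf 73554592274))))) (.node (.node (.node (.node (.leaf 4882) (.leaf 287514657)) (.node (.leaf 16982307) (.leaf 4600234546))) (.node (.node (.leaf 1179936) (.leaf 4314046514)) (.node (.leaf 269620000) (.leaf 69259625008)))) (.node (.node (.node (.leaf 78384) (.leaf 305209379)) (.node (.leaf 18948131) (.leaf 69021610016))) (.node (.node (.leaf 16851714) (.leaf 4331741954)) (.node (.leaf 270733825) (.leaf 1104345767971)))))) (.node (.node (.node (.node (.node (.leaf 4145) (.leaf 287384338))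 (.node (.leaf 16974339) (.leaf 4598149650))) (.node (.node (.leaf 1122354) (.leaf 4313916193)) (.node (.leaf 20054819) (.leaf 69258519328)))) (.node (.node (.node (.leaf 74515) (.leaf 303182339)) (.node (.leaf 18883330) (.leaf 4884276001))) (.node (.node (.leaf 1253394) (.leaf 4329714195)) (.node (.leaf 270606371) (.leaf 77328364034))))) (.node (.node (.node (.node (.leaf 66098) (.leaf 302064416)) (.node (.leaf 17961760) (.leaf 4833091617))) (.node (.node (.leaf 1184259) (.leaf 4328600066)) (.node (.leaf 269688867) (.leaf 69526884867)))) (.node (.node (.node (.leaf 1056816) (.leaf 318910977)) (.node (.leaf 19075585) (.leaf 69022720035))) (.node (.node (.leaf 16908818) (.leaf 4345442819)) (.node (.leaf 271590176) (.leaf 1108120511267))))))) (.node (.node (.node (.node (.node (.node (.leaf 305) (.leaf 287318802)) (.node (.leaf 16921089) (.leaf 4597101057))) (.node (.node (.leaf 1061395) (.leaf 4313850657)) (.node (.leaf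 19997442) (.leaf 69257531954)))) (.node (.node (.node (.leaf 73777) (.leaf 302191106)) (.node (.leaf 18879024) (.leaf 4850917667))) (.node (.node (.leaf 1245984) (.leaf 4328726563)) (.node (.leaf 270544929) (.leaf 73602826802))))) (.node (.node (.node (.node (.leaf 65842) (.leaf 288490032)) (.node (.leaf 17957426) (.leaf 4833018656))) (.node (.node (.leaf 1180210) (.leaf 4328595491)) (.node (.leaf 269627905) (.leaf 69306810898)))) (.node (.node (.node (.leaf 1053234) (.leaf 305267491)) (.node (.leaf 18952722) (.leaf 69021663746))) (.node (.node (.leaf 16855555) (.leaf 4345430304)) (.node (.leaf 270737443) (.leaf 1104393941522)))))) (.node (.node (.node (.node (.node (.leaf 4611) (.leaf 287388179)) (.node (.leaf 16978435) (.leaf 4600176658))) (.node (.node (.leaf 1123105) (.leaf 4314038786)) (.node (.leaf 269615666) (.leaf 69258649618)))) (.node (.node (.node (.leaf 78112) (.leaf 305143841)) (.node (.leaf 18886689)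 (.leaf 5133964065))) (.node (.node (.leaf 16850977) (.leaf 4331676448)) (.node (.leaf 270610962) (.leaf 78116823331))))) (.node (.node (.node (.node (.leaf 70145) (.leaf 302125857)) (.node (.leaf 17969665) (.leaf 4834132483))) (.node (.node (.leaf 1191986) (.leaf 4328665120)) (.node (.leaf 270537264) (.leaf 73553486624)))) (.node (.node (.node (.leaf 1057554) (.leaf 320868883)) (.node (.leaf 19079203) (.leaf 69024686130))) (.node (.node (.leaf 16909075) (.leaf 4347404594)) (.node (.leaf 271655682) (.leaf 1108406841379))))))))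

def twoWord7 : Janko.Tree (ℕ) :=
  (.node (.node (.node (.node (.node (.node (.node (.leaf 259) (.leaf 271724579)) (.node (.leaf 16913187) (.leaf 4597093153))) (.node (.node (.leaf 1061152) (.leaf 4313846563)) (.node (.leaf 19931937) (.leaf 69040349954)))) (.node (.node (.node (.leaf 70433) (.leaf 302133763)) (.node (.leaf 18030642) (.leaf 4835115538))) (.node (.node (.leaf 1192496) (.leaf 4328718850)) (.node (.leaf 270541571) (.leaf 73570390531))))) (.node (.node (.node (.node (.leaf 4883) (.leaf 287514659)) (.node (.leaf 16982786) (.leaf 4600246307))) (.node (.node (.leaf 1179937) (.leaf 4314046755)) (.node (.leaf 269620001) (.leaf 69275230499)))) (.node (.node (.node (.leaf 1053185) (.leaf 305209394)) (.node (.leaf 18948882) (.leaf 69021610019))) (.node (.node (.leaf 16851715) (.leaf 4331798816)) (.node (.leaf 270733826) (.leaf 1104346743314)))))) (.node (.node (.node (.node (.node (.leaf 4146) (.leaf 287384352))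 (.node (.leaf 16974355) (.leaf 4598149651))) (.node (.node (.leaf 1122592) (.leaf 4313916195)) (.node (.leaf 20066339) (.leaf 69258519329)))) (.node (.node (.node (.leaf 74528) (.leaf 303182354)) (.node (.leaf 18883331) (.leaf 4884276003))) (.node (.node (.leaf 1253409) (.leaf 4329714224)) (.node (.leaf 270607122) (.leaf 77329465874))))) (.node (.node (.node (.node (.leaf 66306) (.leaf 302064419)) (.node (.leaf 17961761) (.leaf 4834009123))) (.node (.node (.leaf 1184305) (.leaf 4328657410)) (.node (.leaf 269688882) (.leaf 69526884883)))) (.node (.node (.node (.leaf 1056817) (.leaf 318910978)) (.node (.leaf 19075586) (.leaf 69022720291))) (.node (.node (.leaf 16908819) (.leaf 4345442834)) (.node (.leaf 271590177) (.leaf 1108120515074))))))) (.node (.node (.node (.node (.node (.node (.leaf 306) (.leaf 287318816)) (.node (.leaf 16921090) (.leaf 4597101058))) (.node (.node (.leaf 1061424) (.leaf 4313850659)) (.node (.leaf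 20054304) (.leaf 69257532192)))) (.node (.node (.node (.leaf 73778) (.leaf 302194721)) (.node (.leaf 18879025) (.leaf 4850918146))) (.node (.node (.leaf 1245985) (.leaf 4329701906)) (.node (.leaf 270544931) (.leaf 73603748402))))) (.node (.node (.node (.node (.leaf 66049) (.leaf 288490034)) (.node (.leaf 17957634) (.leaf 4833018659))) (.node (.node (.leaf 1180418) (.leaf 4328595504)) (.node (.leaf 269627906) (.leaf 69306823186)))) (.node (.node (.node (.leaf 1053472) (.leaf 305279011)) (.node (.leaf 18952723) (.leaf 69021671457))) (.node (.node (.leaf 16855570) (.leaf 4345430305)) (.node (.leaf 270737458) (.leaf 1104394977842)))))) (.node (.node (.node (.node (.node (.leaf 4626) (.leaf 287388208)) (.node (.leaf 16978450) (.leaf 4600176673))) (.node (.node (.leaf 1123107) (.leaf 4314038834)) (.node (.leaf 269615874) (.leaf 69258649633)))) (.node (.node (.node (.leaf 78113) (.leaf 305143843)) (.node (.leaf 18886691)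 (.leaf 5133964067))) (.node (.node (.leaf 16850979) (.leaf 4331676449)) (.node (.leaf 270610963) (.leaf 1104345637664))))) (.node (.node (.node (.node (.leaf 70146) (.leaf 302125859)) (.node (.leaf 17969666) (.leaf 4834132530))) (.node (.node (.leaf 1192224) (.leaf 4328665123)) (.node (.leaf 270537265) (.leaf 73553486625)))) (.node (.node (.node (.leaf 1057555) (.leaf 320868914)) (.node (.leaf 19079218) (.leaf 69024743712))) (.node (.node (.leaf 16909088) (.leaf 4347405058)) (.node (.leaf 271712544) (.leaf 1108908974371))))))))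

def twoWord : Janko.Tree (ℕ) := (.node (.node (.node twoWord0 twoWord4) (.node twoWord2 twoWord6)) (.node (.node twoWord1 twoWord5) (.node twoWord3 twoWord7)))

def twoPar0 : Janko.Tree (ℕ) :=
  (.node (.node (.node (.node (.node (.node (.node (.leaf 0) (.leaf 4641)) (.node (.leaf 1923) (.leaf 8272))) (.node (.node (.leaf 864) (.leaf 6450)) (.node (.leaf 3155) (.leaf 10803)))) (.node (.node (.node (.leaf 387) (.leaf 5472)) (.node (.leaf 2515) (.leaf 9266))) (.node (.node (.leaf 1361) (.leaf 7282)) (.node (.leaf 3906) (.leaf 12371))))) (.node (.node (.node (.node (.leaf 179) (.leaf 5010)) (.node (.leaf 2179) (.leaf 8755))) (.node (.node (.leaf 1121) (.leaf 6849)) (.node (.leaf 3602) (.leaf 11331)))) (.node (.node (.node (.leaf 611) (.leaf 5936)) (.node (.leaf 2818) (.leaf 10273))) (.node (.node (.leaf 1680) (.leaf 7746)) (.node (.leaf 4208) (.leaf 13857)))))) (.node (.node (.node (.node (.node (.leaf 82) (.leaf 4833))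 (.node (.leaf 2051) (.leaf 8435))) (.node (.node (.leaf 994) (.leaf 6640)) (.node (.leaf 3425) (.leaf 11059)))) (.node (.node (.node (.leaf 496) (.leaf 5683)) (.node (.leaf 2690) (.leaf 9634))) (.node (.node (.leaf 1505) (.leaf 7507)) (.node (.leaf 4034) (.leaf 12866))))) (.node (.node (.node (.node (.leaf 290) (.leaf 5283)) (.node (.leaf 2386) (.leaf 9025))) (.node (.node (.leaf 1235) (.leaf 7089)) (.node (.leaf 3731) (.leaf 11842)))) (.node (.node (.node (.leaf 737) (.leaf 6176)) (.node (.leaf 2992) (.leaf 10560))) (.node (.node (.leaf 1795) (.leaf 7971)) (.node (.leaf 4371) (.leaf 14338))))))) (.node (.node (.node (.node (.node (.node (.leaf 34) (.leaf 4738)) (.node (.leaf 1984) (.leaf 8371))) (.node (.node (.leaf 913) (.leaf 6563)) (.node (.leaf 3298) (.leaf 10960)))) (.node (.node (.node (.leaf 435) (.leaf 5585)) (.node (.leaf 2611) (.leaf 9459))) (.node (.node (.leaf 1441) (.leaf 7379)) (.node (.leaf 3986)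 (.leaf 12626))))) (.node (.node (.node (.node (.leaf 240) (.leaf 5122)) (.node (.leaf 2307) (.leaf 8882))) (.node (.node (.leaf 1171) (.leaf 6962)) (.node (.leaf 3667) (.leaf 11538)))) (.node (.node (.node (.leaf 690) (.leaf 6066)) (.node (.leaf 2944) (.leaf 10418))) (.node (.node (.leaf 1746) (.leaf 7875)) (.node (.leaf 4275) (.leaf 14083)))))) (.node (.node (.node (.node (.node (.leaf 128) (.leaf 4945)) (.node (.leaf 2128) (.leaf 8592))) (.node (.node (.leaf 1043) (.leaf 6753)) (.node (.leaf 3523) (.leaf 11171)))) (.node (.node (.node (.leaf 561) (.leaf 5779)) (.node (.leaf 2770) (.leaf 9970))) (.node (.node (.leaf 1571) (.leaf 7619)) (.node (.leaf 4160) (.leaf 13232))))) (.node (.node (.node (.node (.leaf 339) (.leaf 5394)) (.node (.leaf 2451) (.leaf 9138))) (.node (.node (.leaf 1298) (.leaf 7219)) (.node (.leaf 3827) (.leaf 12051)))) (.node (.node (.node (.leaf 786) (.leaf 6243)) (.node (.leaf 3059) (.leaf 10706)))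 (.node (.node (.leaf 1872) (.leaf 8099)) (.node (.leaf 4514) (.leaf 14642))))))))

def twoPar1 : Janko.Tree (ℕ) :=
  (.node (.node (.node (.node (.node (.node (.node (.leaf 0) (.leaf 4643)) (.node (.leaf 1938) (.leaf 8273))) (.node (.node (.leaf 865) (.leaf 6466)) (.node (.leaf 3186) (.leaf 10819)))) (.node (.node (.node (.leaf 402) (.leaf 5475)) (.node (.leaf 2530) (.leaf 9298))) (.node (.node (.leaf 1363) (.leaf 7296)) (.node (.leaf 3920) (.leaf 12386))))) (.node (.node (.node (.node (.leaf 192) (.leaf 5026)) (.node (.leaf 2192) (.leaf 8770))) (.node (.node (.leaf 1122) (.leaf 6850)) (.node (.leaf 3616) (.leaf 11379)))) (.node (.node (.node (.leaf 641) (.leaf 5937)) (.node (.leaf 2832) (.leaf 10339))) (.node (.node (.leaf 1681) (.leaf 7762)) (.node (.leaf 4226) (.leaf 13859)))))) (.node (.node (.node (.node (.node (.leaf 83) (.leaf 4835)) (.node (.leaf 2066) (.leaf 8482))) (.node (.node (.leaf 995) (.leaf 6641))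 (.node (.leaf 3427) (.leaf 11074)))) (.node (.node (.node (.leaf 499) (.leaf 5714)) (.node (.leaf 2704) (.leaf 9698))) (.node (.node (.leaf 1506) (.leaf 7520)) (.node (.leaf 4048) (.leaf 12897))))) (.node (.node (.node (.node (.leaf 291) (.leaf 5296)) (.node (.leaf 2400) (.leaf 9026))) (.node (.node (.leaf 1250) (.leaf 7090)) (.node (.leaf 3746) (.leaf 11906)))) (.node (.node (.node (.leaf 739) (.leaf 6177)) (.node (.leaf 3010) (.leaf 10561))) (.node (.node (.leaf 1808) (.leaf 7986)) (.node (.leaf 4402) (.leaf 14354))))))) (.node (.node (.node (.node (.node (.node (.leaf 35) (.leaf 4755)) (.node (.leaf 1987) (.leaf 8384))) (.node (.node (.leaf 915) (.leaf 6578)) (.node (.leaf 3314) (.leaf 10977)))) (.node (.node (.node (.leaf 450) (.leaf 5586)) (.node (.leaf 2642) (.leaf 9472))) (.node (.node (.leaf 1442) (.leaf 7395)) (.node (.leaf 3987) (.leaf 12643))))) (.node (.node (.node (.node (.leaf 241) (.leaf 5139)) (.node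 (.leaf 2322) (.leaf 8914))) (.node (.node (.leaf 1186) (.leaf 6979)) (.node (.leaf 3680) (.leaf 11555)))) (.node (.node (.node (.leaf 691) (.leaf 6080)) (.node (.leaf 2945) (.leaf 10432))) (.node (.node (.leaf 1760) (.leaf 7891)) (.node (.leaf 4290) (.leaf 14114)))))) (.node (.node (.node (.node (.node (.leaf 129) (.leaf 4947)) (.node (.leaf 2130) (.leaf 8627))) (.node (.node (.leaf 1058) (.leaf 6754)) (.node (.leaf 3538) (.leaf 11186)))) (.node (.node (.node (.leaf 563) (.leaf 5792)) (.node (.leaf 2771) (.leaf 9987))) (.node (.node (.leaf 1586) (.leaf 7634)) (.node (.leaf 4161) (.leaf 13267))))) (.node (.node (.node (.node (.leaf 354) (.leaf 5426)) (.node (.leaf 2464) (.leaf 9152))) (.node (.node (.leaf 1312) (.leaf 7233)) (.node (.leaf 3858) (.leaf 12082)))) (.node (.node (.node (.leaf 800) (.leaf 6258)) (.node (.leaf 3074) (.leaf 10721))) (.node (.node (.leaf 1873) (.leaf 8114)) (.node (.leaf 4530) (.leaf 14720))))))))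

def twoPar2 : Janko.Tree (ℕ) :=
  (.node (.node (.node (.node (.node (.node (.node (.leaf 1) (.leaf 4658)) (.node (.leaf 1939) (.leaf 8275))) (.node (.node (.leaf 867) (.leaf 6480)) (.node (.leaf 3202) (.leaf 10832)))) (.node (.node (.node (.leaf 403) (.leaf 5490)) (.node (.leaf 2531) (.leaf 9313))) (.node (.node (.leaf 1393) (.leaf 7299)) (.node (.leaf 3923) (.leaf 12450))))) (.node (.node (.node (.node (.leaf 193) (.leaf 5057)) (.node (.leaf 2210) (.leaf 8784))) (.node (.node (.leaf 1123) (.leaf 6851)) (.node (.leaf 3619) (.leaf 11410)))) (.node (.node (.node (.leaf 642) (.leaf 5954)) (.node (.leaf 2835) (.leaf 10370))) (.node (.node (.leaf 1682) (.leaf 7778)) (.node (.leaf 4227) (.leaf 13874)))))) (.node (.node (.node (.node (.node (.leaf 96) (.leaf 4848)) (.node (.leaf 2067) (.leaf 8529))) (.node (.node (.leaf 1009) (.leaf 6659)) (.node (.leaf 3442) (.leaf 11088)))) (.node (.node (.node (.leaf 514) (.leaf 5715))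 (.node (.leaf 2707) (.leaf 9746))) (.node (.node (.leaf 1507) (.leaf 7536)) (.node (.leaf 4051) (.leaf 12914))))) (.node (.node (.node (.node (.leaf 306) (.leaf 5297)) (.node (.leaf 2403) (.leaf 9040))) (.node (.node (.leaf 1251) (.leaf 7107)) (.node (.leaf 3747) (.leaf 11922)))) (.node (.node (.node (.leaf 754) (.leaf 6179)) (.node (.leaf 3011) (.leaf 10579))) (.node (.node (.leaf 1824) (.leaf 8016)) (.node (.leaf 4418) (.leaf 14385))))))) (.node (.node (.node (.node (.node (.node (.leaf 48) (.leaf 4771)) (.node (.leaf 2002) (.leaf 8387))) (.node (.node (.leaf 945) (.leaf 6594)) (.node (.leaf 3330) (.leaf 10978)))) (.node (.node (.node (.leaf 451) (.leaf 5587)) (.node (.leaf 2658) (.leaf 9491))) (.node (.node (.leaf 1443) (.leaf 7408)) (.node (.leaf 4000) (.leaf 12674))))) (.node (.node (.node (.node (.leaf 243) (.leaf 5170)) (.node (.leaf 2338) (.leaf 8930))) (.node (.node (.leaf 1202) (.leaf 6994)) (.node (.leaf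 3683) (.leaf 11586)))) (.node (.node (.node (.leaf 706) (.leaf 6083)) (.node (.leaf 2947) (.leaf 10435))) (.node (.node (.leaf 1761) (.leaf 7904)) (.node (.leaf 4291) (.leaf 14131)))))) (.node (.node (.node (.node (.node (.leaf 131) (.leaf 4961)) (.node (.leaf 2144) (.leaf 8659))) (.node (.node (.leaf 1074) (.leaf 6755)) (.node (.leaf 3554) (.leaf 11234)))) (.node (.node (.node (.leaf 576) (.leaf 5827)) (.node (.leaf 2784) (.leaf 10003))) (.node (.node (.leaf 1603) (.leaf 7651)) (.node (.leaf 4163) (.leaf 13347))))) (.node (.node (.node (.node (.leaf 355) (.leaf 5427)) (.node (.leaf 2467) (.leaf 9153))) (.node (.node (.leaf 1313) (.leaf 7234)) (.node (.leaf 3874) (.leaf 12256)))) (.node (.node (.node (.leaf 803) (.leaf 6307)) (.node (.leaf 3075) (.leaf 10737))) (.node (.node (.leaf 1874) (.leaf 8130)) (.node (.leaf 4546) (.leaf 14755))))))))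

def twoPar3 : Janko.Tree (ℕ) :=
  (.node (.node (.node (.node (.node (.node (.node (.leaf 2) (.leaf 4659)) (.node (.leaf 1953) (.leaf 8306))) (.node (.node (.leaf 880) (.leaf 6481)) (.node (.leaf 3217) (.leaf 10834)))) (.node (.node (.node (.leaf 416) (.leaf 5504)) (.node (.leaf 2544) (.leaf 9315))) (.node (.node (.leaf 1394) (.leaf 7329)) (.node (.leaf 3936) (.leaf 12482))))) (.node (.node (.node (.node (.leaf 194) (.leaf 5058)) (.node (.leaf 2225) (.leaf 8787))) (.node (.node (.leaf 1138) (.leaf 6882)) (.node (.leaf 3634) (.leaf 11440)))) (.node (.node (.node (.leaf 643) (.leaf 5970)) (.node (.leaf 2866) (.leaf 10384))) (.node (.node (.leaf 1696) (.leaf 7793)) (.node (.leaf 4242) (.leaf 13938)))))) (.node (.node (.node (.node (.node (.leaf 97) (.leaf 4849)) (.node (.leaf 2080) (.leaf 8544))) (.node (.node (.leaf 1011) (.leaf 6674)) (.node (.leaf 3443) (.leaf 11105)))) (.node (.node (.node (.leaf 530) (.leaf 5728))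 (.node (.leaf 2720) (.leaf 9826))) (.node (.node (.leaf 1522) (.leaf 7537)) (.node (.leaf 4082) (.leaf 13011))))) (.node (.node (.node (.node (.leaf 307) (.leaf 5298)) (.node (.leaf 2418) (.leaf 9043))) (.node (.node (.leaf 1264) (.leaf 7122)) (.node (.leaf 3760) (.leaf 11953)))) (.node (.node (.node (.leaf 755) (.leaf 6194)) (.node (.leaf 3026) (.leaf 10594))) (.node (.node (.leaf 1825) (.leaf 8017)) (.node (.leaf 4433) (.leaf 14402))))))) (.node (.node (.node (.node (.node (.node (.leaf 49) (.leaf 4786)) (.node (.leaf 2016) (.leaf 8402))) (.node (.node (.leaf 946) (.leaf 6595)) (.node (.leaf 3345) (.leaf 11024)))) (.node (.node (.node (.leaf 465) (.leaf 5603)) (.node (.leaf 2659) (.leaf 9522))) (.node (.node (.leaf 1459) (.leaf 7410)) (.node (.leaf 4001) (.leaf 12690))))) (.node (.node (.node (.node (.leaf 256) (.leaf 5187)) (.node (.leaf 2339) (.leaf 8944))) (.node (.node (.leaf 1203) (.leaf 6995)) (.node (.leaf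 3698) (.leaf 11603)))) (.node (.node (.node (.leaf 707) (.leaf 6099)) (.node (.leaf 2961) (.leaf 10449))) (.node (.node (.leaf 1763) (.leaf 7906)) (.node (.leaf 4304) (.leaf 14162)))))) (.node (.node (.node (.node (.node (.leaf 146) (.leaf 4962)) (.node (.leaf 2145) (.leaf 8690))) (.node (.node (.leaf 1075) (.leaf 6770)) (.node (.leaf 3555) (.leaf 11235)))) (.node (.node (.node (.leaf 577) (.leaf 5842)) (.node (.leaf 2785) (.leaf 10035))) (.node (.node (.leaf 1634) (.leaf 7682)) (.node (.leaf 4177) (.leaf 13410))))) (.node (.node (.node (.node (.leaf 368) (.leaf 5441)) (.node (.leaf 2482) (.leaf 9155))) (.node (.node (.leaf 1315) (.leaf 7248)) (.node (.leaf 3875) (.leaf 12257)))) (.node (.node (.node (.leaf 818) (.leaf 6322)) (.node (.leaf 3088) (.leaf 10754))) (.node (.node (.leaf 1890) (.leaf 8179)) (.node (.leaf 4561) (.leaf 14835))))))))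

def twoPar4 : Janko.Tree (ℕ) :=
  (.node (.node (.node (.node (.node (.node (.node (.leaf 3) (.leaf 4672)) (.node (.leaf 1954) (.leaf 8323))) (.node (.node (.leaf 881) (.leaf 6483)) (.node (.leaf 3219) (.leaf 10883)))) (.node (.node (.node (.leaf 417) (.leaf 5507)) (.node (.leaf 2562) (.leaf 9363))) (.node (.node (.leaf 1395) (.leaf 7330)) (.node (.leaf 3939) (.leaf 12514))))) (.node (.node (.node (.node (.leaf 210) (.leaf 5059)) (.node (.leaf 2227) (.leaf 8803))) (.node (.node (.leaf 1139) (.leaf 6897)) (.node (.leaf 3649) (.leaf 11474)))) (.node (.node (.node (.leaf 658) (.leaf 5986)) (.node (.leaf 2867) (.leaf 10385))) (.node (.node (.leaf 1699) (.leaf 7795)) (.node (.leaf 4256) (.leaf 13970)))))) (.node (.node (.node (.node (.node (.leaf 99) (.leaf 4867)) (.node (.leaf 2097) (.leaf 8545))) (.node (.node (.leaf 1024) (.leaf 6722)) (.node (.leaf 3456) (.leaf 11123)))) (.node (.node (.node (.leaf 531) (.leaf 5744))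 (.node (.leaf 2723) (.leaf 9890))) (.node (.node (.leaf 1523) (.leaf 7555)) (.node (.leaf 4083) (.leaf 13026))))) (.node (.node (.node (.node (.leaf 320) (.leaf 5315)) (.node (.leaf 2433) (.leaf 9058))) (.node (.node (.leaf 1267) (.leaf 7168)) (.node (.leaf 3778) (.leaf 11955)))) (.node (.node (.node (.leaf 769) (.leaf 6224)) (.node (.leaf 3040) (.leaf 10595))) (.node (.node (.leaf 1827) (.leaf 8033)) (.node (.leaf 4435) (.leaf 14499))))))) (.node (.node (.node (.node (.node (.node (.leaf 51) (.leaf 4802)) (.node (.leaf 2017) (.leaf 8416))) (.node (.node (.leaf 947) (.leaf 6610)) (.node (.leaf 3347) (.leaf 11027)))) (.node (.node (.node (.leaf 467) (.leaf 5616)) (.node (.leaf 2674) (.leaf 9539))) (.node (.node (.leaf 1472) (.leaf 7442)) (.node (.leaf 4003) (.leaf 12738))))) (.node (.node (.node (.node (.leaf 257) (.leaf 5202)) (.node (.leaf 2352) (.leaf 8961))) (.node (.node (.leaf 1216) (.leaf 7008)) (.node (.leaf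 3712) (.leaf 11634)))) (.node (.node (.node (.leaf 720) (.leaf 6112)) (.node (.leaf 2962) (.leaf 10450))) (.node (.node (.leaf 1777) (.leaf 7923)) (.node (.leaf 4322) (.leaf 14178)))))) (.node (.node (.node (.node (.node (.leaf 161) (.leaf 4963)) (.node (.leaf 2161) (.leaf 8705))) (.node (.node (.leaf 1090) (.leaf 6771)) (.node (.leaf 3568) (.leaf 11250)))) (.node (.node (.node (.leaf 579) (.leaf 5859)) (.node (.leaf 2787) (.leaf 10066))) (.node (.node (.leaf 1650) (.leaf 7697)) (.node (.leaf 4178) (.leaf 13506))))) (.node (.node (.node (.node (.leaf 369) (.leaf 5442)) (.node (.leaf 2496) (.leaf 9170))) (.node (.node (.leaf 1328) (.leaf 7249)) (.node (.leaf 3890) (.leaf 12259)))) (.node (.node (.node (.leaf 834) (.leaf 6338)) (.node (.leaf 3106) (.leaf 10769))) (.node (.node (.leaf 1891) (.leaf 8195)) (.node (.leaf 4563) (.leaf 14898))))))))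

def twoPar5 : Janko.Tree (ℕ) :=
  (.node (.node (.node (.node (.node (.node (.node (.leaf 17) (.leaf 4674)) (.node (.leaf 1968) (.leaf 8354))) (.node (.node (.leaf 883) (.leaf 6514)) (.node (.leaf 3250) (.leaf 10898)))) (.node (.node (.node (.leaf 418) (.leaf 5537)) (.node (.leaf 2577) (.leaf 9394))) (.node (.node (.leaf 1410) (.leaf 7331)) (.node (.leaf 3954) (.leaf 12531))))) (.node (.node (.node (.node (.leaf 211) (.leaf 5090)) (.node (.leaf 2242) (.leaf 8816))) (.node (.node (.leaf 1152) (.leaf 6899)) (.node (.leaf 3650) (.leaf 11475)))) (.node (.node (.node (.leaf 659) (.leaf 6001)) (.node (.leaf 2897) (.leaf 10387))) (.node (.node (.leaf 1714) (.leaf 7810)) (.node (.leaf 4257) (.leaf 14002)))))) (.node (.node (.node (.node (.node (.leaf 112) (.leaf 4882)) (.node (.leaf 2098) (.leaf 8563))) (.node (.node (.leaf 1025) (.leaf 6736)) (.node (.leaf 3458) (.leaf 11154)))) (.node (.node (.node (.leaf 546) (.leaf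 5745)) (.node (.leaf 2738) (.leaf 9906))) (.node (.node (.leaf 1536) (.leaf 7570)) (.node (.leaf 4113) (.leaf 13075))))) (.node (.node (.node (.node (.leaf 321) (.leaf 5330)) (.node (.leaf 2434) (.leaf 9072))) (.node (.node (.leaf 1282) (.leaf 7171)) (.node (.leaf 3793) (.leaf 11986)))) (.node (.node (.node (.leaf 771) (.leaf 6225)) (.node (.leaf 3041) (.leaf 10608))) (.node (.node (.leaf 1842) (.leaf 8034)) (.node (.leaf 4466) (.leaf 14514))))))) (.node (.node (.node (.node (.node (.node (.leaf 64) (.leaf 4803)) (.node (.leaf 2019) (.leaf 8419))) (.node (.node (.leaf 962) (.leaf 6624)) (.node (.leaf 3362) (.leaf 11041)))) (.node (.node (.node (.leaf 480) (.leaf 5618)) (.node (.leaf 2675) (.leaf 9570))) (.node (.node (.leaf 1474) (.leaf 7473)) (.node (.leaf 4016) (.leaf 12754))))) (.node (.node (.node (.node (.leaf 259) (.leaf 5203)) (.node (.leaf 2353) (.leaf 8962))) (.node (.node (.leaf 1217) (.leaf 7010)) (.node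 (.leaf 3713) (.leaf 11650)))) (.node (.node (.node (.leaf 721) (.leaf 6114)) (.node (.leaf 2963) (.leaf 10451))) (.node (.node (.leaf 1778) (.leaf 7955)) (.node (.leaf 4337) (.leaf 14226)))))) (.node (.node (.node (.node (.node (.leaf 162) (.leaf 4978)) (.node (.leaf 2162) (.leaf 8721))) (.node (.node (.leaf 1104) (.leaf 6784)) (.node (.leaf 3569) (.leaf 11282)))) (.node (.node (.node (.leaf 594) (.leaf 5890)) (.node (.leaf 2800) (.leaf 10240))) (.node (.node (.leaf 1651) (.leaf 7699)) (.node (.leaf 4179) (.leaf 13555))))) (.node (.node (.node (.node (.leaf 371) (.leaf 5456)) (.node (.leaf 2497) (.leaf 9218))) (.node (.node (.leaf 1331) (.leaf 7251)) (.node (.leaf 3891) (.leaf 12289)))) (.node (.node (.node (.leaf 835) (.leaf 6387)) (.node (.leaf 3121) (.leaf 10771))) (.node (.node (.leaf 1906) (.leaf 8210)) (.node (.leaf 4578) (.leaf 14994))))))))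

def twoPar6 : Janko.Tree (ℕ) :=
  (.node (.node (.node (.node (.node (.node (.node (.leaf 18) (.leaf 4691)) (.node (.leaf 1969) (.leaf 8368))) (.node (.node (.leaf 898) (.leaf 6530)) (.node (.leaf 3280) (.leaf 10930)))) (.node (.node (.node (.leaf 432) (.leaf 5538)) (.node (.leaf 2579) (.leaf 9424))) (.node (.node (.leaf 1411) (.leaf 7377)) (.node (.leaf 3970) (.leaf 12578))))) (.node (.node (.node (.node (.leaf 226) (.leaf 5105)) (.node (.leaf 2259) (.leaf 8818))) (.node (.node (.leaf 1168) (.leaf 6914)) (.node (.leaf 3664) (.leaf 11488)))) (.node (.node (.node (.leaf 672) (.leaf 6003)) (.node (.leaf 2899) (.leaf 10400))) (.node (.node (.leaf 1730) (.leaf 7858)) (.node (.leaf 4273) (.leaf 14019)))))) (.node (.node (.node (.node (.node (.leaf 113) (.leaf 4930)) (.node (.leaf 2099) (.leaf 8578))) (.node (.node (.leaf 1026) (.leaf 6737)) (.node (.leaf 3475) (.leaf 11168)))) (.node (.node (.node (.leaf 547) (.leaf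 5763)) (.node (.leaf 2754) (.leaf 9937))) (.node (.node (.leaf 1554) (.leaf 7571)) (.node (.leaf 4115) (.leaf 13090))))) (.node (.node (.node (.node (.leaf 322) (.leaf 5376)) (.node (.leaf 2448) (.leaf 9089))) (.node (.node (.leaf 1283) (.leaf 7186)) (.node (.leaf 3795) (.leaf 12003)))) (.node (.node (.node (.leaf 784) (.leaf 6241)) (.node (.leaf 3057) (.leaf 10643))) (.node (.node (.leaf 1858) (.leaf 8035)) (.node (.leaf 4496) (.leaf 14563))))))) (.node (.node (.node (.node (.node (.node (.leaf 65) (.leaf 4818)) (.node (.leaf 2049) (.leaf 8433))) (.node (.node (.leaf 963) (.leaf 6625)) (.node (.leaf 3410) (.leaf 11042)))) (.node (.node (.node (.leaf 481) (.leaf 5650)) (.node (.leaf 2688) (.leaf 9587))) (.node (.node (.leaf 1488) (.leaf 7475)) (.node (.leaf 4017) (.leaf 12802))))) (.node (.node (.node (.node (.leaf 274) (.leaf 5216)) (.node (.leaf 2354) (.leaf 9008))) (.node (.node (.leaf 1218) (.leaf 7075)) (.node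 (.leaf 3729) (.leaf 11714)))) (.node (.node (.node (.leaf 722) (.leaf 6131)) (.node (.leaf 2978) (.leaf 10498))) (.node (.node (.leaf 1779) (.leaf 7968)) (.node (.leaf 4339) (.leaf 14242)))))) (.node (.node (.node (.node (.node (.leaf 163) (.leaf 4979)) (.node (.leaf 2163) (.leaf 8738))) (.node (.node (.leaf 1105) (.leaf 6802)) (.node (.leaf 3570) (.leaf 11314)))) (.node (.node (.node (.leaf 608) (.leaf 5905)) (.node (.leaf 2801) (.leaf 10241))) (.node (.node (.leaf 1665) (.leaf 7728)) (.node (.leaf 4194) (.leaf 13587))))) (.node (.node (.node (.node (.leaf 385) (.leaf 5457)) (.node (.leaf 2513) (.leaf 9219))) (.node (.node (.leaf 1346) (.leaf 7264)) (.node (.leaf 3904) (.leaf 12368)))) (.node (.node (.node (.leaf 850) (.leaf 6403)) (.node (.leaf 3123) (.leaf 10786))) (.node (.node (.leaf 1907) (.leaf 8242)) (.node (.leaf 4626) (.leaf 15043))))))))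

def twoPar7 : Janko.Tree (ℕ) :=
  (.node (.node (.node (.node (.node (.node (.node (.leaf 19) (.leaf 4723)) (.node (.leaf 1971) (.leaf 8369))) (.node (.node (.leaf 912) (.leaf 6547)) (.node (.leaf 3281) (.leaf 10946)))) (.node (.node (.node (.leaf 433) (.leaf 5539)) (.node (.leaf 2594) (.leaf 9458))) (.node (.node (.leaf 1424) (.leaf 7378)) (.node (.leaf 3971) (.leaf 12595))))) (.node (.node (.node (.node (.leaf 227) (.leaf 5107)) (.node (.leaf 2290) (.leaf 8867))) (.node (.node (.leaf 1169) (.leaf 6931)) (.node (.leaf 3665) (.leaf 11507)))) (.node (.node (.node (.leaf 689) (.leaf 6018)) (.node (.leaf 2930) (.leaf 10403))) (.node (.node (.leaf 1731) (.leaf 7872)) (.node (.leaf 4274) (.leaf 14066)))))) (.node (.node (.node (.node (.node (.leaf 114) (.leaf 4944)) (.node (.leaf 2115) (.leaf 8579))) (.node (.node (.leaf 1040) (.leaf 6739)) (.node (.leaf 3507) (.leaf 11169)))) (.node (.node (.node (.leaf 560) (.leaf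 5778)) (.node (.leaf 2755) (.leaf 9939))) (.node (.node (.leaf 1569) (.leaf 7584)) (.node (.leaf 4146) (.leaf 13154))))) (.node (.node (.node (.node (.leaf 338) (.leaf 5379)) (.node (.leaf 2449) (.leaf 9107))) (.node (.node (.leaf 1297) (.leaf 7218)) (.node (.leaf 3810) (.leaf 12019)))) (.node (.node (.node (.leaf 785) (.leaf 6242)) (.node (.leaf 3058) (.leaf 10675))) (.node (.node (.leaf 1859) (.leaf 8050)) (.node (.leaf 4497) (.leaf 14578))))))) (.node (.node (.node (.node (.node (.node (.leaf 66) (.leaf 4832)) (.node (.leaf 2050) (.leaf 8434))) (.node (.node (.leaf 976) (.leaf 6627)) (.node (.leaf 3424) (.leaf 11056)))) (.node (.node (.node (.leaf 482) (.leaf 5681)) (.node (.leaf 2689) (.leaf 9618))) (.node (.node (.leaf 1489) (.leaf 7506)) (.node (.leaf 4019) (.leaf 12850))))) (.node (.node (.node (.node (.leaf 289) (.leaf 5218)) (.node (.leaf 2370) (.leaf 9011))) (.node (.node (.leaf 1234) (.leaf 7088)) (.node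 (.leaf 3730) (.leaf 11762)))) (.node (.node (.node (.leaf 736) (.leaf 6163)) (.node (.leaf 2979) (.leaf 10545))) (.node (.node (.leaf 1794) (.leaf 7969)) (.node (.leaf 4354) (.leaf 14290)))))) (.node (.node (.node (.node (.node (.leaf 178) (.leaf 4992)) (.node (.leaf 2178) (.leaf 8753))) (.node (.node (.leaf 1107) (.leaf 6818)) (.node (.leaf 3586) (.leaf 11329)))) (.node (.node (.node (.leaf 609) (.leaf 5907)) (.node (.leaf 2803) (.leaf 10243))) (.node (.node (.leaf 1667) (.leaf 7729)) (.node (.leaf 4195) (.leaf 13856))))) (.node (.node (.node (.node (.leaf 386) (.leaf 5459)) (.node (.leaf 2514) (.leaf 9234))) (.node (.node (.leaf 1360) (.leaf 7267)) (.node (.leaf 3905) (.leaf 12369)))) (.node (.node (.node (.leaf 851) (.leaf 6418)) (.node (.leaf 3138) (.leaf 10800))) (.node (.node (.leaf 1920) (.leaf 8258)) (.node (.leaf 4640) (.leaf 15075))))))))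

def twoPar : Janko.Tree (ℕ) := (.node (.node (.node twoPar0 twoPar4) (.node twoPar2 twoPar6)) (.node (.node twoPar1 twoPar5) (.node twoPar3 twoPar7)))

def twoL0 : Janko.Tree (List ℤ) :=
  (.node (.node (.node (.node (.node (.node (.node (.node (.node (.node (.leaf []) (.leaf [1, 0, 0, 0, 0, 0, 0, 0, 0, 0, 0, 0, 0])) (.leaf [0, 1, 0, 1, 0, 1, 1, 0, 1])) (.node (.leaf [1, 0, 0, 0, 0, 0, 0, 0, 0, 0, 0, 0, 1]) (.leaf [1]))) (.node (.node (.leaf [1]) (.leaf [])) (.node (.leaf [1, 1, 0, 1, 0, 0, 0, 0, 0, 0, 0, 1]) (.leaf [1, 0, 0, 1, 0, 0, 1, 0, 1, 0, 0, 1])))) (.node (.node (.node (.leaf []) (.leaf [1])) (.node (.leaf [1, 0, 1, 1, 1, 1, 0, 1, 0, 1]) (.leaf [1, 1, 0, 1, 0, 1]))) (.node (.node (.leaf [1, 1, 0, 0, 1]) (.leaf [0, 0, 1, 1, 1, 0, 1, 1, 1, 1, 0, 1])) (.node (.leaf []) (.leaf [1, 0, 1, 1, 0, 0, 0, 0, 0, 1, 0, 1, 1]))))) (.node (.node (.node (.node (.leaf [1, 1, 0, 1, 0, 1]) (.leaf [1, 0, 0, 0, 0, 0, 1])) (.node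 (.leaf [0, 0, 1, 0, 0, 0, 0, 0, 0, 1]) (.leaf [0, 0, 0, 0, 0, 0, 1, 0, 0, 0, 1, 0, 1]))) (.node (.node (.leaf [0, 1, 0, 0, 1]) (.leaf [0, 1, 0, 0, 1])) (.node (.leaf [0, 1, 1, 0, 0, 0, 0, 0, 1, 1, 0, 1, 1]) (.leaf [1, 0, 1, 0, 0, 0, 1, 1, 1, 1, 1, 0, 1])))) (.node (.node (.node (.leaf []) (.leaf [1])) (.node (.leaf [1, 0, 1, 1, 1, 0, 0, 1, 0, 1, 0, 1]) (.leaf [0, 1, 0, 0, 1]))) (.node (.node (.leaf [1]) (.leaf [0, 1, 0, 1, 1, 0, 1, 0, 0, 0, 0, 1])) (.node (.leaf [1]) (.leaf [0, 1, 1, 0, 0, 1, 0, 0, 0, 1, 0, 0, 1])))))) (.node (.node (.node (.node (.node (.leaf []) (.leaf [1, 1, 0, 0, 1])) (.node (.leaf [1, 0, 1, 1, 1, 1, 0, 1, 0, 1]) (.leaf [0, 0, 1, 0, 1, 1, 0, 0, 0, 1, 1, 1]))) (.node (.node (.leaf [1, 1, 0, 0, 1, 0, 1]) (.leaf [1])) (.node (.leaf [1, 1, 0, 1, 0, 1, 1, 0, 1]) (.leaf [1, 0, 0, 0, 0, 0, 1, 0, 0, 0, 0, 0, 1])))) (.node (.node (.node (.leaf [1]) (.leaf [])) (.node (.leaf []) (.leaf [0, 1, 1, 0, 0,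 0, 1, 1, 1, 1, 1, 0, 1]))) (.node (.node (.leaf [0, 1, 0, 0, 1]) (.leaf [0, 0, 0, 1, 1, 1, 1])) (.node (.leaf [0, 0, 1, 1, 1, 0, 0, 1, 0, 1, 0, 1]) (.leaf []))))) (.node (.node (.node (.node (.leaf [1, 0, 0, 0, 0, 0, 1]) (.leaf [1, 1, 0, 1, 1, 0, 1, 0, 0, 0, 0, 1])) (.node (.leaf [1, 1, 1, 0, 0, 0, 0, 0, 0, 1, 0, 1, 1]) (.leaf [0, 1, 0, 1, 1, 1, 0, 0, 1]))) (.node (.node (.leaf [1, 0, 0, 0, 0, 0, 0, 1]) (.leaf [0, 1, 0, 1, 0, 1])) (.node (.leaf [1, 0, 1, 1, 1, 1, 0, 1, 0, 1]) (.leaf [0, 1, 0, 0, 1, 0, 0, 0, 1])))) (.node (.node (.node (.leaf [1, 1, 0, 0, 1]) (.leaf [1])) (.node (.leaf [1]) (.leaf [1]))) (.node (.node (.leaf [0, 0, 1, 1, 1, 1, 0, 1, 0, 1]) (.leaf [0, 1, 0, 0, 1, 0, 1, 1, 1])) (.node (.leaf [1, 1, 0, 1, 0, 0, 0, 0, 1, 0, 0, 1]) (.leaf [1, 0, 0, 1, 0, 0, 0, 0, 1, 0, 1, 1, 1]))))))) (.node (.node (.node (.node (.node (.node (.node (.leaf []) (.leaf [1, 1, 0, 1, 0, 1, 0, 1, 0, 1])) (.leaf [1, 1, 1, 1,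 1, 0, 1, 0, 0, 1, 0, 0, 1])) (.node (.leaf [1]) (.leaf [1, 0, 1, 1, 0, 0, 1, 0, 0, 1, 0, 1, 1]))) (.node (.node (.leaf [1, 1, 0, 0, 1]) (.leaf [0, 1, 0, 1, 0, 0, 0, 0, 0, 0, 0, 1])) (.node (.leaf [0, 0, 0, 0, 0, 0, 1, 1]) (.leaf [1])))) (.node (.node (.node (.leaf []) (.leaf [0, 1, 0, 0, 1])) (.node (.leaf [1, 0, 1, 1, 1, 0, 0, 1, 0, 1, 0, 1]) (.leaf [1, 0, 0, 0, 0, 0, 1]))) (.node (.node (.leaf [0, 1, 0, 0, 1]) (.leaf [0, 0, 1, 0, 0, 0, 0, 0, 0, 1])) (.node (.leaf []) (.leaf [0, 0, 1, 0, 0, 1, 1, 1, 1, 1, 1, 1, 1]))))) (.node (.node (.node (.node (.leaf [1]) (.leaf [0, 0, 0, 0, 0, 1, 0, 1, 1, 0, 0, 1, 1])) (.node (.leaf [1, 1, 0, 1, 0, 1, 1]) (.leaf [0, 0, 0, 0, 0, 1, 1, 0, 0, 0, 1, 1, 1]))) (.node (.node (.leaf []) (.leaf [0, 1, 0, 0, 1, 0, 1, 0, 1, 0, 0, 0, 1])) (.node (.leaf []) (.leaf [0, 1, 0, 1, 0, 1, 0, 0, 1])))) (.node (.node (.node (.leaf [0, 1, 0, 0, 1, 0, 1]) (.leaf [0, 1, 1, 0, 0, 0, 1, 0, 1, 1, 0, 0,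 1])) (.node (.leaf [1]) (.leaf [1, 1, 1, 1, 0, 0, 1, 1, 0, 1, 0, 1]))) (.node (.node (.leaf []) (.leaf [1, 0, 0, 0, 0, 1, 1, 0, 0, 0, 1, 1, 1])) (.node (.leaf [0, 1, 1, 0, 0, 0, 0, 0, 0, 1]) (.leaf [0, 0, 1, 0, 0, 0, 0, 0, 1, 1, 1])))))) (.node (.node (.node (.node (.node (.leaf [1]) (.leaf [1, 0, 0, 0, 1, 1, 0, 0, 1, 0, 0, 1])) (.node (.leaf [1]) (.leaf [1]))) (.node (.node (.leaf [0, 0, 0, 1, 1, 0, 0, 0, 1, 0, 0, 1]) (.leaf [0, 1, 0, 0, 1])) (.node (.leaf [0, 1, 0, 1, 0, 1, 1]) (.leaf [])))) (.node (.node (.node (.leaf [1, 1, 0, 0, 1]) (.leaf [0, 1, 1, 1, 1, 1, 0, 1, 1, 1])) (.node (.leaf []) (.leaf [0, 0, 1, 1, 0, 1, 1, 0, 0, 1, 0, 1, 1]))) (.node (.node (.leaf []) (.leaf [0, 1, 1, 0, 0, 0, 0, 0, 1, 1, 1, 0, 1])) (.node (.leaf [1]) (.leaf [1]))))) (.node (.node (.node (.node (.leaf [1, 0, 0, 0, 0, 0, 0, 1]) (.leaf [0, 1, 0, 1, 0, 1, 1])) (.node (.leaf []) (.leaf [0, 0, 0, 0, 0, 0, 0, 0, 1]))) (.node (.node (.leaf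 []) (.leaf [1, 1, 0, 1, 1, 1, 0, 0, 1])) (.node (.leaf [0, 0, 1, 1, 1, 0, 0, 1, 0, 1, 0, 1]) (.leaf [0, 1, 0, 1, 0, 0, 0, 0, 0, 0, 0, 1])))) (.node (.node (.node (.leaf []) (.leaf [0, 1, 0, 0, 1, 1, 0, 1, 0, 0, 1])) (.node (.leaf [0, 1, 1, 0, 0, 0, 0, 0, 0, 1]) (.leaf [1, 0, 0, 0, 0, 0, 1, 0, 1, 0, 0, 0, 1]))) (.node (.node (.leaf [1]) (.leaf [1, 0, 0, 0, 0, 0, 1, 1, 1])) (.node (.leaf [1, 0, 0, 0, 0, 0, 1, 1]) (.leaf [0, 1, 0, 0, 1, 1, 0, 0, 0, 0, 0, 1])))))))) (.node (.node (.node (.node (.node (.node (.node (.node (.leaf []) (.leaf [0, 1, 0, 0, 1, 0, 0, 0, 0, 1])) (.leaf [1])) (.node (.leaf []) (.leaf [0, 1, 1, 0, 1, 1, 1, 0, 0, 1, 0, 1]))) (.node (.node (.leaf [1, 1, 0, 0, 1]) (.leaf [0, 0, 1, 0, 1, 1, 1, 0, 1, 1, 1, 0, 1])) (.node (.leaf [0, 0, 0, 1, 0, 1, 1]) (.leaf [0, 1, 1, 0, 0, 1, 1, 0, 1, 1, 0, 0, 1])))) (.node (.node (.node (.leaf [1, 1, 0, 1, 0, 1]) (.leaf [0, 1, 1, 0, 0, 0, 1, 0, 0, 1, 0, 0, 1])) (.node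 (.leaf [1, 1, 0, 1, 0, 1, 1, 0, 1]) (.leaf [0, 0, 0, 1, 0, 1, 1, 0, 1, 0, 1, 0, 1]))) (.node (.node (.leaf [1, 0, 1, 1, 1, 1, 0, 1, 0, 1]) (.leaf [0, 0, 0, 0, 0, 0, 1])) (.node (.leaf [0, 1, 0, 1, 0, 0, 0, 0, 0, 0, 0, 1]) (.leaf [1, 0, 1, 0, 1, 0, 1, 0, 1, 1, 1, 1, 1]))))) (.node (.node (.node (.node (.leaf []) (.leaf [0, 0, 0, 0, 0, 0, 0, 0, 0, 0, 1])) (.node (.leaf []) (.leaf [0, 0, 0, 0, 0, 1, 1, 0, 0, 0, 1, 1, 1]))) (.node (.node (.leaf [0, 0, 1, 1, 1, 1, 0, 1, 0, 1]) (.leaf [1, 1, 0, 0, 1, 0, 1])) (.node (.leaf [0, 1, 0, 1, 1, 1, 0, 0, 1]) (.leaf [0, 1, 0, 1, 0, 1, 0, 0, 1])))) (.node (.node (.node (.leaf [1, 1, 0, 1, 0, 0, 0, 0, 0, 0, 0, 1]) (.leaf [1, 1, 0, 1, 0, 0, 1, 0, 0, 0, 0, 1])) (.node (.leaf [0, 1, 1, 1, 0, 0, 0, 1, 1, 1, 0, 1]) (.leaf [0, 1, 1, 0, 0, 1, 1, 0, 1, 1, 0, 0, 1]))) (.node (.node (.leaf [1, 0, 0, 1, 1, 0, 0, 0, 1, 0, 0, 1]) (.leaf [0, 0, 0, 0, 0, 0, 1])) (.node (.leaf [1]) (.leaf [1, 0,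 0, 1, 1, 1])))))) (.node (.node (.node (.node (.node (.leaf []) (.leaf [1, 1, 1, 1, 0, 0, 0, 1, 1, 1, 0, 1])) (.node (.leaf [0, 1, 0, 0, 1]) (.leaf [1, 0, 0, 0, 1, 1, 0, 0, 1, 0, 0, 1]))) (.node (.node (.leaf [1]) (.leaf [])) (.node (.leaf [1]) (.leaf [0, 1, 0, 1, 1, 0, 0, 0, 0, 0, 0, 1])))) (.node (.node (.node (.leaf [0, 0, 0, 0, 0, 0, 0, 1]) (.leaf [1])) (.node (.leaf [0, 1, 0, 1, 0, 0, 0, 0, 1, 0, 0, 1]) (.leaf [1, 1, 0, 0, 1, 1, 1, 0, 1, 0, 1, 1, 1]))) (.node (.node (.leaf [1, 0, 1, 0, 0, 0, 0, 0, 0, 1]) (.leaf [1, 0, 1, 1, 1, 1, 0, 1, 1, 1])) (.node (.leaf [0, 1, 1, 1, 0, 0, 0, 1, 1, 1, 0, 1]) (.leaf [1, 1, 1, 1, 0, 1, 0, 0, 0, 1, 0, 1, 1]))))) (.node (.node (.node (.node (.leaf [1]) (.leaf [1, 0, 0, 1, 1, 0, 0, 0, 1, 0, 0, 1])) (.node (.leaf [0, 1, 0, 1, 1, 1, 0, 0, 1]) (.leaf [0, 0, 0, 1, 1, 0, 0, 0, 1, 0, 0, 1]))) (.node (.node (.leaf [0, 0, 0, 0, 0, 0, 0, 0, 1, 0, 0, 0, 1]) (.leaf [1])) (.node (.leaf [0,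 1, 0, 1, 0, 1, 1, 0, 1]) (.leaf [0, 0, 1, 0, 1, 0, 1, 0, 1, 1, 1, 1, 1])))) (.node (.node (.node (.leaf [0, 1, 0, 0, 1, 0, 1]) (.leaf [1])) (.node (.leaf [1]) (.leaf [0, 0, 1, 1, 1, 1, 0, 1, 1, 1]))) (.node (.node (.leaf []) (.leaf [0, 1, 0, 0, 1])) (.node (.leaf [0, 0, 0, 1, 0, 1, 1]) (.leaf [0, 1, 0, 0, 1, 0, 1, 0, 1, 0, 0, 0, 1]))))))) (.node (.node (.node (.node (.node (.node (.node (.leaf []) (.leaf [1, 0, 0, 0, 0, 1, 1])) (.leaf [])) (.node (.leaf [1, 1, 0, 0, 1]) (.leaf [1]))) (.node (.node (.leaf [1, 0, 1, 1, 1, 1, 0, 1, 0, 1]) (.leaf [])) (.node (.leaf [0, 0, 0, 0, 0, 0, 1]) (.leaf [0, 1, 0, 0, 1, 0, 0, 0, 0, 0, 0, 0, 1])))) (.node (.node (.node (.leaf []) (.leaf [1])) (.node (.leaf [0, 0, 0, 0, 0, 0, 0, 0, 1]) (.leaf [0, 0, 0, 0, 0, 0, 0, 0, 1]))) (.node (.node (.leaf [1]) (.leaf [0, 1, 0, 1, 0, 1, 1])) (.node (.leaf [1, 0, 0, 0, 0, 0, 1, 0, 1, 0, 0, 0, 1]) (.leaf [1, 0, 0, 1, 1, 1, 0, 0, 1]))))) (.node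 (.node (.node (.node (.leaf [1, 1, 0, 0, 1]) (.leaf [0, 1, 0, 0, 1, 1, 0, 0, 0, 0, 0, 1])) (.node (.leaf [1]) (.leaf [1, 0, 0, 1, 1, 1, 1]))) (.node (.node (.leaf [1]) (.leaf [1])) (.node (.leaf [1]) (.leaf [1, 1, 0, 0, 1, 0, 1, 0, 1, 0, 0, 0, 1])))) (.node (.node (.node (.leaf [1]) (.leaf [1])) (.node (.leaf [1, 1, 0, 1, 0, 1, 1]) (.leaf [0, 1, 0, 1, 0, 1, 0, 0, 1]))) (.node (.node (.leaf [0, 1, 0, 0, 1]) (.leaf [0, 1, 1, 1, 1, 0, 1, 0, 0, 1, 0, 0, 1])) (.node (.leaf []) (.leaf [0, 0, 1, 0, 0, 0, 1, 1, 1, 1, 1, 0, 1])))))) (.node (.node (.node (.node (.node (.leaf [0, 1, 0, 0, 1]) (.leaf [1, 1, 1, 1, 1, 1, 0, 1, 0, 1])) (.node (.leaf [0, 1, 0, 0, 1]) (.leaf [0, 1, 0, 0, 1, 0, 1]))) (.node (.node (.leaf []) (.leaf [0, 0, 1, 1, 1, 1, 0, 1, 0, 1])) (.node (.leaf [1]) (.leaf [1, 0, 1, 0, 0, 1, 1, 1, 0, 1, 1, 1, 1])))) (.node (.node (.node (.leaf []) (.leaf [1, 0, 1, 1, 1, 0, 1, 1, 0, 1, 0, 1])) (.node (.leaf [0, 0,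 0, 0, 0, 0, 1, 0, 1, 0, 0, 0, 1]) (.leaf [0, 0, 0, 0, 0, 0, 0, 0, 1]))) (.node (.node (.leaf [0, 1, 0, 0, 1, 0, 1]) (.leaf [0, 1, 0, 0, 1, 0, 1])) (.node (.leaf [1, 1, 0, 1, 0, 1, 1]) (.leaf [1, 0, 1, 1, 0, 0, 0, 0, 0, 1, 0, 1, 1]))))) (.node (.node (.node (.node (.leaf [1, 1, 0, 0, 1]) (.leaf [])) (.node (.leaf [1]) (.leaf [1, 1, 0, 1, 0, 1]))) (.node (.node (.leaf [1]) (.leaf [1, 0, 1, 0, 1, 1, 1, 0, 0, 1, 0, 0, 1])) (.node (.leaf [1]) (.leaf [0, 0, 0, 0, 0, 1, 1, 0, 1, 0, 1, 0, 1])))) (.node (.node (.node (.leaf []) (.leaf [0, 0, 0, 0, 0, 1, 1, 0, 0, 0, 1, 1, 1])) (.node (.leaf []) (.leaf [0, 0, 0, 0, 0, 1, 1, 0, 1, 0, 1, 0, 1]))) (.node (.node (.leaf [1, 0, 0, 0, 0, 0, 0, 1]) (.leaf [1, 0, 0, 0, 0, 0, 1, 1, 1])) (.node (.leaf [1, 0, 0, 0, 0, 0, 1]) (.leaf [1, 1, 1, 0, 1, 0, 0, 1, 0, 1, 1, 0, 1]))))))))) (.node (.node (.node (.node (.node (.node (.node (.node (.node (.leaf [1, 1, 0, 0, 1]) (.leaf [0, 0, 0, 0,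 0, 0, 1, 0, 0, 0, 0, 0, 0])) (.leaf [0, 0, 0, 0, 1, 1, 0, 0, 1, 0, 0, 1])) (.node (.leaf [1, 1, 0, 1, 1, 1, 0, 0, 1]) (.leaf [1, 0, 1, 0, 1, 1, 1, 0, 0, 1, 1, 0, 1]))) (.node (.node (.leaf []) (.leaf [1])) (.node (.leaf []) (.leaf [1])))) (.node (.node (.node (.leaf [1, 1, 0, 1, 0, 1]) (.leaf [1, 0, 1, 1, 1, 0, 1, 1, 0, 1, 0, 1])) (.node (.leaf [0, 1, 1, 1, 1, 1, 0, 1, 0, 1]) (.leaf [1, 1, 0, 1, 0, 1, 0, 0, 1]))) (.node (.node (.leaf [0, 1, 0, 0, 1]) (.leaf [1, 1, 1, 0, 0, 0, 1, 0, 0, 1, 0, 0, 1])) (.node (.leaf [1, 1, 1, 1, 1, 0, 0, 0, 1, 1, 0, 1, 1]) (.leaf [1, 1, 1, 0, 0, 1, 1, 1, 0, 1, 1, 1, 1]))))) (.node (.node (.node (.node (.leaf [1, 1, 0, 1, 0, 1]) (.leaf [0, 1, 0, 0, 1])) (.node (.leaf []) (.leaf [1]))) (.node (.node (.leaf [1, 1, 1, 1, 1, 1, 0, 1, 0, 1]) (.leaf [1, 0, 0, 0, 0, 0, 0, 0, 0, 0, 1])) (.node (.leaf [0, 1, 0, 0, 1, 0, 0, 0, 0, 0, 0, 0, 1]) (.leaf [1, 0, 1, 0, 0, 0, 0, 0, 1, 1, 1])))) (.node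 (.node (.node (.leaf [0, 0, 0, 0, 0, 0, 1]) (.leaf [1, 1, 0, 1, 1, 0, 1, 0, 0, 0, 0, 1])) (.node (.leaf [0, 1, 1, 0, 0, 0, 0, 0, 0, 1, 0, 0, 1]) (.leaf []))) (.node (.node (.leaf []) (.leaf [1, 1, 0, 1, 0, 0, 1, 0, 1, 0, 0, 1])) (.node (.leaf [0, 1, 1, 0, 1, 1, 0, 0, 1, 1, 0, 1]) (.leaf [1, 0, 0, 1, 1, 1])))))) (.node (.node (.node (.node (.node (.leaf [1]) (.leaf [1])) (.node (.leaf [0, 1, 1, 1, 1, 1, 0, 1, 0, 1]) (.leaf [0, 1, 0, 1, 0, 0, 1, 0, 0, 0, 0, 1]))) (.node (.node (.leaf [0, 0, 0, 0, 0, 0, 1]) (.leaf [1, 1, 1, 1, 0, 0, 0, 1, 0, 1, 0, 1])) (.node (.leaf [0, 0, 0, 0, 1, 1, 0, 0, 0, 0, 0, 1]) (.leaf [1])))) (.node (.node (.node (.leaf []) (.leaf [0, 0, 0, 1, 1, 1, 1])) (.node (.leaf [0, 1, 1, 1, 1, 0, 0, 0, 0, 1, 0, 1, 1]) (.leaf [1, 1, 0, 1, 0, 0, 0, 0, 1, 0, 0, 1]))) (.node (.node (.leaf [0, 1, 1, 0, 0, 0, 0, 0, 0, 1]) (.leaf [1])) (.node (.leaf [1, 1, 1, 0, 0, 0, 0, 0, 1, 1, 0, 0, 1]) (.leaf [1, 1, 1,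 1, 0, 1, 0, 0, 1, 1, 0, 1, 1]))))) (.node (.node (.node (.node (.leaf []) (.leaf [0, 1, 0, 1, 0, 1])) (.node (.leaf [1, 1, 0, 0, 1, 0, 0, 0, 1, 0, 0, 0, 1]) (.leaf [1]))) (.node (.node (.leaf [0, 1, 0, 0, 1, 0, 0, 1]) (.leaf [1, 0, 0, 1, 1, 0, 0, 0, 1, 0, 0, 1])) (.node (.leaf [0, 1, 1, 1, 1, 1, 0, 1, 0, 1]) (.leaf [0, 1, 0, 0, 1])))) (.node (.node (.node (.leaf []) (.leaf [1, 1, 0, 0, 1, 0, 1, 1, 1])) (.node (.leaf [0, 1, 1, 0, 1, 1, 0, 0, 0, 1, 0, 1]) (.leaf [1, 1, 1, 1, 1, 1, 0, 1, 1, 1]))) (.node (.node (.leaf [1]) (.leaf [1])) (.node (.leaf []) (.leaf [1, 0, 0, 0, 0, 0, 0, 1, 1]))))))) (.node (.node (.node (.node (.node (.node (.node (.leaf [1]) (.leaf [1, 0, 0, 0, 1, 0, 0, 0, 0, 0, 0, 1])) (.leaf [0, 1, 0, 1, 0, 0, 0, 0, 0, 0, 0, 1])) (.node (.leaf []) (.leaf [1, 0, 0, 0, 0, 1, 0, 1, 1, 0, 0, 1, 1]))) (.node (.node (.leaf [0, 1, 0, 0, 1]) (.leaf [])) (.node (.leaf [1, 1, 0, 0, 1, 0, 1]) (.leaf [1, 0, 0, 1,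 1, 1, 1, 0, 1])))) (.node (.node (.node (.leaf [0, 1, 0, 1, 0, 1]) (.leaf [0, 0, 1, 0, 0, 0, 0, 0, 0, 1])) (.node (.leaf [0, 1, 0, 0, 1, 0, 1]) (.leaf [0, 1, 0, 1, 0, 0, 0, 0, 0, 0, 0, 1]))) (.node (.node (.leaf [1, 0, 1, 0, 0, 0, 0, 0, 0, 1]) (.leaf [1])) (.node (.leaf [1]) (.leaf [0, 0, 0, 0, 0, 0, 0, 0, 1, 0, 0, 0, 1]))))) (.node (.node (.node (.node (.leaf []) (.leaf [1, 1, 0, 0, 1, 0, 1, 0, 0, 0, 0, 0, 1])) (.node (.leaf []) (.leaf [1, 1, 1, 0, 0, 0, 0, 0, 1, 1, 1, 0, 1]))) (.node (.node (.leaf []) (.leaf [0, 1, 0, 0, 1, 1, 0, 0, 1, 0, 0, 1])) (.node (.leaf [0, 1, 0, 0, 1, 1, 0, 1, 0, 0, 0, 1, 1]) (.leaf [0, 1, 1, 0, 0, 1, 1, 1, 0, 1, 1, 1, 1])))) (.node (.node (.node (.leaf []) (.leaf [0, 0, 0, 0, 0, 1, 1, 0, 1, 0, 1, 1, 1])) (.node (.leaf []) (.leaf [1, 0, 0, 1, 0, 1, 1, 0, 0, 0, 1, 0, 1]))) (.node (.node (.leaf [1, 1, 0, 0, 1]) (.leaf [1])) (.node (.leaf [1, 0, 1, 0, 0, 0, 0, 0, 0, 1]) (.leaf [0, 1, 0, 0,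 1, 0, 0, 1])))))) (.node (.node (.node (.node (.node (.leaf []) (.leaf [0, 1, 0, 0, 1])) (.node (.leaf [1]) (.leaf [0, 1, 1, 1, 0, 0, 1, 1, 0, 1, 0, 1]))) (.node (.node (.leaf []) (.leaf [1, 1, 1, 1, 1, 1, 0, 1, 0, 1])) (.node (.leaf [1, 0, 0, 0, 0, 0, 0, 0, 1]) (.leaf [1, 0, 0, 0, 0, 0, 1])))) (.node (.node (.node (.leaf [1]) (.leaf [0, 1, 1, 0, 0, 0, 0, 0, 1, 1, 1, 0, 1])) (.node (.leaf [1]) (.leaf [0, 0, 0, 0, 0, 0, 1, 0, 1]))) (.node (.node (.leaf [1, 1, 0, 1, 0, 0, 0, 0, 1, 0, 0, 1]) (.leaf [0, 0, 1, 1, 1, 0, 1, 1, 0, 1, 0, 1])) (.node (.leaf []) (.leaf [0, 1, 0, 0, 1, 1, 1, 0, 0, 0, 1, 1, 1]))))) (.node (.node (.node (.node (.leaf [0, 1, 0, 0, 1, 0, 0, 1]) (.leaf [1, 1, 0, 1, 1, 1, 0, 0, 1])) (.node (.leaf [1, 1, 0, 0, 1, 1, 0, 1, 0, 0, 0, 1, 1]) (.leaf [1, 1, 0, 0, 1, 1, 0, 0, 0, 0, 0, 1]))) (.node (.node (.leaf [1, 1, 0, 0, 1]) (.leaf [])) (.node (.leaf [0, 1, 0, 0, 1, 0, 1]) (.leaf [1])))) (.node (.node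 (.node (.leaf [0, 1, 0, 1, 0, 0, 0, 0, 0, 0, 0, 1]) (.leaf [0, 0, 0, 0, 0, 0, 1, 1, 1])) (.node (.leaf [1, 0, 1, 0, 0, 0, 0, 0, 0, 1]) (.leaf [1, 1, 1, 0, 1, 1, 0, 0, 0, 1, 1, 1]))) (.node (.node (.leaf []) (.leaf [1, 0, 0, 0, 0, 1, 1, 0, 1, 0, 1, 1, 1])) (.node (.leaf [1, 1, 0, 0, 1, 0, 1, 0, 1]) (.leaf [1, 0, 0, 1, 0, 0, 0, 0, 1, 0, 1, 1, 1])))))))) (.node (.node (.node (.node (.node (.node (.node (.node (.leaf []) (.leaf [1, 0, 0, 1, 1, 1, 0, 1, 0, 1])) (.leaf [0, 1, 1, 1, 1, 0, 0, 0, 1, 1, 0, 0, 1])) (.node (.leaf [1, 1, 0, 0, 1]) (.leaf [1]))) (.node (.node (.leaf []) (.leaf [0, 1, 1, 1, 1, 0, 1, 0, 0, 1, 0, 0, 1])) (.node (.leaf [1]) (.leaf [1, 0, 0, 1, 0, 1, 1, 0, 1, 0, 1, 0, 1])))) (.node (.node (.node (.leaf [1]) (.leaf [0, 0, 0, 0, 0, 0, 1])) (.node (.leaf []) (.leaf [1]))) (.node (.node (.leaf [0, 1, 1, 1, 1, 1, 0, 1, 0, 1]) (.leaf [0, 1, 0, 0, 1])) (.node (.leaf []) (.leaf [1]))))) (.node (.node (.node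 (.node (.leaf []) (.leaf [1, 1, 0, 0, 1, 0, 1])) (.node (.leaf [1, 1, 0, 1, 0, 0, 0, 0, 1, 0, 0, 1]) (.leaf [1, 1, 0, 0, 1, 0, 0, 1]))) (.node (.node (.leaf [1]) (.leaf [0, 0, 0, 0, 0, 1, 0, 1, 1, 0, 0, 1, 1])) (.node (.leaf [1]) (.leaf [1])))) (.node (.node (.node (.leaf [1]) (.leaf [0, 0, 0, 0, 0, 0, 1])) (.node (.leaf []) (.leaf [1]))) (.node (.node (.leaf []) (.leaf [1, 1, 1, 0, 0, 0, 1, 0, 0, 1, 0, 0, 1])) (.node (.leaf [0, 1, 0, 0, 1]) (.leaf [1, 1, 1, 0, 0, 0, 1, 1, 1, 1, 1, 0, 1])))))) (.node (.node (.node (.node (.node (.leaf [0, 1, 0, 1, 0, 1]) (.leaf [])) (.node (.leaf [0, 0, 1, 0, 0, 0, 0, 0, 0, 1]) (.leaf [1, 1, 0, 1, 1, 0, 0, 0, 0, 0, 0, 1]))) (.node (.node (.leaf []) (.leaf [1, 0, 0, 0, 1, 1, 0, 0, 0, 0, 0, 1])) (.node (.leaf [1, 1, 1, 1, 1, 0, 0, 0, 1, 1, 0, 0, 1]) (.leaf [1])))) (.node (.node (.node (.leaf [1, 1, 0, 0, 1, 0, 0, 1]) (.leaf [1, 0, 1, 1, 1, 1, 0, 1, 1, 1])) (.node (.leaf []) (.leaf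 [1, 1, 0, 0, 1, 0, 0, 1, 1]))) (.node (.node (.leaf []) (.leaf [0, 1, 1, 1, 1, 1, 0, 1, 1, 1])) (.node (.leaf []) (.leaf [1, 0, 1, 1, 0, 1, 1, 0, 0, 1, 0, 1, 1]))))) (.node (.node (.node (.node (.leaf []) (.leaf [1])) (.node (.leaf [1]) (.leaf [1, 0, 0, 1, 1, 1, 1]))) (.node (.node (.leaf [1, 1, 0, 1, 1, 1, 0, 0, 1]) (.leaf [0, 1, 0, 1, 0, 1, 1])) (.node (.leaf []) (.leaf [0, 1, 0, 0, 1, 0, 1, 0, 1])))) (.node (.node (.node (.leaf [1]) (.leaf [0, 1, 0, 0, 1])) (.node (.leaf [0, 1, 0, 0, 1]) (.leaf [0, 0, 1, 0, 0, 0, 0, 0, 0, 1, 1, 0, 1]))) (.node (.node (.leaf []) (.leaf [1, 1, 0, 0, 1, 1, 0, 1, 0, 0, 1])) (.node (.leaf [1]) (.leaf [1, 0, 0, 0, 0, 0, 0, 0, 0, 0, 0, 0, 1]))))))) (.node (.node (.node (.node (.node (.node (.node (.leaf [1, 1, 0, 1, 0, 1]) (.leaf [0, 0, 0, 0, 0, 0, 0, 0, 0, 1])) (.leaf [])) (.node (.leaf [0, 1, 0, 0, 1]) (.leaf [0, 1, 0, 0, 1]))) (.node (.node (.leaf [0, 1, 1, 1, 1, 1, 0, 1, 0, 1]) (.leaf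 [1, 1, 0, 0, 1])) (.node (.leaf [0, 1, 1, 0, 0, 0, 0, 0, 1, 1, 0, 0, 1]) (.leaf [0, 0, 0, 1, 1, 1])))) (.node (.node (.node (.leaf [0, 1, 0, 1, 0, 1]) (.leaf [0, 1, 0, 1, 0, 1, 1])) (.node (.leaf [1]) (.leaf [0, 0, 0, 0, 0, 0, 0, 1]))) (.node (.node (.leaf [1]) (.leaf [])) (.node (.leaf [1, 1, 0, 0, 1]) (.leaf [0, 0, 0, 0, 0, 0, 0, 0, 1]))))) (.node (.node (.node (.node (.leaf []) (.leaf [1])) (.node (.leaf []) (.leaf [1]))) (.node (.node (.leaf []) (.leaf [0, 1, 0, 1, 1, 0, 1, 0, 0, 0, 0, 1])) (.node (.leaf [0, 1, 0, 0, 1]) (.leaf [1, 0, 0, 1, 1, 1, 1])))) (.node (.node (.node (.leaf []) (.leaf [1, 1, 1, 1, 1, 0, 1, 0, 0, 1, 0, 0, 1])) (.node (.leaf [0, 0, 0, 1, 1, 0, 0, 0, 0, 0, 0, 1]) (.leaf [1, 0, 0, 0, 0, 0, 1]))) (.node (.node (.leaf [1, 1, 1, 1, 1, 1, 0, 1, 0, 1]) (.leaf [1])) (.node (.leaf []) (.leaf [1, 1, 1, 0, 1, 0, 0, 1, 0, 1, 1, 0, 1])))))) (.node (.node (.node (.node (.node (.leaf []) (.leaf [0, 0,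 1, 1, 1, 1, 0, 1, 0, 1])) (.node (.leaf [1, 1, 1, 0, 0, 0, 0, 0, 0, 1]) (.leaf [1, 0, 0, 1, 0, 0, 1, 0, 1, 0, 0, 1]))) (.node (.node (.leaf [1, 1, 0, 0, 1]) (.leaf [1, 0, 0, 0, 0, 0, 1])) (.node (.leaf []) (.leaf [1, 0, 0, 1, 1, 0, 0, 0, 0, 0, 0, 1])))) (.node (.node (.node (.leaf [1]) (.leaf [0, 1, 0, 0, 1, 0, 1])) (.node (.leaf [1, 1, 0, 0, 1]) (.leaf [0, 0, 0, 0, 0, 0, 1, 0, 1, 0, 1, 0, 1]))) (.node (.node (.leaf [1, 0, 0, 0, 0, 0, 1]) (.leaf [1])) (.node (.leaf [0, 0, 0, 1, 1, 0, 0, 0, 1, 0, 0, 1]) (.leaf [0, 1, 0, 1, 0, 0, 0, 0, 1, 0, 0, 1]))))) (.node (.node (.node (.node (.leaf [0, 1, 0, 0, 1]) (.leaf [0, 0, 1, 0, 1, 1, 1, 0, 0, 1, 0, 0, 1])) (.node (.leaf [0, 1, 0, 0, 1]) (.leaf [0, 1, 1, 0, 1, 1, 1, 0, 1, 1, 0, 1]))) (.node (.node (.leaf []) (.leaf [1])) (.node (.leaf [1]) (.leaf [1])))) (.node (.node (.node (.leaf []) (.leaf [0, 0, 0, 0, 0, 0, 1, 1, 1])) (.node (.leaf []) (.leaf [0, 0, 1, 1, 0, 0, 1, 0,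 1, 1, 0, 1, 1]))) (.node (.node (.leaf [0, 1, 0, 0, 1, 0, 0, 1]) (.leaf [])) (.node (.leaf [1, 1, 1, 0, 0, 0, 0, 0, 1, 1, 0, 0, 1]) (.leaf [0, 1, 1, 0, 0, 1, 0, 0, 0, 1, 0, 0, 1]))))))))))

def twoL1 : Janko.Tree (List ℤ) :=
  (.node (.node (.node (.node (.node (.node (.node (.node (.node (.node (.leaf []) (.leaf [0, 1, 0, 0, 0, 0, 0, 0, 0, 0, 0, 0, 0])) (.leaf [0, 1])) (.node (.leaf [0, 1, 1, 0, 0, 0, 0, 0, 0, 1]) (.leaf []))) (.node (.node (.leaf []) (.leaf [])) (.node (.leaf [0, 0, 0, 0, 0, 0, 0, 1]) (.leaf [1, 0, 0, 0, 1, 1, 0, 0, 1, 0, 0, 1])))) (.node (.node (.node (.leaf []) (.leaf [0, 0, 0, 1, 1, 0, 0, 0, 1, 0, 0, 1])) (.node (.leaf [1, 0, 1, 0, 1, 0, 0, 1, 0, 1]) (.leaf []))) (.node (.node (.leaf [0, 1]) (.leaf [1, 1, 1, 0, 0, 0, 1, 0, 1, 1])) (.node (.leaf [1, 1, 0, 0, 1, 1, 0, 0, 1, 0, 0, 1]) (.leaf [1, 0, 1, 0, 0, 0, 1, 0, 1, 1]))))) (.node (.node (.node (.node (.leaf [1, 1, 0, 1, 1, 1]) (.leaf [])) (.node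 (.leaf [0, 0, 1, 1, 1, 1, 0, 0, 0, 1]) (.leaf [0, 0, 0, 0, 1, 0, 1, 0, 0, 0, 1, 0, 1]))) (.node (.node (.leaf [0, 1]) (.leaf [0, 1])) (.node (.leaf [1, 0, 0, 0, 1, 1, 0, 0, 1, 0, 0, 1]) (.leaf [0, 0, 1, 0, 1, 0, 1, 1, 1, 1, 1, 0, 1])))) (.node (.node (.node (.leaf [1, 0, 1, 1, 1, 1, 0, 1, 0, 1]) (.leaf [0, 1, 1, 0, 0, 1, 0, 0, 0, 1, 1, 1])) (.node (.leaf [0, 1, 1, 0, 0, 0, 0, 0, 1, 1]) (.leaf [0, 1]))) (.node (.node (.leaf [1, 0, 0, 1, 1, 1]) (.leaf [0, 1, 1, 0, 0, 0, 0, 0, 0, 1])) (.node (.leaf [1, 1, 1, 0, 1, 0, 0, 0, 0, 1]) (.leaf [0, 1])))))) (.node (.node (.node (.node (.node (.leaf []) (.leaf [0, 1])) (.node (.leaf [1, 0, 1, 0, 1, 0, 0, 1, 0, 1]) (.leaf [0, 0, 1, 0, 0, 1, 0, 0, 0, 1, 1, 1]))) (.node (.node (.leaf [1, 1, 0, 0, 0, 0, 1]) (.leaf [0, 0, 0, 0, 0, 1, 0, 1, 0, 0, 1])) (.node (.leaf [0, 1]) (.leaf [0, 0, 1, 0, 0, 0, 0, 0, 0, 1])))) (.node (.node (.node (.leaf [1, 1, 0, 0, 1, 0, 0, 0, 1]) (.leaf [1,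 0, 1, 0, 1, 0, 0, 1, 1, 1, 1, 0, 1])) (.node (.leaf [1, 1, 0, 0, 1, 1, 0, 0, 1, 0, 0, 1]) (.leaf [0, 1, 1, 0, 1, 0, 1, 1, 0, 1, 1, 0, 1]))) (.node (.node (.leaf [0, 1]) (.leaf [0, 1, 0, 0, 1, 1, 0, 0, 0, 0, 0, 1])) (.node (.leaf [1, 1, 1, 0, 0, 0, 0, 0, 1, 1]) (.leaf [0, 1]))))) (.node (.node (.node (.node (.leaf []) (.leaf [])) (.node (.leaf [1, 0, 0, 0, 1, 1, 0, 0, 1, 0, 0, 1]) (.leaf [0, 1]))) (.node (.node (.leaf [1, 0, 0, 1, 1, 1, 0, 1]) (.leaf [0, 1])) (.node (.leaf [1, 0, 1, 0, 1, 0, 0, 1, 0, 1]) (.leaf [0, 0, 0, 0, 0, 0, 0, 0, 1])))) (.node (.node (.node (.leaf [0, 1]) (.leaf [1, 0, 0, 0, 0, 0, 1, 0, 1])) (.node (.leaf [1, 1, 1, 0, 1, 0, 0, 0, 0, 1]) (.leaf [0, 1, 0, 0, 0, 1, 0, 0, 0, 0, 0, 1]))) (.node (.node (.leaf [0, 0, 1, 0, 0, 0, 0, 1, 0, 1]) (.leaf [0, 1, 0, 1, 0, 1, 0, 1])) (.node (.leaf [0, 0, 0, 0, 0, 0, 0, 1]) (.leaf [1, 0, 0, 0, 1, 1, 1, 0, 0, 0, 1, 1, 1]))))))) (.node (.node (.node (.node (.node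 (.node (.node (.leaf []) (.leaf [1, 1, 0, 0, 1, 0, 1])) (.leaf [1, 0, 0, 0, 1, 1, 0, 0, 0, 0, 0, 1])) (.node (.leaf [0, 0, 0, 1, 1, 0, 0, 0, 0, 0, 0, 1]) (.leaf [0, 0, 1, 0, 0, 0, 0, 0, 0, 1]))) (.node (.node (.leaf [0, 1]) (.leaf [1, 0, 0, 1, 0, 1, 0, 0, 1])) (.node (.leaf [0, 0, 0, 0, 0, 0, 1]) (.leaf [0, 0, 1, 0, 0, 0, 0, 1, 0, 1, 1, 0, 1])))) (.node (.node (.node (.leaf [0, 0, 1, 0, 0, 0, 0, 0, 0, 1]) (.leaf [0, 1])) (.node (.leaf [0, 1, 0, 0, 0, 0, 0, 1]) (.leaf [1, 1, 0, 0, 1, 0, 0, 0, 1, 0, 1, 0, 1]))) (.node (.node (.leaf [0, 1]) (.leaf [0, 0, 1, 1, 0, 1, 0, 0, 0, 1])) (.node (.leaf [1, 1, 0, 0, 1, 1, 0, 0, 1, 0, 0, 1]) (.leaf [1, 1, 0, 1, 1, 1, 0, 1, 1, 0, 0, 0, 1]))))) (.node (.node (.node (.node (.leaf []) (.leaf [0, 1, 1, 0, 1, 1, 0, 0, 1, 1, 1, 1])) (.node (.leaf [1, 1, 0, 1, 1, 1, 1]) (.leaf [0, 1, 0, 0, 0, 1, 0, 0, 0, 0, 0, 1]))) (.node (.node (.leaf []) (.leaf [1, 1, 0, 1, 0, 0, 0, 0, 1, 0, 0, 1]))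 (.node (.leaf [0, 0, 1, 0, 0, 0, 0, 0, 0, 1]) (.leaf [1, 0, 0, 1, 1, 0, 0, 0, 0, 0, 0, 1])))) (.node (.node (.node (.leaf []) (.leaf [1, 0, 0, 1, 0, 0, 0, 0, 0, 0, 0, 1])) (.node (.leaf [0, 0, 0, 0, 0, 1, 0, 0, 0, 0, 0, 1]) (.leaf [0, 0, 1, 0, 0, 0, 0, 0, 0, 1]))) (.node (.node (.leaf []) (.leaf [1, 1, 0, 0, 1, 1, 0, 0, 0, 0, 0, 1])) (.node (.leaf [0, 1, 1, 1, 0, 1, 0, 0, 0, 1]) (.leaf [1, 1, 1, 0, 1, 0, 0, 0, 1, 1])))))) (.node (.node (.node (.node (.node (.leaf []) (.leaf [0, 1])) (.node (.leaf [0, 0, 1, 1, 0, 1, 0, 1, 0, 1]) (.leaf [1, 1, 1, 0, 1, 0, 0, 0, 1, 1]))) (.node (.node (.leaf []) (.leaf [0, 1])) (.node (.leaf [0, 1, 0, 1, 1, 1, 1]) (.leaf [0, 1, 1, 0, 0, 0, 0, 0, 1, 1])))) (.node (.node (.node (.leaf [0, 1]) (.leaf [0, 1, 1, 0, 0, 0, 0, 1, 1, 1])) (.node (.leaf [1, 1, 0, 0, 1, 1, 0, 0, 0, 0, 0, 1]) (.leaf [0, 0, 1, 0, 0, 0, 1, 0, 1, 1, 0, 1, 1]))) (.node (.node (.leaf [1, 1, 0, 0, 1, 0, 0, 1]) (.leaf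 [1, 0, 0, 0, 1, 0, 0, 1])) (.node (.leaf [0, 0, 0, 0, 0, 1, 0, 0, 0, 0, 0, 1]) (.leaf [1, 0, 1, 0, 1, 0, 0, 0, 0, 1, 0, 0, 1]))))) (.node (.node (.node (.node (.leaf [1, 0, 0, 1, 1, 1, 0, 1]) (.leaf [])) (.node (.leaf [0, 0, 1, 0, 0, 0, 0, 0, 0, 1]) (.leaf [0, 0, 0, 0, 1, 1, 1, 0, 0, 0, 0, 1]))) (.node (.node (.leaf []) (.leaf [0, 1, 0, 0, 1, 1, 0, 0, 0, 0, 0, 1])) (.node (.leaf [0, 1, 0, 0, 0, 0, 0, 1]) (.leaf [0, 0, 1, 1, 1, 0, 0, 0, 1, 1, 1, 1])))) (.node (.node (.node (.leaf [1, 1, 0, 1, 0, 0, 0, 0, 0, 0, 0, 1]) (.leaf [0, 1, 0, 0, 0, 1, 0, 1, 0, 0, 1])) (.node (.leaf [0, 1, 1, 1, 0, 1, 0, 0, 0, 1]) (.leaf [1, 1, 1, 0, 1, 0, 1, 0, 0, 1, 0, 0, 1]))) (.node (.node (.leaf [1, 0, 0, 1, 1, 1, 1]) (.leaf [1, 0, 0, 1, 0, 1, 0, 1])) (.node (.leaf [0, 0, 0, 0, 0, 0, 1]) (.leaf [0, 1, 0, 0, 0, 1, 0, 0, 1, 0, 0, 1])))))))) (.node (.node (.node (.node (.node (.node (.node (.node (.leaf []) (.leaf [1, 0, 0, 0, 1, 0, 1]))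 (.leaf [0, 0, 0, 0, 0, 0, 0, 1])) (.node (.leaf []) (.leaf [1, 0, 1, 0, 0, 0, 1, 0, 0, 1]))) (.node (.node (.leaf [0, 1]) (.leaf [0, 1, 1, 0, 0, 0, 0, 0, 0, 1])) (.node (.leaf [1, 1, 0, 1, 0, 1]) (.leaf [0, 1, 1, 0, 1, 1, 1, 0, 1, 1, 0, 0, 1])))) (.node (.node (.node (.leaf [0, 1]) (.leaf [1, 0, 1, 1, 1, 1, 1, 1, 0, 1])) (.node (.leaf [1, 1, 0, 1, 1, 1, 1, 0, 1]) (.leaf [0, 1, 0, 1, 0, 1]))) (.node (.node (.leaf [1, 0, 1, 0, 1, 0, 0, 1, 0, 1]) (.leaf [])) (.node (.leaf []) (.leaf [1, 1, 0, 0, 0, 1, 1, 0, 0, 0, 0, 1]))))) (.node (.node (.node (.node (.leaf []) (.leaf [0, 0, 0, 0, 1, 0, 0, 0, 0, 0, 1])) (.node (.leaf [1, 1, 0, 0, 1, 0, 0, 1]) (.leaf [1, 0, 0, 0, 1, 1, 0, 0, 0, 0, 0, 1]))) (.node (.node (.leaf [0, 0, 1, 0, 0, 0, 0, 1, 0, 1]) (.leaf [0, 1])) (.node (.leaf [0, 1]) (.leaf [0, 0, 0, 1, 1, 0, 0, 0, 0, 0, 0, 1])))) (.node (.node (.node (.leaf [0, 0, 0, 0, 0, 0, 0, 0, 1]) (.leaf [1, 1, 0, 1, 1, 0, 0, 0, 0,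 0, 0, 1])) (.node (.leaf [1, 1, 0, 0, 1, 0, 0, 1, 0, 0, 0, 0, 1]) (.leaf [0, 1]))) (.node (.node (.leaf []) (.leaf [0, 0, 0, 1, 0, 1])) (.node (.leaf [0, 1, 0, 0, 1, 0, 1]) (.leaf [0, 1, 0, 0, 0, 0, 0, 0, 1])))))) (.node (.node (.node (.node (.node (.leaf []) (.leaf [0, 0, 1, 1, 1, 1, 0, 1, 0, 1])) (.node (.leaf [0, 1]) (.leaf [0, 1]))) (.node (.node (.leaf [1, 0, 0, 1, 1, 1]) (.leaf [])) (.node (.leaf [0, 0, 0, 0, 0, 0, 0, 1]) (.leaf [0, 1, 0, 0, 1, 1, 0, 0, 1, 0, 0, 1])))) (.node (.node (.node (.leaf [0, 0, 0, 1, 1, 1, 0, 1]) (.leaf [1, 1, 0, 1, 1, 0, 0, 0, 1, 0, 0, 1])) (.node (.leaf []) (.leaf [1, 1, 0, 1, 1, 0, 0, 0, 1, 0, 1, 1, 1]))) (.node (.node (.leaf [1, 0, 1, 1, 1, 1, 0, 0, 0, 1]) (.leaf [1, 0, 1, 0, 1, 0, 0, 1, 1, 1])) (.node (.leaf [0, 1, 0, 0, 1, 0, 0, 1, 0, 0, 0, 0, 1]) (.leaf [0, 0, 0, 0, 0, 1, 1, 0, 0, 0, 0, 1]))))) (.node (.node (.node (.node (.leaf [0, 0, 0, 1, 1, 1]) (.leaf [])) (.node (.leaf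 [0, 1]) (.leaf [1, 1, 1, 0, 0, 0, 1, 0, 1, 1, 0, 1, 1]))) (.node (.node (.leaf [0, 1, 1, 0, 0, 0, 0, 0, 0, 1]) (.leaf [0, 0, 0, 0, 0, 1, 0, 0, 0, 0, 0, 1])) (.node (.leaf [0, 1, 0, 1, 1, 1, 1]) (.leaf [1, 1, 0, 1, 0, 0, 0, 0, 1, 0, 1, 1])))) (.node (.node (.node (.leaf [0, 1]) (.leaf [1, 1, 0, 0, 1, 0, 0, 0, 0, 0, 1])) (.node (.leaf [1, 1, 0, 0, 1, 0, 1]) (.leaf [0, 0, 1, 0, 0, 0, 0, 1, 1, 1]))) (.node (.node (.leaf []) (.leaf [0, 1])) (.node (.leaf [0, 1, 0, 1, 0, 1]) (.leaf [1, 1, 1, 0, 0, 0, 1, 0, 0, 1]))))))) (.node (.node (.node (.node (.node (.node (.node (.leaf []) (.leaf [1, 0, 0, 0, 1, 0, 0, 0, 0, 0, 0, 1])) (.leaf [0, 0, 0, 1, 1, 0, 1, 0, 0, 0, 0, 1])) (.node (.leaf [0, 1]) (.leaf [0, 1, 0, 0, 0, 1, 0, 0, 0, 0, 0, 1]))) (.node (.node (.leaf [1, 0, 1, 0, 1, 0, 0, 1, 0, 1]) (.leaf [1, 0, 0, 0, 1, 1, 0, 0, 0, 0, 0, 1])) (.node (.leaf [0, 0, 0, 1, 0, 1]) (.leaf [1, 1, 1, 0, 0, 0, 1, 0, 0, 1])))) (.node (.node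 (.node (.leaf []) (.leaf [0, 0, 1, 1, 0, 1, 0, 1, 0, 1])) (.node (.leaf [0, 1, 0, 0, 0, 0, 0, 0, 1]) (.leaf [1, 0, 1, 0, 1, 0, 0, 0, 1, 1]))) (.node (.node (.leaf [1, 0, 1, 1, 0, 1, 0, 1, 0, 1]) (.leaf [0, 0, 0, 1, 1, 0, 1, 0, 1, 0, 0, 1])) (.node (.leaf [0, 1, 1, 0, 0, 0, 0, 0, 0, 1]) (.leaf [0, 1, 0, 1, 1, 0, 0, 0, 0, 0, 0, 1]))))) (.node (.node (.node (.node (.leaf [0, 1]) (.leaf [0, 1, 0, 0, 0, 1, 0, 0, 1, 0, 0, 1])) (.node (.leaf [1, 1, 0, 1, 0, 1, 1]) (.leaf [0, 1]))) (.node (.node (.leaf [0, 0, 0, 1, 1, 1, 1]) (.leaf [0, 1, 0, 0, 0, 0, 0, 1])) (.node (.leaf []) (.leaf [1, 1, 0, 1, 0, 0, 0, 0, 0, 0, 0, 1])))) (.node (.node (.node (.leaf [0, 0, 0, 1, 1, 1]) (.leaf [0, 1, 1, 0, 0, 0, 0, 1, 1, 1, 1, 0, 1])) (.node (.leaf [0, 0, 0, 0, 0, 1, 0, 0, 1, 0, 0, 1]) (.leaf [0, 1, 0, 1, 1, 1, 1]))) (.node (.node (.leaf [0, 1]) (.leaf [1, 0, 1, 1, 1, 1, 1, 0, 1, 1, 0, 1, 1])) (.node (.leaf [0, 0, 0, 0, 0, 1, 0, 0, 0, 0,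 0, 1]) (.leaf [0, 0, 1, 0, 0, 0, 1, 1, 0, 1, 1, 0, 1])))))) (.node (.node (.node (.node (.node (.leaf [0, 1]) (.leaf [1, 1, 1, 0, 1, 0, 0, 1, 0, 1])) (.node (.leaf [0, 1]) (.leaf [0, 1]))) (.node (.node (.leaf []) (.leaf [0, 0, 1, 0, 0, 0, 0, 1, 0, 1])) (.node (.leaf [0, 1, 0, 1, 0, 1, 1]) (.leaf [1, 1, 1, 0, 0, 0, 1, 0, 1, 1, 1])))) (.node (.node (.node (.leaf [0, 1, 1, 1, 1, 1, 0, 1, 0, 1]) (.leaf [0, 1, 0, 0, 0, 0, 0, 1])) (.node (.leaf [0, 1, 1, 0, 0, 0, 0, 0, 0, 1]) (.leaf [1, 1, 0, 0, 0, 0, 0, 0, 1, 0, 1]))) (.node (.node (.leaf [0, 1, 0, 0, 0, 0, 1]) (.leaf [0, 1])) (.node (.leaf [0, 0, 0, 0, 0, 1, 0, 0, 1, 0, 0, 1]) (.leaf [1, 0, 0, 1, 0, 0, 0, 0, 0, 0, 0, 1]))))) (.node (.node (.node (.node (.leaf [0, 1]) (.leaf [])) (.node (.leaf []) (.leaf [0, 0, 0, 0, 0, 0, 0, 0, 1]))) (.node (.node (.leaf [0, 0, 0, 1, 1, 0, 0, 0, 0, 0, 0, 1]) (.leaf [0, 1])) (.node (.leaf [0, 1, 0, 0, 0, 0, 0, 0, 1]) (.leaf [0, 0, 1,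 0, 0, 0, 0, 0, 0, 1])))) (.node (.node (.node (.leaf [1, 1, 0, 1, 0, 0, 0, 0, 0, 0, 0, 1]) (.leaf [0, 0, 0, 0, 0, 1, 0, 0, 0, 0, 0, 1])) (.node (.leaf [0, 0, 0, 0, 0, 1, 0, 0, 0, 0, 0, 1]) (.leaf [0, 1]))) (.node (.node (.leaf [1, 0, 0, 1, 1, 1, 0, 1]) (.leaf [1, 0, 0, 1, 0, 1, 1, 1, 1])) (.node (.leaf [1, 0, 0, 1, 0, 1]) (.leaf [0, 0, 1, 0, 1, 1, 0, 0, 0, 1, 1, 1]))))))))) (.node (.node (.node (.node (.node (.node (.node (.node (.node (.leaf [0, 1]) (.leaf [0, 0, 0, 0, 0, 0, 0, 1, 0, 0, 0, 0, 0])) (.leaf [0, 0, 0, 0, 0, 1, 0, 0, 1, 0, 0, 1])) (.node (.leaf [0, 1, 0, 0, 1, 1, 0, 0, 0, 0, 0, 1]) (.leaf [0, 1, 1, 0, 0, 0, 0, 0, 0, 1]))) (.node (.node (.leaf [0, 1, 1, 0, 0, 0, 0, 0, 0, 1]) (.leaf [])) (.node (.leaf []) (.leaf [0, 0, 1, 0, 0, 0, 0, 1, 0, 1, 1, 0, 1])))) (.node (.node (.node (.leaf [1, 1, 0, 1, 1, 1]) (.leaf [0, 1, 1, 0, 0, 0, 1, 0, 1, 1])) (.node (.leaf [0, 1, 1, 0, 0, 0, 0, 1, 0, 1]) (.leaf [0, 1])))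 (.node (.node (.leaf [0, 1]) (.leaf [0, 0, 1, 1, 1, 1, 1, 1, 0, 1])) (.node (.leaf [0, 0, 1, 0, 0, 0, 0, 0, 0, 1]) (.leaf [1, 0, 1, 0, 1, 0, 1, 0, 1, 1, 1]))))) (.node (.node (.node (.node (.leaf [0, 1]) (.leaf [0, 1])) (.node (.leaf []) (.leaf [0, 1, 0, 1, 1, 0, 1, 0, 1, 0, 0, 1]))) (.node (.node (.leaf [1, 1, 1, 0, 1, 0, 0, 1, 0, 1]) (.leaf [1, 0, 0, 0, 1, 0, 0, 0, 0, 0, 1])) (.node (.leaf [0, 1, 1, 0, 0, 0, 0, 0, 0, 1]) (.leaf [1, 0, 0, 0, 0, 0, 0, 0, 1, 0, 1])))) (.node (.node (.node (.leaf []) (.leaf [0, 1, 1, 0, 0, 0, 0, 0, 1, 1])) (.node (.leaf [0, 0, 1, 1, 1, 1, 0, 1, 0, 1]) (.leaf []))) (.node (.node (.leaf [1, 0, 0, 1, 0, 0, 0, 0, 0, 0, 0, 1]) (.leaf [1, 1, 0, 1, 1, 0, 0, 0, 0, 0, 0, 1])) (.node (.leaf [0, 1, 0, 0, 1, 1, 0, 0, 0, 0, 0, 1, 1]) (.leaf [0, 1, 0, 0, 0, 0, 0, 0, 1])))))) (.node (.node (.node (.node (.node (.leaf []) (.leaf [1, 0, 0, 0, 0, 1, 0, 1, 0, 0, 1])) (.node (.leaf [0, 1, 1, 0, 0, 0,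 0, 1, 0, 1]) (.leaf [0, 1]))) (.node (.node (.leaf [0, 1]) (.leaf [0, 0, 1, 1, 1, 1, 0, 1, 0, 1])) (.node (.leaf [0, 0, 0, 0, 0, 1, 0, 0, 1, 0, 0, 1]) (.leaf [0, 0, 1, 0, 1, 0, 1, 0, 1, 1, 0, 0, 1])))) (.node (.node (.node (.leaf []) (.leaf [1, 1, 0, 0, 1, 1, 0, 0, 1, 0, 0, 1])) (.node (.leaf [0, 0, 1, 0, 0, 0, 0, 0, 0, 1]) (.leaf [1, 0, 1, 0, 0, 0, 1, 0, 1, 1, 1]))) (.node (.node (.leaf [0, 1, 1, 1, 0, 1, 0, 0, 0, 1]) (.leaf [0, 1, 0, 1, 1, 0, 0, 0, 1, 0, 0, 1])) (.node (.leaf [0, 0, 1, 1, 1, 1, 0, 1, 0, 1]) (.leaf [1, 0, 0, 1, 0, 0, 0, 0, 1, 0, 1, 1]))))) (.node (.node (.node (.node (.leaf [0, 0, 0, 0, 0, 0, 0, 0, 1]) (.leaf [0, 1])) (.node (.leaf [0, 1, 1, 0, 0, 0, 0, 0, 0, 1]) (.leaf [0, 0, 0, 1, 0, 0, 1, 0, 1, 0, 0, 1]))) (.node (.node (.leaf [0, 1, 0, 1, 1, 1, 0, 1]) (.leaf [])) (.node (.leaf [0, 1, 1, 0, 0, 0, 0, 1, 0, 1]) (.leaf [])))) (.node (.node (.node (.leaf []) (.leaf [1, 1, 0, 1, 0, 1, 0, 1])) (.node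 (.leaf [1, 1, 0, 0, 1, 1, 0, 0, 1, 0, 0, 1, 1]) (.leaf [1, 1, 1, 0, 1, 0, 0, 1, 1, 1]))) (.node (.node (.leaf [1, 0, 0, 0, 0, 0, 1]) (.leaf [0, 1, 0, 0, 1, 0, 0, 0, 0, 0, 1])) (.node (.leaf []) (.leaf [0, 1]))))))) (.node (.node (.node (.node (.node (.node (.node (.leaf []) (.leaf [0, 0, 0, 0, 0, 0, 0, 0, 0, 1])) (.leaf [0, 0, 0, 1, 0, 1])) (.node (.leaf []) (.leaf [1, 0, 1, 1, 0, 1, 1, 1, 0, 1]))) (.node (.node (.leaf [0, 1]) (.leaf [1, 0, 0, 1, 1, 0, 1, 0, 0, 0, 0, 1])) (.node (.leaf [1, 1, 0, 0, 0, 0, 1, 0, 1]) (.leaf [0, 1, 0, 0, 1, 1, 1, 0, 1, 0, 0, 1])))) (.node (.node (.node (.leaf [0, 1, 0, 1, 1, 1]) (.leaf [0, 0, 1, 1, 0, 1, 0, 0, 0, 1])) (.node (.leaf [0, 0, 0, 0, 0, 0, 1]) (.leaf [1, 1, 0, 0, 1, 1, 0, 0, 1, 0, 0, 1]))) (.node (.node (.leaf [1, 0, 1, 1, 0, 1, 0, 0, 0, 1]) (.leaf [0, 0, 1, 1, 0, 1, 0, 1, 0, 1])) (.node (.leaf []) (.leaf [0, 1, 1, 0, 1, 0, 0, 0, 1, 1, 0, 0, 1]))))) (.node (.node (.node (.node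 (.leaf [0, 1, 1, 0, 0, 0, 0, 0, 0, 1]) (.leaf [1, 1, 0, 1, 0, 0, 0, 0, 0, 0, 0, 1])) (.node (.leaf [1, 1, 0, 0, 0, 0, 1]) (.leaf [0, 0, 1, 0, 0, 0, 0, 1, 1, 1, 1, 0, 1]))) (.node (.node (.leaf [0, 0, 0, 0, 0, 0, 0, 0, 1]) (.leaf [0, 1, 0, 0, 0, 1, 0, 0, 1, 0, 0, 1])) (.node (.leaf [0, 1, 1, 1, 1, 1, 0, 1, 0, 1]) (.leaf [0, 1, 1, 0, 1, 1, 0, 0, 0, 1, 1, 1])))) (.node (.node (.node (.leaf [0, 1, 0, 0, 0, 0, 0, 0, 1]) (.leaf [1, 1, 0, 0, 1, 1, 0, 0, 0, 0, 0, 1])) (.node (.leaf [0, 1, 1, 0, 0, 0, 0, 0, 1, 1]) (.leaf [1, 1, 1, 1, 0, 1, 1, 1, 0, 1]))) (.node (.node (.leaf [0, 1]) (.leaf [0, 1, 1, 0, 0, 0, 0, 1, 1, 1, 1, 0, 1])) (.node (.leaf [1, 0, 1, 1, 1, 1, 0, 0, 0, 1]) (.leaf [0, 1, 0, 0, 0, 0, 0, 1, 1])))))) (.node (.node (.node (.node (.node (.leaf []) (.leaf [0, 1])) (.node (.leaf [0, 0, 1, 0, 1, 0, 0, 0, 0, 1]) (.leaf [0, 1, 0, 0, 0, 0, 0, 1]))) (.node (.node (.leaf [1, 0, 0, 1, 0, 0, 0, 0, 1, 0, 0, 1]) (.leaf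 [1, 1, 1, 0, 1, 0, 0, 1, 0, 1])) (.node (.leaf [0, 1, 0, 0, 0, 0, 1]) (.leaf [1, 0, 0, 1, 1, 1, 1])))) (.node (.node (.node (.leaf []) (.leaf [1, 0, 0, 0, 1, 0, 0, 1])) (.node (.leaf []) (.leaf [0, 0, 0, 1, 0, 1, 1]))) (.node (.node (.leaf [0, 0, 0, 0, 0, 0, 0, 1]) (.leaf [0, 1, 0, 0, 0, 0, 0, 1])) (.node (.leaf [0, 1, 1, 0, 0, 0, 0, 0, 1, 1]) (.leaf [1, 1, 0, 0, 1, 1, 1, 0, 0, 0, 1, 1, 1]))))) (.node (.node (.node (.node (.leaf [0, 1, 0, 1, 1, 1, 0, 1]) (.leaf [0, 1, 0, 0, 1, 1, 0, 0, 0, 0, 0, 1])) (.node (.leaf [0, 1, 1, 1, 1, 1, 0, 1, 0, 1]) (.leaf [0, 1]))) (.node (.node (.leaf [0, 1]) (.leaf [])) (.node (.leaf [1, 0, 0, 0, 0, 0, 1]) (.leaf [0, 1, 0, 0, 1, 0, 1, 0, 0, 0, 1, 0, 1])))) (.node (.node (.node (.leaf []) (.leaf [0, 0, 0, 1, 0, 1, 0, 1])) (.node (.leaf [1, 0, 1, 1, 1, 1, 0, 0, 0, 1]) (.leaf [0, 1]))) (.node (.node (.leaf []) (.leaf [0, 0, 0, 0, 0, 1, 0, 0, 1, 0, 0, 1])) (.node (.leaf [1, 1, 0, 0, 0,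 0, 1, 0, 1]) (.leaf [1, 0, 0, 1, 1, 0, 0, 0, 1, 0, 1, 1, 1])))))))) (.node (.node (.node (.node (.node (.node (.node (.node (.leaf []) (.leaf [1, 0, 0, 1, 1, 1, 0, 0, 0, 1])) (.leaf [1, 0, 1, 1, 1, 1, 0, 0, 1, 1, 0, 1, 1])) (.node (.leaf [0, 1]) (.leaf [0, 0, 1, 0, 1, 1, 1, 0, 1, 1, 0, 0, 1]))) (.node (.node (.leaf []) (.leaf [1, 0, 0, 0, 1, 1, 0, 0, 1, 0, 0, 1])) (.node (.leaf []) (.leaf [1, 0, 0, 0, 1, 0, 0, 0, 0, 0, 1, 0, 1])))) (.node (.node (.node (.leaf []) (.leaf [])) (.node (.leaf [1, 0, 0, 0, 1, 0, 0, 1]) (.leaf [0, 1, 1, 1, 1, 0, 0, 0, 0, 1, 1, 1]))) (.node (.node (.leaf [0, 1, 1, 0, 0, 0, 0, 1, 0, 1]) (.leaf [0, 1])) (.node (.leaf [1, 1, 0, 1, 0, 0, 0, 0, 0, 0, 0, 1]) (.leaf [0, 1, 0, 1, 1, 0, 0, 0, 0, 0, 0, 1]))))) (.node (.node (.node (.node (.leaf []) (.leaf [0, 1])) (.node (.leaf [0, 0, 0, 0, 0, 0, 0, 1]) (.leaf []))) (.node (.node (.leaf [0, 0, 0, 0, 0, 0, 1]) (.leaf [1, 1, 1, 0, 1, 1, 0, 0, 0, 1,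 1, 1])) (.node (.leaf []) (.leaf [1, 1, 1, 0, 0, 0, 0, 1, 1, 1, 1, 0, 1])))) (.node (.node (.node (.leaf [1, 0, 1, 0, 1, 0, 0, 0, 0, 1]) (.leaf [0, 0, 0, 1, 0, 1])) (.node (.leaf [1, 1, 0, 0, 1, 1, 0, 0, 0, 0, 0, 1]) (.leaf [0, 1, 0, 1, 0, 0, 1, 0, 1, 0, 0, 1]))) (.node (.node (.leaf [1, 0, 0, 1, 0, 0, 0, 0, 1, 0, 0, 1]) (.leaf [1, 0, 0, 1, 0, 0, 0, 0, 0, 0, 0, 1])) (.node (.leaf [0, 1]) (.leaf [1, 1, 1, 0, 0, 0, 1, 1, 1, 1, 1, 0, 1])))))) (.node (.node (.node (.node (.node (.leaf [0, 1]) (.leaf [])) (.node (.leaf [0, 0, 1, 1, 0, 1, 0, 0, 0, 1]) (.leaf [0, 0, 0, 0, 1, 1, 0, 0, 1, 0, 0, 1]))) (.node (.node (.leaf [1, 0, 0, 1, 0, 0, 0, 0, 0, 0, 0, 1]) (.leaf [0, 1])) (.node (.leaf [0, 0, 1, 1, 1, 1, 0, 0, 0, 1, 0, 1, 1]) (.leaf [0, 0, 0, 0, 0, 1, 0, 0, 1, 0, 0, 1])))) (.node (.node (.node (.leaf [1, 1, 0, 1, 1, 1, 0, 1]) (.leaf [1, 0, 1, 0, 1, 0, 0, 1, 1, 1])) (.node (.leaf [1, 1, 0, 1, 0, 0, 0, 0, 0, 0, 0, 1]) (.leaf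 [0, 1]))) (.node (.node (.leaf []) (.leaf [0, 1, 1, 0, 0, 0, 0, 1, 1, 1])) (.node (.leaf [0, 1, 0, 0, 1, 1, 0, 0, 0, 0, 0, 1]) (.leaf [0, 1, 0, 0, 0, 1, 0, 0, 0, 0, 0, 1]))))) (.node (.node (.node (.node (.leaf []) (.leaf [0, 0, 0, 0, 0, 1, 0, 0, 1, 0, 0, 1])) (.node (.leaf []) (.leaf [0, 1]))) (.node (.node (.leaf [1, 1, 0, 0, 1, 1, 0, 0, 1, 0, 0, 1]) (.leaf [])) (.node (.leaf [1, 0, 0, 0, 1, 0, 0, 1]) (.leaf [0, 1, 0, 1, 0, 1, 1])))) (.node (.node (.node (.leaf [1, 0, 0, 1, 1, 1]) (.leaf [0, 1])) (.node (.leaf [0, 1]) (.leaf [1, 0, 0, 0, 1, 0, 0, 1]))) (.node (.node (.leaf [0, 0, 0, 0, 0, 0, 0, 0, 1]) (.leaf [1, 1, 0, 0, 0, 1, 0, 1, 0, 0, 1])) (.node (.leaf []) (.leaf [0, 0, 1, 0, 0, 0, 0, 0, 1, 1]))))))) (.node (.node (.node (.node (.node (.node (.node (.leaf [0, 1]) (.leaf [1, 1, 0, 0, 1, 0, 0, 1, 0, 1])) (.leaf [1, 0, 0, 0, 1, 1, 0, 0, 1, 0, 0, 1])) (.node (.leaf [0, 1]) (.leaf [0, 1]))) (.node (.node (.leaf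 [0, 1, 1, 0, 0, 0, 0, 1, 0, 1]) (.leaf [0, 1])) (.node (.leaf [1, 0, 0, 1, 0, 0, 0, 0, 0, 0, 0, 1]) (.leaf [0, 1, 0, 1, 1, 0, 0, 0, 0, 0, 0, 1])))) (.node (.node (.node (.leaf [0, 1]) (.leaf [0, 0, 0, 1, 1, 0, 1, 0, 1, 0, 0, 1])) (.node (.leaf [0, 0, 0, 1, 1, 1, 1, 0, 1]) (.leaf [0, 0, 0, 0, 0, 0, 0, 1, 1]))) (.node (.node (.leaf [1, 0, 1, 0, 1, 0, 0, 0, 0, 1]) (.leaf [0, 0, 1, 0, 1, 0, 0, 1, 1, 1, 1, 0, 1])) (.node (.leaf [0, 1]) (.leaf [0, 1, 0, 0, 0, 0, 0, 0, 1]))))) (.node (.node (.node (.node (.leaf []) (.leaf [0, 1, 0, 0, 0, 0, 0, 1])) (.node (.leaf []) (.leaf [0, 1, 0, 1, 1, 0, 0, 0, 1, 0, 0, 1]))) (.node (.node (.leaf []) (.leaf [])) (.node (.leaf [0, 1]) (.leaf [0, 0, 0, 1, 1, 0, 0, 0, 0, 0, 0, 1])))) (.node (.node (.node (.leaf []) (.leaf [0, 0, 1, 1, 1, 1, 1, 0, 0, 1, 0, 1, 1])) (.node (.leaf [0, 0, 0, 0, 1, 1, 0, 0, 1, 0, 0, 1]) (.leaf [1, 0, 0, 1, 1, 0, 0, 0, 0, 0, 0, 1]))) (.node (.node (.leaf [1, 1,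 1, 0, 1, 0, 0, 1, 0, 1]) (.leaf [1, 0, 0, 0, 0, 0, 1, 0, 1])) (.node (.leaf [1, 1, 0, 0, 1, 0, 0, 1]) (.leaf [1, 1, 1, 0, 1, 0, 1, 0, 1, 1, 1])))))) (.node (.node (.node (.node (.node (.leaf []) (.leaf [0, 0, 1, 0, 0, 0, 0, 1, 0, 1])) (.node (.leaf [1, 1, 1, 1, 0, 1, 0, 0, 0, 1]) (.leaf [1, 0, 0, 1, 1, 0, 0, 0, 1, 0, 0, 1]))) (.node (.node (.leaf [0, 1]) (.leaf [])) (.node (.leaf []) (.leaf [0, 0, 0, 0, 0, 1, 0, 0, 1, 0, 0, 1])))) (.node (.node (.node (.leaf []) (.leaf [0, 1])) (.node (.leaf [0, 1]) (.leaf [0, 1]))) (.node (.node (.leaf [0, 1]) (.leaf [0, 1, 1, 0, 0, 1, 0, 0, 0, 1, 1, 1])) (.node (.leaf [0, 0, 0, 0, 1, 1, 0, 0, 0, 0, 0, 1]) (.leaf [0, 0, 0, 1, 1, 1, 0, 1, 1, 0, 0, 0, 1]))))) (.node (.node (.node (.node (.leaf [0, 1]) (.leaf [0, 1])) (.node (.leaf [0, 1]) (.leaf [0, 1, 0, 0, 1, 1, 0, 0, 0, 0, 0, 1, 1]))) (.node (.node (.leaf []) (.leaf [0, 0, 0, 1, 1, 0, 0, 0, 1, 0, 0, 1])) (.node (.leaf [1, 0, 0,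 1, 1, 1, 1]) (.leaf [0, 0, 1, 0, 1, 1, 0, 0, 0, 1, 0, 0, 1])))) (.node (.node (.node (.leaf []) (.leaf [0, 0, 0, 1, 0, 1, 1, 1])) (.node (.leaf [1, 1, 0, 0, 1, 0, 0, 1]) (.leaf [1, 0, 0, 1, 0, 0, 0, 0, 1, 0, 0, 1]))) (.node (.node (.leaf [0, 1, 0, 1, 1, 1, 0, 1]) (.leaf [])) (.node (.leaf [1, 0, 0, 1, 0, 0, 0, 0, 0, 0, 0, 1]) (.leaf [0, 1, 1, 0, 1, 1, 0, 0, 1, 1, 0, 0, 1]))))))))))

def twoL2 : Janko.Tree (List ℤ) :=
  (.node (.node (.node (.node (.node (.node (.node (.node (.node (.node (.leaf []) (.leaf [0, 0, 1, 0, 0, 0, 0, 0, 0, 0, 0, 0, 0])) (.leaf [0, 0, 0, 0, 0, 1, 0, 0, 1, 0, 0, 1])) (.node (.leaf [0, 0, 0, 0, 0, 0, 0, 0, 0, 0, 1]) (.leaf [0, 0, 0, 0, 0, 0, 0, 1]))) (.node (.node (.leaf []) (.leaf [0, 0, 1])) (.node (.leaf [0, 1, 0, 0, 0, 0, 0, 0, 0, 1]) (.leaf [])))) (.node (.node (.node (.leaf []) (.leaf [])) (.node (.leaf []) (.leaf [0, 0, 1]))) (.node (.node (.leaf []) (.leaf [0, 0, 1])) (.node (.leaf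 [0, 0, 1]) (.leaf [0, 0, 1, 0, 0, 0, 0, 0, 0, 0, 1]))))) (.node (.node (.node (.node (.leaf []) (.leaf [0, 0, 1])) (.node (.leaf [0, 0, 0, 0, 0, 0, 0, 0, 0, 0, 1]) (.leaf []))) (.node (.node (.leaf []) (.leaf [])) (.node (.leaf [0, 0, 1]) (.leaf [0, 0, 1, 0, 0, 0, 0, 1, 1])))) (.node (.node (.node (.leaf [0, 1, 1, 0, 0, 0, 0, 0, 0, 1, 1]) (.leaf [0, 0, 0, 0, 0, 1, 1, 1, 1, 1, 1, 1, 1])) (.node (.leaf [0, 0, 1]) (.leaf [0, 1, 1, 0, 0, 0, 1, 1, 1, 1, 1, 0, 1]))) (.node (.node (.leaf []) (.leaf [0, 0, 1])) (.node (.leaf []) (.leaf [1, 1, 1, 0, 1, 1, 0, 0, 1, 0, 0, 1])))))) (.node (.node (.node (.node (.node (.leaf [0, 0, 1]) (.leaf [1, 1, 1, 0, 1, 1, 0, 0, 0, 0, 0, 1])) (.node (.leaf []) (.leaf [0, 0, 1, 0, 0, 1, 1, 0, 1, 0, 1, 1, 1]))) (.node (.node (.leaf [0, 0, 1]) (.leaf [])) (.node (.leaf [0, 0, 0, 0, 0, 1, 0, 0, 0, 0, 0, 1]) (.leaf [0, 0, 0, 0, 0, 0, 0, 0, 0, 0, 1])))) (.node (.node (.node (.leaf []) (.leaf [1,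 1, 0, 0, 1, 1, 0, 0, 0, 1, 1, 1, 1])) (.node (.leaf [0, 0, 1]) (.leaf [0, 0, 1]))) (.node (.node (.leaf []) (.leaf [1, 1, 1, 1, 0, 0, 0, 0, 0, 0, 0, 1])) (.node (.leaf [0, 0, 1]) (.leaf [0, 0, 1]))))) (.node (.node (.node (.node (.leaf [0, 0, 1]) (.leaf [])) (.node (.leaf [0, 0, 1]) (.leaf [1, 1, 0, 0, 1, 1, 0, 0, 0, 0, 0, 1]))) (.node (.node (.leaf []) (.leaf [0, 1, 0, 0, 1, 1, 1, 0, 1, 0, 0, 1])) (.node (.leaf []) (.leaf [0, 0, 1])))) (.node (.node (.node (.leaf []) (.leaf [1, 1, 0, 0, 0, 1, 1, 0, 1, 0, 0, 1])) (.node (.leaf []) (.leaf [1, 1, 1, 0, 0, 1, 1, 0, 0, 0, 0, 1]))) (.node (.node (.leaf [0, 1, 1, 0, 0, 0, 0, 0, 0, 1, 1]) (.leaf [1, 0, 0, 1, 1, 0, 0, 1, 1, 0, 0, 1])) (.node (.leaf [0, 1, 0, 0, 0, 0, 0, 0, 0, 1]) (.leaf [0, 0, 1]))))))) (.node (.node (.node (.node (.node (.node (.node (.leaf [0, 0, 1]) (.leaf [0, 0, 0, 0, 0, 0, 1])) (.leaf [0, 0, 1])) (.node (.leaf []) (.leaf [0, 0, 0, 0, 0, 0, 0, 0, 0,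 0, 1]))) (.node (.node (.leaf []) (.leaf [])) (.node (.leaf [0, 0, 1]) (.leaf [0, 0, 0, 0, 0, 0, 0, 1, 1])))) (.node (.node (.node (.leaf [0, 0, 0, 0, 0, 0, 0, 0, 0, 0, 1]) (.leaf [1, 1, 0, 1, 1, 0, 0, 0, 1, 0, 0, 1])) (.node (.leaf [0, 1, 1, 0, 0, 0, 0, 0, 0, 1]) (.leaf [0, 1, 1, 0, 1, 1, 1, 0, 1, 0, 1, 1, 1]))) (.node (.node (.leaf []) (.leaf [0, 0, 0, 0, 0, 0, 0, 0, 0, 0, 0, 0, 1])) (.node (.leaf [0, 0, 1]) (.leaf [0, 0, 1]))))) (.node (.node (.node (.node (.leaf []) (.leaf [0, 0, 1])) (.node (.leaf []) (.leaf [0, 0, 1]))) (.node (.node (.leaf []) (.leaf [0, 0, 1])) (.node (.leaf [0, 0, 0, 0, 0, 0, 0, 0, 0, 0, 1]) (.leaf [0, 0, 1])))) (.node (.node (.node (.leaf [0, 0, 1]) (.leaf [0, 0, 1])) (.node (.leaf [1, 0, 1, 1, 1, 0, 1, 0, 0, 0, 0, 1]) (.leaf [0, 0, 1]))) (.node (.node (.leaf [0, 0, 1]) (.leaf [])) (.node (.leaf []) (.leaf [0, 0, 1, 1, 1, 0, 0, 0, 0, 1, 0, 1, 1])))))) (.node (.node (.node (.node (.node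 (.leaf []) (.leaf [])) (.node (.leaf [0, 0, 0, 0, 0, 1, 0, 1, 1, 0, 0, 1, 1]) (.leaf []))) (.node (.node (.leaf []) (.leaf [0, 1, 0, 0, 0, 1, 0, 0, 1, 0, 0, 1])) (.node (.leaf []) (.leaf [0, 0, 1, 0, 0, 0, 0, 0, 0, 0, 1])))) (.node (.node (.node (.leaf []) (.leaf [0, 1, 0, 0, 0, 0, 0, 0, 0, 1, 1])) (.node (.leaf [0, 0, 1]) (.leaf [0, 0, 1]))) (.node (.node (.leaf []) (.leaf [])) (.node (.leaf [0, 0, 1, 1, 1, 0, 1, 0, 1, 0, 0, 1]) (.leaf [0, 0, 0, 1, 1, 0, 0, 0, 1, 1, 0, 1, 1]))))) (.node (.node (.node (.node (.leaf []) (.leaf [0, 0, 1])) (.node (.leaf [0, 0, 0, 0, 0, 0, 0, 0, 0, 0, 1]) (.leaf [0, 0, 1]))) (.node (.node (.leaf [0, 0, 1]) (.leaf [1, 1, 1, 1, 0, 0, 0, 0, 1, 0, 0, 1])) (.node (.leaf [0, 1, 1, 0, 0, 0, 0, 0, 0, 1]) (.leaf [0, 1, 1, 0, 0, 0, 0, 0, 1, 1, 0, 0, 1])))) (.node (.node (.node (.leaf [0, 0, 1]) (.leaf [1, 0, 0, 1, 1, 1, 0, 1, 1, 0, 1, 1])) (.node (.leaf []) (.leaf [0, 0, 1]))) (.node (.node (.leaf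 []) (.leaf [1, 1, 1, 0, 1, 1, 0, 0, 1, 1, 1, 1, 1])) (.node (.leaf [0, 0, 1]) (.leaf [0, 0, 1])))))))) (.node (.node (.node (.node (.node (.node (.node (.node (.leaf []) (.leaf [1, 0, 0, 1, 1, 1, 0, 0, 0, 1])) (.leaf [])) (.node (.leaf [0, 0, 1]) (.leaf [0, 0, 1, 0, 0, 0, 0, 0, 0, 0, 1]))) (.node (.node (.leaf [1, 1, 0, 1, 0, 0, 0, 0, 1, 0, 0, 1]) (.leaf [0, 0, 1, 0, 0, 0, 0, 0, 0, 0, 1])) (.node (.leaf [0, 0, 0, 0, 0, 0, 0, 0, 1, 0, 1, 0, 1]) (.leaf [])))) (.node (.node (.node (.leaf []) (.leaf [0, 1, 0, 0, 0, 0, 0, 0, 0, 1, 1])) (.node (.leaf [0, 0, 1]) (.leaf [0, 0, 0, 0, 0, 0, 0, 0, 0, 0, 1, 0, 1]))) (.node (.node (.leaf []) (.leaf [0, 0, 1])) (.node (.leaf []) (.leaf [0, 0, 1]))))) (.node (.node (.node (.node (.leaf [0, 0, 1]) (.leaf [])) (.node (.leaf []) (.leaf []))) (.node (.node (.leaf [0, 1, 1, 0, 0, 0, 0, 0, 0, 1, 1]) (.leaf [0, 0, 1, 0, 0, 1, 0, 0, 0, 0, 0, 1])) (.node (.leaf []) (.leaf [0, 0, 1]))))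 (.node (.node (.node (.leaf [0, 0, 1]) (.leaf [0, 0, 1])) (.node (.leaf [0, 0, 1, 0, 0, 1, 0, 1, 1, 0, 0, 1, 1]) (.leaf [0, 0, 1, 1, 0, 0, 0, 0, 0, 0, 0, 1]))) (.node (.node (.leaf []) (.leaf [])) (.node (.leaf []) (.leaf [0, 0, 1])))))) (.node (.node (.node (.node (.node (.leaf []) (.leaf [0, 1, 1, 0, 0, 0, 0, 0, 0, 1, 1])) (.node (.leaf []) (.leaf [0, 0, 0, 0, 1, 1, 0, 0, 1, 0, 0, 1]))) (.node (.node (.leaf []) (.leaf [0, 0, 1])) (.node (.leaf []) (.leaf [0, 0, 1, 0, 1, 1, 0, 0, 0, 0, 0, 1])))) (.node (.node (.node (.leaf []) (.leaf [1, 0, 1, 1, 1, 0, 0, 0, 1, 0, 0, 1])) (.node (.leaf []) (.leaf [0, 0, 1]))) (.node (.node (.leaf [0, 0, 0, 0, 0, 0, 0, 0, 0, 0, 1]) (.leaf [])) (.node (.leaf [0, 0, 1, 0, 0, 1, 0, 1, 1, 0, 0, 1, 1]) (.leaf [0, 0, 1]))))) (.node (.node (.node (.node (.leaf []) (.leaf [])) (.node (.leaf []) (.leaf [0, 0, 1]))) (.node (.node (.leaf [0, 0, 0, 0, 0, 0, 0, 0, 0, 0, 1]) (.leaf [])) (.node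 (.leaf [0, 0, 1]) (.leaf [0, 0, 1, 0, 0, 0, 0, 0, 0, 0, 1])))) (.node (.node (.node (.leaf []) (.leaf [0, 0, 0, 1, 1, 0, 1, 0, 0, 0, 1, 1, 1])) (.node (.leaf []) (.leaf [0, 1, 0, 0, 0, 0, 0, 0, 0, 1, 1]))) (.node (.node (.leaf []) (.leaf [0, 0, 0, 0, 0, 1, 1, 0, 1, 0, 1, 1, 1])) (.node (.leaf [0, 0, 0, 0, 0, 0, 0, 0, 1, 0, 1, 0, 1]) (.leaf [0, 0, 1, 0, 0, 0, 0, 0, 0, 0, 1]))))))) (.node (.node (.node (.node (.node (.node (.node (.leaf []) (.leaf [1, 0, 0, 0, 1, 0, 0, 0, 1, 0, 0, 1])) (.leaf [0, 0, 1])) (.node (.leaf []) (.leaf []))) (.node (.node (.leaf []) (.leaf [0, 0, 1])) (.node (.leaf []) (.leaf [0, 0, 0, 0, 0, 0, 0, 0, 0, 0, 1])))) (.node (.node (.node (.leaf []) (.leaf [0, 0, 0, 0, 0, 1, 1, 1, 1, 0, 0, 1, 1])) (.node (.leaf [0, 0, 1]) (.leaf []))) (.node (.node (.leaf [0, 0, 0, 0, 0, 1, 0, 1, 1, 0, 0, 1, 1]) (.leaf [0, 0, 1])) (.node (.leaf [0, 0, 1, 0, 0, 0, 0, 0, 0, 0, 1]) (.leaf [0, 0, 1]))))) (.node (.node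 (.node (.node (.leaf []) (.leaf [0, 0, 1])) (.node (.leaf []) (.leaf [1, 1, 0, 0, 1, 1, 1, 0, 1, 0, 0, 1]))) (.node (.node (.leaf []) (.leaf [])) (.node (.leaf []) (.leaf [0, 0, 1])))) (.node (.node (.node (.leaf []) (.leaf [0, 0, 0, 0, 0, 1, 1, 1, 0, 1, 1, 1, 1])) (.node (.leaf [0, 0, 1]) (.leaf [0, 0, 1]))) (.node (.node (.leaf []) (.leaf [0, 0, 0, 0, 0, 0, 0, 0, 0, 0, 1])) (.node (.leaf [0, 0, 1]) (.leaf [0, 0, 1])))))) (.node (.node (.node (.node (.node (.leaf []) (.leaf [1, 0, 1, 0, 0, 1, 1, 1, 0, 1, 1, 1, 1])) (.node (.leaf []) (.leaf []))) (.node (.node (.leaf [0, 0, 1]) (.leaf [0, 1, 1, 0, 0, 0, 0, 0, 0, 1, 1])) (.node (.leaf []) (.leaf [0, 0, 1])))) (.node (.node (.node (.leaf []) (.leaf [0, 1, 1, 0, 0, 0, 0, 0, 0, 1])) (.node (.leaf [0, 0, 1, 0, 0, 0, 0, 0, 0, 0, 1]) (.leaf [0, 0, 1]))) (.node (.node (.leaf [0, 0, 1]) (.leaf [])) (.node (.leaf [0, 0, 1]) (.leaf [0, 0, 1]))))) (.node (.node (.node (.node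 (.leaf []) (.leaf [0, 0, 1])) (.node (.leaf []) (.leaf [0, 0, 1]))) (.node (.node (.leaf []) (.leaf [1, 1, 1, 0, 1, 1, 1, 0, 0, 0, 0, 1])) (.node (.leaf [0, 0, 1]) (.leaf [1, 0, 1, 1, 0, 0, 0, 0, 0, 1, 1, 1])))) (.node (.node (.node (.leaf [0, 0, 1]) (.leaf [0, 0, 1])) (.node (.leaf [0, 0, 1]) (.leaf [1, 1, 1, 1, 1, 0, 0, 0, 1, 0, 0, 1]))) (.node (.node (.leaf []) (.leaf [0, 0, 1, 0, 0, 1, 1, 1, 1, 1, 1, 1, 1])) (.node (.leaf []) (.leaf [0, 0, 1]))))))))) (.node (.node (.node (.node (.node (.node (.node (.node (.node (.leaf []) (.leaf [1, 1, 0, 1, 1, 1, 0, 1])) (.leaf [0, 0, 1])) (.node (.leaf [1, 1, 1, 1, 0, 0, 0, 0, 1, 0, 0, 1]) (.leaf [0, 0, 1, 0, 0, 0, 0, 0, 0, 0, 1]))) (.node (.node (.leaf [0, 0, 1, 0, 0, 0, 0, 0, 0, 0, 1]) (.leaf [0, 0, 0, 0, 0, 0, 0, 1])) (.node (.leaf [0, 0, 1]) (.leaf [1, 0, 0, 1, 0, 0, 0, 1, 1, 1, 1, 1, 1])))) (.node (.node (.node (.leaf []) (.leaf [0, 0, 1])) (.node (.leaf [0, 1, 0, 0,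 0, 0, 0, 0, 0, 1, 1]) (.leaf [0, 1, 1, 1, 0, 1, 1, 0, 1]))) (.node (.node (.leaf []) (.leaf [0, 1, 0, 0, 0, 0, 0, 0, 0, 1, 1])) (.node (.leaf [0, 0, 0, 0, 0, 0, 0, 0, 0, 0, 1]) (.leaf [0, 0, 1]))))) (.node (.node (.node (.node (.leaf []) (.leaf [])) (.node (.leaf [0, 0, 1]) (.leaf [0, 0, 0, 1, 1, 0, 1, 0, 1, 0, 0, 1]))) (.node (.node (.leaf []) (.leaf [])) (.node (.leaf [0, 0, 0, 0, 0, 0, 0, 0, 0, 0, 1]) (.leaf [0, 0, 1])))) (.node (.node (.node (.leaf [0, 0, 1]) (.leaf [0, 0, 1])) (.node (.leaf [0, 1, 1, 0, 0, 0, 0, 0, 0, 1, 1]) (.leaf [0, 0, 1]))) (.node (.node (.leaf [0, 0, 1]) (.leaf [0, 0, 1])) (.node (.leaf [0, 0, 1, 0, 0, 0, 0, 0, 1, 0, 0, 0, 1]) (.leaf [0, 0, 1])))))) (.node (.node (.node (.node (.node (.leaf []) (.leaf [])) (.node (.leaf [0, 1, 0, 0, 0, 0, 0, 0, 0, 1, 1]) (.leaf []))) (.node (.node (.leaf []) (.leaf [0, 1, 1, 0, 0, 0, 0, 0, 0, 1, 1])) (.node (.leaf [0, 0, 1]) (.leaf [0, 0, 1, 1, 1, 0, 1,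 0, 1, 0, 1, 1, 1])))) (.node (.node (.node (.leaf [0, 0, 1]) (.leaf [0, 1, 1, 1, 0, 0, 0, 0, 1, 0, 0, 1])) (.node (.leaf [0, 0, 0, 0, 0, 0, 0, 0, 0, 0, 1]) (.leaf [0, 0, 1]))) (.node (.node (.leaf []) (.leaf [0, 0, 1, 1, 1, 0, 0, 0, 0, 0, 0, 1])) (.node (.leaf [0, 1, 1, 0, 0, 0, 0, 0, 0, 1, 1]) (.leaf [0, 0, 1]))))) (.node (.node (.node (.node (.leaf [0, 0, 1]) (.leaf [1, 1, 0, 0, 1, 1, 1, 0, 1, 0, 0, 1])) (.node (.leaf [0, 0, 0, 0, 0, 0, 0, 0, 0, 0, 1]) (.leaf []))) (.node (.node (.leaf [0, 1, 1, 0, 0, 0, 0, 0, 0, 1]) (.leaf [])) (.node (.leaf [0, 1, 0, 0, 0, 0, 0, 0, 0, 1, 1]) (.leaf [0, 0, 1])))) (.node (.node (.node (.leaf [0, 0, 1]) (.leaf [0, 0, 0, 1, 1, 0, 0, 1, 0, 0, 0, 1])) (.node (.leaf [0, 0, 1, 0, 0, 0, 0, 0, 1, 0, 0, 0, 1]) (.leaf []))) (.node (.node (.leaf []) (.leaf [0, 0, 0, 1, 1, 0, 1, 0, 1, 0, 1, 1, 1])) (.node (.leaf [0, 0, 1]) (.leaf [0, 0, 1, 0, 1, 0, 1]))))))) (.node (.node (.node (.node (.node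 (.node (.node (.leaf []) (.leaf [1, 1, 0, 0, 1, 0, 0, 0, 0, 1])) (.leaf [])) (.node (.leaf [0, 0, 1]) (.leaf []))) (.node (.node (.leaf []) (.leaf [0, 0, 1])) (.node (.leaf [0, 0, 1]) (.leaf [0, 0, 1])))) (.node (.node (.node (.leaf []) (.leaf [0, 0, 0, 0, 0, 0, 0, 0, 0, 0, 0, 0, 1])) (.node (.leaf [0, 0, 1]) (.leaf [1, 0, 1, 0, 1, 1, 0, 0, 1, 0, 0, 1]))) (.node (.node (.leaf [0, 0, 0, 0, 0, 0, 0, 0, 1, 0, 0, 0, 1]) (.leaf [1, 0, 0, 0, 0, 1, 1, 1, 1, 0, 0, 1, 1])) (.node (.leaf []) (.leaf [0, 0, 1]))))) (.node (.node (.node (.node (.leaf [0, 0, 0, 0, 0, 0, 0, 0, 0, 0, 1]) (.leaf [0, 0, 1])) (.node (.leaf [0, 0, 1]) (.leaf [0, 0, 1]))) (.node (.node (.leaf [0, 0, 1]) (.leaf [0, 0, 1])) (.node (.leaf []) (.leaf [0, 0, 1])))) (.node (.node (.node (.leaf [0, 0, 1]) (.leaf [])) (.node (.leaf [0, 0, 1, 0, 0, 0, 0, 0, 0, 0, 1]) (.leaf [0, 1, 0, 0, 0, 0, 0, 0, 0, 1, 1]))) (.node (.node (.leaf []) (.leaf [1, 0, 0, 0, 0, 1,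 1, 1, 0, 1, 1, 1, 1])) (.node (.leaf [0, 0, 1, 0, 0, 0, 0, 0, 0, 0, 1]) (.leaf [0, 1, 0, 0, 0, 0, 0, 0, 0, 1])))))) (.node (.node (.node (.node (.node (.leaf []) (.leaf [0, 1, 0, 0, 0, 1, 0, 0, 1, 0, 0, 1])) (.node (.leaf []) (.leaf [0, 1, 1, 0, 0, 0, 0, 0, 0, 1]))) (.node (.node (.leaf [0, 0, 1]) (.leaf [0, 0, 1, 0, 0, 1, 1, 1, 1, 1, 1, 1, 1])) (.node (.leaf [0, 0, 1]) (.leaf [0, 0, 1])))) (.node (.node (.node (.leaf []) (.leaf [])) (.node (.leaf []) (.leaf [0, 0, 0, 1, 1, 0, 0, 0, 0, 0, 0, 1]))) (.node (.node (.leaf [0, 1, 1, 0, 0, 0, 0, 0, 0, 1]) (.leaf [0, 1, 1, 0, 0, 0, 0, 0, 0, 1])) (.node (.leaf [0, 0, 1, 0, 0, 0, 0, 0, 0, 0, 1]) (.leaf [1, 1, 1, 0, 1, 0, 0, 0, 1]))))) (.node (.node (.node (.node (.leaf [0, 1, 1, 0, 0, 0, 0, 0, 0, 1]) (.leaf [1, 1, 1, 1, 0, 0, 0, 0, 0, 0, 0, 1])) (.node (.leaf []) (.leaf [0, 1, 1, 0, 1, 1, 1, 0, 1, 0, 0, 1]))) (.node (.node (.leaf []) (.leaf [0, 0, 1])) (.node (.leaf [0, 0,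 1]) (.leaf [1, 1, 0, 0, 1, 0, 0, 0, 1])))) (.node (.node (.node (.leaf []) (.leaf [0, 1, 1, 0, 1, 1, 0, 0, 1, 1, 1, 1, 1])) (.node (.leaf [0, 0, 1, 0, 0, 0, 0, 0, 0, 0, 1]) (.leaf []))) (.node (.node (.leaf [0, 0, 1]) (.leaf [0, 0, 1])) (.node (.leaf [0, 0, 1]) (.leaf [0, 0, 1, 0, 0, 0, 0, 0, 1, 0, 1, 0, 1])))))))) (.node (.node (.node (.node (.node (.node (.node (.node (.leaf [0, 0, 1]) (.leaf [0, 0, 0, 0, 0, 0, 0, 0, 0, 0, 0, 1])) (.leaf [0, 0, 0, 0, 0, 0, 0, 0, 0, 0, 1])) (.node (.leaf []) (.leaf []))) (.node (.node (.leaf [0, 0, 1]) (.leaf [0, 0, 1])) (.node (.leaf []) (.leaf [0, 0, 1])))) (.node (.node (.node (.leaf []) (.leaf [0, 0, 1])) (.node (.leaf []) (.leaf []))) (.node (.node (.leaf [0, 1, 0, 0, 0, 0, 0, 0, 0, 1, 1]) (.leaf [1, 1, 0, 1, 1, 0, 0, 0, 0, 0, 0, 1])) (.node (.leaf [0, 0, 1]) (.leaf [0, 0, 1]))))) (.node (.node (.node (.node (.leaf [0, 0, 1]) (.leaf [0, 0, 1, 0, 0, 1, 0, 0, 0, 0, 0, 1])) (.node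 (.leaf [0, 1, 1, 0, 0, 0, 0, 0, 0, 1]) (.leaf [0, 0, 1]))) (.node (.node (.leaf []) (.leaf [0, 0, 1])) (.node (.leaf []) (.leaf [0, 0, 0, 0, 1, 0, 1, 0, 1])))) (.node (.node (.node (.leaf []) (.leaf [])) (.node (.leaf [1, 0, 1, 0, 1, 1, 0, 0, 1, 0, 0, 1]) (.leaf [0, 1, 0, 1, 0, 1, 1, 0, 1]))) (.node (.node (.leaf [0, 0, 1]) (.leaf [0, 0, 1])) (.node (.leaf []) (.leaf [0, 0, 1, 0, 0, 0, 0, 1])))))) (.node (.node (.node (.node (.node (.leaf []) (.leaf [0, 0, 1])) (.node (.leaf [0, 0, 0, 0, 0, 0, 0, 0, 1, 0, 0, 0, 1]) (.leaf [0, 0, 1]))) (.node (.node (.leaf [0, 0, 1]) (.leaf [])) (.node (.leaf [0, 0, 0, 0, 0, 0, 0, 0, 0, 0, 1]) (.leaf [0, 0, 1, 1, 1, 0, 1, 0, 1, 0, 0, 1])))) (.node (.node (.node (.leaf [0, 1, 0, 0, 0, 0, 0, 0, 0, 1]) (.leaf [])) (.node (.leaf [0, 0, 1]) (.leaf [1, 1, 0, 0, 0, 0, 1, 1, 1, 1, 1, 0, 1]))) (.node (.node (.leaf [0, 0, 1]) (.leaf [0, 1, 0, 0, 0, 0, 0, 0, 0, 1, 1])) (.node (.leaf [0, 0, 1,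 0, 1, 1, 0, 0, 1, 0, 0, 1]) (.leaf [0, 0, 1]))))) (.node (.node (.node (.node (.leaf [0, 0, 1]) (.leaf [])) (.node (.leaf []) (.leaf []))) (.node (.node (.leaf [1, 1, 1, 1, 0, 0, 0, 0, 1, 0, 0, 1]) (.leaf [0, 0, 1])) (.node (.leaf []) (.leaf [0, 1, 0, 0, 1, 1, 1, 0, 1, 0, 1, 1, 1])))) (.node (.node (.node (.leaf []) (.leaf [0, 0, 0, 0, 0, 1, 1, 0, 0, 0, 1, 1, 1])) (.node (.leaf []) (.leaf []))) (.node (.node (.leaf [0, 0, 1]) (.leaf [0, 0, 0, 1, 1, 1, 0, 1, 1, 0, 1, 1])) (.node (.leaf []) (.leaf [0, 0, 1, 0, 0, 0, 0, 0, 0, 0, 1]))))))) (.node (.node (.node (.node (.node (.node (.node (.leaf []) (.leaf [1, 1, 0, 1, 0, 1, 0, 0, 0, 1])) (.leaf [0, 0, 1])) (.node (.leaf []) (.leaf []))) (.node (.node (.leaf [0, 1, 1, 0, 0, 0, 0, 0, 0, 1, 1]) (.leaf [1, 1, 1, 0, 1, 1, 0, 0, 0, 0, 0, 1])) (.node (.leaf [0, 0, 1]) (.leaf [0, 0, 1])))) (.node (.node (.node (.leaf []) (.leaf [0, 0, 1])) (.node (.leaf [1, 1, 0, 1, 0, 0, 1,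 0, 0, 0, 0, 1]) (.leaf [0, 1, 0, 0, 0, 0, 0, 0, 0, 1]))) (.node (.node (.leaf []) (.leaf [0, 1, 0, 0, 1, 1, 0, 0, 0, 1, 1, 1, 1])) (.node (.leaf [1, 1, 0, 1, 0, 0, 0, 0, 1, 0, 0, 1]) (.leaf [0, 0, 1]))))) (.node (.node (.node (.node (.leaf [0, 0, 1]) (.leaf [])) (.node (.leaf [0, 0, 1]) (.leaf []))) (.node (.node (.leaf [0, 0, 1]) (.leaf [])) (.node (.leaf []) (.leaf [0, 0, 1])))) (.node (.node (.node (.leaf [0, 0, 1]) (.leaf [0, 0, 0, 0, 0, 0, 0, 0, 0, 0, 1])) (.node (.leaf [0, 0, 1]) (.leaf [0, 0, 1]))) (.node (.node (.leaf []) (.leaf [1, 1, 0, 0, 0, 1, 1, 0, 0, 0, 0, 1])) (.node (.leaf []) (.leaf [0, 0, 1])))))) (.node (.node (.node (.node (.node (.leaf []) (.leaf [0, 1, 1, 0, 0, 0, 0, 0, 0, 1, 1])) (.node (.leaf []) (.leaf [0, 0, 1]))) (.node (.node (.leaf []) (.leaf [0, 0, 1])) (.node (.leaf [0, 0, 1]) (.leaf [0, 0, 1])))) (.node (.node (.node (.leaf []) (.leaf [])) (.node (.leaf [1, 1, 0, 1, 0, 0, 0, 0, 0,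 0, 0, 1]) (.leaf [1, 0, 1, 1, 1, 0, 0, 0, 1, 0, 0, 1]))) (.node (.node (.leaf []) (.leaf [1, 0, 0, 0, 0, 1, 1, 1, 0, 1, 1, 1, 1])) (.node (.leaf [0, 0, 1]) (.leaf [0, 1, 0, 0, 0, 0, 0, 0, 1, 1, 0, 0, 1]))))) (.node (.node (.node (.node (.leaf []) (.leaf [0, 1, 1, 0, 1, 1, 1, 0, 1, 0, 0, 1])) (.node (.leaf []) (.leaf [0, 0, 1, 0, 0, 0, 0, 0, 1, 0, 0, 0, 1]))) (.node (.node (.leaf [0, 0, 1]) (.leaf [])) (.node (.leaf [0, 1, 0, 1, 0, 0, 1, 0, 1, 0, 0, 1]) (.leaf [0, 0, 1, 1, 1, 0, 1, 0, 0, 0, 0, 1])))) (.node (.node (.node (.leaf [0, 0, 1]) (.leaf [1, 0, 1, 0, 0, 1, 1, 1, 1, 1, 1, 1, 1])) (.node (.leaf []) (.leaf [0, 0, 1]))) (.node (.node (.leaf [0, 1, 1, 0, 0, 0, 0, 0, 0, 1]) (.leaf [0, 0, 1])) (.node (.leaf [0, 0, 1]) (.leaf [1, 0, 0, 1, 0, 0, 0, 0, 0, 1, 1, 1]))))))))))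

def twoL3 : Janko.Tree (List ℤ) :=
  (.node (.node (.node (.node (.node (.node (.node (.node (.node (.node (.leaf []) (.leaf [0, 0, 0, 1, 0, 0, 0, 0, 0, 0, 0, 0, 0])) (.leaf [])) (.node (.leaf [0, 0, 0, 1]) (.leaf [0, 1, 1, 1, 1, 1, 1, 1, 1, 1, 1, 1, 1]))) (.node (.node (.leaf []) (.leaf [])) (.node (.leaf [0, 0, 0, 1]) (.leaf [0, 0, 0, 1])))) (.node (.node (.node (.leaf [0, 0, 0, 1]) (.leaf [])) (.node (.leaf [0, 0, 0, 1]) (.leaf [1, 1, 0, 0, 1, 1, 1, 0, 1, 0, 1, 1, 1]))) (.node (.node (.leaf []) (.leaf [1, 0, 1, 0, 1, 1, 1, 0, 0, 1])) (.node (.leaf []) (.leaf [0, 0, 0, 1]))))) (.node (.node (.node (.node (.leaf [0, 0, 0, 1]) (.leaf [1, 1, 0, 1, 0, 1, 0, 0, 1, 0, 1, 0, 1])) (.node (.leaf [0, 0, 0, 1]) (.leaf [0, 0, 0, 1]))) (.node (.node (.leaf [1, 1, 1, 1, 0, 1, 0, 0, 0, 1]) (.leaf [0, 0, 1, 0, 0, 0, 0, 0, 0, 1, 1])) (.node (.leaf []) (.leaf [0, 0, 0, 1])))) (.node (.node (.node (.leaf [0, 0, 0, 1]) (.leaf [1,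 0, 0, 1, 1, 1, 0, 1, 0, 0, 1, 1])) (.node (.leaf [1, 0, 1, 0, 1, 1, 0, 0, 0, 1]) (.leaf [0, 0, 1, 1, 0, 0, 1, 0, 0, 1, 1, 0, 1]))) (.node (.node (.leaf [1, 1, 1, 0, 0, 0, 0, 1, 0, 1]) (.leaf [1, 0, 0, 0, 0, 1, 0, 1])) (.node (.leaf [1, 0, 1, 0, 0, 1, 0, 0, 0, 1]) (.leaf [1, 1, 1, 1, 0, 0, 0, 1, 0, 1, 0, 1])))))) (.node (.node (.node (.node (.node (.leaf []) (.leaf [1, 1, 1, 1, 0, 0, 0, 0, 0, 1, 1, 1])) (.node (.leaf [0, 0, 0, 1]) (.leaf [0, 0, 0, 1]))) (.node (.node (.leaf []) (.leaf [1, 1, 1, 1, 1, 1, 0, 0, 0, 1, 1])) (.node (.leaf []) (.leaf [0, 0, 0, 1])))) (.node (.node (.node (.leaf []) (.leaf [0, 0, 0, 1])) (.node (.leaf []) (.leaf [1, 1, 1, 1, 0, 0, 1, 0, 0, 1, 1, 0, 1]))) (.node (.node (.leaf [0, 1, 1, 0, 1, 0, 0, 1, 0, 1]) (.leaf [0, 0, 0, 1])) (.node (.leaf [1, 0, 1, 0, 1, 1, 0, 0, 0, 1]) (.leaf [1, 1, 1, 1, 0, 0, 0, 0, 0, 1, 1, 1]))))) (.node (.node (.node (.node (.leaf []) (.leaf [0, 0, 0, 1])) (.node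 (.leaf []) (.leaf [0, 1, 0, 1, 1, 1, 0, 1]))) (.node (.node (.leaf [0, 0, 0, 1]) (.leaf [1, 1, 1, 1, 0, 1, 0, 1, 0, 1])) (.node (.leaf [0, 0, 0, 1]) (.leaf [1, 1, 0, 1, 1, 1, 1, 0, 0, 0, 1, 1, 1])))) (.node (.node (.node (.leaf []) (.leaf [])) (.node (.leaf [1, 0, 1, 0, 0, 1, 0, 0, 0, 1]) (.leaf []))) (.node (.node (.leaf [0, 0, 0, 1]) (.leaf [0, 0, 0, 1])) (.node (.leaf [0, 0, 0, 1]) (.leaf [0, 0, 0, 1, 0, 1, 1, 0, 1, 0, 1, 1, 1]))))))) (.node (.node (.node (.node (.node (.node (.node (.leaf []) (.leaf [0, 0, 0, 0, 0, 0, 1])) (.leaf [])) (.node (.leaf []) (.leaf [0, 0, 0, 1]))) (.node (.node (.leaf []) (.leaf [0, 0, 0, 1])) (.node (.leaf [1, 0, 0, 0, 0, 1, 0, 1]) (.leaf [1, 0, 1, 1, 0, 1, 1, 1, 0, 1, 1, 1, 1])))) (.node (.node (.node (.leaf [0, 0, 0, 1]) (.leaf [0, 0, 1, 0, 1, 0, 0, 1, 0, 1])) (.node (.leaf [0, 0, 0, 1]) (.leaf [0, 0, 0, 1]))) (.node (.node (.leaf [1, 0, 1, 0, 1, 0, 0, 1, 0, 1]) (.leaf [0, 0, 0,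 1])) (.node (.leaf []) (.leaf [0, 0, 1, 1, 1, 0, 0, 0, 0, 1, 0, 0, 1]))))) (.node (.node (.node (.node (.leaf []) (.leaf [1, 1, 1, 1, 0, 0, 1, 0, 0, 1, 0, 0, 1])) (.node (.leaf [0, 0, 0, 1]) (.leaf [1, 1, 1, 1, 0, 1, 0, 0, 0, 1, 1]))) (.node (.node (.leaf [0, 0, 0, 1]) (.leaf [])) (.node (.leaf [0, 0, 0, 1]) (.leaf [0, 1, 1, 0, 0, 0, 1, 0, 1, 1, 1])))) (.node (.node (.node (.leaf []) (.leaf [0, 1, 0, 0, 0, 0, 0, 1, 0, 0, 0, 1, 1])) (.node (.leaf []) (.leaf [0, 1, 1, 1, 0, 0, 1, 0, 0, 1]))) (.node (.node (.leaf [0, 0, 1, 1, 1, 1, 0, 0, 0, 1, 1]) (.leaf [0, 0, 0, 1])) (.node (.leaf [0, 0, 0, 1]) (.leaf [0, 0, 0, 1])))))) (.node (.node (.node (.node (.node (.leaf []) (.leaf [])) (.node (.leaf [0, 1, 1, 1, 1, 0, 0, 1, 0, 1]) (.leaf [1, 0, 1, 0, 0, 0, 0, 0, 0, 1, 0, 1]))) (.node (.node (.leaf [0, 0, 0, 1]) (.leaf [1, 1, 1, 1, 0, 1, 0, 0, 0, 1])) (.node (.leaf [0, 0, 0, 1]) (.leaf [0, 0, 0, 1])))) (.node (.node (.node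 (.leaf []) (.leaf [0, 0, 0, 1])) (.node (.leaf []) (.leaf [1, 1, 1, 0, 0, 0, 0, 0, 0, 1, 1, 1]))) (.node (.node (.leaf [0, 0, 0, 1]) (.leaf [0, 0, 0, 1])) (.node (.leaf []) (.leaf [1, 0, 1, 0, 0, 0, 0, 0, 0, 1, 0, 1]))))) (.node (.node (.node (.node (.leaf [0, 0, 0, 1]) (.leaf [0, 1, 1, 0, 0, 0, 0, 0, 1, 1, 1, 0, 1])) (.node (.leaf [0, 0, 0, 1]) (.leaf [1, 0, 1, 1, 1, 1, 1, 0, 0, 1, 1]))) (.node (.node (.leaf []) (.leaf [0, 0, 0, 1])) (.node (.leaf [0, 0, 0, 1]) (.leaf [0, 0, 0, 1])))) (.node (.node (.node (.leaf []) (.leaf [0, 0, 0, 1])) (.node (.leaf [0, 0, 0, 1]) (.leaf [1, 0, 1, 0, 0, 0, 1, 0, 0, 1, 0, 1, 1]))) (.node (.node (.leaf []) (.leaf [0, 0, 0, 1])) (.node (.leaf [0, 0, 0, 0, 0, 1, 0, 1]) (.leaf [0, 0, 1, 1, 0, 0, 0, 0, 0, 1, 0, 1, 1])))))))) (.node (.node (.node (.node (.node (.node (.node (.node (.leaf [0, 0, 0, 1]) (.leaf [0, 1, 0, 1, 0, 1, 0, 0, 0, 1])) (.leaf [0, 0, 0, 1, 1, 0, 1, 1])) (.node (.leaf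 []) (.leaf [0, 0, 0, 1]))) (.node (.node (.leaf []) (.leaf [0, 0, 0, 1])) (.node (.leaf [0, 0, 0, 1]) (.leaf [0, 0, 0, 1])))) (.node (.node (.node (.leaf [1, 0, 1, 1, 1, 1, 0, 0, 0, 1]) (.leaf [0, 0, 0, 1])) (.node (.leaf []) (.leaf [0, 0, 0, 1]))) (.node (.node (.leaf [0, 0, 0, 1]) (.leaf [])) (.node (.leaf [0, 0, 0, 1]) (.leaf [0, 0, 0, 0, 0, 1, 1, 0, 0, 0, 1, 1, 1]))))) (.node (.node (.node (.node (.leaf []) (.leaf [0, 0, 0, 1])) (.node (.leaf [0, 0, 0, 1]) (.leaf [0, 0, 0, 1]))) (.node (.node (.leaf [0, 0, 0, 1]) (.leaf [])) (.node (.leaf [0, 1, 0, 1, 1, 1, 0, 1]) (.leaf [1, 0, 1, 1, 0, 0, 0, 0, 1, 1, 0, 1])))) (.node (.node (.node (.leaf []) (.leaf [0, 1, 1, 0, 1, 1, 1, 1, 1, 1, 1, 1, 1])) (.node (.leaf [0, 0, 0, 1]) (.leaf [1, 0, 0, 1, 0, 0, 0, 1, 1, 0, 1, 1]))) (.node (.node (.leaf [0, 0, 0, 1]) (.leaf [0, 0, 0, 1])) (.node (.leaf [1, 1, 1, 0, 0, 1, 0, 1, 0, 1]) (.leaf [1, 0, 0, 0, 0, 1, 1, 0, 0, 0, 1, 1,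 1])))))) (.node (.node (.node (.node (.node (.leaf [0, 0, 0, 1]) (.leaf [0, 0, 0, 1])) (.node (.leaf [0, 0, 1, 0, 1, 0, 0, 1, 0, 1]) (.leaf [1, 0, 1, 1, 1, 1, 0, 0, 0, 1]))) (.node (.node (.leaf [0, 1, 1, 0, 0, 0, 0, 1, 0, 1]) (.leaf [0, 0, 1, 1, 1, 1, 0, 1, 0, 1])) (.node (.leaf [1, 0, 0, 1, 1, 0, 1, 1]) (.leaf [0, 0, 0, 1])))) (.node (.node (.node (.leaf [0, 0, 0, 1]) (.leaf [])) (.node (.leaf [0, 0, 0, 1]) (.leaf [0, 1, 0, 1, 1, 1, 1, 0, 0, 0, 1, 1, 1]))) (.node (.node (.leaf [0, 0, 0, 1]) (.leaf [0, 0, 0, 1])) (.node (.leaf [0, 0, 0, 1]) (.leaf [1, 1, 1, 0, 0, 0, 0, 1, 0, 1, 1, 0, 1]))))) (.node (.node (.node (.node (.leaf []) (.leaf [0, 0, 0, 1])) (.node (.leaf [1, 1, 0, 1, 1, 1, 0, 1]) (.leaf [0, 1, 1, 0, 0, 0, 1, 0, 1, 1, 1, 0, 1]))) (.node (.node (.leaf [0, 0, 0, 1]) (.leaf [1, 1, 1, 0, 0, 0, 1, 0, 0, 1, 0, 0, 1])) (.node (.leaf []) (.leaf [0, 0, 0, 1])))) (.node (.node (.node (.leaf []) (.leaf [1, 1, 1,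 0, 1, 1, 0, 0, 0, 1, 1])) (.node (.leaf [1, 1, 1, 0, 0, 1, 0, 1, 0, 1]) (.leaf [0, 0, 0, 1]))) (.node (.node (.leaf [0, 0, 0, 1]) (.leaf [1, 0, 1, 1, 0, 0, 0, 0, 0, 1, 1])) (.node (.leaf [0, 0, 0, 1]) (.leaf [0, 0, 0, 1]))))))) (.node (.node (.node (.node (.node (.node (.node (.leaf [0, 0, 0, 1]) (.leaf [1, 0, 0, 0, 1, 1, 0, 0, 1])) (.leaf [])) (.node (.leaf []) (.leaf [1, 0, 1, 1, 0, 0, 1, 0, 1, 1, 0, 1, 1]))) (.node (.node (.leaf [0, 0, 0, 1]) (.leaf [])) (.node (.leaf [0, 0, 0, 1]) (.leaf [0, 0, 0, 1])))) (.node (.node (.node (.leaf [0, 0, 0, 1]) (.leaf [0, 1, 1, 1, 1, 0, 0, 1, 0, 1])) (.node (.leaf []) (.leaf [0, 0, 0, 1]))) (.node (.node (.leaf [1, 1, 1, 1, 1, 0, 0, 1, 0, 1]) (.leaf [0, 1, 0, 0, 1, 1, 0, 0, 0, 0, 1, 1, 1])) (.node (.leaf [0, 0, 0, 1]) (.leaf [1, 0, 1, 1, 1, 0, 0, 1, 0, 1, 1, 1, 1]))))) (.node (.node (.node (.node (.leaf []) (.leaf [1, 0, 1, 1, 0, 0, 0, 0, 1, 1, 0, 1])) (.node (.leaf []) (.leaf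 [1, 0, 0, 1, 0, 1, 0, 1]))) (.node (.node (.leaf []) (.leaf [0, 0, 0, 0, 1, 1, 1, 1])) (.node (.leaf []) (.leaf [])))) (.node (.node (.node (.leaf []) (.leaf [1, 0, 0, 0, 0, 0, 0, 1, 1, 0, 0, 1])) (.node (.leaf []) (.leaf []))) (.node (.node (.leaf [1, 1, 1, 1, 0, 1, 0, 0, 0, 1]) (.leaf [0, 0, 0, 1])) (.node (.leaf []) (.leaf [1, 0, 1, 1, 1, 0, 1, 0, 1, 1, 1, 0, 1])))))) (.node (.node (.node (.node (.node (.leaf []) (.leaf [0, 0, 0, 1])) (.node (.leaf [1, 1, 1, 0, 1, 0, 0, 1, 0, 1]) (.leaf [0, 0, 1, 1, 1, 1, 1, 1, 1, 1, 1, 0, 1]))) (.node (.node (.leaf [1, 0, 1, 1, 1, 1, 0, 0, 0, 1, 1]) (.leaf [0, 0, 0, 1])) (.node (.leaf []) (.leaf [1, 0, 1, 0, 1, 1, 1, 0, 0, 1, 1])))) (.node (.node (.node (.leaf [0, 0, 0, 1]) (.leaf [0, 0, 0, 1])) (.node (.leaf [0, 0, 0, 1]) (.leaf [0, 0, 1, 0, 1, 1, 0, 0, 0, 1]))) (.node (.node (.leaf []) (.leaf [0, 1, 1, 1, 1, 1, 1, 1, 1, 1, 1, 0, 1])) (.node (.leaf []) (.leaf [1, 0, 0, 1, 0,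 0, 0, 0, 0, 0, 0, 0, 1]))))) (.node (.node (.node (.node (.leaf []) (.leaf [])) (.node (.leaf []) (.leaf [0, 1, 1, 0, 0, 0, 1, 0, 0, 1, 1, 0, 1]))) (.node (.node (.leaf []) (.leaf [1, 1, 0, 1, 0, 0, 0, 1, 0, 0, 1, 1])) (.node (.leaf []) (.leaf [0, 0, 0, 1])))) (.node (.node (.node (.leaf []) (.leaf [0, 1, 0, 0, 0, 1, 0, 0, 0, 0, 1, 0, 1])) (.node (.leaf []) (.leaf [0, 0, 1, 0, 0, 0, 1, 0, 1, 1, 1, 0, 1]))) (.node (.node (.leaf [0, 0, 0, 1]) (.leaf [0, 0, 0, 1])) (.node (.leaf [0, 0, 0, 1]) (.leaf [1, 0, 1, 0, 1, 0, 0, 1, 1, 1, 1, 1, 1]))))))))) (.node (.node (.node (.node (.node (.node (.node (.node (.node (.leaf []) (.leaf [0, 0, 0, 0, 1, 0, 0, 1])) (.leaf [1, 0, 1, 1, 0, 0, 0, 0, 1, 1, 0, 1])) (.node (.leaf [0, 0, 0, 1]) (.leaf [0, 0, 0, 1]))) (.node (.node (.leaf [0, 0, 0, 1]) (.leaf [1, 1, 1, 1, 1, 1, 1, 1, 1, 1, 1, 1, 1])) (.node (.leaf []) (.leaf [1, 1, 0, 0, 0, 0, 0, 1, 0, 0, 0, 1])))) (.node (.node (.node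 (.leaf [0, 0, 0, 1]) (.leaf [0, 0, 1, 0, 1, 1, 1, 0, 0, 1])) (.node (.leaf [0, 0, 0, 1]) (.leaf []))) (.node (.node (.leaf [1, 0, 1, 1, 0, 1, 0, 0, 0, 1]) (.leaf [0, 0, 0, 1])) (.node (.leaf [0, 0, 0, 1]) (.leaf [0, 1, 1, 1, 0, 0, 1, 0, 0, 1, 1]))))) (.node (.node (.node (.node (.leaf []) (.leaf [1, 0, 1, 0, 0, 0, 0, 0, 0, 1, 1])) (.node (.leaf []) (.leaf [1, 0, 0, 1, 0, 0, 0, 1, 1, 0, 0, 1]))) (.node (.node (.leaf [0, 0, 0, 1]) (.leaf [0, 0, 0, 1])) (.node (.leaf [0, 0, 0, 1]) (.leaf [1, 1, 0, 0, 1, 1, 0, 0, 0, 0, 1])))) (.node (.node (.node (.leaf []) (.leaf [1, 0, 0, 0, 0, 1, 0, 1])) (.node (.leaf [0, 0, 0, 1]) (.leaf []))) (.node (.node (.leaf []) (.leaf [1, 1, 1, 0, 1, 1, 1, 1, 1, 1, 1, 1, 1])) (.node (.leaf [0, 0, 0, 1]) (.leaf [0, 0, 1, 0, 1, 0, 1, 0, 0, 1, 1, 0, 1])))))) (.node (.node (.node (.node (.node (.leaf []) (.leaf [0, 1, 1, 1, 1, 1, 0, 0, 0, 1, 1])) (.node (.leaf [0, 0, 0, 1]) (.leaf [0, 0, 0, 0,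 0, 0, 0, 0, 1, 0, 1, 0, 1]))) (.node (.node (.leaf []) (.leaf [0, 0, 0, 1])) (.node (.leaf [1, 0, 1, 1, 0, 0, 0, 0, 0, 1, 0, 1]) (.leaf [0, 1, 1, 1, 0, 1, 1, 0, 0, 1, 0, 1])))) (.node (.node (.node (.leaf []) (.leaf [0, 0, 0, 1])) (.node (.leaf [0, 0, 0, 1]) (.leaf [1, 1, 1, 0, 0, 0, 0, 1, 0, 1, 0, 1]))) (.node (.node (.leaf [0, 0, 0, 1]) (.leaf [])) (.node (.leaf [0, 0, 0, 1]) (.leaf [1, 0, 1, 0, 0, 0, 0, 0, 1, 1, 1, 1]))))) (.node (.node (.node (.node (.leaf []) (.leaf [1, 1, 1, 1, 0, 1, 0, 1, 0, 1])) (.node (.leaf [0, 0, 0, 1]) (.leaf [0, 0, 1, 0, 0, 1, 1, 1, 1, 1, 1, 1, 1]))) (.node (.node (.leaf [0, 0, 0, 1]) (.leaf [0, 0, 0, 1])) (.node (.leaf [0, 0, 0, 1]) (.leaf [1, 0, 1, 1, 0, 0, 0, 0, 1, 1, 1, 1])))) (.node (.node (.node (.leaf []) (.leaf [0, 0, 0, 1])) (.node (.leaf [0, 0, 0, 1]) (.leaf [0, 0, 0, 1]))) (.node (.node (.leaf []) (.leaf [0, 1, 1, 0, 1, 1, 0, 0, 0, 1, 1])) (.node (.leaf []) (.leaf [1, 0, 1,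 1, 1, 0, 1, 1, 1, 1, 1, 0, 1]))))))) (.node (.node (.node (.node (.node (.node (.node (.leaf []) (.leaf [1, 0, 1, 1, 1, 1, 0, 0, 0, 1, 1])) (.leaf [0, 0, 0, 1])) (.node (.leaf [0, 0, 1, 0, 1, 1, 0, 0, 0, 1]) (.leaf [0, 0, 0, 1]))) (.node (.node (.leaf [1, 0, 1, 1, 0, 1, 0, 0, 0, 1]) (.leaf [])) (.node (.leaf []) (.leaf [])))) (.node (.node (.node (.leaf [0, 0, 0, 1]) (.leaf [0, 0, 0, 1])) (.node (.leaf []) (.leaf [0, 0, 0, 1]))) (.node (.node (.leaf [0, 0, 0, 1]) (.leaf [0, 1, 1, 1, 1, 0, 0, 1, 0, 1])) (.node (.leaf []) (.leaf [0, 0, 1, 0, 0, 0, 0, 0, 1, 1, 0, 1, 1]))))) (.node (.node (.node (.node (.leaf [0, 0, 0, 1]) (.leaf [])) (.node (.leaf []) (.leaf [0, 1, 1, 0, 1, 1, 1, 1, 1, 1, 1, 0, 1]))) (.node (.node (.leaf []) (.leaf [1, 0, 1, 1, 0, 0, 0, 0, 1, 1, 0, 1])) (.node (.leaf [0, 0, 0, 1]) (.leaf [0, 1, 1, 1, 0, 0, 0, 0, 0, 1, 0, 0, 1])))) (.node (.node (.node (.leaf []) (.leaf [0, 0, 0, 1])) (.node (.leaf [0,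 0, 0, 1]) (.leaf [0, 0, 0, 1]))) (.node (.node (.leaf []) (.leaf [1, 0, 0, 0, 0, 0, 0, 1, 1, 0, 0, 1])) (.node (.leaf [0, 0, 0, 1]) (.leaf [0, 0, 0, 1])))))) (.node (.node (.node (.node (.node (.leaf [0, 0, 0, 1]) (.leaf [1, 1, 1, 1, 0, 1, 0, 0, 0, 1])) (.node (.leaf [0, 1, 1, 0, 0, 1, 0, 1, 0, 1]) (.leaf [0, 0, 0, 1]))) (.node (.node (.leaf []) (.leaf [0, 0, 0, 1])) (.node (.leaf []) (.leaf [])))) (.node (.node (.node (.leaf []) (.leaf [0, 0, 0, 1])) (.node (.leaf []) (.leaf [0, 0, 0, 1]))) (.node (.node (.leaf [0, 0, 0, 1]) (.leaf [0, 0, 0, 1])) (.node (.leaf [0, 0, 0, 1]) (.leaf [0, 0, 0, 1]))))) (.node (.node (.node (.node (.leaf [0, 0, 0, 1]) (.leaf [0, 0, 0, 1])) (.node (.leaf [0, 0, 0, 1]) (.leaf [1, 0, 1, 1, 0, 0, 0, 1, 1, 1, 0, 1]))) (.node (.node (.leaf []) (.leaf [])) (.node (.leaf []) (.leaf [0, 0, 0, 0, 1, 1, 1, 0, 1, 0, 1, 0, 1])))) (.node (.node (.node (.leaf [0, 0, 0, 1]) (.leaf [0, 0, 0, 1])) (.node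 (.leaf [0, 0, 0, 1]) (.leaf [1, 1, 0, 0, 0, 0, 0, 1, 0, 0, 1, 1]))) (.node (.node (.leaf []) (.leaf [1, 1, 0, 0, 0, 1, 0, 0, 1, 0, 1, 0, 1])) (.node (.leaf []) (.leaf [0, 0, 0, 1])))))))) (.node (.node (.node (.node (.node (.node (.node (.node (.leaf []) (.leaf [0, 1, 0, 0, 0, 0, 0, 1, 0, 1])) (.leaf [0, 0, 0, 1])) (.node (.leaf []) (.leaf [1, 0, 0, 0, 1, 1, 0, 1, 0, 0, 1, 1]))) (.node (.node (.leaf [1, 0, 1, 0, 1, 1, 0, 0, 0, 1]) (.leaf [])) (.node (.leaf []) (.leaf [0, 0, 0, 1, 0, 0, 0, 0, 1, 0, 1, 0, 1])))) (.node (.node (.node (.leaf []) (.leaf [])) (.node (.leaf [0, 0, 0, 1]) (.leaf [0, 0, 0, 1, 1, 1, 0, 1, 0, 0, 1, 1]))) (.node (.node (.leaf [0, 0, 0, 1]) (.leaf [0, 0, 1, 0, 1, 0, 0, 1, 0, 1])) (.node (.leaf []) (.leaf [0, 0, 0, 0, 0, 0, 0, 0, 1, 0, 0, 0, 1]))))) (.node (.node (.node (.node (.leaf []) (.leaf [])) (.node (.leaf [0, 0, 0, 1]) (.leaf [1, 1, 1, 1, 0, 0, 1, 0, 0, 1, 1, 0, 1]))) (.node (.node (.leaf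 []) (.leaf [0, 1, 1, 1, 0, 0, 1, 0, 1, 1, 0, 0, 1])) (.node (.leaf []) (.leaf [0, 0, 0, 1, 1, 0, 1, 1])))) (.node (.node (.node (.leaf [1, 1, 1, 0, 0, 1, 0, 0, 0, 1]) (.leaf [0, 0, 0, 1])) (.node (.leaf [0, 0, 0, 1]) (.leaf [1, 1, 1, 0, 0, 1, 1, 0, 1, 1, 0, 1]))) (.node (.node (.leaf []) (.leaf [0, 1, 0, 0, 0, 0, 0, 1, 0, 0, 0, 1, 1])) (.node (.leaf [0, 1, 1, 0, 1, 0, 0, 1, 0, 1]) (.leaf [0, 0, 0, 1])))))) (.node (.node (.node (.node (.node (.leaf []) (.leaf [1, 0, 1, 1, 1, 1, 0, 1, 0, 1])) (.node (.leaf [0, 0, 0, 1]) (.leaf []))) (.node (.node (.leaf []) (.leaf [])) (.node (.leaf [0, 0, 0, 1]) (.leaf [1, 1, 1, 0, 0, 0, 0, 0, 1, 1, 0, 0, 1])))) (.node (.node (.node (.leaf [0, 0, 0, 1]) (.leaf [0, 0, 0, 1])) (.node (.leaf []) (.leaf [1, 1, 1, 1, 0, 0, 0, 1, 1, 1, 1, 0, 1]))) (.node (.node (.leaf []) (.leaf [0, 0, 0, 1])) (.node (.leaf [0, 0, 0, 1]) (.leaf [1, 0, 1, 0, 1, 0, 1, 1, 0, 1, 1, 0, 1]))))) (.node (.node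 (.node (.node (.leaf []) (.leaf [0, 1, 1, 0, 0, 0, 1, 0, 0, 1, 0, 0, 1])) (.node (.leaf []) (.leaf [0, 0, 0, 0, 0, 0, 0, 0, 0, 0, 1, 0, 1]))) (.node (.node (.leaf [0, 0, 0, 1]) (.leaf [1, 1, 1, 0, 0, 0, 0, 0, 1, 1, 1, 0, 1])) (.node (.leaf [0, 0, 0, 1]) (.leaf [0, 0, 0, 1])))) (.node (.node (.node (.leaf []) (.leaf [0, 0, 1, 1, 0, 0, 0, 0, 0, 1, 1])) (.node (.leaf [0, 1, 1, 0, 1, 0, 0, 1, 0, 1]) (.leaf [0, 0, 0, 1]))) (.node (.node (.leaf []) (.leaf [0, 0, 0, 1])) (.node (.leaf []) (.leaf [0, 0, 0, 1]))))))) (.node (.node (.node (.node (.node (.node (.node (.leaf []) (.leaf [0, 0, 0, 0, 0, 0, 0, 0, 0, 0, 0, 0, 1])) (.leaf [])) (.node (.leaf [1, 0, 1, 1, 0, 1, 0, 0, 0, 1]) (.leaf [0, 0, 0, 0, 0, 1, 1, 0, 0, 0, 0, 1, 1]))) (.node (.node (.leaf [0, 0, 0, 1]) (.leaf [1, 1, 1, 1, 0, 0, 0, 0, 0, 1, 1, 1])) (.node (.leaf [0, 1, 0, 0, 0, 0, 0, 1, 1, 0, 0, 1, 1]) (.leaf [])))) (.node (.node (.node (.leaf []) (.leaf [1, 1,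 0, 0, 1, 1, 0, 0, 0, 0, 1, 1, 1])) (.node (.leaf [0, 1, 1, 0, 0, 0, 1, 0, 0, 1]) (.leaf [0, 0, 0, 1]))) (.node (.node (.leaf [1, 1, 1, 0, 0, 1, 0, 1, 0, 1]) (.leaf [0, 0, 0, 1])) (.node (.leaf []) (.leaf [1, 0, 0, 1, 0, 1, 1, 0, 1, 0, 1, 1, 1]))))) (.node (.node (.node (.node (.leaf []) (.leaf [0, 0, 0, 0, 1, 1, 1, 1])) (.node (.leaf []) (.leaf [0, 1, 0, 1, 0, 0, 0, 1, 0, 0, 0, 1, 1]))) (.node (.node (.leaf []) (.leaf [0, 0, 0, 1])) (.node (.leaf [1, 0, 1, 1, 0, 1, 0, 0, 0, 1]) (.leaf [])))) (.node (.node (.node (.leaf []) (.leaf [0, 0, 0, 1])) (.node (.leaf []) (.leaf [1, 0, 0, 1, 1, 1, 1, 0, 0, 0, 1, 0, 1]))) (.node (.node (.leaf [0, 0, 0, 1]) (.leaf [])) (.node (.leaf [0, 0, 0, 1]) (.leaf [1, 0, 1, 0, 0, 0, 0, 1, 0, 1, 0, 1])))))) (.node (.node (.node (.node (.node (.leaf [0, 0, 0, 1]) (.leaf [0, 0, 0, 1])) (.node (.leaf [0, 0, 0, 1]) (.leaf [1, 0, 1, 0, 0, 1, 1, 1, 0, 1, 1, 1, 1]))) (.node (.node (.leaf []) (.leaf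 [0, 1, 0, 1, 0, 1, 0, 0, 1, 0, 1, 0, 1])) (.node (.leaf []) (.leaf [0, 1, 0, 0, 1, 1, 1, 0, 0, 0, 1, 1, 1])))) (.node (.node (.node (.leaf []) (.leaf [0, 1, 1, 1, 1, 1, 1, 1, 1, 1, 1, 0, 1])) (.node (.leaf []) (.leaf [1, 0, 0, 1, 0, 0, 0, 0, 1, 0, 1, 0, 1]))) (.node (.node (.leaf []) (.leaf [1, 0, 0, 1, 1, 1, 0, 1, 0, 0, 1, 1])) (.node (.leaf []) (.leaf [0, 0, 0, 1]))))) (.node (.node (.node (.node (.leaf []) (.leaf [1, 1, 0, 1, 0, 0, 0, 1, 1, 0, 1, 1])) (.node (.leaf [1, 0, 1, 1, 0, 1, 0, 0, 0, 1]) (.leaf [0, 0, 0, 1]))) (.node (.node (.leaf [0, 0, 1, 0, 1, 1, 0, 0, 0, 1]) (.leaf [])) (.node (.leaf [1, 1, 1, 0, 0, 0, 1, 0, 0, 1]) (.leaf [1, 0, 1, 0, 1, 0, 0, 0, 0, 1, 0, 0, 1])))) (.node (.node (.node (.leaf []) (.leaf [0, 0, 0, 1])) (.node (.leaf [0, 0, 0, 1]) (.leaf [0, 0, 0, 1, 0, 1, 1, 0, 0, 0, 0, 1, 1]))) (.node (.node (.leaf [0, 0, 0, 1]) (.leaf [])) (.node (.leaf [1, 1, 0, 0, 0, 0, 0, 1, 0, 0, 0, 1, 1]) (.leaf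 [0, 0, 0, 1]))))))))))

def twoL4 : Janko.Tree (List ℤ) :=
  (.node (.node (.node (.node (.node (.node (.node (.node (.node (.node (.leaf [1]) (.leaf [0, 0, 0, 0, 1, 0, 0, 0, 0, 0, 0, 0, 0])) (.leaf [0, 1, 0, 0, 1, 0, 1, 0, 1])) (.node (.leaf [1, 1, 0, 0, 1, 0, 1]) (.leaf [1, 1, 0, 0, 1]))) (.node (.node (.leaf [1, 1, 0, 0, 1]) (.leaf [1, 0, 1, 0, 0, 0, 0, 0, 1, 1, 1, 0, 1])) (.node (.leaf [0, 0, 0, 0, 0, 0, 1, 0, 1, 0, 0, 0, 1]) (.leaf [1, 0, 0, 0, 0, 1, 1, 0, 1, 0, 1, 1, 1])))) (.node (.node (.node (.leaf []) (.leaf [1, 0, 0, 0, 0, 1, 0, 1, 1, 0, 0, 1, 1])) (.node (.leaf [1, 1, 0, 1, 0, 0, 0, 0, 0, 0, 0, 1]) (.leaf [0, 0, 0, 1, 1, 0, 0, 0, 1, 0, 0, 1]))) (.node (.node (.leaf []) (.leaf [1])) (.node (.leaf [1]) (.leaf [0, 0, 0, 1, 1, 1]))))) (.node (.node (.node (.node (.leaf [1]) (.leaf [1, 0, 1, 0, 1, 1, 1, 1, 1, 1, 1, 1, 1])) (.node (.leaf [1]) (.leaf [1, 0, 1, 1, 0, 0, 1, 0, 1, 1, 0, 1, 1]))) (.node (.node (.leaf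 [1, 1, 0, 1, 0, 1, 1]) (.leaf [1, 0, 1, 0, 1, 1, 1, 0, 0, 1, 1, 0, 1])) (.node (.leaf [1]) (.leaf [1, 0, 0, 1, 0, 1, 1, 0, 1, 0, 1, 0, 1])))) (.node (.node (.node (.leaf [0, 1, 0, 0, 1]) (.leaf [1, 0, 1, 0, 1, 1, 0, 0, 0, 1, 1, 1])) (.node (.leaf [1]) (.leaf [1, 1, 1, 0, 1, 1, 1, 0, 1, 1, 0, 1]))) (.node (.node (.leaf [0, 1, 0, 1, 0, 1]) (.leaf [0, 1, 0, 1, 0, 0, 0, 0, 1, 0, 0, 1])) (.node (.leaf [1, 0, 0, 0, 0, 0, 1]) (.leaf [0, 0, 1, 1, 0, 0, 0, 0, 0, 1, 0, 1, 1])))))) (.node (.node (.node (.node (.node (.leaf [0, 1, 0, 1, 0, 1]) (.leaf [1, 1, 0, 0, 1, 0, 1, 0, 1, 0, 0, 0, 1])) (.node (.leaf [1, 1, 0, 1, 0, 0, 0, 0, 0, 0, 0, 1]) (.leaf [1, 0, 0, 0, 0, 0, 1]))) (.node (.node (.leaf [0, 1, 0, 1, 0, 1]) (.leaf [1, 1, 0, 0, 1, 1, 0, 1, 0, 0, 1])) (.node (.leaf [1, 1, 0, 0, 1, 0, 1, 0, 1]) (.leaf [1, 0, 0, 1, 1, 0, 0, 0, 1, 0, 0, 1])))) (.node (.node (.node (.leaf [1, 1, 0, 1, 0, 0, 0, 0, 0, 0, 0, 1]) (.leaf [])) (.node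 (.leaf [1]) (.leaf [0, 0, 0, 1, 1, 1, 1, 0, 1]))) (.node (.node (.leaf [1, 1, 0, 1, 0, 1, 1]) (.leaf [1])) (.node (.leaf [1]) (.leaf [0, 0, 0, 0, 0, 0, 0, 1]))))) (.node (.node (.node (.node (.leaf []) (.leaf [1])) (.node (.leaf [1]) (.leaf [0, 0, 0, 1, 1, 1]))) (.node (.node (.leaf []) (.leaf [])) (.node (.leaf [1, 1, 0, 1, 0, 0, 0, 0, 0, 0, 0, 1]) (.leaf [1, 1, 0, 0, 1, 1, 1, 0, 0, 0, 1, 1, 1])))) (.node (.node (.node (.leaf []) (.leaf [0, 1, 0, 0, 1, 0, 1, 0, 1])) (.node (.leaf [1, 0, 0, 0, 0, 0, 1]) (.leaf [1, 0, 0, 0, 1, 1, 0, 0, 0, 0, 0, 1]))) (.node (.node (.leaf [1]) (.leaf [1, 0, 0, 1, 0, 0, 0, 0, 0, 0, 0, 1])) (.node (.leaf [1, 0, 0, 0, 0, 0, 1, 0, 1, 0, 0, 0, 1]) (.leaf [1, 0, 0, 0, 0, 0, 0, 0, 1]))))))) (.node (.node (.node (.node (.node (.node (.node (.leaf [1, 1, 0, 1, 0, 1]) (.leaf [0, 0, 0, 0, 0, 0, 0, 1, 0, 1])) (.leaf [1, 1, 1, 0, 1, 1, 0, 0, 0, 1, 0, 1])) (.node (.leaf [1, 0, 0, 0, 0, 1, 0, 1,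 1, 0, 0, 1, 1]) (.leaf [1]))) (.node (.node (.leaf []) (.leaf [])) (.node (.leaf [0, 1, 0, 1, 0, 0, 0, 0, 1, 0, 0, 1]) (.leaf [1, 0, 0, 1, 1, 1, 1])))) (.node (.node (.node (.leaf []) (.leaf [1, 0, 0, 0, 0, 0, 1])) (.node (.leaf [1, 1, 0, 0, 1, 0, 0, 0, 1, 0, 0, 0, 1]) (.leaf [1]))) (.node (.node (.leaf [1, 0, 0, 0, 0, 0, 1]) (.leaf [1, 1, 1, 0, 0, 0, 0, 0, 0, 1])) (.node (.leaf [0, 1, 0, 0, 1, 0, 1, 1]) (.leaf [1, 1, 0, 0, 1, 0, 0, 1]))))) (.node (.node (.node (.node (.leaf [1, 1, 0, 0, 1]) (.leaf [1, 1, 0, 1, 1, 0, 1, 0, 0, 0, 0, 1])) (.node (.leaf [1, 1, 1, 1, 1, 0, 0, 0, 1, 1, 0, 0, 1]) (.leaf [0, 0, 0, 1, 0, 1, 1, 0, 1, 0, 1, 0, 1]))) (.node (.node (.leaf []) (.leaf [1, 0, 0, 0, 0, 0, 1, 0, 1])) (.node (.leaf [1]) (.leaf [1, 0, 0, 0, 0, 0, 0, 0, 1])))) (.node (.node (.node (.leaf []) (.leaf [1])) (.node (.leaf [1, 1, 0, 0, 1, 1, 0, 0, 0, 0, 0, 1]) (.leaf [1]))) (.node (.node (.leaf [1]) (.leaf [0, 1, 0, 0, 1,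 1, 1, 0, 1, 0, 1, 1, 1])) (.node (.leaf [0, 0, 0, 1, 1, 0, 0, 0, 1, 0, 0, 1]) (.leaf [0, 0, 1, 0, 0, 1, 1, 1, 0, 1, 1, 1, 1])))))) (.node (.node (.node (.node (.node (.leaf [1, 1, 0, 0, 1]) (.leaf [])) (.node (.leaf []) (.leaf [0, 0, 1, 0, 0, 0, 0, 0, 1, 1, 1, 0, 1]))) (.node (.node (.leaf []) (.leaf [1, 0, 1, 1, 0, 1, 1, 0, 0, 1, 0, 1, 1])) (.node (.leaf [0, 1, 1, 1, 1, 0, 0, 0, 0, 1, 0, 0, 1]) (.leaf [0, 1, 0, 1, 0, 1])))) (.node (.node (.node (.leaf []) (.leaf [1])) (.node (.leaf [1, 1, 0, 0, 1, 0, 1, 1]) (.leaf [1, 1, 0, 0, 1, 0, 1, 0, 1]))) (.node (.node (.leaf [0, 0, 0, 0, 0, 1, 0, 1, 0, 0, 0, 1, 1]) (.leaf [0, 0, 1, 0, 1, 1, 1, 1, 0, 1, 1, 1, 1])) (.node (.leaf [1, 1, 0, 0, 1, 1, 0, 0, 0, 0, 0, 1]) (.leaf [0, 0, 0, 1, 0, 0, 0, 0, 1, 0, 1, 1, 1]))))) (.node (.node (.node (.node (.leaf []) (.leaf [1, 1, 0, 0, 1])) (.node (.leaf [1]) (.leaf [1]))) (.node (.node (.leaf [1]) (.leaf [1, 0, 0, 1, 1, 0, 0, 0, 1, 0,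 0, 1])) (.node (.leaf [0, 1, 0, 0, 1, 0, 0, 0, 1, 0, 0, 0, 1]) (.leaf [1, 0, 0, 0, 0, 0, 0, 0, 1])))) (.node (.node (.node (.leaf [1]) (.leaf [1, 1, 0, 1, 0, 0, 0, 0, 1, 0, 0, 1])) (.node (.leaf [0, 0, 0, 1, 1, 0, 0, 0, 0, 0, 0, 1]) (.leaf [0, 1, 0, 0, 1, 0, 1]))) (.node (.node (.leaf [0, 1, 0, 1, 0, 1, 1]) (.leaf [0, 0, 0, 0, 1, 1, 0, 0, 0, 0, 0, 1])) (.node (.leaf [0, 1, 0, 1, 0, 0, 0, 0, 1, 0, 0, 1]) (.leaf [1])))))))) (.node (.node (.node (.node (.node (.node (.node (.node (.leaf [0, 1, 0, 0, 1]) (.leaf [0, 0, 0, 0, 0, 0, 0, 0, 0, 0, 0, 1, 0])) (.leaf [])) (.node (.leaf [1]) (.leaf []))) (.node (.node (.leaf []) (.leaf [0, 0, 1, 1, 0, 1, 1, 0, 0, 1, 0, 1, 1])) (.node (.leaf []) (.leaf [1, 0, 0, 0, 0, 1, 1, 0, 0, 0, 1, 1, 1])))) (.node (.node (.node (.leaf []) (.leaf [0, 1, 0, 0, 1])) (.node (.leaf [0, 0, 0, 1, 1, 1, 1]) (.leaf [1, 0, 1, 0, 0, 0, 0, 0, 1, 1, 1]))) (.node (.node (.leaf [1, 1, 0, 1, 0, 0, 0, 0,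 0, 0, 0, 1]) (.leaf [0, 1, 1, 0, 1, 1, 0, 0, 0, 1, 1, 1])) (.node (.leaf []) (.leaf [1, 1, 1, 0, 0, 0, 1, 1, 1, 1, 1, 0, 1]))))) (.node (.node (.node (.node (.leaf [0, 0, 0, 0, 0, 0, 0, 1]) (.leaf [])) (.node (.leaf [1, 0, 0, 0, 0, 1, 0, 1, 1, 0, 0, 1, 1]) (.leaf [1]))) (.node (.node (.leaf [1]) (.leaf [])) (.node (.leaf []) (.leaf [1, 0, 0, 0, 0, 0, 1])))) (.node (.node (.node (.leaf [0, 1, 1, 1, 1, 1, 0, 1, 0, 1]) (.leaf [0, 0, 0, 1, 1, 1, 1])) (.node (.leaf []) (.leaf [0, 0, 1, 1, 0, 0, 1, 0, 0, 1, 0, 1, 1]))) (.node (.node (.leaf []) (.leaf [1, 1, 1, 1, 1, 0, 1, 0, 0, 1, 0, 1, 1])) (.node (.leaf [1, 0, 0, 0, 0, 0, 1]) (.leaf [1, 0, 1, 0, 1, 0, 1, 0, 0, 1, 1, 1, 1])))))) (.node (.node (.node (.node (.node (.leaf [1]) (.leaf [0, 0, 0, 0, 0, 0, 1])) (.node (.leaf [1, 0, 0, 0, 0, 0, 1]) (.leaf [1, 1, 1, 1, 1, 1, 0, 1, 1, 1]))) (.node (.node (.leaf [0, 1, 0, 1, 0, 1]) (.leaf [1])) (.node (.leaf []) (.leaf [0, 0, 0,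 0, 0, 0, 0, 0, 1])))) (.node (.node (.node (.leaf []) (.leaf [0, 0, 0, 1, 0, 0, 0, 0, 1, 0, 0, 1])) (.node (.leaf []) (.leaf [1, 1, 0, 0, 1]))) (.node (.node (.leaf [1]) (.leaf [1, 1, 0, 1, 0, 0, 0, 0, 1, 0, 0, 1])) (.node (.leaf [1]) (.leaf [0, 0, 0, 0, 0, 0, 0, 0, 1, 0, 0, 0, 1]))))) (.node (.node (.node (.node (.leaf [1, 1, 0, 1, 0, 1]) (.leaf [])) (.node (.leaf []) (.leaf [1]))) (.node (.node (.leaf [1, 1, 0, 0, 1, 0, 1]) (.leaf [])) (.node (.leaf [1, 0, 0, 1, 1, 1, 1]) (.leaf [0, 0, 1, 1, 0, 1, 1, 0, 1, 1, 0, 1, 1])))) (.node (.node (.node (.leaf []) (.leaf [0, 0, 0, 0, 0, 0, 0, 0, 0, 0, 1])) (.node (.leaf [0, 0, 0, 0, 0, 0, 1]) (.leaf [1]))) (.node (.node (.leaf []) (.leaf [0, 0, 0, 1, 0, 1, 1, 0, 1, 0, 1, 0, 1])) (.node (.leaf []) (.leaf [0, 1, 1, 1, 0, 1, 0, 0, 0, 1, 0, 1, 1]))))))) (.node (.node (.node (.node (.node (.node (.node (.leaf [1]) (.leaf [0, 1, 0, 1, 1, 1, 0, 0, 0, 0, 0, 1])) (.leaf [1, 1, 0,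 0, 1, 0, 1, 1])) (.node (.leaf []) (.leaf [1, 0, 0, 1, 0, 1, 1, 0, 1, 0, 1, 0, 1]))) (.node (.node (.leaf [0, 1, 0, 1, 0, 0, 0, 0, 0, 0, 0, 1]) (.leaf [1])) (.node (.leaf [0, 1, 1, 1, 1, 0, 0, 0, 1, 1, 0, 1, 1]) (.leaf [0, 1, 0, 1, 1, 1, 0, 0, 1])))) (.node (.node (.node (.leaf [1]) (.leaf [])) (.node (.leaf [1, 1, 0, 1, 0, 1]) (.leaf [0, 1, 1, 0, 0, 1, 1, 1, 0, 1, 1, 1, 1]))) (.node (.node (.leaf []) (.leaf [0, 0, 0, 1, 0, 0, 1, 0, 1, 0, 0, 1])) (.node (.leaf [1]) (.leaf [0, 1, 1, 0, 1, 0, 0, 1, 0, 1, 1, 0, 1]))))) (.node (.node (.node (.node (.leaf []) (.leaf [1, 0, 0, 1, 0, 1, 1])) (.node (.leaf [0, 0, 0, 1, 1, 1, 1]) (.leaf [0, 0, 0, 1, 1, 1, 1, 0, 1]))) (.node (.node (.leaf [1, 1, 0, 1, 0, 1, 1]) (.leaf [])) (.node (.leaf [1, 1, 0, 0, 1]) (.leaf [0, 1, 1, 0, 0, 0, 1, 1, 0, 1, 1, 0, 1])))) (.node (.node (.node (.leaf [1, 1, 0, 1, 0, 1]) (.leaf [0, 0, 0, 0, 0, 0, 0, 1, 1])) (.node (.leaf [1, 1, 1, 1, 1, 1, 0,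 1, 0, 1]) (.leaf [0, 0, 1, 0, 1, 1, 0, 0, 0, 1, 1, 1]))) (.node (.node (.leaf [0, 1, 0, 1, 0, 1, 1]) (.leaf [1, 0, 1, 0, 1, 1, 1, 0, 1, 1, 0, 0, 1])) (.node (.leaf [1, 1, 0, 0, 1, 0, 1]) (.leaf [1, 0, 0, 1, 1, 1, 0, 0, 1])))))) (.node (.node (.node (.node (.node (.leaf [0, 0, 0, 0, 0, 0, 1]) (.leaf [1, 1, 0, 1, 1, 0, 1, 0, 0, 0, 0, 1])) (.node (.leaf [0, 1, 0, 1, 0, 1, 1]) (.leaf [1, 1, 1, 0, 1, 1, 0, 0, 1, 1, 1, 1]))) (.node (.node (.leaf [1]) (.leaf [1])) (.node (.leaf [1, 0, 0, 1, 1, 1, 1]) (.leaf [0, 1, 0, 1, 0, 1])))) (.node (.node (.node (.leaf []) (.leaf [1, 1, 0, 0, 1, 0, 0, 0, 0, 0, 0, 0, 1])) (.node (.leaf [1]) (.leaf [1]))) (.node (.node (.leaf [0, 1, 0, 1, 0, 1]) (.leaf [0, 0, 0, 1, 0, 0, 1, 0, 1, 0, 0, 1])) (.node (.leaf [1, 1, 1, 1, 1, 1, 0, 1, 0, 1]) (.leaf [1, 1, 1, 0, 0, 1, 0, 0, 0, 1, 0, 0, 1]))))) (.node (.node (.node (.node (.leaf []) (.leaf [1])) (.node (.leaf [1, 1, 0, 0, 1]) (.leaf [1, 0, 0,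 0, 0, 0, 1]))) (.node (.node (.leaf [0, 0, 0, 0, 0, 1, 0, 1, 1, 0, 0, 1, 1]) (.leaf [1, 1, 1, 1, 1, 0, 1, 0, 1, 1, 0, 1, 1])) (.node (.leaf [1, 1, 0, 1, 0, 1]) (.leaf [0, 1, 0, 0, 1])))) (.node (.node (.node (.leaf [0, 0, 0, 0, 0, 0, 0, 1]) (.leaf [1, 1, 0, 0, 1, 0, 1, 1])) (.node (.leaf [1, 1, 0, 0, 1, 0, 1]) (.leaf [1, 0, 0, 0, 0, 0, 1, 0, 1, 0, 1, 0, 1]))) (.node (.node (.leaf []) (.leaf [0, 1, 0, 0, 1, 1, 1, 0, 0, 0, 1, 1, 1])) (.node (.leaf [1, 1, 1, 1, 1, 0, 0, 0, 1, 1, 0, 1, 1]) (.leaf [0, 0, 1, 1, 0, 0, 0, 0, 1, 1, 0, 1, 1]))))))))) (.node (.node (.node (.node (.node (.node (.node (.node (.node (.leaf []) (.leaf [0, 0, 0, 0, 0, 0, 0, 0, 1, 0, 0, 0, 0])) (.leaf [1, 0, 0, 0, 0, 0, 1])) (.node (.leaf [1, 0, 0, 1, 1, 0, 0, 0, 1, 0, 0, 1]) (.leaf [1, 0, 1, 1, 0, 1, 1, 0, 0, 1, 0, 1, 1]))) (.node (.node (.leaf [1]) (.leaf [1, 1, 0, 0, 1])) (.node (.leaf [0, 1, 0, 0, 1, 0, 1]) (.leaf [0, 1, 0, 0, 1, 0, 0, 1]))))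 (.node (.node (.node (.leaf [1]) (.leaf [1])) (.node (.leaf [1]) (.leaf [1, 0, 1, 0, 0, 0, 1, 1, 1, 1, 1, 0, 1]))) (.node (.node (.leaf [0, 0, 0, 0, 0, 0, 1]) (.leaf [0, 1, 0, 0, 1])) (.node (.leaf [1]) (.leaf [0, 0, 0, 1, 1, 1]))))) (.node (.node (.node (.node (.leaf []) (.leaf [0, 0, 1, 0, 1, 1, 1, 0, 1, 1, 1, 0, 1])) (.node (.leaf [1, 1, 0, 0, 1, 0, 1]) (.leaf [1, 0, 0, 1, 0, 0, 1, 0, 1, 0, 0, 1]))) (.node (.node (.leaf [0, 0, 0, 1, 1, 0, 0, 0, 1, 0, 0, 1]) (.leaf [])) (.node (.leaf [1]) (.leaf [1])))) (.node (.node (.node (.leaf [1, 0, 1, 1, 1, 1, 0, 1, 0, 1]) (.leaf [0, 1, 0, 1, 0, 0, 0, 0, 1, 0, 0, 1])) (.node (.leaf [0, 0, 0, 0, 0, 0, 1]) (.leaf [1]))) (.node (.node (.leaf [1]) (.leaf [0, 0, 0, 1, 1, 1, 1])) (.node (.leaf []) (.leaf [1, 1, 1, 0, 0, 1, 1, 1, 1, 1, 1, 1, 1])))))) (.node (.node (.node (.node (.node (.leaf [1, 1, 0, 0, 1]) (.leaf [0, 1, 0, 0, 1, 1, 0, 1, 0, 0, 1])) (.node (.leaf [1]) (.leaf [1])))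 (.node (.node (.leaf []) (.leaf [0, 0, 0, 0, 0, 0, 1])) (.node (.leaf [0, 0, 0, 0, 0, 0, 1]) (.leaf [1, 0, 0, 1, 1, 1, 1])))) (.node (.node (.node (.leaf []) (.leaf [1])) (.node (.leaf [1]) (.leaf [1, 1, 0, 0, 1]))) (.node (.node (.leaf [0, 0, 0, 1, 1, 0, 0, 0, 1, 0, 0, 1]) (.leaf [1, 0, 0, 1, 0, 0, 0, 0, 1, 0, 0, 1])) (.node (.leaf [0, 0, 0, 0, 0, 0, 1]) (.leaf [0, 1, 0, 0, 1, 0, 1, 0, 0, 0, 0, 0, 1]))))) (.node (.node (.node (.node (.leaf [1, 1, 0, 1, 0, 1]) (.leaf [])) (.node (.leaf []) (.leaf [0, 0, 0, 0, 0, 0, 1, 0, 1, 0, 0, 0, 1]))) (.node (.node (.leaf [1]) (.leaf [])) (.node (.leaf [1]) (.leaf [0, 1, 0, 0, 1, 0, 0, 1, 1])))) (.node (.node (.node (.leaf [0, 1, 0, 1, 0, 1]) (.leaf [0, 0, 0, 1, 0, 0, 0, 0, 1, 0, 0, 1])) (.node (.leaf []) (.leaf [0, 1, 0, 1, 1, 0, 0, 0, 1, 0, 0, 1]))) (.node (.node (.leaf [0, 1, 0, 0, 1, 0, 1]) (.leaf [1, 0, 0, 0, 0, 0, 0, 0, 0, 0, 1])) (.node (.leaf [0, 1, 0, 0, 1, 0, 1]) (.leaf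 [0, 1, 1, 1, 0, 1, 0, 0, 1, 1, 0, 1, 1]))))))) (.node (.node (.node (.node (.node (.node (.node (.leaf [1, 1, 0, 0, 1]) (.leaf [1, 1, 0, 0, 1, 0, 0, 1, 0, 1])) (.leaf [])) (.node (.leaf [1]) (.leaf [0, 1, 1, 1, 0, 0, 1, 1, 0, 1, 0, 1]))) (.node (.node (.leaf [0, 0, 0, 0, 0, 0, 1]) (.leaf [0, 1, 0, 0, 1, 0, 1, 1])) (.node (.leaf [0, 0, 0, 1, 1, 1, 1]) (.leaf [1])))) (.node (.node (.node (.leaf [1, 1, 0, 0, 1, 0, 1]) (.leaf [1, 1, 1, 0, 0, 0, 0, 0, 0, 1])) (.node (.leaf []) (.leaf [1, 1, 0, 1, 0, 1, 0, 0, 1]))) (.node (.node (.leaf [0, 1, 1, 0, 0, 0, 0, 0, 0, 1]) (.leaf [])) (.node (.leaf [1, 1, 0, 0, 1]) (.leaf [0, 0, 1, 0, 0, 0, 1, 1, 0, 1, 1, 0, 1]))))) (.node (.node (.node (.node (.leaf [1]) (.leaf [0, 0, 0, 0, 0, 0, 1])) (.node (.leaf [0, 0, 0, 1, 1, 1, 1]) (.leaf [1]))) (.node (.node (.leaf [1, 1, 0, 1, 0, 1, 1]) (.leaf [1, 0, 0, 1, 0, 1, 1])) (.node (.leaf [1, 0, 0, 0, 0, 0, 1]) (.leaf [1, 0, 0, 0, 0, 0, 0,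 1])))) (.node (.node (.node (.leaf [1, 1, 0, 1, 0, 1]) (.leaf [1, 1, 0, 0, 1, 1, 1, 0, 1, 0, 1, 1, 1])) (.node (.leaf [0, 1, 0, 0, 1]) (.leaf [0, 1, 0, 0, 1]))) (.node (.node (.leaf []) (.leaf [1, 0, 0, 0, 0, 0, 0, 1])) (.node (.leaf [1]) (.leaf [1, 0, 0, 0, 0, 0, 0, 0, 1, 0, 0, 0, 1])))))) (.node (.node (.node (.node (.node (.leaf []) (.leaf [0, 0, 1, 1, 0, 1, 1, 0, 1, 1, 0, 1, 1])) (.node (.leaf [1, 1, 1, 0, 0, 0, 0, 0, 0, 1]) (.leaf [0, 0, 0, 0, 0, 0, 1, 0, 0, 0, 0, 0, 1]))) (.node (.node (.leaf [0, 1, 1, 0, 0, 0, 0, 0, 0, 1]) (.leaf [0, 1, 0, 1, 1, 0, 1, 0, 0, 0, 0, 1])) (.node (.leaf [1, 0, 0, 1, 1, 1, 1]) (.leaf [1, 1, 1, 0, 1, 1, 1, 0, 0, 1, 0, 1])))) (.node (.node (.node (.leaf [1, 1, 0, 0, 1]) (.leaf [1, 0, 1, 0, 1, 1, 1, 1, 1, 1, 1, 1, 1])) (.node (.leaf [1, 1, 0, 0, 1]) (.leaf [0, 1, 0, 1, 0, 0, 0, 0, 0, 0, 0, 1]))) (.node (.node (.leaf [0, 0, 0, 0, 0, 0, 0, 0, 0, 0, 0, 0, 1]) (.leaf [1, 1, 0, 0, 1, 0,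 0, 0, 0, 0, 0, 0, 1])) (.node (.leaf [0, 1, 0, 0, 1]) (.leaf [0, 1, 1, 0, 1, 0, 0, 1, 0, 1, 1, 0, 1]))))) (.node (.node (.node (.node (.leaf [1]) (.leaf [1, 0, 0, 1, 1, 0, 0, 0, 0, 0, 0, 1])) (.node (.leaf [0, 0, 0, 0, 0, 0, 1]) (.leaf []))) (.node (.node (.leaf []) (.leaf [1])) (.node (.leaf []) (.leaf [1, 0, 0, 0, 0, 0, 1, 0, 1, 0, 1, 0, 1])))) (.node (.node (.node (.leaf []) (.leaf [0, 0, 0, 0, 1, 1, 0, 0, 0, 0, 0, 1])) (.node (.leaf [1]) (.leaf [1, 0, 0, 1, 0, 0, 1, 0, 1, 0, 0, 1]))) (.node (.node (.leaf []) (.leaf [0, 1, 0, 0, 1, 0, 1, 1, 1])) (.node (.leaf [1, 0, 0, 1, 1, 1, 1]) (.leaf [0, 1, 0, 0, 1, 1, 1, 0, 1, 0, 1, 1, 1])))))))) (.node (.node (.node (.node (.node (.node (.node (.node (.leaf []) (.leaf [0, 0, 1, 0, 0, 0, 0, 0, 0, 1, 1])) (.leaf [0, 1, 1, 0, 0, 0, 0, 0, 1, 1, 0, 1, 1])) (.node (.leaf []) (.leaf [1, 1, 1, 0, 0, 1, 1, 0, 1, 1, 0, 0, 1]))) (.node (.node (.leaf [1]) (.leaf [1, 1, 1, 0, 1, 1,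 0, 0, 0, 1, 0, 1])) (.node (.leaf [1, 1, 0, 0, 1]) (.leaf [1, 1, 1, 0, 0, 0, 0, 0, 1, 1, 1, 0, 1])))) (.node (.node (.node (.leaf [1, 1, 0, 0, 1]) (.leaf [0, 1, 1, 0, 1, 1, 0, 0, 1, 1, 1, 1])) (.node (.leaf [1, 1, 0, 0, 1, 1, 0, 1, 1, 0, 0, 1, 1]) (.leaf [1, 1, 0, 1, 0, 1]))) (.node (.node (.leaf [1]) (.leaf [1, 0, 0, 0, 0, 0, 1])) (.node (.leaf [1, 0, 0, 0, 0, 0, 1, 1]) (.leaf [0, 0, 1, 0, 0, 0, 0, 0, 1, 1, 1]))))) (.node (.node (.node (.node (.leaf [1, 1, 0, 0, 1, 0, 0, 1]) (.leaf [])) (.node (.leaf [1, 0, 0, 0, 0, 0, 0, 0, 0, 0, 0, 0, 1]) (.leaf [1, 1, 1, 0, 0, 1, 1, 0, 0, 1, 0, 0, 1]))) (.node (.node (.leaf [1, 1, 0, 0, 1, 0, 1]) (.leaf [0, 1, 0, 1, 1, 0, 1, 0, 0, 0, 0, 1])) (.node (.leaf [1, 1, 0, 0, 1]) (.leaf [0, 1, 0, 1, 0, 0, 0, 0, 1, 0, 0, 1])))) (.node (.node (.node (.leaf [0, 1, 0, 0, 1]) (.leaf [0, 1, 1, 1, 1, 0, 1, 0, 0, 1, 0, 1, 1])) (.node (.leaf []) (.leaf [1, 0, 0, 0, 0, 1, 0, 1, 1, 0, 0, 1, 1])))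 (.node (.node (.leaf [1, 1, 1, 0, 0, 0, 0, 0, 0, 1]) (.leaf [1])) (.node (.leaf [1, 1, 0, 1, 0, 1, 1]) (.leaf [1])))))) (.node (.node (.node (.node (.node (.leaf []) (.leaf [1])) (.node (.leaf [1, 1, 1, 0, 0, 0, 0, 0, 0, 1]) (.leaf [0, 0, 1, 1, 1, 1, 0, 1, 1, 1]))) (.node (.node (.leaf [1]) (.leaf [])) (.node (.leaf [1, 1, 1, 0, 0, 0, 0, 0, 1, 1, 0, 1, 1]) (.leaf [1, 1, 0, 0, 1, 1, 0, 0, 1, 0, 0, 1])))) (.node (.node (.node (.leaf [1]) (.leaf [1, 1, 0, 1, 0, 0, 0, 0, 1, 0, 0, 1])) (.node (.leaf [0, 0, 0, 0, 0, 0, 1, 1]) (.leaf [0, 0, 1, 0, 1, 0, 1, 0, 0, 1, 1, 1, 1]))) (.node (.node (.leaf [1, 1, 0, 0, 1, 0, 1]) (.leaf [1])) (.node (.leaf []) (.leaf [0, 1, 0, 0, 1, 1, 0, 0, 0, 0, 0, 1]))))) (.node (.node (.node (.node (.leaf []) (.leaf [])) (.node (.leaf [1, 1, 0, 0, 1]) (.leaf [1, 1, 0, 1, 1, 0, 0, 0, 0, 0, 0, 1]))) (.node (.node (.leaf [0, 0, 0, 1, 1, 0, 0, 0, 1, 0, 0, 1]) (.leaf [0, 1, 0, 0, 1])) (.node (.leaf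 [0, 1, 0, 0, 1, 1, 0, 1, 0, 0, 0, 1, 1]) (.leaf [1, 0, 0, 0, 0, 0, 1, 0, 1])))) (.node (.node (.node (.leaf [0, 1, 0, 1, 0, 1]) (.leaf [0, 0, 0, 1, 0, 1, 1, 0, 0, 0, 1, 0, 1])) (.node (.leaf [1, 1, 0, 1, 0, 1, 1]) (.leaf [1, 1, 1, 1, 0, 0, 1, 1, 0, 1, 0, 1]))) (.node (.node (.leaf [0, 1, 0, 1, 0, 1, 1]) (.leaf [1, 1, 0, 1, 0, 0, 0, 0, 1, 0, 0, 1])) (.node (.leaf [1, 1, 0, 0, 1]) (.leaf [1, 0, 1, 1, 0, 1, 1, 0, 1, 1, 0, 1, 1]))))))) (.node (.node (.node (.node (.node (.node (.leaf []) (.leaf [1])) (.node (.leaf [0, 0, 0, 0, 0, 0, 1]) (.leaf [1, 1, 0, 1, 0, 1, 0, 0, 1]))) (.node (.node (.leaf [1]) (.leaf [0, 1, 0, 0, 1, 0, 1, 0, 0, 0, 0, 0, 1])) (.node (.leaf [1]) (.leaf [1])))) (.node (.node (.node (.leaf []) (.leaf [0, 0, 0, 1, 0, 0, 1, 0, 1, 0, 0, 1])) (.node (.leaf [1, 1, 0, 1, 0, 1, 1]) (.leaf [1, 1, 0, 0, 1, 0, 1, 0, 1, 0, 0, 0, 1]))) (.node (.node (.leaf [0, 1, 1, 0, 0, 0, 0, 0, 0, 1]) (.leaf [1, 0, 0, 0, 0,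 0, 0, 0, 1])) (.node (.leaf []) (.leaf [0, 0, 0, 1, 0, 0, 0, 0, 0, 0, 1, 1, 1]))))) (.node (.node (.node (.node (.leaf [0, 1, 0, 0, 1]) (.leaf [])) (.node (.leaf []) (.leaf [0, 1, 0, 0, 1, 0, 0, 0, 0, 0, 0, 0, 1]))) (.node (.node (.leaf []) (.leaf [1])) (.node (.leaf [0, 0, 0, 0, 0, 0, 1]) (.leaf [1, 1, 0, 1, 0, 0, 0, 0, 0, 0, 0, 1])))) (.node (.node (.node (.leaf [1]) (.leaf [0, 0, 1, 0, 1, 1, 1, 0, 1, 1, 0, 0, 1])) (.node (.leaf [0, 0, 1, 1, 1, 1, 0, 1, 0, 1]) (.leaf [0, 1, 0, 1, 0, 0, 1, 0, 0, 0, 0, 1]))) (.node (.node (.leaf [1, 0, 0, 1, 1, 0, 0, 0, 1, 0, 0, 1]) (.leaf [0, 1, 0, 0, 1, 0, 1, 0, 1])) (.node (.leaf [0, 0, 0, 0, 0, 1, 0, 1, 0, 0, 0, 1, 1]) (.leaf [1, 0, 0, 0, 0, 0, 0, 0, 1])))))) (.node (.node (.node (.node (.node (.leaf []) (.leaf [1])) (.node (.leaf [1, 0, 0, 1, 1, 0, 0, 0, 0, 0, 0, 1]) (.leaf [1, 0, 0, 0, 0, 1, 1, 0, 0, 0, 1, 0, 1]))) (.node (.node (.leaf []) (.leaf [0, 0, 1, 0, 1, 1, 1, 1, 1,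 1, 1, 1, 1])) (.node (.leaf []) (.leaf [0, 1, 0, 1, 0, 1])))) (.node (.node (.node (.leaf [1, 1, 0, 0, 1]) (.leaf [0, 0, 0, 1, 0, 0, 1, 0, 1, 0, 0, 1])) (.node (.leaf []) (.leaf [1, 0, 0, 0, 0, 1, 1, 0, 0, 0, 1, 0, 1]))) (.node (.node (.leaf []) (.leaf [1, 0, 1, 0, 1, 1, 0, 0, 1, 1, 1, 1])) (.node (.leaf [0, 0, 1, 1, 1, 1, 0, 1, 0, 1]) (.leaf [1]))))) (.node (.node (.node (.node (.leaf [1, 1, 0, 0, 1, 0, 1]) (.leaf [0, 1, 1, 1, 1, 0, 1, 0, 1, 1, 0, 1, 1])) (.node (.leaf [0, 0, 0, 0, 0, 0, 1]) (.leaf [1, 0, 1, 0, 0, 1, 1, 1, 1, 1, 1, 1, 1]))) (.node (.node (.leaf [1]) (.leaf [1, 0, 0, 0, 0, 1, 0, 1, 0, 0, 0, 1, 1])) (.node (.leaf [0, 1, 0, 1, 0, 1, 1]) (.leaf [1, 1, 1, 0, 0, 1, 0, 0, 0, 1, 0, 0, 1])))) (.node (.node (.node (.leaf [1, 1, 0, 0, 1, 0, 0, 1]) (.leaf [1, 1, 0, 0, 1, 1, 1, 0, 1, 0, 1, 1, 1])) (.node (.leaf [0, 0, 0, 0, 0, 1, 0, 1, 0, 0, 0, 1, 1]) (.leaf [1]))) (.node (.node (.leaf [1]) (.leaf [1, 0, 1,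 0, 0, 0, 0, 0, 0, 1, 1, 0, 1])) (.node (.leaf [1]) (.leaf [0, 1, 0, 1, 0, 0, 0, 0, 0, 0, 0, 1]))))))))))

def twoL5 : Janko.Tree (List ℤ) :=
  (.node (.node (.node (.node (.node (.node (.node (.node (.node (.node (.leaf []) (.leaf [0, 0, 0, 0, 0, 1, 0, 0, 0, 0, 0, 0, 0])) (.leaf [1, 1, 0, 0, 1])) (.node (.leaf []) (.leaf [0, 1]))) (.node (.node (.leaf [0, 1]) (.leaf [0, 1, 1, 0, 0, 0, 0, 1, 1, 1, 1, 0, 1])) (.node (.leaf [1, 1, 0, 1, 0, 0, 0, 0, 1, 0, 0, 1]) (.leaf [1, 0, 0, 0, 1, 1, 0, 0, 0, 0, 0, 1])))) (.node (.node (.node (.leaf [0, 1, 0, 0, 0, 0, 0, 0, 1]) (.leaf [0, 1, 1, 1, 1, 1, 1, 1, 0, 1])) (.node (.leaf [0, 0, 0, 0, 1, 1, 0, 0, 0, 0, 0, 1]) (.leaf [0, 0, 0, 0, 0, 1, 0, 0, 0, 0, 0, 1]))) (.node (.node (.leaf [1, 0, 1, 1, 1, 1, 0, 1, 0, 1]) (.leaf [0, 1, 1, 1, 1, 1, 1, 0, 1, 1, 0, 1, 1])) (.node (.leaf [0, 1, 1, 0, 0, 1, 0, 0, 0, 1, 0, 0, 1]) (.leaf [0, 1]))))) (.node (.node (.node (.node (.leaf [0, 0, 0,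 1, 1, 1]) (.leaf [])) (.node (.leaf [1, 1, 1, 1, 0, 1, 0, 1, 0, 1]) (.leaf [1, 0, 0, 1, 0, 0, 0, 0, 0, 0, 0, 1]))) (.node (.node (.leaf []) (.leaf [])) (.node (.leaf [0, 1, 0, 1, 1, 0, 0, 0, 1, 0, 0, 1]) (.leaf [0, 1, 0, 1, 0, 1])))) (.node (.node (.node (.leaf [0, 1]) (.leaf [0, 1])) (.node (.leaf [1, 1, 1, 1, 1, 1, 0, 0, 1, 1, 0, 1, 1]) (.leaf [0, 0, 1, 0, 0, 0, 1, 0, 0, 1]))) (.node (.node (.leaf [0, 1]) (.leaf [0, 0, 1, 0, 0, 0, 1, 0, 1, 1])) (.node (.leaf []) (.leaf [0, 0, 1, 0, 0, 0, 1, 0, 1, 1])))))) (.node (.node (.node (.node (.node (.leaf [0, 1, 0, 1, 1, 1]) (.leaf [0, 1, 1, 0, 0, 0, 0, 0, 0, 1])) (.node (.leaf [0, 0, 0, 0, 0, 0, 0, 0, 1]) (.leaf [1, 0, 0, 1, 1, 0, 0, 0, 0, 0, 0, 1]))) (.node (.node (.leaf [0, 1, 0, 1, 1, 1]) (.leaf [0, 1])) (.node (.leaf [1, 1, 0, 0, 1]) (.leaf [0, 1, 1, 0, 0, 0, 1, 0, 1, 1, 0, 1, 1])))) (.node (.node (.node (.leaf []) (.leaf [1, 1])) (.node (.leaf [1, 1, 1, 0, 0, 1, 0,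 0, 0, 1, 0, 0, 1]) (.leaf [0, 0, 0, 1, 1, 0, 0, 0, 1, 0, 0, 1]))) (.node (.node (.leaf []) (.leaf [0, 1, 0, 1, 0, 1])) (.node (.leaf [0, 1, 1, 1, 1, 1, 0, 0, 1, 1, 0, 1, 1]) (.leaf [0, 1]))))) (.node (.node (.node (.node (.leaf []) (.leaf [1, 0, 0, 1, 1, 1])) (.node (.leaf [0, 1, 0, 1, 1, 0, 0, 0, 0, 0, 0, 1]) (.leaf [1, 1, 0, 1, 1, 0, 0, 0, 1, 0, 0, 1]))) (.node (.node (.leaf [1, 1, 0, 0, 1, 1, 0, 0, 0, 0, 0, 1]) (.leaf [1, 0, 0, 1, 0, 0, 0, 0, 1, 0, 0, 1])) (.node (.leaf [1, 0, 0, 0, 1, 1, 0, 0, 0, 0, 0, 1]) (.leaf [1, 1, 0, 1, 1, 0, 0, 0, 1, 0, 1, 1, 1])))) (.node (.node (.node (.leaf [0, 0, 1, 0, 0, 0, 0, 0, 0, 1]) (.leaf [0, 1])) (.node (.leaf []) (.leaf [0, 1]))) (.node (.node (.leaf [1, 1, 1, 0, 1, 0, 0, 0, 0, 1]) (.leaf [1, 0, 0, 1, 1, 0, 0, 0, 0, 0, 0, 1])) (.node (.leaf [1, 1, 0, 1, 0, 0, 0, 0, 1, 0, 0, 1]) (.leaf [0, 1, 0, 0, 0, 0, 0, 0, 1]))))))) (.node (.node (.node (.node (.node (.node (.node (.leaf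 [1, 1, 0, 1, 1, 1]) (.leaf [1, 1, 0, 1, 0, 1, 0, 1, 0, 1])) (.leaf [0, 0, 1, 0, 0, 0, 0, 0, 0, 1])) (.node (.leaf [0, 1, 1, 1, 1, 1, 0, 1, 0, 1]) (.leaf [1, 1, 0, 1, 0, 0, 1, 0, 0, 0, 0, 1]))) (.node (.node (.leaf [0, 0, 1, 1, 1, 1, 0, 1, 0, 1]) (.leaf [])) (.node (.leaf [1, 0, 1, 0, 0, 0, 0, 0, 1, 1]) (.leaf [0, 1])))) (.node (.node (.node (.leaf []) (.leaf [1, 1, 0, 1, 1, 0, 0, 0, 1, 0, 0, 1])) (.node (.leaf [0, 0, 0, 0, 1, 1, 0, 0, 1, 0, 0, 1, 1]) (.leaf [0, 1, 1, 0, 0, 0, 0, 1, 1, 1, 1, 0, 1]))) (.node (.node (.leaf []) (.leaf [1, 1, 1, 1, 1, 1, 0, 0, 0, 1])) (.node (.leaf [0, 1, 0, 1, 1, 1, 1, 1]) (.leaf [0, 1, 0, 0, 0, 0, 0, 1, 1]))))) (.node (.node (.node (.node (.leaf [0, 1]) (.leaf [0, 0, 0, 0, 0, 0, 0, 1])) (.node (.leaf [1, 0, 0, 0, 1, 1, 0, 0, 0, 0, 0, 1]) (.leaf [0, 0, 0, 0, 1, 0, 0, 0, 1, 0, 1, 0, 1]))) (.node (.node (.leaf [1, 1, 0, 0, 1, 1, 0, 0, 1, 0, 0, 1]) (.leaf [1, 0, 0, 0, 1])) (.node (.leaf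 [0, 1, 0, 1, 1, 0, 0, 0, 1, 0, 0, 1]) (.leaf [1, 0, 1, 0, 1, 0, 0, 0, 1, 1])))) (.node (.node (.node (.leaf []) (.leaf [1, 1, 1, 1, 1, 0, 1, 0, 1, 1, 0, 0, 1])) (.node (.leaf [0, 1]) (.leaf [0, 1, 0, 0, 0, 1, 0, 0, 0, 0, 0, 1]))) (.node (.node (.leaf []) (.leaf [1, 1, 0, 0, 1, 1, 0, 0, 1, 0, 0, 1])) (.node (.leaf [0, 1, 0, 0, 0, 0, 0, 0, 1]) (.leaf [0, 1, 0, 1, 1, 1, 0, 1, 1, 0, 0, 0, 1])))))) (.node (.node (.node (.node (.node (.leaf [0, 1]) (.leaf [0, 0, 1, 0, 0, 0, 0, 0, 1, 1])) (.node (.leaf []) (.leaf [1, 0, 0, 0, 1, 0, 0, 1]))) (.node (.node (.leaf []) (.leaf [0, 1, 0, 0, 0, 1, 0, 0, 0, 0, 0, 1])) (.node (.leaf [1, 0, 0, 0, 1, 1, 0, 0, 1, 0, 0, 1]) (.leaf [])))) (.node (.node (.node (.leaf [0, 1, 1, 0, 0, 0, 0, 0, 0, 1]) (.leaf [1, 0, 1, 0, 1, 0, 0, 0, 1, 1])) (.node (.leaf [1, 1, 0, 1, 1, 1, 1, 1]) (.leaf [1, 1, 0, 1, 0, 1, 1]))) (.node (.node (.leaf [1, 1, 0, 1, 0, 0, 0, 0, 1, 0, 0, 1]) (.leaf [1, 0, 0, 0,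 1, 0, 1, 1, 1, 0, 0, 0, 1])) (.node (.leaf [0, 1]) (.leaf [1, 0, 0, 1, 1, 0, 0, 0, 0, 0, 1, 1, 1]))))) (.node (.node (.node (.node (.leaf []) (.leaf [0, 0, 0, 0, 0, 0, 0, 0, 1])) (.node (.leaf [0, 1, 0, 1, 1, 0, 0, 0, 1, 0, 0, 1]) (.leaf [0, 0, 0, 0, 0, 1, 0, 0, 0, 0, 0, 1]))) (.node (.node (.leaf []) (.leaf [0, 1])) (.node (.leaf [1, 0, 0, 0, 1, 1, 0, 0, 1, 0, 0, 1, 1]) (.leaf [0, 1, 0, 0, 0, 0, 0, 0, 1, 0, 1])))) (.node (.node (.node (.leaf [1, 1, 0, 0, 1, 0, 0, 0, 1]) (.leaf [1, 0, 1, 0, 0, 0, 0, 0, 1, 1, 1])) (.node (.leaf [0, 1, 0, 0, 0, 0, 0, 0, 1]) (.leaf [0, 1]))) (.node (.node (.leaf [0, 1]) (.leaf [0, 0, 0, 0, 0, 1, 0, 0, 0, 0, 0, 1])) (.node (.leaf [0, 0, 1, 0, 0, 0, 0, 0, 1, 1]) (.leaf [0, 0, 1, 0, 1, 0, 0, 0, 1, 1, 0, 0, 1])))))))) (.node (.node (.node (.node (.node (.node (.node (.node (.leaf [0, 1]) (.leaf [0, 1, 0, 0, 1, 0, 0, 1, 0, 1])) (.leaf [])) (.node (.leaf []) (.leaf []))) (.node (.node (.leaf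 [1, 1, 1, 1, 1, 1, 0, 1, 0, 1]) (.leaf [0, 0, 1, 1, 1, 0, 1, 0, 1, 1, 0, 0, 1])) (.node (.leaf []) (.leaf [0, 1, 0, 0, 0, 1, 0, 0, 1, 0, 0, 1])))) (.node (.node (.node (.leaf []) (.leaf [0, 1])) (.node (.leaf [0, 1]) (.leaf [0, 0, 0, 0, 0, 0, 0, 0, 1, 0, 1]))) (.node (.node (.leaf [0, 0, 0, 0, 0, 0, 0, 0, 1]) (.leaf [0, 1, 0, 0, 1, 0, 1, 1, 1, 0, 0, 0, 1])) (.node (.leaf []) (.leaf [0, 1, 1, 0, 0, 0, 1, 1, 1, 1, 1, 0, 1]))))) (.node (.node (.node (.node (.leaf [0, 0, 0, 1, 1, 1, 0, 1]) (.leaf [0, 1, 0, 0, 0, 1, 0, 0, 1, 0, 0, 1])) (.node (.leaf [1, 1, 0, 1, 0, 0, 0, 0, 0, 0, 0, 1]) (.leaf [0, 0, 1, 0, 0, 0, 0, 1, 1, 1, 1, 0, 1]))) (.node (.node (.leaf [1, 1, 1, 0, 1, 0, 0, 0, 0, 1]) (.leaf [1, 1, 0, 0, 1, 0, 0, 1])) (.node (.leaf []) (.leaf [0, 1, 0, 0, 1, 0, 0, 0, 1, 0, 1, 0, 1])))) (.node (.node (.node (.leaf [0, 1, 1, 0, 0, 0, 0, 1, 0, 1]) (.leaf [0, 1])) (.node (.leaf [0, 1]) (.leaf [0, 0, 1, 0, 0, 0, 0, 0, 0,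 1]))) (.node (.node (.leaf []) (.leaf [1, 0, 0, 1, 0, 0, 0, 0, 1, 0, 0, 1])) (.node (.leaf [0, 1]) (.leaf [0, 1, 0, 0, 0, 1, 1, 0, 0, 0, 0, 1])))))) (.node (.node (.node (.node (.node (.leaf [1, 0, 0, 1, 1, 1]) (.leaf [])) (.node (.leaf []) (.leaf [1, 1, 1, 0, 1, 0, 0, 1, 1, 1]))) (.node (.node (.leaf [0, 1]) (.leaf [0, 1, 0, 0, 0, 1, 0, 0, 0, 0, 0, 1])) (.node (.leaf []) (.leaf [1, 0, 0, 0, 1, 1, 1, 0, 0, 0, 0, 1])))) (.node (.node (.node (.leaf []) (.leaf [0, 1])) (.node (.leaf []) (.leaf [0, 0, 0, 0, 0, 0, 0, 0, 1]))) (.node (.node (.leaf [0, 1, 1, 1, 0, 1, 0, 1, 0, 1]) (.leaf [0, 0, 0, 0, 1, 1, 0, 0, 1, 0, 0, 1])) (.node (.leaf [0, 1]) (.leaf [0, 0, 1, 0, 0, 0, 0, 0, 1, 1]))))) (.node (.node (.node (.node (.leaf [0, 1]) (.leaf [1, 1, 0, 1, 1, 0, 1, 0, 0, 0, 0, 1])) (.node (.leaf []) (.leaf [1, 0, 1, 0, 1, 0, 1, 0, 1, 1, 0, 0, 1]))) (.node (.node (.leaf []) (.leaf [0, 1, 1, 0, 0, 0, 0, 0, 0, 1])) (.node (.leaf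 [0, 1]) (.leaf [1, 0, 1, 0, 0, 0, 1, 0, 0, 1, 0, 1, 1])))) (.node (.node (.node (.leaf []) (.leaf [0, 1])) (.node (.leaf [0, 1]) (.leaf [1, 1, 1, 0, 1, 0, 0, 0, 1, 1]))) (.node (.node (.leaf [1, 1, 0, 0, 1, 1, 0, 0, 0, 0, 0, 1]) (.leaf [0, 0, 1, 0, 1, 1, 0, 0, 1, 1, 1, 1])) (.node (.leaf []) (.leaf [1, 0, 0, 0, 0, 1, 1, 0, 0, 0, 0, 1]))))))) (.node (.node (.node (.node (.node (.node (.node (.leaf [0, 0, 0, 1, 1, 1]) (.leaf [0, 1, 0, 0, 1, 1, 1])) (.leaf [0, 1, 0, 0, 0, 0, 1])) (.node (.leaf [1, 0, 1, 1, 1, 1, 0, 1, 0, 1]) (.leaf [0, 1, 1, 1, 0, 1, 1, 1, 0, 1]))) (.node (.node (.leaf [0, 0, 0, 0, 0, 0, 0, 0, 1]) (.leaf [])) (.node (.leaf [1, 0, 0, 1, 0, 0, 0, 0, 0, 0, 0, 1]) (.leaf [0, 1])))) (.node (.node (.node (.leaf [1, 0, 0, 1, 1, 1]) (.leaf [0, 1, 1, 0, 0, 0, 0, 0, 1, 1, 1])) (.node (.leaf [1, 1, 0, 1, 1, 1]) (.leaf [0, 1, 1, 0, 1, 1, 0, 0, 0, 1, 1, 1]))) (.node (.node (.leaf []) (.leaf [0, 1])) (.node (.leaf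 []) (.leaf [0, 1, 1, 0, 1, 0, 1, 0, 1, 1, 1]))))) (.node (.node (.node (.node (.leaf []) (.leaf [1, 0, 0, 0, 1])) (.node (.leaf [0, 1]) (.leaf [1, 1, 0, 0, 1, 1, 1, 0, 1, 0, 0, 1]))) (.node (.node (.leaf [0, 1]) (.leaf [1, 1, 1, 0, 1, 0, 0, 1, 1, 1, 1, 0, 1])) (.node (.leaf [0, 1]) (.leaf [1, 1, 1, 0, 1, 0, 1, 1, 0, 1, 1, 0, 1])))) (.node (.node (.node (.leaf [0, 1]) (.leaf [])) (.node (.leaf [1, 1, 1, 0, 1, 0, 0, 1, 0, 1]) (.leaf [0, 0, 1, 0, 0, 1, 0, 0, 1, 1, 1, 1]))) (.node (.node (.leaf []) (.leaf [1, 0, 1, 0, 0, 1, 1, 0, 0, 1, 0, 0, 1])) (.node (.leaf [0, 1]) (.leaf [0, 1, 0, 1, 1, 0, 0, 0, 0, 0, 0, 1])))))) (.node (.node (.node (.node (.node (.leaf []) (.leaf [0, 0, 0, 0, 1, 1, 0, 0, 0, 0, 0, 1])) (.node (.leaf []) (.leaf [0, 1]))) (.node (.node (.leaf []) (.leaf [1, 1, 1, 0, 1, 0, 0, 0, 0, 1])) (.node (.leaf [0, 1]) (.leaf [])))) (.node (.node (.node (.leaf []) (.leaf [0, 0, 0, 0, 1, 1, 0, 0, 1, 0, 0, 1, 1]))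 (.node (.leaf []) (.leaf [1, 1, 0, 0, 1, 0, 1, 0, 0, 0, 1, 0, 1]))) (.node (.node (.leaf [0, 1, 0, 1, 1, 1]) (.leaf [1, 0, 0, 1, 1, 0, 0, 0, 0, 0, 1, 1, 1])) (.node (.leaf [1, 1, 1, 0, 1, 0, 0, 1, 0, 1]) (.leaf [1, 1, 1, 0, 1, 1, 0, 0, 1, 1, 0, 0, 1]))))) (.node (.node (.node (.node (.leaf [0, 1, 1, 0, 0, 0, 0, 0, 0, 1]) (.leaf [1, 1, 1, 0, 0, 1, 1, 0, 1, 1, 0, 0, 1])) (.node (.leaf [0, 1]) (.leaf [0, 0, 0, 1, 1, 1, 1]))) (.node (.node (.leaf [0, 1, 1, 1, 1, 1, 0, 1, 0, 1]) (.leaf [0, 0, 1, 0, 0, 0, 0, 0, 0, 1])) (.node (.leaf [1, 1, 0, 1, 1, 1]) (.leaf [0, 1])))) (.node (.node (.node (.leaf [0, 0, 0, 1, 1, 1, 0, 1]) (.leaf [1, 1, 0, 1, 0, 1, 1, 1])) (.node (.leaf [0, 1]) (.leaf [1, 0, 0, 0, 1, 0, 1, 0, 0, 0, 1, 0, 1]))) (.node (.node (.leaf [1, 1, 0, 0, 1, 1, 0, 0, 0, 0, 0, 1]) (.leaf [0, 1, 0, 1, 1, 0, 0, 0, 0, 0, 1, 1, 1])) (.node (.leaf [1, 0, 0, 1, 0, 0, 0, 0, 1, 0, 0, 1]) (.leaf [1, 0, 0, 1, 0, 0, 0, 0, 1,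 0, 0, 1]))))))))) (.node (.node (.node (.node (.node (.node (.node (.node (.node (.leaf []) (.leaf [0, 0, 0, 0, 0, 0, 0, 0, 0, 1, 0, 0, 0])) (.leaf [1, 1, 0, 0, 1])) (.node (.leaf [0, 1]) (.leaf [1, 0, 1, 1, 1, 0, 1, 0, 0, 1, 0, 0, 1]))) (.node (.node (.leaf []) (.leaf [0, 1])) (.node (.leaf [0, 1]) (.leaf [])))) (.node (.node (.node (.leaf [0, 0, 0, 1, 1, 1]) (.leaf [1, 1, 1, 1, 1, 1, 1, 0, 0, 1, 0, 1, 1])) (.node (.leaf [1, 0, 1, 0, 1, 0, 0, 0, 0, 1]) (.leaf [1, 0, 1, 0, 1, 0, 1, 1, 0, 1, 1, 0, 1]))) (.node (.node (.leaf []) (.leaf [0, 1])) (.node (.leaf [0, 1, 0, 0, 1, 0, 0, 0, 1]) (.leaf [0, 1]))))) (.node (.node (.node (.node (.leaf []) (.leaf [])) (.node (.leaf [0, 1]) (.leaf [1, 0, 0, 0, 1, 1, 0, 0, 1, 0, 0, 1]))) (.node (.node (.leaf [0, 0, 0, 0, 1, 1, 0, 0, 0, 0, 0, 1]) (.leaf [0, 1, 0, 0, 0, 1, 0, 0, 1, 0, 0, 1])) (.node (.leaf [1, 0, 0, 0, 1, 0, 0, 0, 1]) (.leaf [1, 1, 1, 1, 1, 0, 0, 0, 0, 1, 1, 1]))))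 (.node (.node (.node (.leaf [1, 0, 1, 0, 1, 0, 0, 1, 0, 1]) (.leaf [1, 0, 1, 0, 0, 0, 1, 0, 1, 1])) (.node (.leaf []) (.leaf [1, 0, 1, 0, 1, 1, 1, 0, 0, 1, 0, 0, 1]))) (.node (.node (.leaf [1, 0, 0, 0, 1, 0, 0, 0, 1]) (.leaf [0, 1])) (.node (.leaf []) (.leaf [0, 0, 1, 0, 1, 0, 1, 0, 1, 1, 1])))))) (.node (.node (.node (.node (.node (.leaf [0, 1]) (.leaf [0, 1])) (.node (.leaf [1, 0, 1, 0, 1, 0, 0, 0, 0, 1]) (.leaf [0, 1, 0, 0, 0, 1, 0, 0, 1, 0, 0, 1]))) (.node (.node (.leaf []) (.leaf [])) (.node (.leaf [1, 1, 0, 0, 1]) (.leaf [0, 1])))) (.node (.node (.node (.leaf [1, 1, 0, 1, 0, 0, 0, 0, 0, 0, 0, 1]) (.leaf [1, 1, 0, 1, 0, 1])) (.node (.leaf [1, 1, 0, 0, 1, 0, 0, 0, 1]) (.leaf []))) (.node (.node (.leaf [0, 1, 0, 0, 0, 0, 0, 0, 1]) (.leaf [0, 1])) (.node (.leaf []) (.leaf [0, 1, 1, 0, 0, 0, 1, 0, 0, 1]))))) (.node (.node (.node (.node (.leaf [1, 1, 0, 1, 1, 1]) (.leaf [1, 0, 0, 1, 0, 0, 0, 0, 1, 0, 0, 1])) (.node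 (.leaf [0, 0, 0, 0, 1, 0, 0, 0, 1]) (.leaf [0, 0, 1, 0, 0, 0, 0, 0, 0, 1]))) (.node (.node (.leaf [0, 0, 0, 1, 1, 0, 0, 0, 0, 0, 0, 1]) (.leaf [0, 1, 0, 1, 1, 0, 1, 0, 0, 0, 0, 1])) (.node (.leaf [1, 0, 1, 0, 1, 0, 0, 0, 0, 1]) (.leaf [0, 1])))) (.node (.node (.node (.leaf [0, 1, 0, 1, 1, 1]) (.leaf [0, 0, 0, 1, 1, 0, 0, 0, 0, 0, 0, 1])) (.node (.leaf []) (.leaf [1, 0, 0, 0, 1, 1, 0, 0, 0, 0, 0, 1]))) (.node (.node (.leaf [0, 1]) (.leaf [0, 1])) (.node (.leaf [0, 1]) (.leaf [1, 0, 0, 1, 0, 0, 0, 0, 1, 0, 1, 1]))))))) (.node (.node (.node (.node (.node (.node (.node (.leaf [0, 1]) (.leaf [1, 1, 0, 0, 1, 0, 0, 0, 0, 1])) (.leaf [])) (.node (.leaf []) (.leaf [0, 0, 1, 0, 0, 0, 0, 0, 0, 1]))) (.node (.node (.leaf []) (.leaf [0, 1, 0, 0, 0, 0, 1])) (.node (.leaf [0, 1]) (.leaf [0, 1, 0, 1, 1, 0, 0, 0, 0, 0, 0, 1])))) (.node (.node (.node (.leaf [0, 1]) (.leaf [1, 1, 1, 1, 1, 1, 0, 0, 0, 1])) (.node (.leaf []) (.leaf [0,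 0, 0, 1, 1, 0, 0, 0, 1, 0, 0, 1]))) (.node (.node (.leaf [0, 1, 1, 1, 1, 1, 0, 0, 0, 1]) (.leaf [1, 1, 1, 0, 0, 0, 0, 0, 1, 1, 1])) (.node (.leaf [0, 1]) (.leaf [1, 0, 1, 0, 0, 0, 1, 1, 1, 1, 1, 0, 1]))))) (.node (.node (.node (.node (.leaf []) (.leaf [1, 0, 0, 0, 1])) (.node (.leaf [0, 0, 0, 1, 0, 1, 1]) (.leaf [1, 0, 1, 0, 0, 0, 0, 1, 0, 1, 1, 0, 1]))) (.node (.node (.leaf [1, 1, 0, 1, 1, 1, 1]) (.leaf [1, 0, 0, 0, 1])) (.node (.leaf [1, 0, 0, 0, 1, 0, 1]) (.leaf [0, 0, 0, 0, 0, 0, 0, 1, 1])))) (.node (.node (.node (.leaf [1, 1, 0, 1, 1, 1]) (.leaf [1, 1, 0, 0, 1, 1, 0, 0, 1, 0, 0, 1])) (.node (.leaf [0, 1]) (.leaf [0, 1]))) (.node (.node (.leaf [0, 1, 1, 0, 0, 0, 0, 0, 0, 1]) (.leaf [])) (.node (.leaf [0, 1, 1, 1, 0, 1, 0, 1, 0, 1]) (.leaf [1, 1, 1, 0, 1, 0, 0, 0, 1, 1, 0, 0, 1])))))) (.node (.node (.node (.node (.node (.leaf []) (.leaf [0, 1, 0, 0, 0, 1, 0, 0, 0, 0, 0, 1])) (.node (.leaf [0, 1]) (.leaf [0, 1,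 1, 0, 1, 0, 1, 0, 1, 1, 0, 0, 1]))) (.node (.node (.leaf [0, 1, 1, 0, 1, 0, 0, 0, 0, 1]) (.leaf [1, 0, 0, 0, 1, 1, 0, 0, 0, 0, 0, 1])) (.node (.leaf [1, 0, 0, 1, 0, 1, 1]) (.leaf [0, 1, 0, 0, 1, 1, 0, 0, 0, 0, 0, 1, 1])))) (.node (.node (.node (.leaf [0, 1]) (.leaf [0, 0, 0, 0, 1, 0, 1, 1, 1, 0, 0, 0, 1])) (.node (.leaf [0, 1]) (.leaf [1, 0, 1, 1, 1, 0, 0, 0, 1, 1, 1, 1]))) (.node (.node (.leaf [1, 1, 0, 1, 0, 0, 0, 0, 0, 0, 0, 1]) (.leaf [0, 0, 0, 0, 1, 1, 0, 0, 1, 0, 0, 1, 1])) (.node (.leaf [0, 1]) (.leaf [0, 0, 1, 0, 1, 1, 0, 0, 0, 1, 1, 1]))))) (.node (.node (.node (.node (.leaf []) (.leaf [0, 1])) (.node (.leaf [0, 0, 0, 0, 1, 0, 1]) (.leaf [0, 1, 1, 0, 0, 0, 0, 0, 1, 1]))) (.node (.node (.leaf [0, 0, 1, 0, 0, 0, 0, 0, 0, 1]) (.leaf [0, 1, 1, 0, 0, 1, 1, 0, 1, 1, 0, 0, 1])) (.node (.leaf []) (.leaf [0, 1])))) (.node (.node (.node (.leaf []) (.leaf [0, 0, 0, 0, 0, 1, 0, 0, 1, 0, 0, 1])) (.node (.leaf [0, 1,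 1, 1, 0, 1, 0, 1, 0, 1]) (.leaf [1, 0, 0, 1, 1, 0, 0, 0, 1, 0, 0, 1]))) (.node (.node (.leaf []) (.leaf [0, 1, 0, 1, 0, 1, 1, 1, 1])) (.node (.leaf [0, 1]) (.leaf [0, 1, 0, 0, 1, 1, 1, 0, 1, 0, 1, 1, 1])))))))) (.node (.node (.node (.node (.node (.node (.node (.node (.leaf []) (.leaf [0, 1, 0, 0, 1, 0, 0, 0, 0, 0, 0, 1])) (.leaf [1, 0, 1, 0, 0, 1, 0, 0, 0, 1, 0, 0, 1])) (.node (.leaf [0, 0, 1, 0, 0, 0, 0, 0, 0, 1]) (.leaf [0, 1]))) (.node (.node (.leaf []) (.leaf [0, 0, 1, 0, 0, 0, 0, 0, 0, 1])) (.node (.leaf [0, 1]) (.leaf [0, 0, 1, 0, 0, 0, 0, 1, 1, 1, 1, 0, 1])))) (.node (.node (.node (.leaf [0, 1]) (.leaf [1, 1, 0, 0, 1, 0, 1, 1, 1, 0, 0, 0, 1])) (.node (.leaf [0, 0, 0, 0, 1, 0, 0, 1, 0, 0, 0, 0, 1]) (.leaf [0, 0, 0, 1, 1, 0, 0, 0, 0, 0, 0, 1]))) (.node (.node (.leaf [1, 0, 1, 0, 1, 0, 0, 0, 0, 1]) (.leaf [1, 1, 0, 1, 1, 0, 0, 0, 0, 0, 0, 1])) (.node (.leaf [1, 0, 0, 1, 1, 1, 1, 1]) (.leaf [1, 1, 1, 0, 1, 0,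 0, 0, 1, 1]))))) (.node (.node (.node (.node (.leaf [1, 1, 0, 1, 1, 1, 0, 1]) (.leaf [1, 1, 0, 0, 1, 0, 0, 1])) (.node (.leaf [1, 1, 0, 1, 0, 0, 0, 0, 1, 0, 0, 1]) (.leaf [1, 1, 1, 0, 1, 1, 1, 0, 1, 1, 0, 0, 1]))) (.node (.node (.leaf [0, 1]) (.leaf [0, 0, 0, 0, 0, 0, 0, 1])) (.node (.leaf [0, 1]) (.leaf [0, 1, 0, 0, 1, 1, 0, 0, 0, 0, 0, 1])))) (.node (.node (.node (.leaf [0, 1]) (.leaf [1, 0, 0, 1, 0, 0, 0, 0, 1, 0, 0, 1])) (.node (.leaf []) (.leaf [0, 0, 1, 1, 0, 1, 1, 1, 0, 1]))) (.node (.node (.leaf [1, 1, 1, 0, 1, 0, 0, 0, 0, 1]) (.leaf [0, 1, 1, 1, 1, 0, 1, 0, 1, 1, 0, 0, 1])) (.node (.leaf []) (.leaf [0, 1, 0, 1, 1, 0, 0, 0, 1, 0, 0, 1])))))) (.node (.node (.node (.node (.node (.leaf []) (.leaf [0, 1, 0, 0, 0, 1, 0, 0, 1, 0, 0, 1])) (.node (.leaf [1, 1, 1, 1, 1, 1, 0, 0, 0, 1]) (.leaf [0, 0, 1, 0, 0, 0, 0, 1, 1, 1]))) (.node (.node (.leaf [1, 0, 0, 0, 1, 0, 0, 0, 1]) (.leaf [0, 0, 1, 0, 0, 0, 0, 0, 1, 1]))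 (.node (.leaf [0, 0, 1, 0, 0, 1, 0, 0, 1, 1, 0, 0, 1]) (.leaf [0, 1])))) (.node (.node (.node (.leaf []) (.leaf [0, 0, 0, 0, 1, 1, 0, 0, 0, 0, 0, 1])) (.node (.leaf [0, 0, 0, 1, 1, 1, 1, 1]) (.leaf [1, 1, 0, 1, 0, 0, 0, 0, 1, 0, 1, 1]))) (.node (.node (.leaf [0, 1]) (.leaf [1, 0, 1, 0, 1, 0, 0, 0, 1, 1])) (.node (.leaf []) (.leaf [0, 1, 0, 0, 0, 1, 0, 0, 0, 0, 0, 1]))))) (.node (.node (.node (.node (.leaf []) (.leaf [0, 1, 1, 0, 0, 0, 0, 0, 0, 1])) (.node (.leaf [0, 1]) (.leaf [0, 1, 0, 0, 1, 1, 0, 0, 1, 0, 0, 1]))) (.node (.node (.leaf [0, 1]) (.leaf [1])) (.node (.leaf [1, 0, 0, 0, 1, 0, 0, 1, 1, 0, 0, 0, 1]) (.leaf [1, 0, 0, 1, 0, 1, 1, 0, 1])))) (.node (.node (.node (.leaf [0, 1]) (.leaf [1, 0, 1, 0, 1, 1, 0, 0, 0, 1, 1, 1])) (.node (.leaf []) (.leaf [0, 1, 0, 0, 0, 0, 0, 1]))) (.node (.node (.leaf [0, 1, 0, 1, 1, 1, 1]) (.leaf [0, 0, 1, 0, 0, 0, 0, 0, 1, 1, 1])) (.node (.leaf [0, 1]) (.leaf [0, 1, 0, 0, 0, 1,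 0, 0, 0, 0, 0, 1]))))))) (.node (.node (.node (.node (.node (.node (.leaf []) (.leaf [])) (.node (.leaf []) (.leaf [1, 1, 0, 1, 1, 1, 1]))) (.node (.node (.leaf [1, 0, 1, 0, 1, 0, 0, 0, 0, 1]) (.leaf [0, 1, 1, 0, 0, 0, 0, 0, 0, 1])) (.node (.leaf [0, 0, 0, 1, 1, 1, 1, 0, 1]) (.leaf [1, 0, 0, 1, 0, 0, 1, 0, 1, 0, 0, 1])))) (.node (.node (.node (.leaf [1, 1, 0, 1, 0, 0, 0, 0, 1, 0, 0, 1]) (.leaf [0, 1])) (.node (.leaf [0, 1]) (.leaf [1, 1, 0, 1, 0, 0, 0, 0, 0, 0, 0, 1]))) (.node (.node (.leaf [0, 1]) (.leaf [0, 1])) (.node (.leaf [1, 1, 1, 1, 1, 1, 0, 1, 0, 1]) (.leaf [0, 0, 0, 0, 1, 1, 1, 0, 0, 0, 1, 1, 1]))))) (.node (.node (.node (.node (.leaf [0, 1]) (.leaf [0, 1, 1, 0, 1, 0, 0, 1, 0, 1, 1, 0, 1])) (.node (.leaf []) (.leaf [0, 1, 1, 0, 0, 0, 1, 0, 0, 1]))) (.node (.node (.leaf []) (.leaf [1, 0, 0, 1, 1, 1])) (.node (.leaf []) (.leaf [0, 0, 1, 0, 0, 0, 1, 0, 1, 1, 1])))) (.node (.node (.node (.leaf []) (.leaf [0,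 0, 1, 0, 0, 1, 1, 0, 0, 1, 0, 0, 1])) (.node (.leaf [0, 0, 1, 0, 0, 0, 0, 1, 0, 1]) (.leaf [0, 1]))) (.node (.node (.leaf [1, 0, 0, 0, 1, 1, 0, 0, 0, 0, 0, 1]) (.leaf [0, 1])) (.node (.leaf [1, 1, 0, 1, 0, 0, 0, 0, 0, 0, 0, 1]) (.leaf [0, 1])))))) (.node (.node (.node (.node (.node (.leaf [0, 0, 0, 0, 0, 0, 0, 0, 1]) (.leaf [1, 1, 1, 0, 1, 0, 0, 0, 0, 1])) (.node (.leaf [0, 1, 0, 0, 0, 0, 0, 0, 1]) (.leaf [0, 1]))) (.node (.node (.leaf [0, 1, 1, 0, 0, 0, 0, 0, 0, 1]) (.leaf [])) (.node (.leaf []) (.leaf [0, 1])))) (.node (.node (.node (.leaf [0, 1]) (.leaf [0, 0, 0, 1, 1, 0, 0, 0, 0, 0, 1, 1, 1])) (.node (.leaf [1, 1, 1, 1, 1, 1, 0, 1, 0, 1]) (.leaf [0, 0, 1, 0, 0, 0, 0, 0, 0, 1]))) (.node (.node (.leaf []) (.leaf [0, 1])) (.node (.leaf [0, 0, 1, 0, 0, 0, 0, 1, 0, 1]) (.leaf [1, 0, 1, 0, 1, 1, 0, 0, 0, 1, 0, 0, 1]))))) (.node (.node (.node (.node (.leaf []) (.leaf [0, 0, 1, 0, 0, 0, 0, 0, 0, 1])) (.node (.leaf [])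 (.leaf [0, 1, 1, 0, 0, 0, 1, 0, 1, 1, 1]))) (.node (.node (.leaf []) (.leaf [1, 1, 1, 1, 1, 1, 1, 1, 0, 1])) (.node (.leaf [0, 1]) (.leaf [0, 1])))) (.node (.node (.node (.leaf [1, 1, 0, 1, 1, 1, 0, 1]) (.leaf [1, 1, 0, 1, 1, 0, 0, 0, 0, 0, 1, 1, 1])) (.node (.leaf [1, 1, 0, 1, 0, 0, 0, 0, 0, 0, 0, 1]) (.leaf [0, 1, 0, 1, 1, 0, 1, 0, 1, 0, 0, 1]))) (.node (.node (.leaf [0, 0, 0, 1, 1, 0, 0, 0, 1, 0, 0, 1]) (.leaf [0, 1, 1, 0, 0, 0, 0, 1, 1, 1, 1, 0, 1])) (.node (.leaf [1, 0, 0, 1, 1, 1, 1]) (.leaf [1, 0, 0, 1, 1, 1, 0, 1, 0, 0, 0, 0, 1]))))))))))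

def twoL6 : Janko.Tree (List ℤ) :=
  (.node (.node (.node (.node (.node (.node (.node (.node (.node (.node (.leaf []) (.leaf [1, 1, 0, 0, 1, 1])) (.leaf [])) (.node (.leaf [0, 0, 1]) (.leaf [0, 0, 1, 1, 1, 0, 0, 1, 0, 0, 0, 1]))) (.node (.node (.leaf []) (.leaf [0, 0, 1])) (.node (.leaf [0, 0, 1]) (.leaf [])))) (.node (.node (.node (.leaf [0, 0, 1]) (.leaf [])) (.node (.leaf [0, 0, 1]) (.leaf [0, 0, 1]))) (.node (.node (.leaf [0, 1, 0, 0, 0, 0, 0, 0, 0, 1, 1]) (.leaf [])) (.node (.leaf []) (.leaf [0, 0, 1]))))) (.node (.node (.node (.node (.leaf []) (.leaf [0, 0, 1])) (.node (.leaf []) (.leaf [0, 0, 1]))) (.node (.node (.leaf [0, 0, 1]) (.leaf [0, 0, 1])) (.node (.leaf []) (.leaf [0, 0, 0, 0, 0, 0, 0, 0, 0, 0, 1, 0, 1])))) (.node (.node (.node (.leaf []) (.leaf [])) (.node (.leaf []) (.leaf [0, 0, 1, 0, 0, 0, 0, 0, 0, 0, 1]))) (.node (.node (.leaf []) (.leaf [0, 0, 1])) (.node (.leaf [0, 0, 1]) (.leaf [0, 0, 1,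 0, 0, 0, 0, 0, 0, 0, 1])))))) (.node (.node (.node (.node (.node (.leaf []) (.leaf [0, 0, 1, 0, 0, 0, 0, 0, 0, 0, 1])) (.node (.leaf [0, 0, 1]) (.leaf [0, 0, 1]))) (.node (.node (.leaf []) (.leaf [0, 1, 0, 1, 0, 0, 0, 0, 1, 0, 0, 1])) (.node (.leaf []) (.leaf [0, 0, 1])))) (.node (.node (.node (.leaf []) (.leaf [0, 0, 1])) (.node (.leaf []) (.leaf [0, 0, 1]))) (.node (.node (.leaf [0, 0, 1]) (.leaf [])) (.node (.leaf []) (.leaf [0, 0, 1, 0, 1, 0, 1, 0, 1]))))) (.node (.node (.node (.node (.leaf []) (.leaf [0, 0, 0, 1, 0, 0, 0, 0, 0, 0, 0, 1])) (.node (.leaf []) (.leaf [0, 0, 1]))) (.node (.node (.leaf [0, 0, 1]) (.leaf [0, 0, 1])) (.node (.leaf [0, 0, 1]) (.leaf [0, 0, 1])))) (.node (.node (.node (.leaf [0, 0, 0, 0, 0, 0, 0, 0, 0, 0, 1]) (.leaf [0, 0, 0, 1, 1, 0, 0, 0, 1, 0, 0, 1])) (.node (.leaf [0, 0, 1]) (.leaf [1, 0, 0, 0, 1, 1, 0, 0, 0, 0, 0, 1]))) (.node (.node (.leaf []) (.leaf [0, 0, 1])) (.node (.leaf [0,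 0, 1]) (.leaf [0, 0, 1]))))))) (.node (.node (.node (.node (.node (.node (.node (.leaf []) (.leaf [1, 1, 0, 0, 1, 0, 1])) (.leaf [0, 0, 0, 0, 0, 0, 0, 0, 0, 0, 1])) (.node (.leaf []) (.leaf [1, 1, 0, 1, 0, 1, 1]))) (.node (.node (.leaf [0, 1, 1, 0, 0, 0, 0, 0, 0, 1, 1]) (.leaf [0, 0, 1])) (.node (.leaf [0, 0, 1]) (.leaf [0, 1, 0, 0, 1, 1, 1, 0, 0, 0, 0, 1])))) (.node (.node (.node (.leaf [0, 0, 1]) (.leaf [0, 0, 1])) (.node (.leaf [0, 0, 1]) (.leaf [0, 0, 0, 0, 1, 0, 1, 0, 1]))) (.node (.node (.leaf [0, 0, 1]) (.leaf [])) (.node (.leaf [0, 1, 0, 0, 0, 0, 0, 0, 0, 1]) (.leaf [0, 1, 0, 0, 0, 0, 0, 0, 0, 1]))))) (.node (.node (.node (.node (.leaf []) (.leaf [0, 1, 0, 0, 0, 0, 0, 0, 0, 1])) (.node (.leaf [0, 0, 1]) (.leaf [0, 0, 1]))) (.node (.node (.leaf [0, 0, 1]) (.leaf [])) (.node (.leaf []) (.leaf [])))) (.node (.node (.node (.leaf []) (.leaf [0, 0, 0, 1, 1, 0, 1, 0, 0, 0, 0, 1])) (.node (.leaf []) (.leaf [])))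 (.node (.node (.leaf []) (.leaf [])) (.node (.leaf [0, 0, 1]) (.leaf [0, 0, 1])))))) (.node (.node (.node (.node (.node (.leaf []) (.leaf [0, 0, 1, 0, 0, 0, 0, 0, 0, 0, 1])) (.node (.leaf [0, 0, 1]) (.leaf []))) (.node (.node (.leaf [0, 0, 1]) (.leaf [0, 0, 1])) (.node (.leaf [0, 0, 1]) (.leaf [0, 0, 1])))) (.node (.node (.node (.leaf [0, 0, 1, 0, 0, 0, 0, 0, 0, 0, 1]) (.leaf [])) (.node (.leaf [0, 1, 0, 0, 0, 0, 0, 0, 0, 1]) (.leaf [1, 1, 0, 0, 1, 1, 1, 0, 1, 0, 1, 1, 1]))) (.node (.node (.leaf [0, 0, 1]) (.leaf [0, 0, 1])) (.node (.leaf []) (.leaf [0, 0, 1, 0, 0, 0, 0, 0, 0, 0, 1, 0, 1]))))) (.node (.node (.node (.node (.leaf [0, 0, 1]) (.leaf [0, 0, 1])) (.node (.leaf []) (.leaf [0, 0, 1, 1, 1, 0, 1, 0, 0, 0, 0, 1]))) (.node (.node (.leaf []) (.leaf [])) (.node (.leaf [0, 0, 1]) (.leaf [0, 0, 1])))) (.node (.node (.node (.leaf []) (.leaf [0, 0, 1])) (.node (.leaf [0, 0, 1]) (.leaf []))) (.node (.node (.leaf [])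 (.leaf [0, 0, 1])) (.node (.leaf [0, 0, 1]) (.leaf [1, 0, 0, 1, 1, 0, 0, 0, 1, 1, 0, 1, 1])))))))) (.node (.node (.node (.node (.node (.node (.node (.node (.leaf []) (.leaf [1, 0, 0, 1, 1, 1, 0, 1, 0, 1])) (.leaf [0, 0, 1])) (.node (.leaf []) (.leaf [0, 0, 1]))) (.node (.node (.leaf []) (.leaf [0, 0, 1])) (.node (.leaf [0, 0, 1]) (.leaf [0, 0, 1])))) (.node (.node (.node (.leaf [0, 0, 1]) (.leaf [])) (.node (.leaf []) (.leaf [0, 0, 1]))) (.node (.node (.leaf [0, 0, 1]) (.leaf [0, 0, 1, 0, 0, 1, 1, 1, 0, 0, 0, 1, 1])) (.node (.leaf [0, 0, 1]) (.leaf [0, 0, 1, 0, 0, 0, 0, 1]))))) (.node (.node (.node (.node (.leaf []) (.leaf [0, 0, 1])) (.node (.leaf [0, 0, 1]) (.leaf [1, 0, 0, 1, 0, 0, 0, 1, 0, 1, 1, 1, 1]))) (.node (.node (.leaf []) (.leaf [])) (.node (.leaf [0, 0, 1]) (.leaf [1, 1, 1, 0, 1, 1, 1, 0, 1, 0, 1, 1, 1])))) (.node (.node (.node (.leaf [0, 1, 1, 0, 0, 0, 0, 0, 0, 1, 1]) (.leaf [0, 0, 1, 1, 1, 1, 0, 1,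 1, 0, 1, 1])) (.node (.leaf []) (.leaf [0, 0, 0, 0, 0, 0, 0, 0, 0, 0, 1]))) (.node (.node (.leaf [0, 0, 1]) (.leaf [0, 0, 1])) (.node (.leaf []) (.leaf [0, 0, 1])))))) (.node (.node (.node (.node (.node (.leaf []) (.leaf [0, 0, 1])) (.node (.leaf [0, 0, 1]) (.leaf []))) (.node (.node (.leaf []) (.leaf [0, 0, 1, 0, 0, 1, 0, 0, 0, 0, 0, 1])) (.node (.leaf [0, 0, 1]) (.leaf [0, 0, 1])))) (.node (.node (.node (.leaf [0, 0, 1]) (.leaf [0, 0, 0, 0, 1, 1, 0, 0, 0, 0, 0, 1])) (.node (.leaf [0, 0, 1]) (.leaf [0, 0, 1]))) (.node (.node (.leaf []) (.leaf [0, 0, 1])) (.node (.leaf []) (.leaf [0, 0, 1, 0, 0, 0, 0, 0, 0, 0, 1]))))) (.node (.node (.node (.node (.leaf []) (.leaf [0, 0, 1])) (.node (.leaf [0, 0, 1]) (.leaf [0, 0, 1, 1, 1, 0, 1, 0, 1, 0, 1, 1, 1]))) (.node (.node (.leaf [0, 0, 1]) (.leaf [0, 0, 1, 0, 0, 0, 0, 0, 0, 0, 1])) (.node (.leaf []) (.leaf [0, 0, 1])))) (.node (.node (.node (.leaf []) (.leaf [])) (.node (.leaf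 []) (.leaf []))) (.node (.node (.leaf [0, 0, 1]) (.leaf [0, 0, 1])) (.node (.leaf [0, 0, 1]) (.leaf [0, 0, 1]))))))) (.node (.node (.node (.node (.node (.node (.node (.leaf []) (.leaf [1, 0, 0, 0, 0, 1, 1])) (.leaf [])) (.node (.leaf [0, 1, 0, 0, 0, 0, 0, 0, 0, 1, 1]) (.leaf [0, 1, 0, 0, 0, 0, 0, 0, 0, 1, 1]))) (.node (.node (.leaf [0, 0, 1]) (.leaf [])) (.node (.leaf [0, 0, 1]) (.leaf [1, 1, 0, 0, 1, 1, 0, 0, 1, 0, 0, 1])))) (.node (.node (.node (.leaf []) (.leaf [0, 0, 1])) (.node (.leaf []) (.leaf [0, 0, 1]))) (.node (.node (.leaf [0, 0, 1]) (.leaf [])) (.node (.leaf []) (.leaf [0, 0, 1]))))) (.node (.node (.node (.node (.leaf []) (.leaf [])) (.node (.leaf []) (.leaf [0, 0, 1]))) (.node (.node (.leaf []) (.leaf [0, 0, 1])) (.node (.leaf [1, 0, 0, 0, 1, 1, 0, 0, 1, 0, 0, 1]) (.leaf [0, 0, 1])))) (.node (.node (.node (.leaf []) (.leaf [0, 0, 1])) (.node (.leaf []) (.leaf [0, 0, 1, 0, 0, 1, 1, 0, 1, 0, 1, 1, 1])))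 (.node (.node (.leaf [0, 0, 1]) (.leaf [])) (.node (.leaf [0, 1, 1, 0, 0, 1, 0, 0, 1, 0, 0, 1]) (.leaf [0, 0, 1])))))) (.node (.node (.node (.node (.node (.leaf [0, 0, 1]) (.leaf [0, 0, 1])) (.node (.leaf [0, 0, 1]) (.leaf []))) (.node (.node (.leaf []) (.leaf [])) (.node (.leaf []) (.leaf [0, 0, 1])))) (.node (.node (.node (.leaf [0, 0, 1]) (.leaf [0, 0, 1])) (.node (.leaf []) (.leaf [1, 1, 0, 0, 1, 0, 0, 0, 1]))) (.node (.node (.leaf []) (.leaf [0, 0, 1, 0, 0, 0, 0, 0, 1, 0, 1, 0, 1])) (.node (.leaf []) (.leaf [1, 0, 0, 1, 0, 0, 0, 0, 0, 1, 1, 1]))))) (.node (.node (.node (.node (.leaf [0, 0, 0, 0, 0, 0, 0, 0, 0, 0, 1]) (.leaf [])) (.node (.leaf [0, 0, 0, 0, 1, 1, 0, 0, 0, 0, 0, 1]) (.leaf [0, 0, 1]))) (.node (.node (.leaf []) (.leaf [0, 0, 0, 0, 0, 0, 0, 0, 0, 0, 1])) (.node (.leaf []) (.leaf [1, 1, 1, 0, 0, 0, 1, 1, 0, 1, 1, 0, 1])))) (.node (.node (.node (.leaf []) (.leaf [1, 0, 1, 1, 0, 0, 0, 1, 1, 1, 1, 1,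 1])) (.node (.leaf [0, 1, 1, 0, 0, 1, 0, 0, 1, 0, 0, 1]) (.leaf []))) (.node (.node (.leaf [0, 0, 1]) (.leaf [0, 0, 1])) (.node (.leaf [0, 0, 1]) (.leaf [0, 0, 1]))))))))) (.node (.node (.node (.node (.node (.node (.node (.node (.node (.leaf [0, 0, 1]) (.leaf [0, 0, 0, 0, 0, 0, 0, 0, 0, 0, 1, 0, 0])) (.leaf [])) (.node (.leaf []) (.leaf [0, 0, 1]))) (.node (.node (.leaf []) (.leaf [1, 0, 1, 1, 1, 0, 0, 1, 0, 0, 0, 1])) (.node (.leaf []) (.leaf [0, 0, 1])))) (.node (.node (.node (.leaf []) (.leaf [])) (.node (.leaf []) (.leaf [0, 0, 1, 0, 0, 0, 0, 1]))) (.node (.node (.leaf [0, 0, 1]) (.leaf [])) (.node (.leaf []) (.leaf [0, 0, 1]))))) (.node (.node (.node (.node (.leaf [0, 0, 1]) (.leaf [0, 0, 1])) (.node (.leaf []) (.leaf []))) (.node (.node (.leaf [0, 0, 1]) (.leaf [0, 0, 1])) (.node (.leaf [0, 0, 1]) (.leaf [])))) (.node (.node (.node (.leaf []) (.leaf [0, 0, 1])) (.node (.leaf [0, 0, 1]) (.leaf []))) (.node (.node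 (.leaf []) (.leaf [1, 0, 1, 1, 1, 1, 0, 1, 1, 0, 1, 1])) (.node (.leaf [0, 0, 1]) (.leaf [0, 0, 1])))))) (.node (.node (.node (.node (.node (.leaf []) (.leaf [1, 1, 0, 1, 0, 0, 0, 0, 1, 0, 0, 1])) (.node (.leaf []) (.leaf [1, 1, 1, 0, 0, 1, 1, 0, 1, 0, 0, 1]))) (.node (.node (.leaf []) (.leaf [0, 0, 1])) (.node (.leaf []) (.leaf [])))) (.node (.node (.node (.leaf [0, 0, 1]) (.leaf [])) (.node (.leaf []) (.leaf [0, 0, 1]))) (.node (.node (.leaf [0, 0, 1]) (.leaf [0, 0, 0, 0, 1, 1, 0, 0, 1, 0, 0, 1])) (.node (.leaf [0, 0, 1]) (.leaf [0, 0, 1, 0, 0, 0, 0, 0, 0, 0, 1]))))) (.node (.node (.node (.node (.leaf []) (.leaf [0, 0, 1])) (.node (.leaf [0, 0, 1]) (.leaf [0, 0, 0, 0, 0, 0, 0, 0, 0, 0, 1]))) (.node (.node (.leaf []) (.leaf [0, 0, 1])) (.node (.leaf []) (.leaf [0, 1, 0, 0, 0, 0, 1, 1, 0, 1, 1, 0, 1])))) (.node (.node (.node (.leaf []) (.leaf [0, 0, 1])) (.node (.leaf [0, 0, 1]) (.leaf [0, 0, 1]))) (.node (.node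 (.leaf []) (.leaf [])) (.node (.leaf []) (.leaf [0, 0, 1]))))))) (.node (.node (.node (.node (.node (.node (.node (.leaf []) (.leaf [1, 1, 0, 0, 1, 0, 0, 1, 0, 1])) (.leaf [0, 0, 1])) (.node (.leaf []) (.leaf [0, 0, 1]))) (.node (.node (.leaf [0, 0, 1]) (.leaf [])) (.node (.leaf []) (.leaf [])))) (.node (.node (.node (.leaf []) (.leaf [])) (.node (.leaf []) (.leaf [0, 0, 1]))) (.node (.node (.leaf []) (.leaf [0, 0, 1])) (.node (.leaf [1, 1, 1, 1, 0, 0, 1, 0, 1, 0, 0, 1]) (.leaf [0, 0, 1]))))) (.node (.node (.node (.node (.leaf []) (.leaf [])) (.node (.leaf []) (.leaf [0, 0, 0, 0, 0, 0, 0, 1]))) (.node (.node (.leaf []) (.leaf [])) (.node (.leaf [0, 0, 1]) (.leaf [0, 1, 0, 0, 0, 0, 0, 0, 0, 1])))) (.node (.node (.node (.leaf []) (.leaf [])) (.node (.leaf [0, 0, 0, 0, 0, 1, 0, 0, 0, 0, 0, 1]) (.leaf []))) (.node (.node (.leaf [0, 0, 1, 0, 0, 0, 0, 0, 0, 0, 1]) (.leaf [0, 0, 1])) (.node (.leaf []) (.leaf [0, 0, 1]))))))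 (.node (.node (.node (.node (.node (.leaf [0, 0, 1]) (.leaf [0, 0, 1])) (.node (.leaf []) (.leaf [0, 0, 1]))) (.node (.node (.leaf []) (.leaf [0, 0, 1])) (.node (.leaf []) (.leaf [0, 0, 1, 0, 0, 0, 0, 0, 0, 0, 0, 0, 1])))) (.node (.node (.node (.leaf [1, 1, 0, 1, 0, 0, 0, 0, 1, 0, 0, 1]) (.leaf [0, 0, 1])) (.node (.leaf [0, 1, 1, 1, 0, 0, 1, 0, 1, 0, 0, 1]) (.leaf [0, 1, 1, 0, 0, 0, 0, 0, 1, 1, 0, 0, 1]))) (.node (.node (.leaf [0, 0, 1]) (.leaf [0, 0, 1])) (.node (.leaf [0, 0, 0, 0, 0, 1, 0, 0, 0, 0, 0, 1]) (.leaf [0, 0, 1]))))) (.node (.node (.node (.node (.leaf []) (.leaf [])) (.node (.leaf [0, 0, 1]) (.leaf [0, 0, 1, 0, 0, 0, 0, 0, 0, 0, 1]))) (.node (.node (.leaf [0, 0, 0, 0, 0, 0, 0, 0, 0, 0, 1]) (.leaf [])) (.node (.leaf []) (.leaf [0, 0, 1, 1, 1, 0, 0, 0, 0, 0, 0, 1])))) (.node (.node (.node (.leaf [0, 0, 1]) (.leaf [0, 0, 1])) (.node (.leaf []) (.leaf [0, 0, 1]))) (.node (.node (.leaf [0, 0, 1]) (.leaf [1,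 0, 1, 1, 0, 0, 0, 1, 1, 1, 1, 1, 1])) (.node (.leaf []) (.leaf [1, 1, 1, 0, 1])))))))) (.node (.node (.node (.node (.node (.node (.node (.node (.leaf []) (.leaf [0, 1, 0, 0, 1, 0, 0, 0, 0, 0, 0, 1])) (.leaf [])) (.node (.leaf [0, 0, 0, 0, 0, 0, 0, 0, 0, 0, 1]) (.leaf [0, 0, 1, 1, 0, 0, 0, 0, 1, 0, 0, 1]))) (.node (.node (.leaf []) (.leaf [0, 0, 0, 0, 0, 0, 0, 0, 0, 0, 1])) (.node (.leaf []) (.leaf [0, 0, 1])))) (.node (.node (.node (.leaf []) (.leaf [1, 0, 1, 0, 0, 1, 1, 1, 0, 0, 0, 1, 1])) (.node (.leaf [0, 0, 1]) (.leaf [0, 0, 1]))) (.node (.node (.leaf []) (.leaf [0, 0, 1])) (.node (.leaf []) (.leaf [1, 0, 1, 1, 1, 0, 0, 0, 1, 1, 0, 1, 1]))))) (.node (.node (.node (.node (.leaf [0, 1, 1, 0, 0, 0, 0, 0, 0, 1]) (.leaf [])) (.node (.leaf [0, 0, 1]) (.leaf []))) (.node (.node (.leaf []) (.leaf [0, 1, 0, 0, 0, 0, 0, 0, 0, 1])) (.node (.leaf []) (.leaf [0, 0, 1, 0, 1, 1, 0, 0, 1, 0, 0, 1])))) (.node (.node (.node (.leaf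 []) (.leaf [0, 0, 1])) (.node (.leaf [0, 0, 1]) (.leaf []))) (.node (.node (.leaf []) (.leaf [0, 0, 0, 1, 1, 0, 1, 0, 0, 0, 0, 1])) (.node (.leaf [0, 0, 1]) (.leaf [0, 0, 1])))))) (.node (.node (.node (.node (.node (.leaf [0, 0, 1]) (.leaf [0, 0, 1, 0, 0, 1, 0, 0, 1, 0, 0, 1])) (.node (.leaf []) (.leaf [0, 1, 0, 0, 0, 0, 0, 0, 0, 1, 1]))) (.node (.node (.leaf []) (.leaf [0, 0, 1, 0, 0, 0, 0, 0, 0, 0, 1])) (.node (.leaf []) (.leaf [1, 1, 1, 0, 1, 1, 1, 0, 0, 0, 0, 1])))) (.node (.node (.node (.leaf []) (.leaf [0, 0, 1])) (.node (.leaf []) (.leaf [0, 0, 1, 0, 0, 0, 0, 0, 0, 0, 1]))) (.node (.node (.leaf []) (.leaf [])) (.node (.leaf [0, 0, 1]) (.leaf [0, 0, 1]))))) (.node (.node (.node (.node (.leaf [0, 0, 1]) (.leaf [0, 0, 1, 0, 0, 0, 0, 0, 0, 0, 1])) (.node (.leaf []) (.leaf [0, 0, 1, 0, 1, 1, 0, 0, 0, 0, 0, 1]))) (.node (.node (.leaf []) (.leaf [0, 0, 1])) (.node (.leaf [0, 0, 1]) (.leaf [1, 0, 0, 1, 1, 0, 0, 0,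 0, 0, 0, 1])))) (.node (.node (.node (.leaf []) (.leaf [0, 0, 1])) (.node (.leaf [0, 0, 1]) (.leaf [0, 1, 1, 0, 0, 0, 0, 0, 0, 1]))) (.node (.node (.leaf []) (.leaf [0, 0, 1])) (.node (.leaf []) (.leaf [0, 0, 1]))))))) (.node (.node (.node (.node (.node (.node (.leaf [0, 0, 1]) (.leaf [])) (.node (.leaf [0, 0, 1]) (.leaf [0, 0, 1]))) (.node (.node (.leaf []) (.leaf [0, 0, 1, 0, 0, 0, 0, 0, 0, 0, 1])) (.node (.leaf [0, 0, 0, 1, 1, 0, 1, 0, 0, 0, 0, 1]) (.leaf [])))) (.node (.node (.node (.leaf [0, 0, 1]) (.leaf [])) (.node (.leaf [1, 1, 0, 0, 1, 1, 0, 0, 1, 0, 0, 1]) (.leaf [0, 0, 1]))) (.node (.node (.leaf []) (.leaf [0, 0, 1])) (.node (.leaf []) (.leaf [0, 0, 1]))))) (.node (.node (.node (.node (.leaf []) (.leaf [0, 0, 1])) (.node (.leaf [0, 0, 1]) (.leaf [0, 0, 0, 0, 0, 0, 0, 0, 0, 0, 1]))) (.node (.node (.leaf [0, 0, 1]) (.leaf [0, 0, 0, 1, 0, 0, 0, 0, 0, 0, 0, 1])) (.node (.leaf [0, 0, 1]) (.leaf [0, 0, 1]))))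 (.node (.node (.node (.leaf []) (.leaf [])) (.node (.leaf [0, 1, 1, 0, 0, 0, 0, 0, 0, 1, 1]) (.leaf []))) (.node (.node (.leaf [0, 0, 1]) (.leaf [1, 0, 0, 1, 1, 0, 0, 0, 1, 0, 0, 1])) (.node (.leaf [0, 0, 1]) (.leaf [0, 0, 1])))))) (.node (.node (.node (.node (.node (.leaf [0, 0, 1]) (.leaf [])) (.node (.leaf [0, 0, 1]) (.leaf [1, 1, 1, 1, 1, 0, 0, 0, 0, 0, 0, 1]))) (.node (.node (.leaf [0, 0, 1, 0, 0, 0, 0, 0, 0, 0, 1]) (.leaf [0, 0, 1])) (.node (.leaf [0, 0, 1]) (.leaf [1, 1, 1, 1, 0, 1, 1, 0, 1])))) (.node (.node (.node (.leaf []) (.leaf [0, 0, 1, 0, 0, 0, 0, 0, 1, 0, 1, 0, 1])) (.node (.leaf []) (.leaf [1, 0, 1, 1, 0, 0, 0, 0, 0, 1, 1, 1]))) (.node (.node (.leaf []) (.leaf [])) (.node (.leaf [0, 1, 1, 0, 0, 0, 0, 0, 0, 1, 1]) (.leaf [0, 0, 1, 1, 1, 0, 1, 0, 0, 0, 0, 1]))))) (.node (.node (.node (.node (.leaf [0, 0, 1]) (.leaf [0, 0, 0, 0, 0, 0, 0, 0, 0, 0, 1])) (.node (.leaf [0, 0, 1]) (.leaf [0, 0, 1]))) (.node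 (.node (.leaf []) (.leaf [])) (.node (.leaf [1, 1, 0, 0, 1, 1, 0, 0, 0, 0, 0, 1]) (.leaf [1, 1, 1, 0, 1, 1, 0, 0, 0, 0, 0, 1])))) (.node (.node (.node (.leaf [0, 1, 0, 0, 0, 0, 0, 0, 0, 1]) (.leaf [0, 0, 1])) (.node (.leaf [0, 0, 1]) (.leaf [0, 0, 0, 1, 1, 0, 1, 0, 1, 0, 0, 1]))) (.node (.node (.leaf []) (.leaf [0, 0, 1])) (.node (.leaf [1, 0, 0, 1, 1, 0, 1, 0, 1, 0, 0, 1]) (.leaf [0, 1, 0, 0, 0, 0, 0, 0, 0, 1, 0, 0, 1]))))))))))

def twoL7 : Janko.Tree (List ℤ) :=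
  (.node (.node (.node (.node (.node (.node (.node (.node (.node (.node (.leaf []) (.leaf [0, 0, 0, 0, 0, 1])) (.leaf [0, 0, 0, 1])) (.node (.leaf []) (.leaf [0, 1, 1, 1, 0, 0, 0, 1, 1, 1, 1, 0, 1]))) (.node (.node (.leaf []) (.leaf [0, 0, 1, 0, 1, 1, 1, 1, 1, 1, 1, 0, 1])) (.node (.leaf []) (.leaf [0, 0, 0, 1])))) (.node (.node (.node (.leaf []) (.leaf [0, 0, 0, 1])) (.node (.leaf []) (.leaf [1, 1, 0, 0, 1, 1, 1, 0, 1, 0, 1, 1, 1]))) (.node (.node (.leaf [0, 0, 0, 1]) (.leaf [1, 1, 1, 1, 1, 0, 1, 0, 1, 1, 0, 1, 1])) (.node (.leaf [1, 1, 1, 0, 0, 0, 0, 0, 1, 1, 0, 0, 1]) (.leaf [1, 0, 1, 0, 1, 0, 1, 0, 1, 1, 1, 0, 1]))))) (.node (.node (.node (.node (.leaf []) (.leaf [1, 0, 1, 0, 0, 0, 0, 0, 1, 1, 1, 1])) (.node (.leaf [1, 0, 1, 1, 1, 0, 0, 1, 0, 1]) (.leaf [1, 0, 0, 1, 0, 1, 1, 0, 0, 0, 0, 1, 1]))) (.node (.node (.leaf []) (.leaf [])) (.node (.leaf [0, 1, 0, 1, 0, 0, 0, 1, 0, 0, 0, 1, 1]) (.leaf [0, 0, 0, 1]))))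 (.node (.node (.node (.leaf [1, 0, 1, 1, 0, 1, 0, 0, 0, 1]) (.leaf [1, 0, 0, 0, 0, 0, 0, 1, 0, 0, 1, 1])) (.node (.leaf [0, 1, 1, 1, 1, 0, 0, 0, 1, 1, 0, 1, 1]) (.leaf [0, 0, 0, 1]))) (.node (.node (.leaf [1, 1, 1, 1, 0, 1, 0, 1, 0, 1]) (.leaf [0, 1, 0, 0, 1, 1, 0, 1])) (.node (.leaf []) (.leaf [0, 0, 0, 1])))))) (.node (.node (.node (.node (.node (.leaf [0, 0, 0, 1]) (.leaf [0, 0, 0, 1])) (.node (.leaf []) (.leaf [0, 0, 0, 1, 1, 1, 1, 0, 1, 0, 1, 0, 1]))) (.node (.node (.leaf [0, 0, 0, 1]) (.leaf [1, 1, 1, 0, 0, 0, 0, 0, 0, 1, 1])) (.node (.leaf [0, 0, 0, 1]) (.leaf [1, 1, 1, 0, 0, 0, 1, 0, 0, 1, 1, 0, 1])))) (.node (.node (.node (.leaf [0, 0, 0, 1]) (.leaf [])) (.node (.leaf [0, 1, 1, 0, 0, 0, 0, 0, 1, 1, 0, 0, 1]) (.leaf []))) (.node (.node (.leaf []) (.leaf [0, 1, 1, 0, 0, 0, 1, 0, 0, 1])) (.node (.leaf [1, 1, 1, 1, 1, 0, 0, 0, 1, 1, 0, 1, 1]) (.leaf [0, 0, 1, 1, 1, 0, 1, 1, 0, 1, 1, 0, 1]))))) (.node (.node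 (.node (.node (.leaf [0, 0, 0, 1]) (.leaf [1, 1, 1, 0, 0, 0, 0, 1, 0, 1])) (.node (.leaf [1, 1, 0, 1, 0, 0, 0, 1, 1, 0, 0, 1, 1]) (.leaf []))) (.node (.node (.leaf []) (.leaf [])) (.node (.leaf []) (.leaf [1, 1, 0, 1, 1, 1, 1, 0, 1, 0, 1, 1, 1])))) (.node (.node (.node (.leaf [0, 0, 0, 1]) (.leaf [])) (.node (.leaf []) (.leaf [0, 0, 1, 1, 1, 1, 0, 0, 0, 1]))) (.node (.node (.leaf [1, 0, 1, 0, 0, 1, 0, 0, 0, 1]) (.leaf [])) (.node (.leaf []) (.leaf [1, 1, 1, 1, 0, 0, 0, 0, 0, 1, 1, 1]))))))) (.node (.node (.node (.node (.node (.node (.node (.leaf [0, 0, 0, 1]) (.leaf [1, 0, 0, 1, 0, 1, 0, 0, 0, 0, 0, 1])) (.leaf [0, 0, 0, 1])) (.node (.leaf [0, 0, 0, 1]) (.leaf [0, 1, 1, 0, 0, 1, 1, 0, 1, 1, 0, 1]))) (.node (.node (.leaf [0, 0, 0, 1]) (.leaf [])) (.node (.leaf [0, 1, 0, 0, 1, 1, 0, 1]) (.leaf [1, 0, 0, 1, 0, 1, 0, 1])))) (.node (.node (.node (.leaf []) (.leaf [])) (.node (.leaf [1, 1, 1, 0, 1, 0, 0, 0, 0, 1, 0, 1,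 1]) (.leaf [0, 0, 0, 1, 1, 0, 1, 1]))) (.node (.node (.leaf []) (.leaf [0, 0, 0, 1])) (.node (.leaf [0, 0, 0, 1]) (.leaf [0, 0, 0, 1]))))) (.node (.node (.node (.node (.leaf []) (.leaf [0, 0, 0, 1])) (.node (.leaf []) (.leaf [1, 0, 0, 1, 0, 0, 0, 0, 1, 0, 1, 0, 1]))) (.node (.node (.leaf []) (.leaf [0, 0, 0, 1])) (.node (.leaf [0, 1, 0, 1, 0, 1, 0, 0, 0, 0, 0, 0, 1]) (.leaf [0, 0, 0, 1])))) (.node (.node (.node (.leaf [0, 0, 0, 1]) (.leaf [1, 1, 0, 1, 0, 0, 0, 1, 0, 0, 0, 1])) (.node (.leaf []) (.leaf [0, 0, 1, 1, 0, 0, 1, 0, 1, 1, 0, 1, 1]))) (.node (.node (.leaf []) (.leaf [0, 0, 0, 1])) (.node (.leaf [0, 0, 0, 1, 0, 1, 0, 0, 0, 0, 0, 1]) (.leaf [1, 0, 1, 1, 1, 0, 0, 0, 0, 1, 0, 0, 1])))))) (.node (.node (.node (.node (.node (.leaf []) (.leaf [0, 0, 0, 1])) (.node (.leaf [1, 0, 1, 0, 1, 1, 0, 0, 0, 1, 1]) (.leaf [0, 0, 0, 1]))) (.node (.node (.leaf []) (.leaf [])) (.node (.leaf []) (.leaf [1, 1, 1, 0, 0, 0, 1,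 0, 0, 1, 1, 0, 1])))) (.node (.node (.node (.leaf [0, 0, 0, 1]) (.leaf [1, 0, 1, 0, 0, 0, 0, 0, 0, 1, 0, 1])) (.node (.leaf [0, 0, 0, 1]) (.leaf [0, 0, 0, 1]))) (.node (.node (.leaf []) (.leaf [0, 1, 1, 1, 0, 0, 1, 0, 1, 1, 0, 0, 1])) (.node (.leaf []) (.leaf [0, 0, 0, 1]))))) (.node (.node (.node (.node (.leaf []) (.leaf [])) (.node (.leaf [1, 1, 0, 1, 0, 1, 0, 0, 1, 0, 0, 0, 1]) (.leaf [0, 1, 1, 0, 0, 0, 0, 0, 1, 1, 0, 0, 1]))) (.node (.node (.leaf []) (.leaf [0, 0, 1, 1, 1, 1, 1, 0, 0, 1])) (.node (.leaf [0, 1, 1, 0, 1, 0, 0, 0, 1, 1, 0, 1, 1]) (.leaf [1, 0, 1, 0, 1, 1, 0, 0, 0, 1])))) (.node (.node (.node (.leaf []) (.leaf [0, 0, 1, 0, 1, 1, 0, 1, 0, 1])) (.node (.leaf [1, 0, 0, 1, 0, 1, 0, 0, 0, 0, 0, 1]) (.leaf [0, 0, 1, 1, 1, 1, 1, 1, 0, 1, 1, 0, 1]))) (.node (.node (.leaf []) (.leaf [0, 0, 0, 0, 1, 1, 0, 1, 1, 0, 1, 1])) (.node (.leaf [1, 1, 0, 0, 1, 1, 0, 1]) (.leaf [1, 0, 1, 0, 0, 0, 0, 0, 0, 1, 0, 1]))))))))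 (.node (.node (.node (.node (.node (.node (.node (.node (.leaf []) (.leaf [0, 1, 0, 1, 0, 1, 0, 0, 0, 1])) (.leaf [])) (.node (.leaf []) (.leaf []))) (.node (.node (.leaf [0, 0, 0, 1]) (.leaf [1, 1, 1, 0, 0, 1, 0, 0, 0, 1, 1])) (.node (.leaf [0, 1, 0, 0, 1, 1, 0, 0, 0, 0, 1]) (.leaf [1, 1, 1, 1, 0, 1, 0, 0, 0, 1, 1])))) (.node (.node (.node (.leaf []) (.leaf [1, 1, 0, 0, 1, 1, 1, 0, 0, 0, 0, 1, 1])) (.node (.leaf []) (.leaf [1, 1, 0, 0, 1, 1, 0, 0, 0, 0, 1]))) (.node (.node (.leaf []) (.leaf [0, 0, 0, 1])) (.node (.leaf []) (.leaf [0, 0, 0, 1]))))) (.node (.node (.node (.node (.leaf [0, 0, 0, 1]) (.leaf [])) (.node (.leaf []) (.leaf [1, 1, 0, 0, 0, 0, 0, 1, 0, 0, 0, 1]))) (.node (.node (.leaf [1, 0, 1, 0, 0, 1, 0, 0, 0, 1]) (.leaf [0, 0, 0, 1])) (.node (.leaf []) (.leaf [0, 0, 0, 1])))) (.node (.node (.node (.leaf [0, 0, 0, 1]) (.leaf [0, 0, 0, 0, 1, 0, 1, 1])) (.node (.leaf []) (.leaf [0, 0, 0, 1]))) (.node (.node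 (.leaf []) (.leaf [1, 1, 0, 1, 1, 1, 1, 0, 1, 0, 0, 1, 1])) (.node (.leaf [1, 1, 1, 1, 0, 0, 0, 1, 0, 1]) (.leaf [1, 0, 0, 0, 0, 1, 1, 0, 1, 0, 1, 1, 1])))))) (.node (.node (.node (.node (.node (.leaf []) (.leaf [0, 1, 1, 0, 0, 0, 0, 1, 1, 1, 1, 0, 1])) (.node (.leaf []) (.leaf [0, 0, 0, 1]))) (.node (.node (.leaf [0, 1, 1, 1, 0, 1, 0, 1, 0, 1]) (.leaf [])) (.node (.leaf []) (.leaf [0, 0, 1, 1, 1, 1, 1, 0, 0, 1, 1])))) (.node (.node (.node (.leaf []) (.leaf [1, 1, 0, 1, 1, 1, 0, 0, 0, 0, 1])) (.node (.leaf []) (.leaf [1, 0, 1, 1, 0, 0, 0, 0, 1, 1, 1, 1]))) (.node (.node (.leaf [0, 0, 1, 1, 1, 0, 0, 1, 0, 1]) (.leaf [])) (.node (.leaf []) (.leaf [0, 0, 0, 1]))))) (.node (.node (.node (.node (.leaf []) (.leaf [])) (.node (.leaf []) (.leaf [1, 1, 1, 1, 0, 1, 1, 0, 1, 1, 0, 1]))) (.node (.node (.leaf []) (.leaf [0, 0, 0, 1])) (.node (.leaf []) (.leaf [1, 1, 1, 0, 0, 0, 0, 0, 0, 1, 1, 1])))) (.node (.node (.node (.leaf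 [0, 0, 0, 1]) (.leaf [1, 1, 1, 1, 0, 0, 0, 0, 0, 1, 1])) (.node (.leaf [1, 1, 1, 1, 0, 0, 0, 1, 0, 1]) (.leaf [1, 0, 1, 0, 0, 0, 0, 0, 0, 1, 0, 1]))) (.node (.node (.leaf []) (.leaf [0, 0, 1, 1, 0, 1, 1, 1, 1, 1, 1, 1, 1])) (.node (.leaf [1, 1, 0, 0, 1, 1, 0, 0, 0, 0, 1]) (.leaf [1, 1, 1, 0, 0, 0, 0, 1, 1, 1, 1, 0, 1]))))))) (.node (.node (.node (.node (.node (.node (.node (.leaf []) (.leaf [1, 1, 0, 1, 0, 1, 0, 0, 0, 1])) (.leaf [0, 0, 0, 1])) (.node (.leaf [0, 0, 0, 1]) (.leaf [0, 0, 0, 1]))) (.node (.node (.leaf []) (.leaf [])) (.node (.leaf [0, 1, 0, 0, 0, 1, 0, 0, 0, 0, 0, 0, 1]) (.leaf [0, 1, 0, 1, 1, 1, 0, 1])))) (.node (.node (.node (.leaf []) (.leaf [1, 0, 1, 0, 1, 1, 0, 0, 0, 1, 1])) (.node (.leaf [0, 0, 0, 1]) (.leaf [1, 1, 1, 1, 0, 0, 0, 0, 0, 1, 0, 0, 1]))) (.node (.node (.leaf [0, 0, 1, 0, 1, 1, 0, 0, 0, 1, 1]) (.leaf [])) (.node (.leaf []) (.leaf [1, 0, 1, 0, 0, 0, 0, 1, 0, 1, 0, 1]))))) (.node (.node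 (.node (.node (.leaf [0, 0, 0, 1]) (.leaf [0, 0, 0, 1])) (.node (.leaf [0, 0, 0, 1, 0, 1, 0, 1]) (.leaf []))) (.node (.node (.leaf []) (.leaf [0, 1, 1, 1, 0, 0, 0, 0, 1, 1, 1, 0, 1])) (.node (.leaf [0, 1, 0, 1, 1, 1, 0, 0, 0, 0, 1]) (.leaf [0, 1, 1, 1, 0, 0, 1, 0, 1, 1, 1, 0, 1])))) (.node (.node (.node (.leaf [0, 0, 1, 1, 1, 1, 0, 0, 0, 1]) (.leaf [])) (.node (.leaf [0, 0, 0, 1]) (.leaf [0, 0, 0, 1]))) (.node (.node (.leaf []) (.leaf [0, 0, 0, 1])) (.node (.leaf []) (.leaf [0, 0, 1, 1, 1, 0, 0, 1, 1, 1, 1, 1, 1])))))) (.node (.node (.node (.node (.node (.leaf []) (.leaf [])) (.node (.leaf []) (.leaf [1, 1, 0, 0, 0, 0, 0, 1, 1, 0, 1, 1]))) (.node (.node (.leaf []) (.leaf [1, 0, 1, 0, 0, 1, 0, 0, 0, 1])) (.node (.leaf [1, 0, 0, 1, 0, 1, 0, 1]) (.leaf [0, 1, 0, 0, 1, 1, 1, 0, 1, 0, 1, 1, 1])))) (.node (.node (.node (.leaf [0, 0, 1, 0, 1, 1, 0, 0, 0, 1]) (.leaf [1, 1, 1, 0, 1, 0, 1, 0, 0, 1, 0, 1, 1])) (.node (.leaf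 []) (.leaf [1, 0, 0, 0, 1, 1, 1, 0, 0, 0, 1, 0, 1]))) (.node (.node (.leaf [0, 0, 0, 1]) (.leaf [0, 0, 0, 1])) (.node (.leaf [0, 0, 0, 1]) (.leaf [0, 0, 0, 1]))))) (.node (.node (.node (.node (.leaf [0, 0, 0, 1]) (.leaf [0, 1, 1, 0, 0, 0, 1, 0, 1, 1, 0, 0, 1])) (.node (.leaf [1, 1, 0, 1, 1, 1, 0, 0, 0, 0, 1]) (.leaf []))) (.node (.node (.leaf [0, 0, 0, 1]) (.leaf [0, 0, 0, 1])) (.node (.leaf [0, 0, 0, 1]) (.leaf [1, 0, 1, 1, 0, 0, 1, 0, 1, 1, 1, 0, 1])))) (.node (.node (.node (.leaf [0, 0, 0, 1]) (.leaf [0, 0, 0, 1])) (.node (.leaf []) (.leaf [0, 0, 0, 1]))) (.node (.node (.leaf []) (.leaf [1, 1, 0, 1, 1, 1, 0, 0, 1, 0, 1, 1, 1])) (.node (.leaf [1, 1, 0, 0, 0, 1, 0, 0, 1, 0, 0, 0, 1]) (.leaf [0, 0, 0, 1, 0, 0, 0, 0, 0, 0, 0, 0, 1]))))))))) (.node (.node (.node (.node (.node (.node (.node (.node (.node (.leaf []) (.leaf [0, 1, 0, 0, 1, 0, 0, 0, 1])) (.leaf [0, 0, 0, 1])) (.node (.leaf [1, 0, 1, 1, 1, 1, 0, 0, 0, 1])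 (.leaf [1, 1, 1, 0, 0, 1, 0, 0, 0, 1, 1]))) (.node (.node (.leaf []) (.leaf [1, 1, 1, 1, 0, 0, 0, 1, 0, 1, 1, 0, 1])) (.node (.leaf [0, 0, 0, 1, 1, 1, 1, 1]) (.leaf [0, 1, 1, 1, 0, 0, 1, 0, 0, 1, 1, 0, 1])))) (.node (.node (.node (.leaf []) (.leaf [0, 1, 1, 1, 1, 0, 1, 0, 0, 1, 0, 1, 1])) (.node (.leaf [1, 1, 1, 0, 0, 1, 0, 0, 0, 1]) (.leaf [0, 0, 0, 1]))) (.node (.node (.leaf []) (.leaf [0, 1, 0, 0, 1, 1, 1, 0, 0, 0, 0, 1, 1])) (.node (.leaf []) (.leaf [0, 0, 0, 0, 0, 1, 1, 0, 0, 0, 1, 1, 1]))))) (.node (.node (.node (.node (.leaf []) (.leaf [])) (.node (.leaf []) (.leaf [0, 0, 0, 1]))) (.node (.node (.leaf []) (.leaf [])) (.node (.leaf [1, 0, 0, 0, 0, 1, 0, 0, 1, 0, 0, 1]) (.leaf [0, 0, 0, 1, 1, 1, 0, 1, 1, 0, 1, 1])))) (.node (.node (.node (.leaf [0, 0, 0, 1]) (.leaf [0, 1, 0, 0, 1, 1, 0, 1])) (.node (.leaf []) (.leaf [1, 0, 0, 0, 1, 1, 0, 1, 0, 0, 1, 1]))) (.node (.node (.leaf [1, 0, 0, 0, 0, 1, 0, 0, 0, 0, 0,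 1]) (.leaf [0, 0, 0, 0, 1, 0, 1, 1])) (.node (.leaf [1, 1, 1, 0, 0, 0, 0, 0, 0, 1, 1, 1]) (.leaf [0, 1, 1, 1, 0, 0, 1, 0, 1, 1, 1])))))) (.node (.node (.node (.node (.node (.leaf []) (.leaf [0, 1, 1, 0, 0, 0, 0, 0, 0, 1, 1])) (.node (.leaf [1, 1, 1, 0, 0, 1, 0, 0, 0, 1]) (.leaf []))) (.node (.node (.leaf [0, 0, 0, 1]) (.leaf [1, 1, 1, 0, 0, 0, 0, 1, 0, 1, 1, 0, 1])) (.node (.leaf [0, 0, 0, 1]) (.leaf [1, 0, 0, 0, 0, 0, 0, 0, 1, 0, 1, 0, 1])))) (.node (.node (.node (.leaf []) (.leaf [0, 1, 1, 0, 0, 0, 1, 0, 0, 1])) (.node (.leaf []) (.leaf [0, 1, 0, 1, 1, 1, 1, 0, 1, 0, 1, 1, 1]))) (.node (.node (.leaf [1, 0, 0, 1, 0, 1, 0, 0, 0, 0, 0, 1]) (.leaf [1, 1, 0, 1, 1, 1, 0, 0, 0, 0, 1])) (.node (.leaf []) (.leaf [0, 0, 0, 1]))))) (.node (.node (.node (.node (.leaf [0, 0, 0, 1]) (.leaf [])) (.node (.leaf [0, 0, 0, 0, 0, 1, 0, 0, 0, 0, 0, 1]) (.leaf [0, 0, 0, 1]))) (.node (.node (.leaf []) (.leaf [])) (.node (.leaf [1, 1,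 1, 0, 0, 1, 0, 0, 0, 1]) (.leaf [1, 1, 1, 1, 0, 0, 0, 1, 0, 1, 1, 0, 1])))) (.node (.node (.node (.leaf [0, 0, 0, 1]) (.leaf [])) (.node (.leaf [1, 1, 1, 0, 0, 0, 0, 0, 0, 1, 1, 1]) (.leaf []))) (.node (.node (.leaf []) (.leaf [0, 1, 1, 1, 0, 0, 0, 0, 0, 1, 1])) (.node (.leaf [0, 0, 0, 1, 1, 1, 1, 1]) (.leaf [1, 0, 1, 0, 0, 0, 0, 0, 1, 1, 1, 1]))))))) (.node (.node (.node (.node (.node (.node (.node (.leaf []) (.leaf [0, 1, 0, 0, 1, 1, 1])) (.leaf [])) (.node (.leaf []) (.leaf [0, 1, 1, 1, 0, 0, 1, 0, 1, 1]))) (.node (.node (.leaf []) (.leaf [0, 0, 0, 1])) (.node (.leaf [0, 0, 0, 0, 1, 0, 1, 1]) (.leaf [0, 1, 0, 1, 0, 0, 0, 1, 0, 0, 0, 1, 1])))) (.node (.node (.node (.leaf []) (.leaf [0, 0, 0, 1])) (.node (.leaf [0, 0, 0, 1]) (.leaf [0, 1, 1, 0, 0, 0, 1, 0, 1, 1, 1]))) (.node (.node (.leaf [0, 0, 0, 1]) (.leaf [1, 0, 1, 0, 1, 1, 0, 0, 0, 1, 1])) (.node (.leaf [1, 0, 1, 1, 0, 0, 0, 0, 0, 1, 1, 1]) (.leaf [0, 0, 1,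 1, 1, 0, 1, 0, 0, 1, 1, 0, 1]))))) (.node (.node (.node (.node (.leaf []) (.leaf [0, 0, 0, 1])) (.node (.leaf [0, 0, 0, 1]) (.leaf [0, 0, 1, 1, 0, 1, 1, 1, 1, 1, 1, 1, 1]))) (.node (.node (.leaf [0, 0, 0, 1]) (.leaf [0, 0, 0, 1])) (.node (.leaf [0, 1, 1, 1, 0, 0, 1, 0, 0, 1]) (.leaf [0, 0, 0, 1])))) (.node (.node (.node (.leaf [0, 0, 0, 1]) (.leaf [0, 0, 0, 1])) (.node (.leaf [1, 1, 1, 1, 0, 1, 0, 0, 0, 1]) (.leaf [1, 0, 0, 0, 0, 1, 1, 0, 0, 0, 0, 1, 1]))) (.node (.node (.leaf [0, 0, 0, 1]) (.leaf [])) (.node (.leaf [0, 0, 1, 1, 1, 0, 0, 1, 0, 1]) (.leaf [1, 0, 1, 0, 0, 0, 0, 0, 0, 1, 0, 1, 1])))))) (.node (.node (.node (.node (.node (.leaf []) (.leaf [])) (.node (.leaf [0, 1, 1, 1, 0, 0, 0, 1, 0, 1]) (.leaf [0, 0, 1, 0, 0, 0, 1, 0, 0, 1, 0, 1, 1]))) (.node (.node (.leaf [0, 0, 0, 1]) (.leaf [])) (.node (.leaf [0, 0, 0, 1]) (.leaf [0, 0, 0, 1])))) (.node (.node (.node (.leaf []) (.leaf [1, 1, 1, 1, 0, 0, 1, 0, 1,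 1, 0, 0, 1])) (.node (.leaf [1, 0, 1, 1, 0, 0, 0, 0, 1, 1, 1, 1]) (.leaf [0, 0, 0, 1]))) (.node (.node (.leaf []) (.leaf [0, 1, 1, 0, 1, 0, 1, 0, 0, 1, 0, 1, 1])) (.node (.leaf [1, 1, 1, 1, 0, 1, 0, 0, 0, 1]) (.leaf [0, 0, 1, 0, 1, 0, 0, 1, 1, 1, 1, 1, 1]))))) (.node (.node (.node (.node (.leaf []) (.leaf [1, 0, 1, 1, 1, 1, 1, 0, 0, 1])) (.node (.leaf [1, 1, 1, 1, 0, 0, 1, 0, 0, 1]) (.leaf [0, 0, 0, 1]))) (.node (.node (.leaf [0, 0, 0, 1]) (.leaf [1, 1, 1, 0, 0, 0, 1, 0, 1, 1, 0, 0, 1])) (.node (.leaf [0, 0, 0, 1]) (.leaf [0, 0, 0, 1, 0, 0, 0, 0, 1, 0, 1, 0, 1])))) (.node (.node (.node (.leaf []) (.leaf [0, 0, 0, 0, 1, 1, 0, 1, 0, 0, 1, 1])) (.node (.leaf [0, 0, 1, 1, 1, 0, 0, 1, 0, 1]) (.leaf [0, 0, 1, 0, 0, 1, 1, 1, 0, 1, 1, 1, 1]))) (.node (.node (.leaf []) (.leaf [0, 0, 0, 1])) (.node (.leaf [1, 0, 0, 0, 1, 0, 1, 1]) (.leaf [0, 0, 0, 1])))))))) (.node (.node (.node (.node (.node (.node (.node (.node (.leaf [0,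 0, 0, 1]) (.leaf [1, 1, 0, 1, 0, 1, 0, 1, 0, 1])) (.leaf [0, 0, 0, 1])) (.node (.leaf [0, 0, 0, 1]) (.leaf [1, 0, 0, 1, 0, 0, 0, 1, 0, 0, 1, 1]))) (.node (.node (.leaf []) (.leaf [0, 0, 0, 1])) (.node (.leaf [1, 0, 0, 1, 0, 0, 0, 1, 0, 0, 1]) (.leaf [0, 1, 1, 0, 1, 1, 1, 1, 1, 1, 1, 0, 1])))) (.node (.node (.node (.leaf []) (.leaf [0, 0, 0, 1])) (.node (.leaf [1, 1, 1, 1, 0, 0, 0, 0, 0, 1, 0, 0, 1]) (.leaf [1, 0, 1, 1, 0, 0, 0, 0, 0, 1, 0, 1]))) (.node (.node (.leaf [1, 1, 1, 0, 0, 1, 0, 0, 0, 1]) (.leaf [])) (.node (.leaf [0, 0, 0, 1]) (.leaf [0, 0, 0, 1]))))) (.node (.node (.node (.node (.leaf [0, 0, 0, 1]) (.leaf [0, 0, 0, 1])) (.node (.leaf []) (.leaf [0, 0, 0, 1]))) (.node (.node (.leaf []) (.leaf [0, 0, 0, 1])) (.node (.leaf []) (.leaf [0, 0, 0, 1])))) (.node (.node (.node (.leaf []) (.leaf [0, 1, 0, 1, 1, 1, 1, 0, 0, 0, 0, 1, 1])) (.node (.leaf [1, 0, 1, 1, 1, 1, 0, 0, 0, 1, 1]) (.leaf [0, 0, 0, 1]))) (.node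 (.node (.leaf [0, 0, 0, 1]) (.leaf [1, 1, 0, 1, 0, 0, 0, 1, 0, 0, 0, 1])) (.node (.leaf []) (.leaf [1, 0, 0, 0, 0, 0, 0, 0, 0, 0, 0, 0, 1])))))) (.node (.node (.node (.node (.node (.leaf []) (.leaf [])) (.node (.leaf [0, 0, 0, 1]) (.leaf [0, 0, 0, 1]))) (.node (.node (.leaf [0, 0, 0, 0, 0, 1, 0, 0, 1, 0, 0, 1]) (.leaf [0, 0, 0, 1])) (.node (.leaf [0, 0, 0, 1]) (.leaf [1, 0, 1, 1, 0, 0, 0, 1, 0, 1, 0, 1])))) (.node (.node (.node (.leaf []) (.leaf [])) (.node (.leaf [0, 0, 0, 1]) (.leaf [0, 0, 0, 1]))) (.node (.node (.leaf []) (.leaf [1, 0, 1, 0, 0, 0, 0, 0, 0, 1, 0, 1])) (.node (.leaf [1, 0, 1, 1, 1, 1, 0, 0, 0, 1, 1]) (.leaf [1, 0, 1, 1, 0, 0, 0, 0, 1, 1, 0, 1, 1]))))) (.node (.node (.node (.node (.leaf []) (.leaf [0, 0, 0, 1])) (.node (.leaf []) (.leaf [0, 0, 0, 1]))) (.node (.node (.leaf [1, 0, 1, 1, 1, 1, 0, 0, 0, 1]) (.leaf [])) (.node (.leaf [0, 1, 1, 1, 0, 0, 0, 0, 1, 1, 0, 0, 1]) (.leaf [0, 0, 0, 1])))) (.node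 (.node (.node (.leaf []) (.leaf [0, 0, 1, 1, 0, 1, 1, 1, 0, 1, 1, 1, 1])) (.node (.leaf []) (.leaf [0, 0, 0, 1]))) (.node (.node (.leaf [0, 0, 0, 1]) (.leaf [1, 0, 1, 0, 1, 1, 0, 1, 0, 1])) (.node (.leaf [0, 0, 0, 1, 0, 0, 0, 1, 0, 0, 1]) (.leaf [0, 0, 1, 0, 1, 0, 1, 1, 0, 1, 1, 0, 1]))))))) (.node (.node (.node (.node (.node (.node (.leaf []) (.leaf [])) (.node (.leaf []) (.leaf []))) (.node (.node (.leaf [1, 1, 1, 0, 0, 1, 0, 0, 0, 1]) (.leaf [0, 0, 0, 1])) (.node (.leaf []) (.leaf [0, 0, 1, 0, 0, 1, 1, 1, 1, 1, 1, 1, 1])))) (.node (.node (.node (.leaf []) (.leaf [])) (.node (.leaf [0, 0, 1, 1, 1, 1, 0, 0, 0, 1]) (.leaf []))) (.node (.node (.leaf [1, 1, 1, 1, 0, 0, 0, 1, 0, 1]) (.leaf [])) (.node (.leaf [0, 0, 0, 1]) (.leaf [1, 0, 0, 1, 0, 1, 1, 0, 1, 0, 1, 1, 1]))))) (.node (.node (.node (.node (.leaf []) (.leaf [1, 1, 1, 1, 0, 0, 0, 0, 1, 1, 1, 0, 1])) (.node (.leaf [0, 0, 0, 0, 0, 0, 0, 1, 0, 0, 1]) (.leaf [0,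 0, 0, 1]))) (.node (.node (.leaf []) (.leaf [1, 1, 1, 0, 0, 0, 0, 1, 0, 1])) (.node (.leaf []) (.leaf [1, 1, 1, 0, 0, 0, 0, 1, 1, 1, 0, 1])))) (.node (.node (.node (.leaf []) (.leaf [0, 0, 0, 1])) (.node (.leaf [0, 0, 0, 1]) (.leaf [1, 0, 0, 0, 0, 0, 0, 0, 0, 0, 1, 0, 1]))) (.node (.node (.leaf []) (.leaf [])) (.node (.leaf []) (.leaf [0, 0, 0, 1, 0, 1, 1, 0, 0, 0, 1, 1, 1])))))) (.node (.node (.node (.node (.node (.leaf []) (.leaf [1, 0, 1, 0, 0, 1, 0, 0, 0, 1])) (.node (.leaf [0, 0, 0, 1, 0, 1, 0, 0, 0, 0, 0, 1]) (.leaf [1, 0, 1, 0, 0, 0, 1, 0, 1, 1, 1, 0, 1]))) (.node (.node (.leaf [0, 0, 0, 1]) (.leaf [1, 0, 1, 0, 0, 0, 0, 0, 0, 1, 1, 1])) (.node (.leaf [1, 0, 0, 0, 0, 0, 0, 1, 0, 0, 1]) (.leaf [])))) (.node (.node (.node (.leaf []) (.leaf [0, 0, 0, 1])) (.node (.leaf [0, 0, 0, 1]) (.leaf [0, 0, 0, 1]))) (.node (.node (.leaf [0, 0, 0, 1]) (.leaf [1, 0, 0, 0, 0, 0, 0, 1, 0, 0, 1, 1])) (.node (.leaf [0, 0, 0, 1])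 (.leaf [0, 0, 1, 0, 1, 0, 0, 0, 1, 1, 0, 0, 1]))))) (.node (.node (.node (.node (.leaf []) (.leaf [0, 0, 0, 1])) (.node (.leaf []) (.leaf [0, 0, 1, 0, 1, 1, 1, 0, 0, 1, 1]))) (.node (.node (.leaf []) (.leaf [0, 0, 0, 1])) (.node (.leaf [0, 0, 1, 1, 1, 1, 0, 0, 0, 1]) (.leaf [1, 1, 1, 1, 0, 0, 0, 1, 0, 1, 0, 1])))) (.node (.node (.node (.leaf [0, 0, 0, 1]) (.leaf [0, 1, 0, 1, 1, 1, 0, 0, 0, 0, 1, 1, 1])) (.node (.leaf []) (.leaf [1, 0, 0, 1, 0, 0, 0, 1, 1, 0, 0, 1]))) (.node (.node (.leaf []) (.leaf [0, 0, 1, 0, 1, 1, 1, 1, 0, 1, 1, 0, 1])) (.node (.leaf []) (.leaf [0, 0, 0, 1]))))))))))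

def twoL : Janko.Tree (List ℤ) := (.node (.node (.node twoL0 twoL4) (.node twoL2 twoL6)) (.node (.node twoL1 twoL5) (.node twoL3 twoL7)))

def twoKind0 : Janko.Tree (ℕ) :=
  (.node (.node (.node (.node (.node (.node (.node (.node (.node (.node (.leaf 0) (.leaf 2)) (.leaf 3)) (.node (.leaf 3) (.leaf 3))) (.node (.node (.leaf 3) (.leaf 0)) (.node (.leaf 3) (.leaf 3)))) (.node (.node (.node (.leaf 0) (.leaf 3)) (.node (.leaf 3) (.leaf 3))) (.node (.node (.leaf 3) (.leaf 3)) (.node (.leaf 0) (.leaf 3))))) (.node (.node (.node (.node (.leaf 3) (.leaf 3)) (.node (.leaf 3) (.leaf 3))) (.node (.node (.leaf 3) (.leaf 3)) (.node (.leaf 3) (.leaf 3)))) (.node (.node (.node (.leaf 0) (.leaf 3)) (.node (.leaf 3) (.leaf 3))) (.node (.node (.leaf 3) (.leaf 3)) (.node (.leaf 3) (.leaf 3)))))) (.node (.node (.node (.node (.node (.leaf 0) (.leaf 3)) (.node (.leaf 3) (.leaf 3))) (.node (.node (.leaf 3) (.leaf 3)) (.node (.leaf 3)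 (.leaf 3)))) (.node (.node (.node (.leaf 3) (.leaf 0)) (.node (.leaf 0) (.leaf 3))) (.node (.node (.leaf 3) (.leaf 3)) (.node (.leaf 3) (.leaf 3))))) (.node (.node (.node (.node (.leaf 3) (.leaf 3)) (.node (.leaf 3) (.leaf 3))) (.node (.node (.leaf 3) (.leaf 3)) (.node (.leaf 3) (.leaf 3)))) (.node (.node (.node (.leaf 3) (.leaf 3)) (.node (.leaf 3) (.leaf 3))) (.node (.node (.leaf 3) (.leaf 3)) (.node (.leaf 3) (.leaf 3))))))) (.node (.node (.node (.node (.node (.node (.node (.leaf 0) (.leaf 3)) (.leaf 3)) (.node (.leaf 3) (.leaf 3))) (.node (.node (.leaf 3) (.leaf 3)) (.node (.leaf 3) (.leaf 3)))) (.node (.node (.node (.leaf 0) (.leaf 3)) (.node (.leaf 3) (.leaf 3))) (.node (.node (.leaf 3) (.leaf 3)) (.node (.leaf 0) (.leaf 3))))) (.node (.node (.node (.node (.leaf 3) (.leaf 3)) (.node (.leaf 3) (.leaf 3))) (.node (.node (.leaf 0) (.leaf 3)) (.node (.leaf 0) (.leaf 3)))) (.node (.node (.node (.leaf 3) (.leaf 3))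 (.node (.leaf 3) (.leaf 3))) (.node (.node (.leaf 0) (.leaf 3)) (.node (.leaf 3) (.leaf 3)))))) (.node (.node (.node (.node (.node (.leaf 3) (.leaf 3)) (.node (.leaf 3) (.leaf 3))) (.node (.node (.leaf 3) (.leaf 3)) (.node (.leaf 3) (.leaf 0)))) (.node (.node (.node (.leaf 3) (.leaf 3)) (.node (.leaf 0) (.leaf 3))) (.node (.node (.leaf 0) (.leaf 3)) (.node (.leaf 3) (.leaf 3))))) (.node (.node (.node (.node (.leaf 3) (.leaf 3)) (.node (.leaf 0) (.leaf 3))) (.node (.node (.leaf 0) (.leaf 3)) (.node (.leaf 3) (.leaf 3)))) (.node (.node (.node (.leaf 0) (.leaf 3)) (.node (.leaf 3) (.leaf 3))) (.node (.node (.leaf 3) (.leaf 3)) (.node (.leaf 3) (.leaf 3)))))))) (.node (.node (.node (.node (.node (.node (.node (.node (.leaf 0) (.leaf 3)) (.leaf 3)) (.node (.leaf 0) (.leaf 3))) (.node (.node (.leaf 3) (.leaf 3)) (.node (.leaf 3) (.leaf 3)))) (.node (.node (.node (.leaf 3) (.leaf 3)) (.node (.leaf 3) (.leaf 3))) (.node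 (.node (.leaf 3) (.leaf 3)) (.node (.leaf 3) (.leaf 3))))) (.node (.node (.node (.node (.leaf 0) (.leaf 3)) (.node (.leaf 0) (.leaf 3))) (.node (.node (.leaf 3) (.leaf 3)) (.node (.leaf 3) (.leaf 3)))) (.node (.node (.node (.leaf 3) (.leaf 3)) (.node (.leaf 3) (.leaf 3))) (.node (.node (.leaf 3) (.leaf 3)) (.node (.leaf 3) (.leaf 3)))))) (.node (.node (.node (.node (.node (.leaf 0) (.leaf 3)) (.node (.leaf 3) (.leaf 3))) (.node (.node (.leaf 3) (.leaf 0)) (.node (.leaf 3) (.leaf 3)))) (.node (.node (.node (.leaf 3) (.leaf 3)) (.node (.leaf 3) (.leaf 3))) (.node (.node (.leaf 3) (.leaf 3)) (.node (.leaf 3) (.leaf 3))))) (.node (.node (.node (.node (.leaf 3) (.leaf 3)) (.node (.leaf 3) (.leaf 3))) (.node (.node (.leaf 3) (.leaf 3)) (.node (.leaf 3) (.leaf 3)))) (.node (.node (.node (.leaf 3) (.leaf 3)) (.node (.leaf 3) (.leaf 3))) (.node (.node (.leaf 0) (.leaf 3)) (.node (.leaf 3) (.leaf 3))))))) (.node (.node (.node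 (.node (.node (.node (.node (.leaf 0) (.leaf 3)) (.leaf 0)) (.node (.leaf 3) (.leaf 3))) (.node (.node (.leaf 3) (.leaf 0)) (.node (.leaf 3) (.leaf 3)))) (.node (.node (.node (.leaf 0) (.leaf 3)) (.node (.leaf 3) (.leaf 3))) (.node (.node (.leaf 3) (.leaf 3)) (.node (.leaf 3) (.leaf 3))))) (.node (.node (.node (.node (.leaf 3) (.leaf 3)) (.node (.leaf 3) (.leaf 3))) (.node (.node (.leaf 3) (.leaf 3)) (.node (.leaf 3) (.leaf 3)))) (.node (.node (.node (.leaf 3) (.leaf 3)) (.node (.leaf 3) (.leaf 3))) (.node (.node (.leaf 3) (.leaf 3)) (.node (.leaf 0) (.leaf 3)))))) (.node (.node (.node (.node (.node (.leaf 3) (.leaf 3)) (.node (.leaf 3) (.leaf 3))) (.node (.node (.leaf 0) (.leaf 3)) (.node (.leaf 3) (.leaf 3)))) (.node (.node (.node (.leaf 0) (.leaf 3)) (.node (.leaf 3) (.leaf 3))) (.node (.node (.leaf 3) (.leaf 3)) (.node (.leaf 3) (.leaf 3))))) (.node (.node (.node (.node (.leaf 3) (.leaf 0)) (.node (.leaf 3) (.leaf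 3))) (.node (.node (.leaf 3) (.leaf 3)) (.node (.leaf 3) (.leaf 3)))) (.node (.node (.node (.leaf 0) (.leaf 3)) (.node (.leaf 0) (.leaf 3))) (.node (.node (.leaf 3) (.leaf 3)) (.node (.leaf 3) (.leaf 3))))))))) (.node (.node (.node (.node (.node (.node (.node (.node (.node (.leaf 3) (.leaf 2)) (.leaf 3)) (.node (.leaf 3) (.leaf 3))) (.node (.node (.leaf 0) (.leaf 3)) (.node (.leaf 0) (.leaf 3)))) (.node (.node (.node (.leaf 3) (.leaf 3)) (.node (.leaf 3) (.leaf 3))) (.node (.node (.leaf 3) (.leaf 3)) (.node (.leaf 3) (.leaf 3))))) (.node (.node (.node (.node (.leaf 3) (.leaf 3)) (.node (.leaf 0) (.leaf 3))) (.node (.node (.leaf 3) (.leaf 3)) (.node (.leaf 3) (.leaf 3)))) (.node (.node (.node (.leaf 3) (.leaf 3)) (.node (.leaf 3) (.leaf 0))) (.node (.node (.leaf 0) (.leaf 3)) (.node (.leaf 3) (.leaf 3)))))) (.node (.node (.node (.node (.node (.leaf 3) (.leaf 3)) (.node (.leaf 3) (.leaf 3))) (.node (.node (.leaf 3)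 (.leaf 3)) (.node (.leaf 3) (.leaf 3)))) (.node (.node (.node (.leaf 0) (.leaf 3)) (.node (.leaf 3) (.leaf 3))) (.node (.node (.leaf 3) (.leaf 3)) (.node (.leaf 3) (.leaf 3))))) (.node (.node (.node (.node (.leaf 0) (.leaf 3)) (.node (.leaf 3) (.leaf 3))) (.node (.node (.leaf 3) (.leaf 3)) (.node (.leaf 3) (.leaf 3)))) (.node (.node (.node (.leaf 0) (.leaf 3)) (.node (.leaf 3) (.leaf 3))) (.node (.node (.leaf 3) (.leaf 3)) (.node (.leaf 0) (.leaf 3))))))) (.node (.node (.node (.node (.node (.node (.node (.leaf 3) (.leaf 3)) (.leaf 3)) (.node (.leaf 0) (.leaf 3))) (.node (.node (.leaf 3) (.leaf 0)) (.node (.leaf 3) (.leaf 3)))) (.node (.node (.node (.leaf 3) (.leaf 3)) (.node (.leaf 3) (.leaf 3))) (.node (.node (.leaf 3) (.leaf 3)) (.node (.leaf 3) (.leaf 3))))) (.node (.node (.node (.node (.leaf 0) (.leaf 3)) (.node (.leaf 3) (.leaf 3))) (.node (.node (.leaf 0) (.leaf 3)) (.node (.leaf 3) (.leaf 3)))) (.node (.node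 (.node (.leaf 0) (.leaf 3)) (.node (.leaf 0) (.leaf 3))) (.node (.node (.leaf 3) (.leaf 3)) (.node (.leaf 3) (.leaf 3)))))) (.node (.node (.node (.node (.node (.leaf 0) (.leaf 3)) (.node (.leaf 3) (.leaf 3))) (.node (.node (.leaf 0) (.leaf 3)) (.node (.leaf 3) (.leaf 3)))) (.node (.node (.node (.leaf 3) (.leaf 3)) (.node (.leaf 3) (.leaf 3))) (.node (.node (.leaf 3) (.leaf 3)) (.node (.leaf 0) (.leaf 3))))) (.node (.node (.node (.node (.leaf 3) (.leaf 3)) (.node (.leaf 3) (.leaf 3))) (.node (.node (.leaf 3) (.leaf 0)) (.node (.leaf 3) (.leaf 3)))) (.node (.node (.node (.leaf 3) (.leaf 3)) (.node (.leaf 3) (.leaf 3))) (.node (.node (.leaf 0) (.leaf 3)) (.node (.leaf 3) (.leaf 3)))))))) (.node (.node (.node (.node (.node (.node (.node (.node (.leaf 0) (.leaf 3)) (.leaf 3)) (.node (.leaf 3) (.leaf 3))) (.node (.node (.leaf 0) (.leaf 3)) (.node (.leaf 3) (.leaf 3)))) (.node (.node (.node (.leaf 3) (.leaf 3)) (.node (.leaf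 0) (.leaf 3))) (.node (.node (.leaf 3) (.leaf 3)) (.node (.leaf 0) (.leaf 3))))) (.node (.node (.node (.node (.leaf 0) (.leaf 3)) (.node (.leaf 3) (.leaf 3))) (.node (.node (.leaf 3) (.leaf 3)) (.node (.leaf 3) (.leaf 3)))) (.node (.node (.node (.leaf 3) (.leaf 3)) (.node (.leaf 0) (.leaf 3))) (.node (.node (.leaf 0) (.leaf 3)) (.node (.leaf 3) (.leaf 3)))))) (.node (.node (.node (.node (.node (.leaf 3) (.leaf 0)) (.node (.leaf 3) (.leaf 3))) (.node (.node (.leaf 0) (.leaf 3)) (.node (.leaf 3) (.leaf 3)))) (.node (.node (.node (.leaf 3) (.leaf 3)) (.node (.leaf 0) (.leaf 3))) (.node (.node (.leaf 0) (.leaf 3)) (.node (.leaf 0) (.leaf 3))))) (.node (.node (.node (.node (.leaf 0) (.leaf 3)) (.node (.leaf 3) (.leaf 3))) (.node (.node (.leaf 3) (.leaf 3)) (.node (.leaf 0) (.leaf 3)))) (.node (.node (.node (.leaf 3) (.leaf 3)) (.node (.leaf 3) (.leaf 3))) (.node (.node (.leaf 0) (.leaf 3)) (.node (.leaf 3) (.leaf 3)))))))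 (.node (.node (.node (.node (.node (.node (.node (.leaf 3) (.leaf 3)) (.leaf 0)) (.node (.leaf 3) (.leaf 3))) (.node (.node (.leaf 3) (.leaf 3)) (.node (.leaf 3) (.leaf 3)))) (.node (.node (.node (.leaf 3) (.leaf 3)) (.node (.leaf 3) (.leaf 3))) (.node (.node (.leaf 3) (.leaf 0)) (.node (.leaf 3) (.leaf 3))))) (.node (.node (.node (.node (.leaf 0) (.leaf 3)) (.node (.leaf 0) (.leaf 3))) (.node (.node (.leaf 0) (.leaf 3)) (.node (.leaf 3) (.leaf 3)))) (.node (.node (.node (.leaf 0) (.leaf 3)) (.node (.leaf 3) (.leaf 3))) (.node (.node (.leaf 3) (.leaf 3)) (.node (.leaf 0) (.leaf 3)))))) (.node (.node (.node (.node (.node (.leaf 0) (.leaf 3)) (.node (.leaf 3) (.leaf 3))) (.node (.node (.leaf 3) (.leaf 3)) (.node (.leaf 0) (.leaf 3)))) (.node (.node (.node (.leaf 3) (.leaf 3)) (.node (.leaf 3) (.leaf 3))) (.node (.node (.leaf 3) (.leaf 3)) (.node (.leaf 3) (.leaf 3))))) (.node (.node (.node (.node (.leaf 3) (.leaf 3))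 (.node (.leaf 3) (.leaf 3))) (.node (.node (.leaf 0) (.leaf 3)) (.node (.leaf 3) (.leaf 3)))) (.node (.node (.node (.leaf 0) (.leaf 3)) (.node (.leaf 0) (.leaf 3))) (.node (.node (.leaf 3) (.leaf 0)) (.node (.leaf 3) (.leaf 3))))))))))

def twoKind1 : Janko.Tree (ℕ) :=
  (.node (.node (.node (.node (.node (.node (.node (.node (.node (.node (.leaf 0) (.leaf 2)) (.leaf 3)) (.node (.leaf 3) (.leaf 0))) (.node (.node (.leaf 0) (.leaf 0)) (.node (.leaf 3) (.leaf 3)))) (.node (.node (.node (.leaf 0) (.leaf 3)) (.node (.leaf 3) (.leaf 3))) (.node (.node (.leaf 3) (.leaf 3)) (.node (.leaf 3) (.leaf 3))))) (.node (.node (.node (.node (.leaf 3) (.leaf 0)) (.node (.leaf 3) (.leaf 3))) (.node (.node (.leaf 3) (.leaf 3)) (.node (.leaf 3) (.leaf 3)))) (.node (.node (.node (.leaf 3) (.leaf 3)) (.node (.leaf 3) (.leaf 3))) (.node (.node (.leaf 3) (.leaf 3)) (.node (.leaf 3) (.leaf 3)))))) (.node (.node (.node (.node (.node (.leaf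 0) (.leaf 3)) (.node (.leaf 3) (.leaf 3))) (.node (.node (.leaf 3) (.leaf 3)) (.node (.leaf 3) (.leaf 3)))) (.node (.node (.node (.leaf 3) (.leaf 3)) (.node (.leaf 3) (.leaf 3))) (.node (.node (.leaf 3) (.leaf 3)) (.node (.leaf 3) (.leaf 3))))) (.node (.node (.node (.node (.leaf 0) (.leaf 0)) (.node (.leaf 3) (.leaf 3))) (.node (.node (.leaf 3) (.leaf 3)) (.node (.leaf 3) (.leaf 3)))) (.node (.node (.node (.leaf 3) (.leaf 3)) (.node (.leaf 3) (.leaf 3))) (.node (.node (.leaf 3) (.leaf 3)) (.node (.leaf 3) (.leaf 3))))))) (.node (.node (.node (.node (.node (.node (.node (.leaf 0) (.leaf 3)) (.leaf 3)) (.node (.leaf 3) (.leaf 3))) (.node (.node (.leaf 3) (.leaf 3)) (.node (.leaf 3) (.leaf 3)))) (.node (.node (.node (.leaf 3) (.leaf 3)) (.node (.leaf 3) (.leaf 3))) (.node (.node (.leaf 3) (.leaf 3)) (.node (.leaf 3) (.leaf 3))))) (.node (.node (.node (.node (.leaf 0) (.leaf 3)) (.node (.leaf 3) (.leaf 3))) (.node (.node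 (.leaf 0) (.leaf 3)) (.node (.leaf 3) (.leaf 3)))) (.node (.node (.node (.leaf 0) (.leaf 3)) (.node (.leaf 3) (.leaf 3))) (.node (.node (.leaf 0) (.leaf 3)) (.node (.leaf 3) (.leaf 3)))))) (.node (.node (.node (.node (.node (.leaf 0) (.leaf 3)) (.node (.leaf 3) (.leaf 3))) (.node (.node (.leaf 0) (.leaf 3)) (.node (.leaf 3) (.leaf 3)))) (.node (.node (.node (.leaf 3) (.leaf 3)) (.node (.leaf 3) (.leaf 3))) (.node (.node (.leaf 3) (.leaf 3)) (.node (.leaf 3) (.leaf 3))))) (.node (.node (.node (.node (.leaf 3) (.leaf 0)) (.node (.leaf 3) (.leaf 3))) (.node (.node (.leaf 0) (.leaf 3)) (.node (.leaf 3) (.leaf 3)))) (.node (.node (.node (.leaf 3) (.leaf 3)) (.node (.leaf 3) (.leaf 3))) (.node (.node (.leaf 3) (.leaf 3)) (.node (.leaf 3) (.leaf 3)))))))) (.node (.node (.node (.node (.node (.node (.node (.node (.leaf 0) (.leaf 3)) (.leaf 3)) (.node (.leaf 0) (.leaf 3))) (.node (.node (.leaf 3) (.leaf 3)) (.node (.leaf 3)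 (.leaf 3)))) (.node (.node (.node (.leaf 3) (.leaf 3)) (.node (.leaf 3) (.leaf 3))) (.node (.node (.leaf 3) (.leaf 0)) (.node (.leaf 0) (.leaf 3))))) (.node (.node (.node (.node (.leaf 0) (.leaf 3)) (.node (.leaf 3) (.leaf 3))) (.node (.node (.leaf 3) (.leaf 3)) (.node (.leaf 3) (.leaf 3)))) (.node (.node (.node (.leaf 3) (.leaf 3)) (.node (.leaf 3) (.leaf 3))) (.node (.node (.leaf 0) (.leaf 3)) (.node (.leaf 3) (.leaf 3)))))) (.node (.node (.node (.node (.node (.leaf 0) (.leaf 3)) (.node (.leaf 3) (.leaf 3))) (.node (.node (.leaf 3) (.leaf 0)) (.node (.leaf 3) (.leaf 3)))) (.node (.node (.node (.leaf 3) (.leaf 3)) (.node (.leaf 0) (.leaf 3))) (.node (.node (.leaf 3) (.leaf 3)) (.node (.leaf 3) (.leaf 3))))) (.node (.node (.node (.node (.leaf 3) (.leaf 0)) (.node (.leaf 3) (.leaf 3))) (.node (.node (.leaf 3) (.leaf 3)) (.node (.leaf 3) (.leaf 3)))) (.node (.node (.node (.leaf 3) (.leaf 3)) (.node (.leaf 3) (.leaf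 3))) (.node (.node (.leaf 0) (.leaf 3)) (.node (.leaf 3) (.leaf 3))))))) (.node (.node (.node (.node (.node (.node (.node (.leaf 0) (.leaf 3)) (.leaf 3)) (.node (.leaf 3) (.leaf 3))) (.node (.node (.leaf 3) (.leaf 3)) (.node (.leaf 3) (.leaf 3)))) (.node (.node (.node (.leaf 0) (.leaf 3)) (.node (.leaf 3) (.leaf 3))) (.node (.node (.leaf 3) (.leaf 3)) (.node (.leaf 3) (.leaf 3))))) (.node (.node (.node (.node (.leaf 3) (.leaf 3)) (.node (.leaf 3) (.leaf 3))) (.node (.node (.leaf 3) (.leaf 3)) (.node (.leaf 0) (.leaf 3)))) (.node (.node (.node (.leaf 3) (.leaf 3)) (.node (.leaf 3) (.leaf 3))) (.node (.node (.leaf 3) (.leaf 3)) (.node (.leaf 3) (.leaf 3)))))) (.node (.node (.node (.node (.node (.leaf 3) (.leaf 3)) (.node (.leaf 3) (.leaf 3))) (.node (.node (.leaf 0) (.leaf 3)) (.node (.leaf 3) (.leaf 3)))) (.node (.node (.node (.leaf 3) (.leaf 3)) (.node (.leaf 3) (.leaf 3))) (.node (.node (.leaf 3) (.leaf 3)) (.node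 (.leaf 3) (.leaf 3))))) (.node (.node (.node (.node (.leaf 3) (.leaf 0)) (.node (.leaf 0) (.leaf 3))) (.node (.node (.leaf 3) (.leaf 3)) (.node (.leaf 3) (.leaf 3)))) (.node (.node (.node (.leaf 3) (.leaf 3)) (.node (.leaf 3) (.leaf 3))) (.node (.node (.leaf 3) (.leaf 3)) (.node (.leaf 3) (.leaf 3))))))))) (.node (.node (.node (.node (.node (.node (.node (.node (.node (.leaf 3) (.leaf 2)) (.leaf 3)) (.node (.leaf 3) (.leaf 3))) (.node (.node (.leaf 3) (.leaf 0)) (.node (.leaf 0) (.leaf 3)))) (.node (.node (.node (.leaf 3) (.leaf 3)) (.node (.leaf 3) (.leaf 3))) (.node (.node (.leaf 3) (.leaf 3)) (.node (.leaf 3) (.leaf 3))))) (.node (.node (.node (.node (.leaf 3) (.leaf 3)) (.node (.leaf 0) (.leaf 3))) (.node (.node (.leaf 3) (.leaf 3)) (.node (.leaf 3) (.leaf 3)))) (.node (.node (.node (.leaf 0) (.leaf 3)) (.node (.leaf 3) (.leaf 0))) (.node (.node (.leaf 3) (.leaf 3)) (.node (.leaf 3) (.leaf 3)))))) (.node (.node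 (.node (.node (.node (.leaf 0) (.leaf 3)) (.node (.leaf 3) (.leaf 3))) (.node (.node (.leaf 3) (.leaf 3)) (.node (.leaf 3) (.leaf 3)))) (.node (.node (.node (.leaf 0) (.leaf 3)) (.node (.leaf 3) (.leaf 3))) (.node (.node (.leaf 3) (.leaf 3)) (.node (.leaf 3) (.leaf 3))))) (.node (.node (.node (.node (.leaf 3) (.leaf 3)) (.node (.leaf 3) (.leaf 3))) (.node (.node (.leaf 3) (.leaf 0)) (.node (.leaf 3) (.leaf 3)))) (.node (.node (.node (.leaf 0) (.leaf 3)) (.node (.leaf 3) (.leaf 3))) (.node (.node (.leaf 3) (.leaf 3)) (.node (.leaf 0) (.leaf 3))))))) (.node (.node (.node (.node (.node (.node (.node (.leaf 0) (.leaf 3)) (.leaf 3)) (.node (.leaf 0) (.leaf 3))) (.node (.node (.leaf 3) (.leaf 3)) (.node (.leaf 3) (.leaf 3)))) (.node (.node (.node (.leaf 3) (.leaf 3)) (.node (.leaf 3) (.leaf 3))) (.node (.node (.leaf 3) (.leaf 3)) (.node (.leaf 0) (.leaf 3))))) (.node (.node (.node (.node (.leaf 3) (.leaf 3)) (.node (.leaf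 3) (.leaf 3))) (.node (.node (.leaf 3) (.leaf 3)) (.node (.leaf 3) (.leaf 3)))) (.node (.node (.node (.leaf 3) (.leaf 3)) (.node (.leaf 3) (.leaf 3))) (.node (.node (.leaf 3) (.leaf 3)) (.node (.leaf 3) (.leaf 3)))))) (.node (.node (.node (.node (.node (.leaf 0) (.leaf 3)) (.node (.leaf 3) (.leaf 3))) (.node (.node (.leaf 3) (.leaf 3)) (.node (.leaf 3) (.leaf 3)))) (.node (.node (.node (.leaf 0) (.leaf 3)) (.node (.leaf 0) (.leaf 3))) (.node (.node (.leaf 3) (.leaf 3)) (.node (.leaf 3) (.leaf 3))))) (.node (.node (.node (.node (.leaf 3) (.leaf 3)) (.node (.leaf 3) (.leaf 3))) (.node (.node (.leaf 3) (.leaf 0)) (.node (.leaf 3) (.leaf 3)))) (.node (.node (.node (.leaf 0) (.leaf 3)) (.node (.leaf 3) (.leaf 3))) (.node (.node (.leaf 0) (.leaf 3)) (.node (.leaf 3) (.leaf 3)))))))) (.node (.node (.node (.node (.node (.node (.node (.node (.leaf 0) (.leaf 3)) (.leaf 3)) (.node (.leaf 3) (.leaf 3))) (.node (.node (.leaf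 0) (.leaf 3)) (.node (.leaf 0) (.leaf 3)))) (.node (.node (.node (.leaf 0) (.leaf 0)) (.node (.leaf 3) (.leaf 3))) (.node (.node (.leaf 3) (.leaf 3)) (.node (.leaf 3) (.leaf 3))))) (.node (.node (.node (.node (.leaf 0) (.leaf 3)) (.node (.leaf 3) (.leaf 0))) (.node (.node (.leaf 3) (.leaf 3)) (.node (.leaf 0) (.leaf 3)))) (.node (.node (.node (.leaf 3) (.leaf 3)) (.node (.leaf 3) (.leaf 3))) (.node (.node (.leaf 3) (.leaf 3)) (.node (.leaf 3) (.leaf 3)))))) (.node (.node (.node (.node (.node (.leaf 3) (.leaf 0)) (.node (.leaf 3) (.leaf 3))) (.node (.node (.leaf 3) (.leaf 3)) (.node (.leaf 3) (.leaf 3)))) (.node (.node (.node (.leaf 3) (.leaf 3)) (.node (.leaf 3) (.leaf 3))) (.node (.node (.leaf 0) (.leaf 3)) (.node (.leaf 3) (.leaf 3))))) (.node (.node (.node (.node (.leaf 0) (.leaf 3)) (.node (.leaf 0) (.leaf 3))) (.node (.node (.leaf 3) (.leaf 0)) (.node (.leaf 3) (.leaf 3)))) (.node (.node (.node (.leaf 3) (.leaf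 3)) (.node (.leaf 3) (.leaf 3))) (.node (.node (.leaf 3) (.leaf 3)) (.node (.leaf 0) (.leaf 3))))))) (.node (.node (.node (.node (.node (.node (.node (.leaf 3) (.leaf 3)) (.leaf 3)) (.node (.leaf 3) (.leaf 3))) (.node (.node (.leaf 3) (.leaf 3)) (.node (.leaf 3) (.leaf 3)))) (.node (.node (.node (.leaf 3) (.leaf 3)) (.node (.leaf 3) (.leaf 3))) (.node (.node (.leaf 3) (.leaf 3)) (.node (.leaf 3) (.leaf 3))))) (.node (.node (.node (.node (.leaf 0) (.leaf 3)) (.node (.leaf 0) (.leaf 3))) (.node (.node (.leaf 0) (.leaf 0)) (.node (.leaf 3) (.leaf 3)))) (.node (.node (.node (.leaf 0) (.leaf 3)) (.node (.leaf 3) (.leaf 3))) (.node (.node (.leaf 3) (.leaf 3)) (.node (.leaf 3) (.leaf 3)))))) (.node (.node (.node (.node (.node (.leaf 0) (.leaf 3)) (.node (.leaf 3) (.leaf 3))) (.node (.node (.leaf 3) (.leaf 0)) (.node (.leaf 0) (.leaf 3)))) (.node (.node (.node (.leaf 0) (.leaf 3)) (.node (.leaf 3) (.leaf 3))) (.node (.node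 (.leaf 3) (.leaf 3)) (.node (.leaf 3) (.leaf 3))))) (.node (.node (.node (.node (.leaf 3) (.leaf 3)) (.node (.leaf 3) (.leaf 3))) (.node (.node (.leaf 0) (.leaf 3)) (.node (.leaf 3) (.leaf 3)))) (.node (.node (.node (.leaf 0) (.leaf 3)) (.node (.leaf 3) (.leaf 3))) (.node (.node (.leaf 3) (.leaf 0)) (.node (.leaf 3) (.leaf 3))))))))))

def twoKind2 : Janko.Tree (ℕ) :=
  (.node (.node (.node (.node (.node (.node (.node (.node (.node (.node (.leaf 0) (.leaf 2)) (.leaf 3)) (.node (.leaf 3) (.leaf 3))) (.node (.node (.leaf 0) (.leaf 3)) (.node (.leaf 3) (.leaf 0)))) (.node (.node (.node (.leaf 0) (.leaf 0)) (.node (.leaf 0) (.leaf 3))) (.node (.node (.leaf 0) (.leaf 3)) (.node (.leaf 3) (.leaf 3))))) (.node (.node (.node (.node (.leaf 0) (.leaf 3)) (.node (.leaf 3) (.leaf 0))) (.node (.node (.leaf 0) (.leaf 0)) (.node (.leaf 3) (.leaf 3)))) (.node (.node (.node (.leaf 3) (.leaf 3)) (.node (.leaf 3) (.leaf 3))) (.node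 (.node (.leaf 0) (.leaf 3)) (.node (.leaf 0) (.leaf 3)))))) (.node (.node (.node (.node (.node (.leaf 3) (.leaf 3)) (.node (.leaf 0) (.leaf 3))) (.node (.node (.leaf 3) (.leaf 0)) (.node (.leaf 3) (.leaf 3)))) (.node (.node (.node (.leaf 0) (.leaf 3)) (.node (.leaf 3) (.leaf 3))) (.node (.node (.leaf 0) (.leaf 3)) (.node (.leaf 3) (.leaf 3))))) (.node (.node (.node (.node (.leaf 3) (.leaf 0)) (.node (.leaf 3) (.leaf 3))) (.node (.node (.leaf 0) (.leaf 3)) (.node (.leaf 0) (.leaf 3)))) (.node (.node (.node (.leaf 0) (.leaf 3)) (.node (.leaf 0) (.leaf 3))) (.node (.node (.leaf 3) (.leaf 3)) (.node (.leaf 3) (.leaf 3))))))) (.node (.node (.node (.node (.node (.node (.node (.leaf 3) (.leaf 3)) (.leaf 3)) (.node (.leaf 0) (.leaf 3))) (.node (.node (.leaf 0) (.leaf 0)) (.node (.leaf 3) (.leaf 3)))) (.node (.node (.node (.leaf 3) (.leaf 3)) (.node (.leaf 3) (.leaf 3))) (.node (.node (.leaf 0) (.leaf 3)) (.node (.leaf 3)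 (.leaf 3))))) (.node (.node (.node (.node (.leaf 0) (.leaf 3)) (.node (.leaf 0) (.leaf 3))) (.node (.node (.leaf 0) (.leaf 3)) (.node (.leaf 3) (.leaf 3)))) (.node (.node (.node (.leaf 3) (.leaf 3)) (.node (.leaf 3) (.leaf 3))) (.node (.node (.leaf 3) (.leaf 0)) (.node (.leaf 0) (.leaf 3)))))) (.node (.node (.node (.node (.node (.leaf 0) (.leaf 0)) (.node (.leaf 3) (.leaf 0))) (.node (.node (.leaf 0) (.leaf 3)) (.node (.leaf 0) (.leaf 3)))) (.node (.node (.node (.leaf 0) (.leaf 3)) (.node (.leaf 3) (.leaf 3))) (.node (.node (.leaf 0) (.leaf 0)) (.node (.leaf 3) (.leaf 3))))) (.node (.node (.node (.node (.leaf 0) (.leaf 3)) (.node (.leaf 3) (.leaf 3))) (.node (.node (.leaf 3) (.leaf 3)) (.node (.leaf 3) (.leaf 3)))) (.node (.node (.node (.leaf 3) (.leaf 3)) (.node (.leaf 0) (.leaf 3))) (.node (.node (.leaf 0) (.leaf 3)) (.node (.leaf 3) (.leaf 3)))))))) (.node (.node (.node (.node (.node (.node (.node (.node (.leaf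 0) (.leaf 3)) (.leaf 0)) (.node (.leaf 3) (.leaf 3))) (.node (.node (.leaf 3) (.leaf 3)) (.node (.leaf 3) (.leaf 0)))) (.node (.node (.node (.leaf 0) (.leaf 3)) (.node (.leaf 3) (.leaf 3))) (.node (.node (.leaf 0) (.leaf 3)) (.node (.leaf 0) (.leaf 3))))) (.node (.node (.node (.node (.leaf 3) (.leaf 0)) (.node (.leaf 0) (.leaf 0))) (.node (.node (.leaf 3) (.leaf 3)) (.node (.leaf 0) (.leaf 3)))) (.node (.node (.node (.leaf 3) (.leaf 3)) (.node (.leaf 3) (.leaf 3))) (.node (.node (.leaf 0) (.leaf 0)) (.node (.leaf 0) (.leaf 3)))))) (.node (.node (.node (.node (.node (.leaf 0) (.leaf 3)) (.node (.leaf 0) (.leaf 3))) (.node (.node (.leaf 0) (.leaf 3)) (.node (.leaf 0) (.leaf 3)))) (.node (.node (.node (.leaf 0) (.leaf 3)) (.node (.leaf 0) (.leaf 3))) (.node (.node (.leaf 3) (.leaf 0)) (.node (.leaf 3) (.leaf 3))))) (.node (.node (.node (.node (.leaf 0) (.leaf 0)) (.node (.leaf 0) (.leaf 3))) (.node (.node (.leaf 3)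 (.leaf 0)) (.node (.leaf 3) (.leaf 3)))) (.node (.node (.node (.leaf 0) (.leaf 3)) (.node (.leaf 0) (.leaf 3))) (.node (.node (.leaf 0) (.leaf 3)) (.node (.leaf 3) (.leaf 3))))))) (.node (.node (.node (.node (.node (.node (.node (.leaf 0) (.leaf 3)) (.leaf 3)) (.node (.leaf 0) (.leaf 0))) (.node (.node (.leaf 0) (.leaf 3)) (.node (.leaf 0) (.leaf 3)))) (.node (.node (.node (.leaf 0) (.leaf 3)) (.node (.leaf 3) (.leaf 0))) (.node (.node (.leaf 3) (.leaf 3)) (.node (.leaf 3) (.leaf 3))))) (.node (.node (.node (.node (.leaf 0) (.leaf 3)) (.node (.leaf 0) (.leaf 3))) (.node (.node (.leaf 0) (.leaf 0)) (.node (.leaf 0) (.leaf 3)))) (.node (.node (.node (.leaf 0) (.leaf 3)) (.node (.leaf 3) (.leaf 3))) (.node (.node (.leaf 0) (.leaf 3)) (.node (.leaf 3) (.leaf 3)))))) (.node (.node (.node (.node (.node (.leaf 0) (.leaf 3)) (.node (.leaf 0) (.leaf 0))) (.node (.node (.leaf 3) (.leaf 3)) (.node (.leaf 0) (.leaf 3)))) (.node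 (.node (.node (.leaf 0) (.leaf 3)) (.node (.leaf 3) (.leaf 3))) (.node (.node (.leaf 3) (.leaf 0)) (.node (.leaf 3) (.leaf 3))))) (.node (.node (.node (.node (.leaf 0) (.leaf 3)) (.node (.leaf 0) (.leaf 3))) (.node (.node (.leaf 0) (.leaf 3)) (.node (.leaf 3) (.leaf 3)))) (.node (.node (.node (.leaf 3) (.leaf 3)) (.node (.leaf 3) (.leaf 3))) (.node (.node (.leaf 0) (.leaf 3)) (.node (.leaf 0) (.leaf 3))))))))) (.node (.node (.node (.node (.node (.node (.node (.node (.node (.leaf 0) (.leaf 3)) (.leaf 3)) (.node (.leaf 3) (.leaf 3))) (.node (.node (.leaf 3) (.leaf 3)) (.node (.leaf 3) (.leaf 3)))) (.node (.node (.node (.leaf 0) (.leaf 3)) (.node (.leaf 3) (.leaf 3))) (.node (.node (.leaf 0) (.leaf 3)) (.node (.leaf 3) (.leaf 3))))) (.node (.node (.node (.node (.leaf 0) (.leaf 0)) (.node (.leaf 3) (.leaf 3))) (.node (.node (.leaf 0) (.leaf 0)) (.node (.leaf 3) (.leaf 3)))) (.node (.node (.node (.leaf 3) (.leaf 3)) (.node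 (.leaf 3) (.leaf 3))) (.node (.node (.leaf 3) (.leaf 3)) (.node (.leaf 3) (.leaf 3)))))) (.node (.node (.node (.node (.node (.leaf 0) (.leaf 0)) (.node (.leaf 3) (.leaf 0))) (.node (.node (.leaf 0) (.leaf 3)) (.node (.leaf 3) (.leaf 3)))) (.node (.node (.node (.leaf 3) (.leaf 3)) (.node (.leaf 3) (.leaf 3))) (.node (.node (.leaf 0) (.leaf 3)) (.node (.leaf 3) (.leaf 3))))) (.node (.node (.node (.node (.leaf 3) (.leaf 3)) (.node (.leaf 3) (.leaf 0))) (.node (.node (.leaf 3) (.leaf 0)) (.node (.leaf 3) (.leaf 3)))) (.node (.node (.node (.leaf 3) (.leaf 3)) (.node (.leaf 3) (.leaf 0))) (.node (.node (.leaf 0) (.leaf 3)) (.node (.leaf 3) (.leaf 3))))))) (.node (.node (.node (.node (.node (.node (.node (.leaf 0) (.leaf 3)) (.leaf 0)) (.node (.leaf 3) (.leaf 0))) (.node (.node (.leaf 0) (.leaf 3)) (.node (.leaf 3) (.leaf 3)))) (.node (.node (.node (.leaf 0) (.leaf 3)) (.node (.leaf 3) (.leaf 3))) (.node (.node (.leaf 3)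 (.leaf 3)) (.node (.leaf 0) (.leaf 3))))) (.node (.node (.node (.node (.leaf 3) (.leaf 3)) (.node (.leaf 3) (.leaf 3))) (.node (.node (.leaf 3) (.leaf 3)) (.node (.leaf 0) (.leaf 3)))) (.node (.node (.node (.leaf 3) (.leaf 0)) (.node (.leaf 3) (.leaf 3))) (.node (.node (.leaf 0) (.leaf 3)) (.node (.leaf 3) (.leaf 3)))))) (.node (.node (.node (.node (.node (.leaf 0) (.leaf 3)) (.node (.leaf 0) (.leaf 3))) (.node (.node (.leaf 3) (.leaf 3)) (.node (.leaf 3) (.leaf 3)))) (.node (.node (.node (.leaf 0) (.leaf 0)) (.node (.leaf 0) (.leaf 3))) (.node (.node (.leaf 3) (.leaf 3)) (.node (.leaf 3) (.leaf 3))))) (.node (.node (.node (.node (.leaf 3) (.leaf 3)) (.node (.leaf 0) (.leaf 3))) (.node (.node (.leaf 0) (.leaf 3)) (.node (.leaf 3) (.leaf 3)))) (.node (.node (.node (.leaf 0) (.leaf 3)) (.node (.leaf 3) (.leaf 0))) (.node (.node (.leaf 3) (.leaf 3)) (.node (.leaf 3) (.leaf 3)))))))) (.node (.node (.node (.node (.node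 (.node (.node (.node (.leaf 3) (.leaf 3)) (.leaf 3)) (.node (.leaf 0) (.leaf 0))) (.node (.node (.leaf 3) (.leaf 3)) (.node (.leaf 0) (.leaf 3)))) (.node (.node (.node (.leaf 0) (.leaf 3)) (.node (.leaf 0) (.leaf 0))) (.node (.node (.leaf 3) (.leaf 3)) (.node (.leaf 3) (.leaf 3))))) (.node (.node (.node (.node (.leaf 3) (.leaf 3)) (.node (.leaf 3) (.leaf 3))) (.node (.node (.leaf 0) (.leaf 3)) (.node (.leaf 0) (.leaf 3)))) (.node (.node (.node (.leaf 0) (.leaf 0)) (.node (.leaf 3) (.leaf 3))) (.node (.node (.leaf 3) (.leaf 3)) (.node (.leaf 0) (.leaf 3)))))) (.node (.node (.node (.node (.node (.leaf 0) (.leaf 3)) (.node (.leaf 3) (.leaf 3))) (.node (.node (.leaf 3) (.leaf 0)) (.node (.leaf 3) (.leaf 3)))) (.node (.node (.node (.leaf 3) (.leaf 0)) (.node (.leaf 3) (.leaf 3))) (.node (.node (.leaf 3) (.leaf 3)) (.node (.leaf 3) (.leaf 3))))) (.node (.node (.node (.node (.leaf 3) (.leaf 0)) (.node (.leaf 0) (.leaf 0)))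 (.node (.node (.leaf 3) (.leaf 3)) (.node (.leaf 0) (.leaf 3)))) (.node (.node (.node (.leaf 0) (.leaf 3)) (.node (.leaf 0) (.leaf 0))) (.node (.node (.leaf 3) (.leaf 3)) (.node (.leaf 0) (.leaf 3))))))) (.node (.node (.node (.node (.node (.node (.node (.leaf 0) (.leaf 3)) (.leaf 3)) (.node (.leaf 0) (.leaf 0))) (.node (.node (.leaf 3) (.leaf 3)) (.node (.leaf 3) (.leaf 3)))) (.node (.node (.node (.leaf 0) (.leaf 3)) (.node (.leaf 3) (.leaf 3))) (.node (.node (.leaf 0) (.leaf 3)) (.node (.leaf 3) (.leaf 3))))) (.node (.node (.node (.node (.leaf 3) (.leaf 0)) (.node (.leaf 3) (.leaf 0))) (.node (.node (.leaf 3) (.leaf 0)) (.node (.leaf 0) (.leaf 3)))) (.node (.node (.node (.leaf 3) (.leaf 3)) (.node (.leaf 3) (.leaf 3))) (.node (.node (.leaf 0) (.leaf 3)) (.node (.leaf 0) (.leaf 3)))))) (.node (.node (.node (.node (.node (.leaf 0) (.leaf 3)) (.node (.leaf 0) (.leaf 3))) (.node (.node (.leaf 0) (.leaf 3)) (.node (.leaf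 3) (.leaf 3)))) (.node (.node (.node (.leaf 0) (.leaf 0)) (.node (.leaf 3) (.leaf 3))) (.node (.node (.leaf 0) (.leaf 3)) (.node (.leaf 3) (.leaf 3))))) (.node (.node (.node (.node (.leaf 0) (.leaf 3)) (.node (.leaf 0) (.leaf 3))) (.node (.node (.leaf 3) (.leaf 0)) (.node (.leaf 3) (.leaf 3)))) (.node (.node (.node (.leaf 3) (.leaf 3)) (.node (.leaf 0) (.leaf 3))) (.node (.node (.leaf 3) (.leaf 3)) (.node (.leaf 3) (.leaf 3))))))))))

def twoKind3 : Janko.Tree (ℕ) :=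
  (.node (.node (.node (.node (.node (.node (.node (.node (.node (.node (.leaf 0) (.leaf 2)) (.leaf 0)) (.node (.leaf 3) (.leaf 3))) (.node (.node (.leaf 0) (.leaf 0)) (.node (.leaf 3) (.leaf 3)))) (.node (.node (.node (.leaf 3) (.leaf 0)) (.node (.leaf 3) (.leaf 3))) (.node (.node (.leaf 0) (.leaf 3)) (.node (.leaf 0) (.leaf 3))))) (.node (.node (.node (.node (.leaf 3) (.leaf 3)) (.node (.leaf 3) (.leaf 3))) (.node (.node (.leaf 3) (.leaf 3)) (.node (.leaf 0) (.leaf 3)))) (.node (.node (.node (.leaf 3) (.leaf 3)) (.node (.leaf 3) (.leaf 3))) (.node (.node (.leaf 3) (.leaf 3)) (.node (.leaf 3) (.leaf 3)))))) (.node (.node (.node (.node (.node (.leaf 0) (.leaf 3)) (.node (.leaf 3) (.leaf 3))) (.node (.node (.leaf 0) (.leaf 3)) (.node (.leaf 0) (.leaf 3)))) (.node (.node (.node (.leaf 0) (.leaf 3)) (.node (.leaf 0) (.leaf 3))) (.node (.node (.leaf 3) (.leaf 3)) (.node (.leaf 3) (.leaf 3))))) (.node (.node (.node (.node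 (.leaf 0) (.leaf 3)) (.node (.leaf 0) (.leaf 3))) (.node (.node (.leaf 3) (.leaf 3)) (.node (.leaf 3) (.leaf 3)))) (.node (.node (.node (.leaf 0) (.leaf 0)) (.node (.leaf 3) (.leaf 0))) (.node (.node (.leaf 3) (.leaf 3)) (.node (.leaf 3) (.leaf 3))))))) (.node (.node (.node (.node (.node (.node (.node (.leaf 0) (.leaf 3)) (.leaf 0)) (.node (.leaf 0) (.leaf 3))) (.node (.node (.leaf 0) (.leaf 3)) (.node (.leaf 3) (.leaf 3)))) (.node (.node (.node (.leaf 3) (.leaf 3)) (.node (.leaf 3) (.leaf 3))) (.node (.node (.leaf 3) (.leaf 3)) (.node (.leaf 0) (.leaf 3))))) (.node (.node (.node (.node (.leaf 0) (.leaf 3)) (.node (.leaf 3) (.leaf 3))) (.node (.node (.leaf 3) (.leaf 0)) (.node (.leaf 3) (.leaf 3)))) (.node (.node (.node (.leaf 0) (.leaf 3)) (.node (.leaf 0) (.leaf 3))) (.node (.node (.leaf 3) (.leaf 3)) (.node (.leaf 3) (.leaf 3)))))) (.node (.node (.node (.node (.node (.leaf 0) (.leaf 0)) (.node (.leaf 3) (.leaf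 3))) (.node (.node (.leaf 3) (.leaf 3)) (.node (.leaf 3) (.leaf 3)))) (.node (.node (.node (.leaf 0) (.leaf 3)) (.node (.leaf 0) (.leaf 3))) (.node (.node (.leaf 3) (.leaf 3)) (.node (.leaf 0) (.leaf 3))))) (.node (.node (.node (.node (.leaf 3) (.leaf 3)) (.node (.leaf 3) (.leaf 3))) (.node (.node (.leaf 0) (.leaf 3)) (.node (.leaf 3) (.leaf 3)))) (.node (.node (.node (.leaf 0) (.leaf 3)) (.node (.leaf 3) (.leaf 3))) (.node (.node (.leaf 0) (.leaf 3)) (.node (.leaf 3) (.leaf 3)))))))) (.node (.node (.node (.node (.node (.node (.node (.node (.leaf 3) (.leaf 3)) (.leaf 3)) (.node (.leaf 0) (.leaf 3))) (.node (.node (.leaf 0) (.leaf 3)) (.node (.leaf 3) (.leaf 3)))) (.node (.node (.node (.leaf 3) (.leaf 3)) (.node (.leaf 0) (.leaf 3))) (.node (.node (.leaf 3) (.leaf 0)) (.node (.leaf 3) (.leaf 3))))) (.node (.node (.node (.node (.leaf 0) (.leaf 3)) (.node (.leaf 3) (.leaf 3))) (.node (.node (.leaf 3) (.leaf 0)) (.node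 (.leaf 3) (.leaf 3)))) (.node (.node (.node (.leaf 0) (.leaf 3)) (.node (.leaf 3) (.leaf 3))) (.node (.node (.leaf 3) (.leaf 3)) (.node (.leaf 3) (.leaf 3)))))) (.node (.node (.node (.node (.node (.leaf 3) (.leaf 3)) (.node (.leaf 3) (.leaf 3))) (.node (.node (.leaf 3) (.leaf 3)) (.node (.leaf 3) (.leaf 3)))) (.node (.node (.node (.leaf 3) (.leaf 0)) (.node (.leaf 3) (.leaf 3))) (.node (.node (.leaf 3) (.leaf 3)) (.node (.leaf 3) (.leaf 3))))) (.node (.node (.node (.node (.leaf 0) (.leaf 3)) (.node (.leaf 3) (.leaf 3))) (.node (.node (.leaf 3) (.leaf 3)) (.node (.leaf 0) (.leaf 3)))) (.node (.node (.node (.leaf 0) (.leaf 3)) (.node (.leaf 3) (.leaf 3))) (.node (.node (.leaf 3) (.leaf 3)) (.node (.leaf 3) (.leaf 3))))))) (.node (.node (.node (.node (.node (.node (.node (.leaf 3) (.leaf 3)) (.leaf 0)) (.node (.leaf 0) (.leaf 3))) (.node (.node (.leaf 3) (.leaf 0)) (.node (.leaf 3) (.leaf 3)))) (.node (.node (.node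 (.leaf 3) (.leaf 3)) (.node (.leaf 0) (.leaf 3))) (.node (.node (.leaf 3) (.leaf 3)) (.node (.leaf 3) (.leaf 3))))) (.node (.node (.node (.node (.leaf 0) (.leaf 3)) (.node (.leaf 0) (.leaf 3))) (.node (.node (.leaf 0) (.leaf 3)) (.node (.leaf 0) (.leaf 0)))) (.node (.node (.node (.leaf 0) (.leaf 3)) (.node (.leaf 0) (.leaf 0))) (.node (.node (.leaf 3) (.leaf 3)) (.node (.leaf 0) (.leaf 3)))))) (.node (.node (.node (.node (.node (.leaf 0) (.leaf 3)) (.node (.leaf 3) (.leaf 3))) (.node (.node (.leaf 3) (.leaf 3)) (.node (.leaf 0) (.leaf 3)))) (.node (.node (.node (.leaf 3) (.leaf 3)) (.node (.leaf 3) (.leaf 3))) (.node (.node (.leaf 0) (.leaf 3)) (.node (.leaf 0) (.leaf 3))))) (.node (.node (.node (.node (.leaf 0) (.leaf 0)) (.node (.leaf 0) (.leaf 3))) (.node (.node (.leaf 0) (.leaf 3)) (.node (.leaf 0) (.leaf 3)))) (.node (.node (.node (.leaf 0) (.leaf 3)) (.node (.leaf 0) (.leaf 3))) (.node (.node (.leaf 3) (.leaf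 3)) (.node (.leaf 3) (.leaf 3))))))))) (.node (.node (.node (.node (.node (.node (.node (.node (.node (.leaf 0) (.leaf 3)) (.leaf 3)) (.node (.leaf 3) (.leaf 3))) (.node (.node (.leaf 3) (.leaf 3)) (.node (.leaf 0) (.leaf 3)))) (.node (.node (.node (.leaf 3) (.leaf 3)) (.node (.leaf 3) (.leaf 0))) (.node (.node (.leaf 3) (.leaf 3)) (.node (.leaf 3) (.leaf 3))))) (.node (.node (.node (.node (.leaf 0) (.leaf 3)) (.node (.leaf 0) (.leaf 3))) (.node (.node (.leaf 3) (.leaf 3)) (.node (.leaf 3) (.leaf 3)))) (.node (.node (.node (.leaf 0) (.leaf 3)) (.node (.leaf 3) (.leaf 0))) (.node (.node (.leaf 0) (.leaf 3)) (.node (.leaf 3) (.leaf 3)))))) (.node (.node (.node (.node (.node (.leaf 0) (.leaf 3)) (.node (.leaf 3) (.leaf 3))) (.node (.node (.leaf 0) (.leaf 3)) (.node (.leaf 3) (.leaf 3)))) (.node (.node (.node (.leaf 0) (.leaf 3)) (.node (.leaf 3) (.leaf 3))) (.node (.node (.leaf 3) (.leaf 0)) (.node (.leaf 3) (.leaf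 3))))) (.node (.node (.node (.node (.leaf 0) (.leaf 3)) (.node (.leaf 3) (.leaf 3))) (.node (.node (.leaf 3) (.leaf 3)) (.node (.leaf 3) (.leaf 3)))) (.node (.node (.node (.leaf 0) (.leaf 3)) (.node (.leaf 3) (.leaf 3))) (.node (.node (.leaf 0) (.leaf 3)) (.node (.leaf 0) (.leaf 3))))))) (.node (.node (.node (.node (.node (.node (.node (.leaf 0) (.leaf 3)) (.leaf 3)) (.node (.leaf 3) (.leaf 3))) (.node (.node (.leaf 3) (.leaf 0)) (.node (.leaf 0) (.leaf 0)))) (.node (.node (.node (.leaf 3) (.leaf 3)) (.node (.leaf 0) (.leaf 3))) (.node (.node (.leaf 3) (.leaf 3)) (.node (.leaf 0) (.leaf 3))))) (.node (.node (.node (.node (.leaf 3) (.leaf 0)) (.node (.leaf 0) (.leaf 3))) (.node (.node (.leaf 0) (.leaf 3)) (.node (.leaf 3) (.leaf 3)))) (.node (.node (.node (.leaf 0) (.leaf 3)) (.node (.leaf 3) (.leaf 3))) (.node (.node (.leaf 0) (.leaf 3)) (.node (.leaf 3) (.leaf 3)))))) (.node (.node (.node (.node (.node (.leaf 3)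 (.leaf 3)) (.node (.leaf 3) (.leaf 3))) (.node (.node (.leaf 0) (.leaf 3)) (.node (.leaf 0) (.leaf 0)))) (.node (.node (.node (.leaf 0) (.leaf 3)) (.node (.leaf 0) (.leaf 3))) (.node (.node (.leaf 3) (.leaf 3)) (.node (.leaf 3) (.leaf 3))))) (.node (.node (.node (.node (.leaf 3) (.leaf 3)) (.node (.leaf 3) (.leaf 3))) (.node (.node (.leaf 0) (.leaf 0)) (.node (.leaf 0) (.leaf 3)))) (.node (.node (.node (.leaf 3) (.leaf 3)) (.node (.leaf 3) (.leaf 3))) (.node (.node (.leaf 0) (.leaf 3)) (.node (.leaf 0) (.leaf 3)))))))) (.node (.node (.node (.node (.node (.node (.node (.node (.leaf 0) (.leaf 3)) (.leaf 3)) (.node (.leaf 0) (.leaf 3))) (.node (.node (.leaf 3) (.leaf 0)) (.node (.leaf 0) (.leaf 3)))) (.node (.node (.node (.leaf 0) (.leaf 0)) (.node (.leaf 3) (.leaf 3))) (.node (.node (.leaf 3) (.leaf 3)) (.node (.leaf 0) (.leaf 3))))) (.node (.node (.node (.node (.leaf 0) (.leaf 0)) (.node (.leaf 3) (.leaf 3))) (.node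 (.node (.leaf 0) (.leaf 3)) (.node (.leaf 0) (.leaf 3)))) (.node (.node (.node (.leaf 3) (.leaf 3)) (.node (.leaf 3) (.leaf 3))) (.node (.node (.leaf 0) (.leaf 3)) (.node (.leaf 3) (.leaf 3)))))) (.node (.node (.node (.node (.node (.leaf 0) (.leaf 3)) (.node (.leaf 3) (.leaf 0))) (.node (.node (.leaf 0) (.leaf 0)) (.node (.leaf 3) (.leaf 3)))) (.node (.node (.node (.leaf 3) (.leaf 3)) (.node (.leaf 0) (.leaf 3))) (.node (.node (.leaf 0) (.leaf 3)) (.node (.leaf 3) (.leaf 3))))) (.node (.node (.node (.node (.leaf 0) (.leaf 3)) (.node (.leaf 0) (.leaf 3))) (.node (.node (.leaf 3) (.leaf 3)) (.node (.leaf 3) (.leaf 3)))) (.node (.node (.node (.leaf 0) (.leaf 3)) (.node (.leaf 3) (.leaf 3))) (.node (.node (.leaf 0) (.leaf 3)) (.node (.leaf 0) (.leaf 3))))))) (.node (.node (.node (.node (.node (.node (.node (.leaf 0) (.leaf 2)) (.leaf 0)) (.node (.leaf 3) (.leaf 3))) (.node (.node (.leaf 3) (.leaf 3)) (.node (.leaf 3)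 (.leaf 0)))) (.node (.node (.node (.leaf 0) (.leaf 3)) (.node (.leaf 3) (.leaf 3))) (.node (.node (.leaf 3) (.leaf 3)) (.node (.leaf 0) (.leaf 3))))) (.node (.node (.node (.node (.leaf 0) (.leaf 3)) (.node (.leaf 0) (.leaf 3))) (.node (.node (.leaf 0) (.leaf 3)) (.node (.leaf 3) (.leaf 0)))) (.node (.node (.node (.leaf 0) (.leaf 3)) (.node (.leaf 0) (.leaf 3))) (.node (.node (.leaf 3) (.leaf 0)) (.node (.leaf 3) (.leaf 3)))))) (.node (.node (.node (.node (.node (.leaf 3) (.leaf 3)) (.node (.leaf 3) (.leaf 3))) (.node (.node (.leaf 0) (.leaf 3)) (.node (.leaf 0) (.leaf 3)))) (.node (.node (.node (.leaf 0) (.leaf 3)) (.node (.leaf 0) (.leaf 3))) (.node (.node (.leaf 0) (.leaf 3)) (.node (.leaf 0) (.leaf 3))))) (.node (.node (.node (.node (.leaf 0) (.leaf 3)) (.node (.leaf 3) (.leaf 3))) (.node (.node (.leaf 3) (.leaf 0)) (.node (.leaf 3) (.leaf 3)))) (.node (.node (.node (.leaf 0) (.leaf 3)) (.node (.leaf 3) (.leaf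 3))) (.node (.node (.leaf 3) (.leaf 0)) (.node (.leaf 3) (.leaf 3))))))))))

def twoKind4 : Janko.Tree (ℕ) :=
  (.node (.node (.node (.node (.node (.node (.node (.node (.node (.node (.leaf 3) (.leaf 2)) (.leaf 3)) (.node (.leaf 3) (.leaf 3))) (.node (.node (.leaf 3) (.leaf 3)) (.node (.leaf 3) (.leaf 3)))) (.node (.node (.node (.leaf 0) (.leaf 3)) (.node (.leaf 3) (.leaf 3))) (.node (.node (.leaf 0) (.leaf 3)) (.node (.leaf 3) (.leaf 3))))) (.node (.node (.node (.node (.leaf 3) (.leaf 3)) (.node (.leaf 3) (.leaf 3))) (.node (.node (.leaf 3) (.leaf 3)) (.node (.leaf 3) (.leaf 3)))) (.node (.node (.node (.leaf 3) (.leaf 3)) (.node (.leaf 3) (.leaf 3))) (.node (.node (.leaf 3) (.leaf 3)) (.node (.leaf 3) (.leaf 3)))))) (.node (.node (.node (.node (.node (.leaf 3) (.leaf 3)) (.node (.leaf 3) (.leaf 3))) (.node (.node (.leaf 3) (.leaf 3)) (.node (.leaf 3) (.leaf 3)))) (.node (.node (.node (.leaf 3) (.leaf 3)) (.node (.leaf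 3) (.leaf 3))) (.node (.node (.leaf 3) (.leaf 3)) (.node (.leaf 3) (.leaf 3))))) (.node (.node (.node (.node (.leaf 0) (.leaf 3)) (.node (.leaf 3) (.leaf 3))) (.node (.node (.leaf 0) (.leaf 0)) (.node (.leaf 3) (.leaf 3)))) (.node (.node (.node (.leaf 0) (.leaf 3)) (.node (.leaf 3) (.leaf 3))) (.node (.node (.leaf 3) (.leaf 3)) (.node (.leaf 3) (.leaf 3))))))) (.node (.node (.node (.node (.node (.node (.node (.leaf 3) (.leaf 3)) (.leaf 3)) (.node (.leaf 3) (.leaf 3))) (.node (.node (.leaf 0) (.leaf 0)) (.node (.leaf 3) (.leaf 3)))) (.node (.node (.node (.leaf 0) (.leaf 3)) (.node (.leaf 3) (.leaf 3))) (.node (.node (.leaf 3) (.leaf 3)) (.node (.leaf 3) (.leaf 3))))) (.node (.node (.node (.node (.leaf 3) (.leaf 3)) (.node (.leaf 3) (.leaf 3))) (.node (.node (.leaf 0) (.leaf 3)) (.node (.leaf 3) (.leaf 3)))) (.node (.node (.node (.leaf 0) (.leaf 3)) (.node (.leaf 3) (.leaf 3))) (.node (.node (.leaf 3) (.leaf 3)) (.node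 (.leaf 3) (.leaf 3)))))) (.node (.node (.node (.node (.node (.leaf 3) (.leaf 0)) (.node (.leaf 0) (.leaf 3))) (.node (.node (.leaf 0) (.leaf 3)) (.node (.leaf 3) (.leaf 3)))) (.node (.node (.node (.leaf 0) (.leaf 3)) (.node (.leaf 3) (.leaf 3))) (.node (.node (.leaf 3) (.leaf 3)) (.node (.leaf 3) (.leaf 3))))) (.node (.node (.node (.node (.leaf 0) (.leaf 3)) (.node (.leaf 3) (.leaf 3))) (.node (.node (.leaf 3) (.leaf 3)) (.node (.leaf 3) (.leaf 3)))) (.node (.node (.node (.leaf 3) (.leaf 3)) (.node (.leaf 3) (.leaf 3))) (.node (.node (.leaf 3) (.leaf 3)) (.node (.leaf 3) (.leaf 3)))))))) (.node (.node (.node (.node (.node (.node (.node (.node (.leaf 3) (.leaf 2)) (.leaf 0)) (.node (.leaf 3) (.leaf 0))) (.node (.node (.leaf 0) (.leaf 3)) (.node (.leaf 0) (.leaf 3)))) (.node (.node (.node (.leaf 0) (.leaf 3)) (.node (.leaf 3) (.leaf 3))) (.node (.node (.leaf 3) (.leaf 3)) (.node (.leaf 0) (.leaf 3))))) (.node (.node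 (.node (.node (.leaf 3) (.leaf 0)) (.node (.leaf 3) (.leaf 3))) (.node (.node (.leaf 3) (.leaf 0)) (.node (.leaf 0) (.leaf 3)))) (.node (.node (.node (.leaf 3) (.leaf 3)) (.node (.leaf 3) (.leaf 3))) (.node (.node (.leaf 0) (.leaf 3)) (.node (.leaf 3) (.leaf 3)))))) (.node (.node (.node (.node (.node (.leaf 3) (.leaf 3)) (.node (.leaf 3) (.leaf 3))) (.node (.node (.leaf 3) (.leaf 3)) (.node (.leaf 0) (.leaf 3)))) (.node (.node (.node (.leaf 0) (.leaf 3)) (.node (.leaf 0) (.leaf 3))) (.node (.node (.leaf 3) (.leaf 3)) (.node (.leaf 3) (.leaf 3))))) (.node (.node (.node (.node (.leaf 3) (.leaf 0)) (.node (.leaf 0) (.leaf 3))) (.node (.node (.leaf 3) (.leaf 0)) (.node (.leaf 3) (.leaf 3)))) (.node (.node (.node (.leaf 0) (.leaf 3)) (.node (.leaf 3) (.leaf 3))) (.node (.node (.leaf 0) (.leaf 3)) (.node (.leaf 0) (.leaf 3))))))) (.node (.node (.node (.node (.node (.node (.node (.leaf 3) (.leaf 3)) (.leaf 3)) (.node (.leaf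 0) (.leaf 3))) (.node (.node (.leaf 3) (.leaf 3)) (.node (.leaf 3) (.leaf 3)))) (.node (.node (.node (.leaf 3) (.leaf 0)) (.node (.leaf 3) (.leaf 3))) (.node (.node (.leaf 0) (.leaf 3)) (.node (.leaf 3) (.leaf 3))))) (.node (.node (.node (.node (.leaf 0) (.leaf 3)) (.node (.leaf 3) (.leaf 3))) (.node (.node (.leaf 3) (.leaf 0)) (.node (.leaf 3) (.leaf 3)))) (.node (.node (.node (.leaf 3) (.leaf 3)) (.node (.leaf 3) (.leaf 3))) (.node (.node (.leaf 3) (.leaf 3)) (.node (.leaf 3) (.leaf 3)))))) (.node (.node (.node (.node (.node (.leaf 3) (.leaf 3)) (.node (.leaf 3) (.leaf 3))) (.node (.node (.leaf 3) (.leaf 3)) (.node (.leaf 3) (.leaf 3)))) (.node (.node (.node (.leaf 0) (.leaf 3)) (.node (.leaf 3) (.leaf 3))) (.node (.node (.leaf 3) (.leaf 3)) (.node (.leaf 3) (.leaf 3))))) (.node (.node (.node (.node (.leaf 0) (.leaf 3)) (.node (.leaf 3) (.leaf 3))) (.node (.node (.leaf 3) (.leaf 3)) (.node (.leaf 3) (.leaf 3))))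 (.node (.node (.node (.leaf 3) (.leaf 3)) (.node (.leaf 3) (.leaf 3))) (.node (.node (.leaf 0) (.leaf 3)) (.node (.leaf 3) (.leaf 3))))))))) (.node (.node (.node (.node (.node (.node (.node (.node (.node (.leaf 0) (.leaf 2)) (.leaf 3)) (.node (.leaf 3) (.leaf 3))) (.node (.node (.leaf 3) (.leaf 3)) (.node (.leaf 3) (.leaf 3)))) (.node (.node (.node (.leaf 3) (.leaf 3)) (.node (.leaf 3) (.leaf 3))) (.node (.node (.leaf 3) (.leaf 3)) (.node (.leaf 3) (.leaf 3))))) (.node (.node (.node (.node (.leaf 0) (.leaf 3)) (.node (.leaf 3) (.leaf 3))) (.node (.node (.leaf 3) (.leaf 0)) (.node (.leaf 3) (.leaf 3)))) (.node (.node (.node (.leaf 3) (.leaf 3)) (.node (.leaf 3) (.leaf 3))) (.node (.node (.leaf 3) (.leaf 3)) (.node (.leaf 0) (.leaf 3)))))) (.node (.node (.node (.node (.node (.leaf 3) (.leaf 3)) (.node (.leaf 3) (.leaf 3))) (.node (.node (.leaf 0) (.leaf 3)) (.node (.leaf 3) (.leaf 3)))) (.node (.node (.node (.leaf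 0) (.leaf 3)) (.node (.leaf 3) (.leaf 3))) (.node (.node (.leaf 3) (.leaf 3)) (.node (.leaf 3) (.leaf 3))))) (.node (.node (.node (.node (.leaf 3) (.leaf 0)) (.node (.leaf 3) (.leaf 3))) (.node (.node (.leaf 3) (.leaf 0)) (.node (.leaf 3) (.leaf 3)))) (.node (.node (.node (.leaf 3) (.leaf 3)) (.node (.leaf 0) (.leaf 3))) (.node (.node (.leaf 3) (.leaf 3)) (.node (.leaf 3) (.leaf 3))))))) (.node (.node (.node (.node (.node (.node (.node (.leaf 3) (.leaf 3)) (.leaf 0)) (.node (.leaf 3) (.leaf 3))) (.node (.node (.leaf 3) (.leaf 3)) (.node (.leaf 3) (.leaf 3)))) (.node (.node (.node (.leaf 3) (.leaf 3)) (.node (.leaf 0) (.leaf 3))) (.node (.node (.leaf 3) (.leaf 0)) (.node (.leaf 3) (.leaf 3))))) (.node (.node (.node (.node (.leaf 3) (.leaf 3)) (.node (.leaf 3) (.leaf 3))) (.node (.node (.leaf 3) (.leaf 3)) (.node (.leaf 3) (.leaf 3)))) (.node (.node (.node (.leaf 3) (.leaf 3)) (.node (.leaf 3) (.leaf 3))) (.node (.node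 (.leaf 0) (.leaf 3)) (.node (.leaf 3) (.leaf 3)))))) (.node (.node (.node (.node (.node (.leaf 0) (.leaf 3)) (.node (.leaf 3) (.leaf 3))) (.node (.node (.leaf 3) (.leaf 3)) (.node (.leaf 3) (.leaf 3)))) (.node (.node (.node (.leaf 3) (.leaf 3)) (.node (.leaf 3) (.leaf 3))) (.node (.node (.leaf 3) (.leaf 3)) (.node (.leaf 3) (.leaf 3))))) (.node (.node (.node (.node (.leaf 3) (.leaf 3)) (.node (.leaf 3) (.leaf 0))) (.node (.node (.leaf 0) (.leaf 3)) (.node (.leaf 0) (.leaf 3)))) (.node (.node (.node (.leaf 0) (.leaf 3)) (.node (.leaf 3) (.leaf 3))) (.node (.node (.leaf 0) (.leaf 3)) (.node (.leaf 3) (.leaf 3)))))))) (.node (.node (.node (.node (.node (.node (.node (.node (.leaf 0) (.leaf 3)) (.leaf 3)) (.node (.leaf 0) (.leaf 3))) (.node (.node (.leaf 3) (.leaf 3)) (.node (.leaf 3) (.leaf 3)))) (.node (.node (.node (.leaf 3) (.leaf 3)) (.node (.leaf 3) (.leaf 3))) (.node (.node (.leaf 3) (.leaf 3)) (.node (.leaf 3)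 (.leaf 3))))) (.node (.node (.node (.node (.leaf 3) (.leaf 0)) (.node (.leaf 3) (.leaf 3))) (.node (.node (.leaf 3) (.leaf 3)) (.node (.leaf 3) (.leaf 3)))) (.node (.node (.node (.leaf 3) (.leaf 3)) (.node (.leaf 0) (.leaf 3))) (.node (.node (.leaf 3) (.leaf 3)) (.node (.leaf 3) (.leaf 3)))))) (.node (.node (.node (.node (.node (.leaf 0) (.leaf 3)) (.node (.leaf 3) (.leaf 3))) (.node (.node (.leaf 3) (.leaf 0)) (.node (.leaf 3) (.leaf 3)))) (.node (.node (.node (.leaf 3) (.leaf 3)) (.node (.leaf 3) (.leaf 3))) (.node (.node (.leaf 3) (.leaf 3)) (.node (.leaf 0) (.leaf 3))))) (.node (.node (.node (.node (.leaf 0) (.leaf 0)) (.node (.leaf 3) (.leaf 3))) (.node (.node (.leaf 3) (.leaf 3)) (.node (.leaf 3) (.leaf 3)))) (.node (.node (.node (.leaf 3) (.leaf 3)) (.node (.leaf 3) (.leaf 3))) (.node (.node (.leaf 3) (.leaf 3)) (.node (.leaf 3) (.leaf 3))))))) (.node (.node (.node (.node (.node (.node (.leaf 0) (.leaf 3))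 (.node (.leaf 3) (.leaf 3))) (.node (.node (.leaf 3) (.leaf 3)) (.node (.leaf 3) (.leaf 3)))) (.node (.node (.node (.leaf 0) (.leaf 3)) (.node (.leaf 3) (.leaf 3))) (.node (.node (.leaf 3) (.leaf 3)) (.node (.leaf 0) (.leaf 3))))) (.node (.node (.node (.node (.leaf 3) (.leaf 0)) (.node (.leaf 0) (.leaf 3))) (.node (.node (.leaf 0) (.leaf 3)) (.node (.leaf 3) (.leaf 3)))) (.node (.node (.node (.leaf 3) (.leaf 3)) (.node (.leaf 3) (.leaf 3))) (.node (.node (.leaf 3) (.leaf 3)) (.node (.leaf 3) (.leaf 3)))))) (.node (.node (.node (.node (.node (.leaf 0) (.leaf 3)) (.node (.leaf 3) (.leaf 3))) (.node (.node (.leaf 0) (.leaf 3)) (.node (.leaf 0) (.leaf 3)))) (.node (.node (.node (.leaf 3) (.leaf 3)) (.node (.leaf 0) (.leaf 3))) (.node (.node (.leaf 0) (.leaf 3)) (.node (.leaf 3) (.leaf 3))))) (.node (.node (.node (.node (.leaf 3) (.leaf 3)) (.node (.leaf 3) (.leaf 3))) (.node (.node (.leaf 3) (.leaf 3)) (.node (.leaf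 3) (.leaf 3)))) (.node (.node (.node (.leaf 3) (.leaf 3)) (.node (.leaf 3) (.leaf 3))) (.node (.node (.leaf 3) (.leaf 3)) (.node (.leaf 3) (.leaf 3))))))))))

def twoKind5 : Janko.Tree (ℕ) :=
  (.node (.node (.node (.node (.node (.node (.node (.node (.node (.node (.leaf 0) (.leaf 2)) (.leaf 3)) (.node (.leaf 0) (.leaf 3))) (.node (.node (.leaf 3) (.leaf 3)) (.node (.leaf 3) (.leaf 3)))) (.node (.node (.node (.leaf 3) (.leaf 3)) (.node (.leaf 3) (.leaf 3))) (.node (.node (.leaf 3) (.leaf 3)) (.node (.leaf 3) (.leaf 3))))) (.node (.node (.node (.node (.leaf 3) (.leaf 0)) (.node (.leaf 3) (.leaf 3))) (.node (.node (.leaf 0) (.leaf 0)) (.node (.leaf 3) (.leaf 3)))) (.node (.node (.node (.leaf 3) (.leaf 3)) (.node (.leaf 3) (.leaf 3))) (.node (.node (.leaf 3) (.leaf 3)) (.node (.leaf 0) (.leaf 3)))))) (.node (.node (.node (.node (.node (.leaf 3) (.leaf 3)) (.node (.leaf 3) (.leaf 3))) (.node (.node (.leaf 3) (.leaf 3))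 (.node (.leaf 3) (.leaf 3)))) (.node (.node (.node (.leaf 0) (.leaf 3)) (.node (.leaf 3) (.leaf 3))) (.node (.node (.leaf 0) (.leaf 3)) (.node (.leaf 3) (.leaf 3))))) (.node (.node (.node (.node (.leaf 0) (.leaf 3)) (.node (.leaf 3) (.leaf 3))) (.node (.node (.leaf 3) (.leaf 3)) (.node (.leaf 3) (.leaf 3)))) (.node (.node (.node (.leaf 3) (.leaf 3)) (.node (.leaf 0) (.leaf 3))) (.node (.node (.leaf 3) (.leaf 3)) (.node (.leaf 3) (.leaf 3))))))) (.node (.node (.node (.node (.node (.node (.node (.leaf 3) (.leaf 3)) (.leaf 3)) (.node (.leaf 3) (.leaf 3))) (.node (.node (.leaf 3) (.leaf 0)) (.node (.leaf 3) (.leaf 3)))) (.node (.node (.node (.leaf 0) (.leaf 3)) (.node (.leaf 3) (.leaf 3))) (.node (.node (.leaf 0) (.leaf 3)) (.node (.leaf 3) (.leaf 3))))) (.node (.node (.node (.node (.leaf 3) (.leaf 3)) (.node (.leaf 3) (.leaf 3))) (.node (.node (.leaf 3) (.leaf 3)) (.node (.leaf 3) (.leaf 3)))) (.node (.node (.node (.leaf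 0) (.leaf 3)) (.node (.leaf 3) (.leaf 3))) (.node (.node (.leaf 0) (.leaf 3)) (.node (.leaf 3) (.leaf 3)))))) (.node (.node (.node (.node (.node (.leaf 3) (.leaf 3)) (.node (.leaf 0) (.leaf 3))) (.node (.node (.leaf 0) (.leaf 3)) (.node (.leaf 3) (.leaf 3)))) (.node (.node (.node (.leaf 3) (.leaf 3)) (.node (.leaf 3) (.leaf 3))) (.node (.node (.leaf 3) (.leaf 3)) (.node (.leaf 3) (.leaf 3))))) (.node (.node (.node (.node (.leaf 0) (.leaf 3)) (.node (.leaf 3) (.leaf 3))) (.node (.node (.leaf 0) (.leaf 3)) (.node (.leaf 3) (.leaf 3)))) (.node (.node (.node (.leaf 3) (.leaf 3)) (.node (.leaf 3) (.leaf 3))) (.node (.node (.leaf 3) (.leaf 3)) (.node (.leaf 3) (.leaf 3)))))))) (.node (.node (.node (.node (.node (.node (.node (.node (.leaf 3) (.leaf 3)) (.leaf 0)) (.node (.leaf 0) (.leaf 0))) (.node (.node (.leaf 3) (.leaf 3)) (.node (.leaf 0) (.leaf 3)))) (.node (.node (.node (.leaf 0) (.leaf 3)) (.node (.leaf 3) (.leaf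 3))) (.node (.node (.leaf 3) (.leaf 3)) (.node (.leaf 0) (.leaf 3))))) (.node (.node (.node (.node (.leaf 3) (.leaf 3)) (.node (.leaf 3) (.leaf 3))) (.node (.node (.leaf 3) (.leaf 3)) (.node (.leaf 0) (.leaf 3)))) (.node (.node (.node (.leaf 3) (.leaf 3)) (.node (.leaf 3) (.leaf 3))) (.node (.node (.leaf 0) (.leaf 3)) (.node (.leaf 3) (.leaf 3)))))) (.node (.node (.node (.node (.node (.leaf 3) (.leaf 0)) (.node (.leaf 0) (.leaf 3))) (.node (.node (.leaf 3) (.leaf 3)) (.node (.leaf 0) (.leaf 3)))) (.node (.node (.node (.leaf 0) (.leaf 3)) (.node (.leaf 0) (.leaf 3))) (.node (.node (.leaf 3) (.leaf 3)) (.node (.leaf 3) (.leaf 3))))) (.node (.node (.node (.node (.leaf 3) (.leaf 3)) (.node (.leaf 0) (.leaf 3))) (.node (.node (.leaf 0) (.leaf 3)) (.node (.leaf 3) (.leaf 3)))) (.node (.node (.node (.leaf 0) (.leaf 3)) (.node (.leaf 3) (.leaf 3))) (.node (.node (.leaf 3) (.leaf 3)) (.node (.leaf 0) (.leaf 3))))))) (.node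 (.node (.node (.node (.node (.node (.node (.leaf 3) (.leaf 3)) (.leaf 3)) (.node (.leaf 3) (.leaf 3))) (.node (.node (.leaf 3) (.leaf 0)) (.node (.leaf 3) (.leaf 3)))) (.node (.node (.node (.leaf 3) (.leaf 3)) (.node (.leaf 3) (.leaf 3))) (.node (.node (.leaf 0) (.leaf 3)) (.node (.leaf 0) (.leaf 3))))) (.node (.node (.node (.node (.leaf 0) (.leaf 3)) (.node (.leaf 3) (.leaf 3))) (.node (.node (.leaf 3) (.leaf 3)) (.node (.leaf 3) (.leaf 3)))) (.node (.node (.node (.leaf 3) (.leaf 0)) (.node (.leaf 3) (.leaf 3))) (.node (.node (.leaf 0) (.leaf 3)) (.node (.leaf 3) (.leaf 3)))))) (.node (.node (.node (.node (.node (.leaf 0) (.leaf 3)) (.node (.leaf 0) (.leaf 3))) (.node (.node (.leaf 0) (.leaf 3)) (.node (.leaf 3) (.leaf 3)))) (.node (.node (.node (.leaf 0) (.leaf 3)) (.node (.leaf 0) (.leaf 3))) (.node (.node (.leaf 3) (.leaf 3)) (.node (.leaf 3) (.leaf 3))))) (.node (.node (.node (.node (.leaf 3) (.leaf 3)) (.node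 (.leaf 3) (.leaf 3))) (.node (.node (.leaf 3) (.leaf 3)) (.node (.leaf 3) (.leaf 3)))) (.node (.node (.node (.leaf 3) (.leaf 3)) (.node (.leaf 3) (.leaf 3))) (.node (.node (.leaf 3) (.leaf 3)) (.node (.leaf 3) (.leaf 3))))))))) (.node (.node (.node (.node (.node (.node (.node (.node (.node (.leaf 0) (.leaf 2)) (.leaf 3)) (.node (.leaf 3) (.leaf 3))) (.node (.node (.leaf 0) (.leaf 3)) (.node (.leaf 3) (.leaf 0)))) (.node (.node (.node (.leaf 3) (.leaf 3)) (.node (.leaf 3) (.leaf 3))) (.node (.node (.leaf 0) (.leaf 3)) (.node (.leaf 3) (.leaf 3))))) (.node (.node (.node (.node (.leaf 0) (.leaf 0)) (.node (.leaf 3) (.leaf 3))) (.node (.node (.leaf 3) (.leaf 3)) (.node (.leaf 3) (.leaf 3)))) (.node (.node (.node (.leaf 3) (.leaf 3)) (.node (.leaf 0) (.leaf 3))) (.node (.node (.leaf 3) (.leaf 3)) (.node (.leaf 0) (.leaf 3)))))) (.node (.node (.node (.node (.node (.leaf 3) (.leaf 3)) (.node (.leaf 3) (.leaf 3))) (.node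 (.node (.leaf 0) (.leaf 0)) (.node (.leaf 3) (.leaf 3)))) (.node (.node (.node (.leaf 3) (.leaf 3)) (.node (.leaf 3) (.leaf 3))) (.node (.node (.leaf 3) (.leaf 3)) (.node (.leaf 0) (.leaf 3))))) (.node (.node (.node (.node (.leaf 3) (.leaf 3)) (.node (.leaf 3) (.leaf 3))) (.node (.node (.leaf 3) (.leaf 3)) (.node (.leaf 3) (.leaf 3)))) (.node (.node (.node (.leaf 3) (.leaf 3)) (.node (.leaf 0) (.leaf 3))) (.node (.node (.leaf 3) (.leaf 3)) (.node (.leaf 3) (.leaf 3))))))) (.node (.node (.node (.node (.node (.node (.node (.leaf 3) (.leaf 3)) (.leaf 0)) (.node (.leaf 0) (.leaf 3))) (.node (.node (.leaf 0) (.leaf 3)) (.node (.leaf 3) (.leaf 3)))) (.node (.node (.node (.leaf 3) (.leaf 3)) (.node (.leaf 0) (.leaf 3))) (.node (.node (.leaf 3) (.leaf 3)) (.node (.leaf 3) (.leaf 3))))) (.node (.node (.node (.node (.leaf 0) (.leaf 3)) (.node (.leaf 3) (.leaf 3))) (.node (.node (.leaf 3) (.leaf 3)) (.node (.leaf 3) (.leaf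 3)))) (.node (.node (.node (.leaf 3) (.leaf 3)) (.node (.leaf 3) (.leaf 3))) (.node (.node (.leaf 3) (.leaf 0)) (.node (.leaf 3) (.leaf 3)))))) (.node (.node (.node (.node (.node (.leaf 0) (.leaf 3)) (.node (.leaf 3) (.leaf 3))) (.node (.node (.leaf 3) (.leaf 3)) (.node (.leaf 3) (.leaf 3)))) (.node (.node (.node (.leaf 3) (.leaf 3)) (.node (.leaf 3) (.leaf 3))) (.node (.node (.leaf 3) (.leaf 3)) (.node (.leaf 3) (.leaf 3))))) (.node (.node (.node (.node (.leaf 0) (.leaf 3)) (.node (.leaf 3) (.leaf 3))) (.node (.node (.leaf 3) (.leaf 3)) (.node (.leaf 0) (.leaf 3)))) (.node (.node (.node (.leaf 0) (.leaf 3)) (.node (.leaf 3) (.leaf 3))) (.node (.node (.leaf 0) (.leaf 3)) (.node (.leaf 3) (.leaf 3)))))))) (.node (.node (.node (.node (.node (.node (.node (.node (.leaf 0) (.leaf 3)) (.leaf 3)) (.node (.leaf 3) (.leaf 3))) (.node (.node (.leaf 0) (.leaf 3)) (.node (.leaf 3) (.leaf 3)))) (.node (.node (.node (.leaf 3)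 (.leaf 3)) (.node (.leaf 3) (.leaf 3))) (.node (.node (.leaf 3) (.leaf 3)) (.node (.leaf 3) (.leaf 3))))) (.node (.node (.node (.node (.leaf 3) (.leaf 3)) (.node (.leaf 3) (.leaf 3))) (.node (.node (.leaf 3) (.leaf 3)) (.node (.leaf 3) (.leaf 3)))) (.node (.node (.node (.leaf 3) (.leaf 3)) (.node (.leaf 0) (.leaf 3))) (.node (.node (.leaf 3) (.leaf 3)) (.node (.leaf 0) (.leaf 3)))))) (.node (.node (.node (.node (.node (.leaf 0) (.leaf 3)) (.node (.leaf 3) (.leaf 3))) (.node (.node (.leaf 3) (.leaf 3)) (.node (.leaf 3) (.leaf 3)))) (.node (.node (.node (.leaf 0) (.leaf 3)) (.node (.leaf 3) (.leaf 3))) (.node (.node (.leaf 3) (.leaf 3)) (.node (.leaf 0) (.leaf 3))))) (.node (.node (.node (.node (.leaf 0) (.leaf 3)) (.node (.leaf 3) (.leaf 3))) (.node (.node (.leaf 3) (.leaf 3)) (.node (.leaf 3) (.leaf 3)))) (.node (.node (.node (.leaf 3) (.leaf 3)) (.node (.leaf 0) (.leaf 3))) (.node (.node (.leaf 3) (.leaf 3)) (.node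 (.leaf 3) (.leaf 3))))))) (.node (.node (.node (.node (.node (.node (.leaf 0) (.leaf 0)) (.node (.leaf 0) (.leaf 3))) (.node (.node (.leaf 3) (.leaf 3)) (.node (.leaf 3) (.leaf 3)))) (.node (.node (.node (.leaf 3) (.leaf 3)) (.node (.leaf 3) (.leaf 3))) (.node (.node (.leaf 3) (.leaf 3)) (.node (.leaf 3) (.leaf 3))))) (.node (.node (.node (.node (.leaf 3) (.leaf 3)) (.node (.leaf 0) (.leaf 3))) (.node (.node (.leaf 0) (.leaf 3)) (.node (.leaf 0) (.leaf 3)))) (.node (.node (.node (.leaf 0) (.leaf 3)) (.node (.leaf 3) (.leaf 3))) (.node (.node (.leaf 3) (.leaf 3)) (.node (.leaf 3) (.leaf 3)))))) (.node (.node (.node (.node (.node (.leaf 3) (.leaf 3)) (.node (.leaf 3) (.leaf 3))) (.node (.node (.leaf 3) (.leaf 0)) (.node (.leaf 0) (.leaf 3)))) (.node (.node (.node (.leaf 3) (.leaf 3)) (.node (.leaf 3) (.leaf 3))) (.node (.node (.leaf 0) (.leaf 3)) (.node (.leaf 3) (.leaf 3))))) (.node (.node (.node (.node (.leaf 0)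 (.leaf 3)) (.node (.leaf 0) (.leaf 3))) (.node (.node (.leaf 0) (.leaf 3)) (.node (.leaf 3) (.leaf 3)))) (.node (.node (.node (.leaf 3) (.leaf 3)) (.node (.leaf 3) (.leaf 3))) (.node (.node (.leaf 3) (.leaf 3)) (.node (.leaf 3) (.leaf 3))))))))))

def twoKind6 : Janko.Tree (ℕ) :=
  (.node (.node (.node (.node (.node (.node (.node (.node (.node (.node (.leaf 0) (.leaf 3)) (.leaf 0)) (.node (.leaf 3) (.leaf 3))) (.node (.node (.leaf 0) (.leaf 3)) (.node (.leaf 3) (.leaf 0)))) (.node (.node (.node (.leaf 3) (.leaf 0)) (.node (.leaf 3) (.leaf 3))) (.node (.node (.leaf 3) (.leaf 0)) (.node (.leaf 0) (.leaf 3))))) (.node (.node (.node (.node (.leaf 0) (.leaf 3)) (.node (.leaf 0) (.leaf 3))) (.node (.node (.leaf 3) (.leaf 3)) (.node (.leaf 0) (.leaf 3)))) (.node (.node (.node (.leaf 0) (.leaf 0)) (.node (.leaf 0) (.leaf 3))) (.node (.node (.leaf 0) (.leaf 3)) (.node (.leaf 3) (.leaf 3)))))) (.node (.node (.node (.node (.node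 (.leaf 0) (.leaf 3)) (.node (.leaf 3) (.leaf 3))) (.node (.node (.leaf 0) (.leaf 3)) (.node (.leaf 0) (.leaf 3)))) (.node (.node (.node (.leaf 0) (.leaf 3)) (.node (.leaf 0) (.leaf 3))) (.node (.node (.leaf 3) (.leaf 0)) (.node (.leaf 0) (.leaf 3))))) (.node (.node (.node (.node (.leaf 0) (.leaf 3)) (.node (.leaf 0) (.leaf 3))) (.node (.node (.leaf 3) (.leaf 3)) (.node (.leaf 3) (.leaf 3)))) (.node (.node (.node (.leaf 3) (.leaf 3)) (.node (.leaf 3) (.leaf 3))) (.node (.node (.leaf 0) (.leaf 3)) (.node (.leaf 3) (.leaf 3))))))) (.node (.node (.node (.node (.node (.node (.node (.leaf 0) (.leaf 3)) (.leaf 3)) (.node (.leaf 0) (.leaf 3))) (.node (.node (.leaf 3) (.leaf 3)) (.node (.leaf 3) (.leaf 3)))) (.node (.node (.node (.leaf 3) (.leaf 3)) (.node (.leaf 3) (.leaf 3))) (.node (.node (.leaf 3) (.leaf 0)) (.node (.leaf 3) (.leaf 3))))) (.node (.node (.node (.node (.leaf 0) (.leaf 3)) (.node (.leaf 3) (.leaf 3))) (.node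 (.node (.leaf 3) (.leaf 0)) (.node (.leaf 0) (.leaf 0)))) (.node (.node (.node (.leaf 0) (.leaf 3)) (.node (.leaf 0) (.leaf 0))) (.node (.node (.leaf 0) (.leaf 0)) (.node (.leaf 3) (.leaf 3)))))) (.node (.node (.node (.node (.node (.leaf 0) (.leaf 3)) (.node (.leaf 3) (.leaf 0))) (.node (.node (.leaf 3) (.leaf 3)) (.node (.leaf 3) (.leaf 3)))) (.node (.node (.node (.leaf 3) (.leaf 0)) (.node (.leaf 3) (.leaf 3))) (.node (.node (.leaf 3) (.leaf 3)) (.node (.leaf 0) (.leaf 3))))) (.node (.node (.node (.node (.leaf 3) (.leaf 3)) (.node (.leaf 0) (.leaf 3))) (.node (.node (.leaf 0) (.leaf 0)) (.node (.leaf 3) (.leaf 3)))) (.node (.node (.node (.leaf 0) (.leaf 3)) (.node (.leaf 3) (.leaf 0))) (.node (.node (.leaf 0) (.leaf 3)) (.node (.leaf 3) (.leaf 3)))))))) (.node (.node (.node (.node (.node (.node (.node (.node (.leaf 0) (.leaf 3)) (.leaf 3)) (.node (.leaf 0) (.leaf 3))) (.node (.node (.leaf 0) (.leaf 3)) (.node (.leaf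 3) (.leaf 3)))) (.node (.node (.node (.leaf 3) (.leaf 0)) (.node (.leaf 0) (.leaf 3))) (.node (.node (.leaf 3) (.leaf 3)) (.node (.leaf 3) (.leaf 3))))) (.node (.node (.node (.node (.leaf 0) (.leaf 3)) (.node (.leaf 3) (.leaf 3))) (.node (.node (.leaf 0) (.leaf 0)) (.node (.leaf 3) (.leaf 3)))) (.node (.node (.node (.leaf 3) (.leaf 3)) (.node (.leaf 0) (.leaf 3))) (.node (.node (.leaf 3) (.leaf 3)) (.node (.leaf 0) (.leaf 3)))))) (.node (.node (.node (.node (.node (.leaf 0) (.leaf 3)) (.node (.leaf 3) (.leaf 0))) (.node (.node (.leaf 0) (.leaf 3)) (.node (.leaf 3) (.leaf 3)))) (.node (.node (.node (.leaf 3) (.leaf 3)) (.node (.leaf 3) (.leaf 3))) (.node (.node (.leaf 0) (.leaf 3)) (.node (.leaf 0) (.leaf 3))))) (.node (.node (.node (.node (.leaf 0) (.leaf 3)) (.node (.leaf 3) (.leaf 3))) (.node (.node (.leaf 3) (.leaf 3)) (.node (.leaf 0) (.leaf 3)))) (.node (.node (.node (.leaf 0) (.leaf 0)) (.node (.leaf 0) (.leaf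 0))) (.node (.node (.leaf 3) (.leaf 3)) (.node (.leaf 3) (.leaf 3))))))) (.node (.node (.node (.node (.node (.node (.node (.leaf 0) (.leaf 3)) (.leaf 0)) (.node (.leaf 3) (.leaf 3))) (.node (.node (.leaf 3) (.leaf 0)) (.node (.leaf 3) (.leaf 3)))) (.node (.node (.node (.leaf 0) (.leaf 3)) (.node (.leaf 0) (.leaf 3))) (.node (.node (.leaf 3) (.leaf 0)) (.node (.leaf 0) (.leaf 3))))) (.node (.node (.node (.node (.leaf 0) (.leaf 0)) (.node (.leaf 0) (.leaf 3))) (.node (.node (.leaf 0) (.leaf 3)) (.node (.leaf 3) (.leaf 3)))) (.node (.node (.node (.leaf 0) (.leaf 3)) (.node (.leaf 0) (.leaf 3))) (.node (.node (.leaf 3) (.leaf 0)) (.node (.leaf 3) (.leaf 3)))))) (.node (.node (.node (.node (.node (.leaf 3) (.leaf 3)) (.node (.leaf 3) (.leaf 0))) (.node (.node (.leaf 0) (.leaf 0)) (.node (.leaf 0) (.leaf 3)))) (.node (.node (.node (.leaf 3) (.leaf 3)) (.node (.leaf 0) (.leaf 3))) (.node (.node (.leaf 0) (.leaf 3)) (.node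 (.leaf 0) (.leaf 3))))) (.node (.node (.node (.node (.leaf 3) (.leaf 0)) (.node (.leaf 3) (.leaf 3))) (.node (.node (.leaf 0) (.leaf 3)) (.node (.leaf 0) (.leaf 3)))) (.node (.node (.node (.leaf 0) (.leaf 3)) (.node (.leaf 3) (.leaf 0))) (.node (.node (.leaf 3) (.leaf 3)) (.node (.leaf 3) (.leaf 3))))))))) (.node (.node (.node (.node (.node (.node (.node (.node (.node (.leaf 3) (.leaf 2)) (.leaf 0)) (.node (.leaf 0) (.leaf 3))) (.node (.node (.leaf 0) (.leaf 3)) (.node (.leaf 0) (.leaf 3)))) (.node (.node (.node (.leaf 0) (.leaf 0)) (.node (.leaf 0) (.leaf 3))) (.node (.node (.leaf 3) (.leaf 0)) (.node (.leaf 0) (.leaf 3))))) (.node (.node (.node (.node (.leaf 3) (.leaf 3)) (.node (.leaf 0) (.leaf 0))) (.node (.node (.leaf 3) (.leaf 3)) (.node (.leaf 3) (.leaf 0)))) (.node (.node (.node (.leaf 0) (.leaf 3)) (.node (.leaf 3) (.leaf 0))) (.node (.node (.leaf 0) (.leaf 3)) (.node (.leaf 3) (.leaf 3)))))) (.node (.node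 (.node (.node (.node (.leaf 0) (.leaf 3)) (.node (.leaf 0) (.leaf 3))) (.node (.node (.leaf 0) (.leaf 3)) (.node (.leaf 0) (.leaf 0)))) (.node (.node (.node (.leaf 3) (.leaf 0)) (.node (.leaf 0) (.leaf 3))) (.node (.node (.leaf 3) (.leaf 3)) (.node (.leaf 3) (.leaf 3))))) (.node (.node (.node (.node (.leaf 0) (.leaf 3)) (.node (.leaf 3) (.leaf 3))) (.node (.node (.leaf 0) (.leaf 3)) (.node (.leaf 0) (.leaf 3)))) (.node (.node (.node (.leaf 0) (.leaf 3)) (.node (.leaf 3) (.leaf 3))) (.node (.node (.leaf 0) (.leaf 0)) (.node (.leaf 0) (.leaf 3))))))) (.node (.node (.node (.node (.node (.node (.node (.leaf 0) (.leaf 3)) (.leaf 3)) (.node (.leaf 0) (.leaf 3))) (.node (.node (.leaf 3) (.leaf 0)) (.node (.leaf 0) (.leaf 0)))) (.node (.node (.node (.leaf 0) (.leaf 0)) (.node (.leaf 0) (.leaf 3))) (.node (.node (.leaf 0) (.leaf 3)) (.node (.leaf 3) (.leaf 3))))) (.node (.node (.node (.node (.leaf 0) (.leaf 0)) (.node (.leaf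 0) (.leaf 3))) (.node (.node (.leaf 0) (.leaf 0)) (.node (.leaf 3) (.leaf 3)))) (.node (.node (.node (.leaf 0) (.leaf 0)) (.node (.leaf 3) (.leaf 0))) (.node (.node (.leaf 3) (.leaf 3)) (.node (.leaf 0) (.leaf 3)))))) (.node (.node (.node (.node (.node (.leaf 3) (.leaf 3)) (.node (.leaf 0) (.leaf 3))) (.node (.node (.leaf 0) (.leaf 3)) (.node (.leaf 0) (.leaf 3)))) (.node (.node (.node (.leaf 3) (.leaf 3)) (.node (.leaf 3) (.leaf 3))) (.node (.node (.leaf 3) (.leaf 3)) (.node (.leaf 3) (.leaf 3))))) (.node (.node (.node (.node (.leaf 0) (.leaf 0)) (.node (.leaf 3) (.leaf 3))) (.node (.node (.leaf 3) (.leaf 0)) (.node (.leaf 0) (.leaf 3)))) (.node (.node (.node (.leaf 3) (.leaf 3)) (.node (.leaf 0) (.leaf 3))) (.node (.node (.leaf 3) (.leaf 3)) (.node (.leaf 0) (.leaf 3)))))))) (.node (.node (.node (.node (.node (.node (.node (.node (.leaf 0) (.leaf 3)) (.leaf 0)) (.node (.leaf 3) (.leaf 3))) (.node (.node (.leaf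 0) (.leaf 3)) (.node (.leaf 0) (.leaf 3)))) (.node (.node (.node (.leaf 0) (.leaf 3)) (.node (.leaf 3) (.leaf 3))) (.node (.node (.leaf 0) (.leaf 3)) (.node (.leaf 0) (.leaf 3))))) (.node (.node (.node (.node (.leaf 3) (.leaf 0)) (.node (.leaf 3) (.leaf 0))) (.node (.node (.leaf 0) (.leaf 3)) (.node (.leaf 0) (.leaf 3)))) (.node (.node (.node (.leaf 0) (.leaf 3)) (.node (.leaf 3) (.leaf 0))) (.node (.node (.leaf 0) (.leaf 3)) (.node (.leaf 3) (.leaf 3)))))) (.node (.node (.node (.node (.node (.leaf 3) (.leaf 3)) (.node (.leaf 0) (.leaf 3))) (.node (.node (.leaf 0) (.leaf 3)) (.node (.leaf 0) (.leaf 3)))) (.node (.node (.node (.leaf 0) (.leaf 3)) (.node (.leaf 0) (.leaf 3))) (.node (.node (.leaf 0) (.leaf 0)) (.node (.leaf 3) (.leaf 3))))) (.node (.node (.node (.node (.leaf 3) (.leaf 3)) (.node (.leaf 0) (.leaf 3))) (.node (.node (.leaf 0) (.leaf 3)) (.node (.leaf 3) (.leaf 3)))) (.node (.node (.node (.leaf 0) (.leaf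 3)) (.node (.leaf 3) (.leaf 3))) (.node (.node (.leaf 0) (.leaf 3)) (.node (.leaf 0) (.leaf 3))))))) (.node (.node (.node (.node (.node (.node (.leaf 3) (.leaf 0)) (.node (.leaf 3) (.leaf 3))) (.node (.node (.leaf 0) (.leaf 3)) (.node (.leaf 3) (.leaf 0)))) (.node (.node (.node (.leaf 3) (.leaf 0)) (.node (.leaf 3) (.leaf 3))) (.node (.node (.leaf 0) (.leaf 3)) (.node (.leaf 0) (.leaf 3))))) (.node (.node (.node (.node (.leaf 0) (.leaf 3)) (.node (.leaf 3) (.leaf 3))) (.node (.node (.leaf 3) (.leaf 3)) (.node (.leaf 3) (.leaf 3)))) (.node (.node (.node (.leaf 0) (.leaf 0)) (.node (.leaf 3) (.leaf 0))) (.node (.node (.leaf 3) (.leaf 3)) (.node (.leaf 3) (.leaf 3)))))) (.node (.node (.node (.node (.node (.leaf 3) (.leaf 0)) (.node (.leaf 3) (.leaf 3))) (.node (.node (.leaf 3) (.leaf 3)) (.node (.leaf 3) (.leaf 3)))) (.node (.node (.node (.leaf 0) (.leaf 3)) (.node (.leaf 0) (.leaf 3))) (.node (.node (.leaf 0) (.leaf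 0)) (.node (.leaf 3) (.leaf 3))))) (.node (.node (.node (.node (.leaf 3) (.leaf 3)) (.node (.leaf 3) (.leaf 3))) (.node (.node (.leaf 0) (.leaf 0)) (.node (.leaf 3) (.leaf 3)))) (.node (.node (.node (.leaf 3) (.leaf 3)) (.node (.leaf 3) (.leaf 3))) (.node (.node (.leaf 0) (.leaf 3)) (.node (.leaf 3) (.leaf 3))))))))))

def twoKind7 : Janko.Tree (ℕ) :=
  (.node (.node (.node (.node (.node (.node (.node (.node (.node (.node (.leaf 0) (.leaf 3)) (.leaf 3)) (.node (.leaf 0) (.leaf 3))) (.node (.node (.leaf 0) (.leaf 3)) (.node (.leaf 0) (.leaf 3)))) (.node (.node (.node (.leaf 0) (.leaf 3)) (.node (.leaf 0) (.leaf 3))) (.node (.node (.leaf 3) (.leaf 3)) (.node (.leaf 3) (.leaf 3))))) (.node (.node (.node (.node (.leaf 0) (.leaf 3)) (.node (.leaf 3) (.leaf 3))) (.node (.node (.leaf 0) (.leaf 0)) (.node (.leaf 3) (.leaf 3)))) (.node (.node (.node (.leaf 3) (.leaf 3)) (.node (.leaf 3) (.leaf 3))) (.node (.node (.leaf 3)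 (.leaf 3)) (.node (.leaf 0) (.leaf 3)))))) (.node (.node (.node (.node (.node (.leaf 3) (.leaf 3)) (.node (.leaf 0) (.leaf 3))) (.node (.node (.leaf 3) (.leaf 3)) (.node (.leaf 3) (.leaf 3)))) (.node (.node (.node (.leaf 3) (.leaf 0)) (.node (.leaf 3) (.leaf 0))) (.node (.node (.leaf 0) (.leaf 3)) (.node (.leaf 3) (.leaf 3))))) (.node (.node (.node (.node (.leaf 3) (.leaf 3)) (.node (.leaf 3) (.leaf 0))) (.node (.node (.leaf 0) (.leaf 0)) (.node (.leaf 0) (.leaf 3)))) (.node (.node (.node (.leaf 3) (.leaf 0)) (.node (.leaf 0) (.leaf 3))) (.node (.node (.leaf 3) (.leaf 0)) (.node (.leaf 0) (.leaf 3))))))) (.node (.node (.node (.node (.node (.node (.node (.leaf 3) (.leaf 3)) (.leaf 3)) (.node (.leaf 3) (.leaf 3))) (.node (.node (.leaf 3) (.leaf 0)) (.node (.leaf 3) (.leaf 3)))) (.node (.node (.node (.leaf 0) (.leaf 0)) (.node (.leaf 3) (.leaf 3))) (.node (.node (.leaf 0) (.leaf 3)) (.node (.leaf 3) (.leaf 3))))) (.node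 (.node (.node (.node (.leaf 0) (.leaf 3)) (.node (.leaf 0) (.leaf 3))) (.node (.node (.leaf 0) (.leaf 3)) (.node (.leaf 3) (.leaf 3)))) (.node (.node (.node (.leaf 3) (.leaf 3)) (.node (.leaf 0) (.leaf 3))) (.node (.node (.leaf 0) (.leaf 3)) (.node (.leaf 3) (.leaf 3)))))) (.node (.node (.node (.node (.node (.leaf 0) (.leaf 3)) (.node (.leaf 3) (.leaf 3))) (.node (.node (.leaf 0) (.leaf 0)) (.node (.leaf 0) (.leaf 3)))) (.node (.node (.node (.leaf 3) (.leaf 3)) (.node (.leaf 3) (.leaf 3))) (.node (.node (.leaf 0) (.leaf 3)) (.node (.leaf 0) (.leaf 3))))) (.node (.node (.node (.node (.leaf 0) (.leaf 0)) (.node (.leaf 3) (.leaf 3))) (.node (.node (.leaf 0) (.leaf 3)) (.node (.leaf 3) (.leaf 3)))) (.node (.node (.node (.leaf 0) (.leaf 3)) (.node (.leaf 3) (.leaf 3))) (.node (.node (.leaf 0) (.leaf 3)) (.node (.leaf 3) (.leaf 3)))))))) (.node (.node (.node (.node (.node (.node (.node (.node (.leaf 0) (.leaf 3)) (.leaf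 0)) (.node (.leaf 0) (.leaf 0))) (.node (.node (.leaf 3) (.leaf 3)) (.node (.leaf 3) (.leaf 3)))) (.node (.node (.node (.leaf 0) (.leaf 3)) (.node (.leaf 0) (.leaf 3))) (.node (.node (.leaf 0) (.leaf 3)) (.node (.leaf 0) (.leaf 3))))) (.node (.node (.node (.node (.leaf 3) (.leaf 0)) (.node (.leaf 0) (.leaf 3))) (.node (.node (.leaf 3) (.leaf 3)) (.node (.leaf 0) (.leaf 3)))) (.node (.node (.node (.leaf 3) (.leaf 3)) (.node (.leaf 0) (.leaf 3))) (.node (.node (.leaf 0) (.leaf 3)) (.node (.leaf 3) (.leaf 3)))))) (.node (.node (.node (.node (.node (.leaf 0) (.leaf 3)) (.node (.leaf 0) (.leaf 3))) (.node (.node (.leaf 3) (.leaf 0)) (.node (.leaf 0) (.leaf 3)))) (.node (.node (.node (.leaf 0) (.leaf 3)) (.node (.leaf 0) (.leaf 3))) (.node (.node (.leaf 3) (.leaf 0)) (.node (.leaf 0) (.leaf 3))))) (.node (.node (.node (.node (.leaf 0) (.leaf 0)) (.node (.leaf 0) (.leaf 3))) (.node (.node (.leaf 0) (.leaf 3)) (.node (.leaf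 0) (.leaf 3)))) (.node (.node (.node (.leaf 3) (.leaf 3)) (.node (.leaf 3) (.leaf 3))) (.node (.node (.leaf 0) (.leaf 3)) (.node (.leaf 3) (.leaf 3))))))) (.node (.node (.node (.node (.node (.node (.node (.leaf 0) (.leaf 3)) (.leaf 3)) (.node (.leaf 3) (.leaf 3))) (.node (.node (.leaf 0) (.leaf 0)) (.node (.leaf 3) (.leaf 3)))) (.node (.node (.node (.leaf 0) (.leaf 3)) (.node (.leaf 3) (.leaf 3))) (.node (.node (.leaf 3) (.leaf 0)) (.node (.leaf 0) (.leaf 3))))) (.node (.node (.node (.node (.leaf 3) (.leaf 3)) (.node (.leaf 3) (.leaf 0))) (.node (.node (.leaf 0) (.leaf 3)) (.node (.leaf 3) (.leaf 3)))) (.node (.node (.node (.leaf 3) (.leaf 0)) (.node (.leaf 3) (.leaf 3))) (.node (.node (.leaf 0) (.leaf 3)) (.node (.leaf 0) (.leaf 3)))))) (.node (.node (.node (.node (.node (.leaf 0) (.leaf 0)) (.node (.leaf 0) (.leaf 3))) (.node (.node (.leaf 0) (.leaf 3)) (.node (.leaf 3) (.leaf 3)))) (.node (.node (.node (.leaf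 3) (.leaf 3)) (.node (.leaf 0) (.leaf 3))) (.node (.node (.leaf 3) (.leaf 3)) (.node (.leaf 3) (.leaf 3))))) (.node (.node (.node (.node (.leaf 3) (.leaf 3)) (.node (.leaf 3) (.leaf 0))) (.node (.node (.leaf 3) (.leaf 3)) (.node (.leaf 3) (.leaf 3)))) (.node (.node (.node (.leaf 3) (.leaf 3)) (.node (.leaf 0) (.leaf 3))) (.node (.node (.leaf 0) (.leaf 3)) (.node (.leaf 3) (.leaf 3))))))))) (.node (.node (.node (.node (.node (.node (.node (.node (.node (.leaf 0) (.leaf 3)) (.leaf 3)) (.node (.leaf 3) (.leaf 3))) (.node (.node (.leaf 0) (.leaf 3)) (.node (.leaf 3) (.leaf 3)))) (.node (.node (.node (.leaf 0) (.leaf 3)) (.node (.leaf 3) (.leaf 3))) (.node (.node (.leaf 0) (.leaf 3)) (.node (.leaf 0) (.leaf 3))))) (.node (.node (.node (.node (.leaf 0) (.leaf 0)) (.node (.leaf 0) (.leaf 3))) (.node (.node (.leaf 0) (.leaf 0)) (.node (.leaf 3) (.leaf 3)))) (.node (.node (.node (.leaf 3) (.leaf 3)) (.node (.leaf 0) (.leaf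 3))) (.node (.node (.leaf 3) (.leaf 3)) (.node (.leaf 3) (.leaf 3)))))) (.node (.node (.node (.node (.node (.leaf 0) (.leaf 3)) (.node (.leaf 3) (.leaf 0))) (.node (.node (.leaf 3) (.leaf 3)) (.node (.leaf 3) (.leaf 3)))) (.node (.node (.node (.leaf 0) (.leaf 3)) (.node (.leaf 0) (.leaf 3))) (.node (.node (.leaf 3) (.leaf 3)) (.node (.leaf 0) (.leaf 3))))) (.node (.node (.node (.node (.leaf 3) (.leaf 0)) (.node (.leaf 3) (.leaf 3))) (.node (.node (.leaf 0) (.leaf 0)) (.node (.leaf 3) (.leaf 3)))) (.node (.node (.node (.leaf 3) (.leaf 0)) (.node (.leaf 3) (.leaf 0))) (.node (.node (.leaf 0) (.leaf 3)) (.node (.leaf 3) (.leaf 3))))))) (.node (.node (.node (.node (.node (.node (.node (.leaf 0) (.leaf 3)) (.leaf 0)) (.node (.leaf 0) (.leaf 3))) (.node (.node (.leaf 0) (.leaf 3)) (.node (.leaf 3) (.leaf 3)))) (.node (.node (.node (.leaf 0) (.leaf 3)) (.node (.leaf 3) (.leaf 3))) (.node (.node (.leaf 3) (.leaf 3)) (.node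 (.leaf 3) (.leaf 3))))) (.node (.node (.node (.node (.leaf 0) (.leaf 3)) (.node (.leaf 3) (.leaf 3))) (.node (.node (.leaf 3) (.leaf 3)) (.node (.leaf 3) (.leaf 3)))) (.node (.node (.node (.leaf 3) (.leaf 3)) (.node (.leaf 3) (.leaf 3))) (.node (.node (.leaf 3) (.leaf 0)) (.node (.leaf 3) (.leaf 3)))))) (.node (.node (.node (.node (.node (.leaf 0) (.leaf 0)) (.node (.leaf 3) (.leaf 3))) (.node (.node (.leaf 3) (.leaf 0)) (.node (.leaf 3) (.leaf 3)))) (.node (.node (.node (.leaf 0) (.leaf 3)) (.node (.leaf 3) (.leaf 3))) (.node (.node (.leaf 0) (.leaf 3)) (.node (.leaf 3) (.leaf 3))))) (.node (.node (.node (.node (.leaf 0) (.leaf 3)) (.node (.leaf 3) (.leaf 3))) (.node (.node (.leaf 3) (.leaf 3)) (.node (.leaf 3) (.leaf 3)))) (.node (.node (.node (.leaf 0) (.leaf 3)) (.node (.leaf 3) (.leaf 3))) (.node (.node (.leaf 0) (.leaf 3)) (.node (.leaf 3) (.leaf 3)))))))) (.node (.node (.node (.node (.node (.node (.node (.node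 (.leaf 3) (.leaf 3)) (.leaf 3)) (.node (.leaf 3) (.leaf 3))) (.node (.node (.leaf 0) (.leaf 3)) (.node (.leaf 3) (.leaf 3)))) (.node (.node (.node (.leaf 0) (.leaf 3)) (.node (.leaf 3) (.leaf 3))) (.node (.node (.leaf 3) (.leaf 0)) (.node (.leaf 3) (.leaf 3))))) (.node (.node (.node (.node (.leaf 3) (.leaf 3)) (.node (.leaf 0) (.leaf 3))) (.node (.node (.leaf 0) (.leaf 3)) (.node (.leaf 0) (.leaf 3)))) (.node (.node (.node (.leaf 0) (.leaf 3)) (.node (.leaf 3) (.leaf 3))) (.node (.node (.leaf 3) (.leaf 3)) (.node (.leaf 0) (.leaf 3)))))) (.node (.node (.node (.node (.node (.leaf 0) (.leaf 0)) (.node (.leaf 3) (.leaf 3))) (.node (.node (.leaf 3) (.leaf 3)) (.node (.leaf 3) (.leaf 3)))) (.node (.node (.node (.leaf 0) (.leaf 0)) (.node (.leaf 3) (.leaf 3))) (.node (.node (.leaf 0) (.leaf 3)) (.node (.leaf 3) (.leaf 3))))) (.node (.node (.node (.node (.leaf 0) (.leaf 3)) (.node (.leaf 0) (.leaf 3))) (.node (.node (.leaf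 3) (.leaf 0)) (.node (.leaf 3) (.leaf 3)))) (.node (.node (.node (.leaf 0) (.leaf 3)) (.node (.leaf 0) (.leaf 3))) (.node (.node (.leaf 3) (.leaf 3)) (.node (.leaf 3) (.leaf 3))))))) (.node (.node (.node (.node (.node (.node (.leaf 0) (.leaf 0)) (.node (.leaf 0) (.leaf 0))) (.node (.node (.leaf 3) (.leaf 3)) (.node (.leaf 0) (.leaf 3)))) (.node (.node (.node (.leaf 0) (.leaf 0)) (.node (.leaf 3) (.leaf 0))) (.node (.node (.leaf 3) (.leaf 0)) (.node (.leaf 3) (.leaf 3))))) (.node (.node (.node (.node (.leaf 0) (.leaf 3)) (.node (.leaf 3) (.leaf 3))) (.node (.node (.leaf 0) (.leaf 3)) (.node (.leaf 0) (.leaf 3)))) (.node (.node (.node (.leaf 0) (.leaf 3)) (.node (.leaf 3) (.leaf 3))) (.node (.node (.leaf 0) (.leaf 0)) (.node (.leaf 0) (.leaf 3)))))) (.node (.node (.node (.node (.node (.leaf 0) (.leaf 3)) (.node (.leaf 3) (.leaf 3))) (.node (.node (.leaf 3) (.leaf 3)) (.node (.leaf 3) (.leaf 0)))) (.node (.node (.node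 (.leaf 0) (.leaf 3)) (.node (.leaf 3) (.leaf 3))) (.node (.node (.leaf 3) (.leaf 3)) (.node (.leaf 3) (.leaf 3))))) (.node (.node (.node (.node (.leaf 0) (.leaf 3)) (.node (.leaf 0) (.leaf 3))) (.node (.node (.leaf 0) (.leaf 3)) (.node (.leaf 3) (.leaf 3)))) (.node (.node (.node (.leaf 3) (.leaf 3)) (.node (.leaf 0) (.leaf 3))) (.node (.node (.leaf 0) (.leaf 3)) (.node (.leaf 0) (.leaf 3))))))))))

def twoKind : Janko.Tree (ℕ) := (.node (.node (.node twoKind0 twoKind4) (.node twoKind2 twoKind6)) (.node (.node twoKind1 twoKind5) (.node twoKind3 twoKind7)))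

def twoRank0 : Janko.Tree (ℕ) :=
  (.node (.node (.node (.node (.node (.node (.node (.node (.node (.node (.leaf 0) (.leaf 1023)) (.leaf 3423)) (.node (.leaf 3655) (.leaf 1058))) (.node (.node (.leaf 1167) (.leaf 860)) (.node (.leaf 3273) (.leaf 3016)))) (.node (.node (.node (.leaf 147) (.leaf 1089)) (.node (.leaf 2510) (.leaf 2211))) (.node (.node (.leaf 2086) (.leaf 3268)) (.node (.leaf 691) (.leaf 3633))))) (.node (.node (.node (.node (.leaf 2150) (.leaf 2232)) (.node (.leaf 2672) (.leaf 3909))) (.node (.node (.leaf 2105) (.leaf 2065)) (.node (.leaf 3776) (.leaf 3774)))) (.node (.node (.node (.leaf 212) (.leaf 1083)) (.node (.leaf 3153) (.leaf 2055))) (.node (.node (.leaf 1149) (.leaf 3112)) (.node (.leaf 1103) (.leaf 3943)))))) (.node (.node (.node (.node (.node (.leaf 42) (.leaf 2058)) (.node (.leaf 2592) (.leaf 3510))) (.node (.node (.leaf 3092) (.leaf 1076)) (.node (.leaf 3431) (.leaf 3670)))) (.node (.node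 (.node (.leaf 1176) (.leaf 840)) (.node (.leaf 565) (.leaf 3849))) (.node (.node (.leaf 2099) (.leaf 2186)) (.node (.leaf 3095) (.leaf 3779))))) (.node (.node (.node (.node (.leaf 2212) (.leaf 3159)) (.node (.leaf 3798) (.leaf 2337))) (.node (.node (.leaf 2300) (.leaf 2129)) (.node (.leaf 2491) (.leaf 3790)))) (.node (.node (.node (.leaf 2098) (.leaf 1080)) (.node (.leaf 1122) (.leaf 1039))) (.node (.node (.leaf 2717) (.leaf 3128)) (.node (.leaf 3214) (.leaf 3961))))))) (.node (.node (.node (.node (.node (.node (.node (.leaf 23) (.leaf 2362)) (.leaf 3884)) (.node (.leaf 1141) (.leaf 3734))) (.node (.node (.leaf 2092) (.leaf 3324)) (.node (.leaf 2311) (.leaf 1035)))) (.node (.node (.node (.leaf 164) (.leaf 2071)) (.node (.leaf 3113) (.leaf 2381))) (.node (.node (.leaf 2101) (.leaf 2373)) (.node (.leaf 704) (.leaf 4044))))) (.node (.node (.node (.node (.leaf 1183) (.leaf 3771)) (.node (.leaf 3191) (.leaf 3723))) (.node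 (.node (.leaf 333) (.leaf 3731)) (.node (.leaf 668) (.leaf 3087)))) (.node (.node (.node (.leaf 2194) (.leaf 3956)) (.node (.leaf 1123) (.leaf 3299))) (.node (.node (.leaf 427) (.leaf 3752)) (.node (.leaf 2358) (.leaf 2802)))))) (.node (.node (.node (.node (.node (.leaf 1185) (.leaf 3409)) (.node (.leaf 1138) (.leaf 1053))) (.node (.node (.leaf 3149) (.leaf 2067)) (.node (.leaf 3162) (.leaf 1016)))) (.node (.node (.node (.leaf 2104) (.leaf 2567)) (.node (.leaf 578) (.leaf 3682))) (.node (.node (.leaf 403) (.leaf 4085)) (.node (.leaf 1104) (.leaf 1026))))) (.node (.node (.node (.node (.leaf 2310) (.leaf 2259)) (.node (.leaf 542) (.leaf 3517))) (.node (.node (.leaf 359) (.leaf 2319)) (.node (.leaf 3150) (.leaf 3069)))) (.node (.node (.node (.leaf 254) (.leaf 2912)) (.node (.leaf 2366) (.leaf 4151))) (.node (.node (.leaf 1144) (.leaf 3452)) (.node (.leaf 2308) (.leaf 2954)))))))) (.node (.node (.node (.node (.node (.node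 (.node (.node (.leaf 12) (.leaf 2437)) (.leaf 1098)) (.node (.leaf 471) (.leaf 3490))) (.node (.node (.leaf 2094) (.leaf 4027)) (.node (.leaf 2626) (.leaf 3864)))) (.node (.node (.node (.leaf 2151) (.leaf 4023)) (.node (.leaf 3435) (.leaf 4065))) (.node (.node (.leaf 2608) (.leaf 2225)) (.node (.leaf 3234) (.leaf 4025))))) (.node (.node (.node (.node (.leaf 89) (.leaf 2869)) (.node (.leaf 515) (.leaf 3796))) (.node (.node (.leaf 2629) (.leaf 2276)) (.node (.leaf 2329) (.leaf 3397)))) (.node (.node (.node (.leaf 3115) (.leaf 3000)) (.node (.leaf 3525) (.leaf 4039))) (.node (.node (.leaf 3114) (.leaf 2414)) (.node (.leaf 1102) (.leaf 2198)))))) (.node (.node (.node (.node (.node (.leaf 51) (.leaf 3562)) (.node (.leaf 2093) (.leaf 2959))) (.node (.node (.leaf 1163) (.leaf 879)) (.node (.leaf 1117) (.leaf 3404)))) (.node (.node (.node (.leaf 2305) (.leaf 1085)) (.node (.leaf 3270) (.leaf 3838))) (.node (.node (.leaf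 2693) (.leaf 2434)) (.node (.leaf 3474) (.leaf 3871))))) (.node (.node (.node (.node (.leaf 1181) (.leaf 3264)) (.node (.leaf 2341) (.leaf 3496))) (.node (.node (.leaf 3821) (.leaf 1071)) (.node (.leaf 3425) (.leaf 3970)))) (.node (.node (.node (.leaf 2214) (.leaf 1079)) (.node (.leaf 1121) (.leaf 2438))) (.node (.node (.leaf 445) (.leaf 2059)) (.node (.leaf 2697) (.leaf 3625))))))) (.node (.node (.node (.node (.node (.node (.node (.leaf 32) (.leaf 2185)) (.leaf 776)) (.node (.leaf 2080) (.leaf 1055))) (.node (.node (.leaf 2683) (.leaf 872)) (.node (.leaf 2682) (.leaf 3886)))) (.node (.node (.node (.leaf 171) (.leaf 1087)) (.node (.leaf 3272) (.leaf 2874))) (.node (.node (.leaf 1152) (.leaf 2247)) (.node (.leaf 3645) (.leaf 3341))))) (.node (.node (.node (.node (.leaf 2110) (.leaf 3412)) (.node (.leaf 1135) (.leaf 2191))) (.node (.node (.leaf 1158) (.leaf 1073)) (.node (.leaf 1112) (.leaf 3899)))) (.node (.node (.node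 (.leaf 1171) (.leaf 1081)) (.node (.leaf 2250) (.leaf 3387))) (.node (.node (.leaf 2097) (.leaf 3879)) (.node (.leaf 742) (.leaf 3726)))))) (.node (.node (.node (.node (.node (.leaf 2117) (.leaf 2505)) (.node (.leaf 2091) (.leaf 2230))) (.node (.node (.leaf 315) (.leaf 2484)) (.node (.leaf 1116) (.leaf 3973)))) (.node (.node (.node (.leaf 203) (.leaf 3265)) (.node (.leaf 3711) (.leaf 2916))) (.node (.node (.leaf 3258) (.leaf 2234)) (.node (.leaf 2246) (.leaf 4131))))) (.node (.node (.node (.node (.leaf 2108) (.leaf 824)) (.node (.leaf 1131) (.leaf 2213))) (.node (.node (.leaf 1155) (.leaf 3641)) (.node (.leaf 3232) (.leaf 3853)))) (.node (.node (.node (.leaf 263) (.leaf 4102)) (.node (.leaf 616) (.leaf 4030))) (.node (.node (.leaf 2292) (.leaf 3430)) (.node (.leaf 2641) (.leaf 3701))))))))) (.node (.node (.node (.node (.node (.node (.node (.node (.node (.leaf 2120) (.leaf 2172)) (.leaf 3175)) (.node (.leaf 2332)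 (.leaf 3908))) (.node (.node (.leaf 274) (.leaf 1078)) (.node (.leaf 623) (.leaf 1036)))) (.node (.node (.node (.leaf 2138) (.leaf 3236)) (.node (.leaf 2500) (.leaf 3577))) (.node (.node (.leaf 2103) (.leaf 4055)) (.node (.leaf 3665) (.leaf 4135))))) (.node (.node (.node (.node (.leaf 2159) (.leaf 2075)) (.node (.leaf 510) (.leaf 1052))) (.node (.node (.leaf 2627) (.leaf 2926)) (.node (.leaf 4116) (.leaf 2805)))) (.node (.node (.node (.leaf 2255) (.leaf 3151)) (.node (.leaf 3882) (.leaf 990))) (.node (.node (.leaf 416) (.leaf 3081)) (.node (.leaf 3370) (.leaf 2200)))))) (.node (.node (.node (.node (.node (.leaf 1187) (.leaf 1096)) (.node (.leaf 2594) (.leaf 2999))) (.node (.node (.leaf 2201) (.leaf 3202)) (.node (.leaf 3439) (.leaf 1032)))) (.node (.node (.node (.leaf 184) (.leaf 2188)) (.node (.leaf 3811) (.leaf 3511))) (.node (.node (.leaf 2691) (.leaf 1065)) (.node (.leaf 4118) (.leaf 3896))))) (.node (.node (.node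 (.node (.leaf 120) (.leaf 2127)) (.node (.leaf 3728) (.leaf 1048))) (.node (.node (.leaf 2298) (.leaf 3221)) (.node (.leaf 2481) (.leaf 3895)))) (.node (.node (.node (.leaf 241) (.leaf 3133)) (.node (.leaf 3527) (.leaf 2431))) (.node (.node (.leaf 1145) (.leaf 1059)) (.node (.leaf 749) (.leaf 3684))))))) (.node (.node (.node (.node (.node (.node (.node (.leaf 1189) (.leaf 2979)) (.leaf 3292)) (.node (.leaf 483) (.leaf 3762))) (.node (.node (.leaf 2107) (.leaf 869)) (.node (.leaf 3122) (.leaf 3521)))) (.node (.node (.node (.leaf 2162) (.leaf 2383)) (.node (.leaf 2189) (.leaf 3354))) (.node (.node (.leaf 2635) (.leaf 1067)) (.node (.leaf 1107) (.leaf 3769))))) (.node (.node (.node (.node (.leaf 101) (.leaf 3995)) (.node (.leaf 3315) (.leaf 3979))) (.node (.node (.leaf 338) (.leaf 3183)) (.node (.leaf 3663) (.leaf 3800)))) (.node (.node (.node (.leaf 226) (.leaf 4140)) (.node (.leaf 600) (.leaf 3668))) (.node (.node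 (.leaf 2084) (.leaf 1061)) (.node (.leaf 2356) (.leaf 3336)))))) (.node (.node (.node (.node (.node (.leaf 66) (.leaf 2077)) (.node (.leaf 1137) (.leaf 3293))) (.node (.node (.leaf 312) (.leaf 2486)) (.node (.leaf 3402) (.leaf 2173)))) (.node (.node (.node (.leaf 1174) (.leaf 3842)) (.node (.leaf 1126) (.leaf 3125))) (.node (.node (.leaf 3098) (.leaf 3220)) (.node (.leaf 726) (.leaf 4004))))) (.node (.node (.node (.node (.leaf 2306) (.leaf 2336)) (.node (.leaf 3813) (.leaf 3007))) (.node (.node (.leaf 2088) (.leaf 917)) (.node (.leaf 2180) (.leaf 1028)))) (.node (.node (.node (.leaf 3097) (.leaf 3138)) (.node (.leaf 2449) (.leaf 3198))) (.node (.node (.leaf 457) (.leaf 3839)) (.node (.leaf 3131) (.leaf 3930)))))))) (.node (.node (.node (.node (.node (.node (.node (.node (.leaf 17) (.leaf 2412)) (.leaf 3738)) (.node (.leaf 2082) (.leaf 1057))) (.node (.node (.leaf 281) (.leaf 3985)) (.node (.leaf 1119) (.leaf 4093))))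 (.node (.node (.node (.leaf 1178) (.leaf 2228)) (.node (.leaf 557) (.leaf 1045))) (.node (.node (.leaf 2610) (.leaf 2061)) (.node (.leaf 701) (.leaf 3478))))) (.node (.node (.node (.node (.leaf 93) (.leaf 2231)) (.node (.leaf 3226) (.leaf 3716))) (.node (.node (.leaf 1159) (.leaf 3806)) (.node (.leaf 1114) (.leaf 1029)))) (.node (.node (.node (.leaf 1172) (.leaf 2452)) (.node (.leaf 594) (.leaf 1041))) (.node (.node (.leaf 424) (.leaf 3881)) (.node (.leaf 2079) (.leaf 4000)))))) (.node (.node (.node (.node (.node (.leaf 2163) (.leaf 786)) (.node (.leaf 2726) (.leaf 3269))) (.node (.node (.leaf 304) (.leaf 3180)) (.node (.leaf 3936) (.leaf 1031)))) (.node (.node (.node (.leaf 2303) (.leaf 2558)) (.node (.leaf 575) (.leaf 4017))) (.node (.node (.leaf 398) (.leaf 2436)) (.node (.leaf 720) (.leaf 3781))))) (.node (.node (.node (.node (.leaf 127) (.leaf 1091)) (.node (.leaf 1133) (.leaf 2261))) (.node (.node (.leaf 2344)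 (.leaf 2252)) (.node (.leaf 683) (.leaf 3140)))) (.node (.node (.node (.leaf 1169) (.leaf 2069)) (.node (.leaf 2085) (.leaf 3756))) (.node (.node (.leaf 450) (.leaf 2884)) (.node (.leaf 1100) (.leaf 3766))))))) (.node (.node (.node (.node (.node (.node (.node (.leaf 2167) (.leaf 2355)) (.leaf 779)) (.node (.leaf 2095) (.leaf 2057))) (.node (.node (.leaf 2685) (.leaf 2054)) (.node (.leaf 3938) (.leaf 3246)))) (.node (.node (.node (.leaf 2147) (.leaf 2251)) (.node (.leaf 1129) (.leaf 3309))) (.node (.node (.leaf 1151) (.leaf 933)) (.node (.leaf 2062) (.leaf 4063))))) (.node (.node (.node (.node (.leaf 110) (.leaf 1093)) (.node (.leaf 526) (.leaf 1049))) (.node (.node (.leaf 345) (.leaf 3110)) (.node (.leaf 2083) (.leaf 3543)))) (.node (.node (.node (.leaf 232) (.leaf 3954)) (.node (.leaf 3271) (.leaf 2182))) (.node (.node (.leaf 2719) (.leaf 1060)) (.node (.leaf 745) (.leaf 4126)))))) (.node (.node (.node (.node (.node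 (.leaf 76) (.leaf 2503)) (.node (.leaf 2670) (.leaf 2993))) (.node (.node (.leaf 2090) (.leaf 2275)) (.node (.leaf 652) (.leaf 3537)))) (.node (.node (.node (.leaf 1173) (.leaf 2239)) (.node (.leaf 2072) (.leaf 3988))) (.node (.node (.leaf 2196) (.leaf 1063)) (.node (.leaf 3233) (.leaf 3519))))) (.node (.node (.node (.node (.leaf 2113) (.leaf 3690)) (.node (.leaf 2089) (.leaf 3556))) (.node (.node (.leaf 371) (.leaf 1069)) (.node (.leaf 1110) (.leaf 1027)))) (.node (.node (.node (.leaf 266) (.leaf 3424)) (.node (.leaf 619) (.leaf 3868))) (.node (.node (.leaf 2290) (.leaf 953)) (.node (.leaf 3740) (.leaf 3624))))))))))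

def twoRank1 : Janko.Tree (ℕ) :=
  (.node (.node (.node (.node (.node (.node (.node (.node (.node (.node (.leaf 1) (.leaf 1191)) (.leaf 1266)) (.node (.leaf 2415) (.leaf 956))) (.node (.node (.leaf 269) (.leaf 861)) (.node (.leaf 2622) (.leaf 3033)))) (.node (.node (.node (.leaf 148) (.leaf 3552)) (.node (.leaf 2506) (.leaf 3581))) (.node (.node (.leaf 1323) (.leaf 2460)) (.node (.leaf 3384) (.leaf 3522))))) (.node (.node (.node (.node (.leaf 2148) (.leaf 795)) (.node (.leaf 2638) (.leaf 3983))) (.node (.node (.leaf 1328) (.leaf 1241)) (.node (.leaf 3473) (.leaf 3848)))) (.node (.node (.node (.leaf 2696) (.leaf 3319)) (.node (.leaf 2532) (.leaf 1211))) (.node (.node (.leaf 2133) (.leaf 3314)) (.node (.leaf 2422) (.leaf 1193)))))) (.node (.node (.node (.node (.node (.leaf 43) (.leaf 1265)) (.node (.leaf 2597) (.leaf 3502))) (.node (.node (.leaf 3090) (.leaf 2911)) (.node (.leaf 1285) (.leaf 2399)))) (.node (.node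 (.node (.leaf 2342) (.leaf 4076)) (.node (.leaf 3509) (.leaf 3851))) (.node (.node (.leaf 1319) (.leaf 3312)) (.node (.leaf 2548) (.leaf 3567))))) (.node (.node (.node (.node (.leaf 115) (.leaf 811)) (.node (.leaf 3524) (.leaf 1217))) (.node (.node (.leaf 2302) (.leaf 1239)) (.node (.leaf 2487) (.leaf 3254)))) (.node (.node (.node (.leaf 1338) (.leaf 3139)) (.node (.leaf 2616) (.leaf 2977))) (.node (.node (.leaf 2686) (.leaf 2724)) (.node (.leaf 2602) (.leaf 3963))))))) (.node (.node (.node (.node (.node (.node (.node (.leaf 24) (.leaf 3477)) (.leaf 3579)) (.node (.leaf 3242) (.leaf 2540))) (.node (.node (.leaf 1333) (.leaf 3365)) (.node (.leaf 2517) (.leaf 4070)))) (.node (.node (.node (.leaf 2632) (.leaf 1255)) (.node (.leaf 2649) (.leaf 4083))) (.node (.node (.leaf 1321) (.leaf 2741)) (.node (.leaf 3372) (.leaf 4042))))) (.node (.node (.node (.node (.leaf 96) (.leaf 3619)) (.node (.leaf 3289) (.leaf 3600))) (.node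 (.node (.leaf 334) (.leaf 3609)) (.node (.leaf 2477) (.leaf 3568)))) (.node (.node (.node (.leaf 221) (.leaf 3590)) (.node (.leaf 3444) (.leaf 3301))) (.node (.node (.leaf 428) (.leaf 3031)) (.node (.leaf 2372) (.leaf 2369)))))) (.node (.node (.node (.node (.node (.leaf 61) (.leaf 1263)) (.node (.leaf 2701) (.leaf 2570))) (.node (.node (.leaf 307) (.leaf 1242)) (.node (.leaf 3538) (.leaf 2402)))) (.node (.node (.node (.leaf 1344) (.leaf 2565)) (.node (.leaf 3491) (.leaf 3721))) (.node (.node (.leaf 2624) (.leaf 2596)) (.node (.leaf 3174) (.leaf 3698))))) (.node (.node (.node (.node (.leaf 2314) (.leaf 821)) (.node (.leaf 2496) (.leaf 3311))) (.node (.node (.leaf 360) (.leaf 3230)) (.node (.leaf 2715) (.leaf 3078)))) (.node (.node (.node (.leaf 3368) (.leaf 2908)) (.node (.leaf 2384) (.leaf 4155))) (.node (.node (.leaf 2224) (.leaf 2675)) (.node (.leaf 2541) (.leaf 3013)))))))) (.node (.node (.node (.node (.node (.node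 (.node (.node (.leaf 13) (.leaf 2174)) (.leaf 2734)) (.node (.leaf 472) (.leaf 3530))) (.node (.node (.leaf 1334) (.leaf 2653)) (.node (.leaf 2658) (.leaf 3870)))) (.node (.node (.node (.leaf 1348) (.leaf 2744)) (.node (.leaf 3466) (.leaf 2451))) (.node (.node (.leaf 2618) (.leaf 926)) (.node (.leaf 696) (.leaf 3534))))) (.node (.node (.node (.node (.leaf 90) (.leaf 2865)) (.node (.leaf 2699) (.leaf 3054))) (.node (.node (.leaf 2662) (.leaf 1240)) (.node (.leaf 1283) (.leaf 3238)))) (.node (.node (.node (.leaf 2333) (.leaf 2998)) (.node (.leaf 4079) (.leaf 1210))) (.node (.node (.leaf 419) (.leaf 2405)) (.node (.leaf 3093) (.leaf 3200)))))) (.node (.node (.node (.node (.node (.leaf 52) (.leaf 2572)) (.node (.leaf 1307) (.leaf 1222))) (.node (.node (.leaf 2137) (.leaf 880)) (.node (.leaf 2668) (.leaf 3185)))) (.node (.node (.node (.leaf 2299) (.leaf 3070)) (.node (.leaf 570) (.leaf 3836))) (.node (.node (.leaf 2727)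 (.leaf 2428)) (.node (.leaf 3667) (.leaf 3551))))) (.node (.node (.node (.node (.leaf 2157) (.leaf 815)) (.node (.leaf 1302) (.leaf 4107))) (.node (.node (.leaf 2458) (.leaf 3201)) (.node (.leaf 3418) (.leaf 3036)))) (.node (.node (.node (.leaf 1337) (.leaf 2927)) (.node (.leaf 3259) (.leaf 2440))) (.node (.node (.leaf 446) (.leaf 1227)) (.node (.leaf 2702) (.leaf 3317))))))) (.node (.node (.node (.node (.node (.node (.node (.leaf 33) (.leaf 2963)) (.leaf 3208)) (.node (.leaf 1309) (.leaf 3558))) (.node (.node (.leaf 2718) (.leaf 3193)) (.node (.leaf 2712) (.leaf 3489)))) (.node (.node (.node (.leaf 172) (.leaf 2363)) (.node (.leaf 2335) (.leaf 2370))) (.node (.node (.leaf 2674) (.leaf 3040)) (.node (.leaf 2750) (.leaf 3345))))) (.node (.node (.node (.node (.leaf 1353) (.leaf 3414)) (.node (.leaf 2204) (.leaf 1218))) (.node (.node (.leaf 2227) (.leaf 2731)) (.node (.leaf 671) (.leaf 3605)))) (.node (.node (.node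 (.leaf 2145) (.leaf 3914)) (.node (.leaf 3043) (.leaf 3553))) (.node (.node (.leaf 1314) (.leaf 3968)) (.node (.leaf 3027) (.leaf 3761)))))) (.node (.node (.node (.node (.node (.leaf 1356) (.leaf 2501)) (.node (.leaf 1305) (.leaf 1221))) (.node (.node (.leaf 316) (.leaf 2492)) (.node (.leaf 2207) (.leaf 2811)))) (.node (.node (.node (.leaf 2640) (.leaf 2607)) (.node (.leaf 2752) (.leaf 2928))) (.node (.node (.leaf 3164) (.leaf 1232)) (.node (.leaf 3017) (.leaf 3079))))) (.node (.node (.node (.node (.leaf 1350) (.leaf 825)) (.node (.leaf 545) (.leaf 3374))) (.node (.node (.leaf 3488) (.leaf 1237)) (.node (.leaf 2320) (.leaf 2709)))) (.node (.node (.node (.leaf 3472) (.leaf 3421)) (.node (.leaf 3053) (.leaf 1204))) (.node (.node (.leaf 2294) (.leaf 3436)) (.node (.leaf 2646) (.leaf 2978))))))))) (.node (.node (.node (.node (.node (.node (.node (.node (.node (.leaf 1363) (.leaf 2277)) (.leaf 3429)) (.node (.leaf 3120)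 (.leaf 2732))) (.node (.node (.leaf 2590) (.leaf 863)) (.node (.leaf 624) (.leaf 3758)))) (.node (.node (.node (.leaf 2136) (.leaf 2392)) (.node (.leaf 2504) (.leaf 1214))) (.node (.node (.leaf 1322) (.leaf 2743)) (.node (.leaf 2378) (.leaf 2794))))) (.node (.node (.node (.node (.leaf 1355) (.leaf 1261)) (.node (.leaf 511) (.leaf 3048))) (.node (.node (.leaf 2664) (.leaf 2903)) (.node (.leaf 2579) (.leaf 2915)))) (.node (.node (.node (.leaf 214) (.leaf 3352)) (.node (.leaf 2749) (.leaf 991))) (.node (.node (.leaf 3218) (.leaf 2989)) (.node (.leaf 4120) (.leaf 3373)))))) (.node (.node (.node (.node (.node (.leaf 46) (.leaf 2855)) (.node (.leaf 2599) (.leaf 1223))) (.node (.node (.leaf 1331) (.leaf 2577)) (.node (.leaf 3441) (.leaf 3672)))) (.node (.node (.node (.leaf 185) (.leaf 3401)) (.node (.leaf 2380) (.leaf 2810))) (.node (.node (.leaf 2725) (.leaf 2969)) (.node (.leaf 2747) (.leaf 3061))))) (.node (.node (.node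 (.node (.leaf 2328) (.leaf 1259)) (.node (.leaf 2574) (.leaf 3575))) (.node (.node (.leaf 2304) (.leaf 908)) (.node (.leaf 2485) (.leaf 3611)))) (.node (.node (.node (.leaf 242) (.leaf 2673)) (.node (.leaf 3730) (.leaf 2435))) (.node (.node (.leaf 3107) (.leaf 2860)) (.node (.leaf 750) (.leaf 1192))))))) (.node (.node (.node (.node (.node (.node (.node (.leaf 27) (.leaf 2394)) (.leaf 3306)) (.node (.leaf 484) (.leaf 2586))) (.node (.node (.leaf 1332) (.leaf 3385)) (.node (.leaf 3451) (.leaf 3529)))) (.node (.node (.node (.leaf 2160) (.leaf 2457)) (.node (.leaf 3323) (.leaf 3447))) (.node (.node (.leaf 2669) (.leaf 2361)) (.node (.leaf 706) (.leaf 4136))))) (.node (.node (.node (.node (.leaf 2650) (.leaf 3615)) (.node (.leaf 3294) (.leaf 3977))) (.node (.node (.leaf 2338) (.leaf 3181)) (.node (.leaf 2578) (.leaf 2964)))) (.node (.node (.node (.leaf 2331) (.leaf 3057)) (.node (.leaf 2556) (.leaf 2585))) (.node (.node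 (.leaf 1315) (.leaf 4087)) (.node (.leaf 2374) (.leaf 2433)))))) (.node (.node (.node (.node (.node (.leaf 67) (.leaf 1262)) (.node (.leaf 2513) (.leaf 2509))) (.node (.node (.leaf 3485) (.leaf 2482)) (.node (.leaf 3326) (.leaf 3535)))) (.node (.node (.node (.leaf 199) (.leaf 2612)) (.node (.leaf 580) (.leaf 3123))) (.node (.node (.leaf 2661) (.leaf 2591)) (.node (.leaf 2432) (.leaf 3994))))) (.node (.node (.node (.node (.leaf 2312) (.leaf 3340)) (.node (.leaf 2571) (.leaf 1215))) (.node (.node (.leaf 1324) (.leaf 918)) (.node (.leaf 3291) (.leaf 4064)))) (.node (.node (.node (.leaf 258) (.leaf 2729)) (.node (.leaf 2386) (.leaf 1205))) (.node (.node (.leaf 458) (.leaf 3462)) (.node (.leaf 3141) (.leaf 3751)))))))) (.node (.node (.node (.node (.node (.node (.node (.node (.leaf 18) (.leaf 2401)) (.leaf 3746)) (.node (.leaf 1310) (.leaf 3863))) (.node (.node (.leaf 282) (.leaf 3557)) (.node (.leaf 629) (.leaf 4095))))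 (.node (.node (.node (.leaf 159) (.leaf 833)) (.node (.leaf 2643) (.leaf 3072))) (.node (.node (.leaf 2620) (.leaf 1235)) (.node (.leaf 3084) (.leaf 3518))))) (.node (.node (.node (.node (.leaf 94) (.leaf 1260)) (.node (.leaf 2705) (.leaf 976))) (.node (.node (.leaf 3161) (.leaf 3613)) (.node (.leaf 663) (.leaf 3924)))) (.node (.node (.node (.leaf 2660) (.leaf 2382)) (.node (.leaf 3155) (.leaf 3280))) (.node (.node (.leaf 3245) (.leaf 3621)) (.node (.leaf 1271) (.leaf 3830)))))) (.node (.node (.node (.node (.node (.leaf 1358) (.leaf 787)) (.node (.leaf 2692) (.leaf 3363))) (.node (.node (.leaf 3516) (.leaf 1243)) (.node (.leaf 4034) (.leaf 3014)))) (.node (.node (.node (.leaf 2301) (.leaf 2563)) (.node (.leaf 3554) (.leaf 1213))) (.node (.node (.leaf 399) (.leaf 2439)) (.node (.leaf 3103) (.leaf 3281))))) (.node (.node (.node (.node (.leaf 128) (.leaf 3561)) (.node (.leaf 537) (.leaf 1216))) (.node (.node (.leaf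 3460) (.leaf 914)) (.node (.leaf 2680) (.leaf 3449)))) (.node (.node (.node (.leaf 2141) (.leaf 1247)) (.node (.leaf 1290) (.leaf 2480))) (.node (.node (.leaf 2345) (.leaf 2858)) (.node (.leaf 755) (.leaf 2348))))))) (.node (.node (.node (.node (.node (.node (.node (.leaf 1360) (.leaf 2351)) (.leaf 3278)) (.node (.leaf 1308) (.leaf 1224))) (.node (.node (.leaf 2716) (.leaf 1245)) (.node (.leaf 3136) (.leaf 3395)))) (.node (.node (.node (.leaf 1345) (.leaf 3066)) (.node (.leaf 3277) (.leaf 2561))) (.node (.node (.leaf 2543) (.leaf 3920)) (.node (.leaf 1276) (.leaf 3616))))) (.node (.node (.node (.node (.leaf 111) (.leaf 2678)) (.node (.leaf 527) (.leaf 3555))) (.node (.node (.leaf 346) (.leaf 904)) (.node (.leaf 1280) (.leaf 3217)))) (.node (.node (.node (.leaf 233) (.leaf 4049)) (.node (.leaf 3483) (.leaf 2982))) (.node (.node (.leaf 2684) (.leaf 3453)) (.node (.leaf 2601) (.leaf 2793)))))) (.node (.node (.node (.node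 (.node (.leaf 77) (.leaf 2511)) (.node (.leaf 2636) (.leaf 3002))) (.node (.node (.leaf 1329) (.leaf 888)) (.node (.leaf 653) (.leaf 3498)))) (.node (.node (.node (.leaf 207) (.leaf 1252)) (.node (.leaf 1295) (.leaf 1212))) (.node (.node (.leaf 1317) (.leaf 3388)) (.node (.leaf 3235) (.leaf 3902))))) (.node (.node (.node (.node (.leaf 1349) (.leaf 1257)) (.node (.leaf 1299) (.leaf 4057))) (.node (.node (.leaf 372) (.leaf 3532)) (.node (.leaf 3192) (.leaf 3900)))) (.node (.node (.node (.leaf 267) (.leaf 3468)) (.node (.leaf 2621) (.leaf 3612))) (.node (.node (.leaf 2296) (.leaf 954)) (.node (.leaf 3593) (.leaf 3891))))))))))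

def twoRank2 : Janko.Tree (ℕ) :=
  (.node (.node (.node (.node (.node (.node (.node (.node (.node (.node (.leaf 2) (.leaf 1364)) (.leaf 3434)) (.node (.leaf 2770) (.leaf 3859))) (.node (.node (.leaf 270) (.leaf 1518)) (.node (.leaf 2895) (.leaf 1007)))) (.node (.node (.node (.leaf 149) (.leaf 828)) (.node (.leaf 551) (.leaf 1451))) (.node (.node (.leaf 376) (.leaf 1494)) (.node (.leaf 1585) (.leaf 2848))))) (.node (.node (.node (.node (.leaf 81) (.leaf 1552)) (.node (.leaf 2898) (.leaf 973))) (.node (.node (.leaf 323) (.leaf 890)) (.node (.leaf 1596) (.leaf 3637)))) (.node (.node (.node (.leaf 2879) (.leaf 3732)) (.node (.leaf 1621) (.leaf 4020))) (.node (.node (.leaf 414) (.leaf 1485)) (.node (.leaf 730) (.leaf 3394)))))) (.node (.node (.node (.node (.node (.leaf 1724) (.leaf 3322)) (.node (.leaf 494) (.leaf 3869))) (.node (.node (.leaf 1688) (.leaf 877)) (.node (.leaf 3426) (.leaf 2773)))) (.node (.node (.node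 (.leaf 180) (.leaf 4081)) (.node (.leaf 1625) (.leaf 1444))) (.node (.node (.leaf 393) (.leaf 3089)) (.node (.leaf 1581) (.leaf 1390))))) (.node (.node (.node (.node (.leaf 1715) (.leaf 812)) (.node (.leaf 1636) (.leaf 3514))) (.node (.node (.leaf 351) (.leaf 3085)) (.node (.leaf 677) (.leaf 1407)))) (.node (.node (.node (.leaf 238) (.leaf 3127)) (.node (.leaf 604) (.leaf 3121))) (.node (.node (.leaf 2937) (.leaf 3454)) (.node (.leaf 2941) (.leaf 1372))))))) (.node (.node (.node (.node (.node (.node (.node (.leaf 1726) (.leaf 3469)) (.leaf 1560)) (.node (.leaf 480) (.leaf 2847))) (.node (.node (.leaf 286) (.leaf 865)) (.node (.leaf 1607) (.leaf 4068)))) (.node (.node (.node (.leaf 2889) (.leaf 2952)) (.node (.leaf 2896) (.leaf 4096))) (.node (.node (.leaf 385) (.leaf 4024)) (.node (.leaf 1582) (.leaf 1397))))) (.node (.node (.node (.node (.leaf 97) (.leaf 1548)) (.node (.leaf 519) (.leaf 1461))) (.node (.node (.leaf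 335) (.leaf 1502)) (.node (.leaf 2758) (.leaf 1413)))) (.node (.node (.node (.leaf 1699) (.leaf 1526)) (.node (.leaf 3415) (.leaf 1435))) (.node (.node (.leaf 1660) (.leaf 944)) (.node (.leaf 740) (.leaf 3699)))))) (.node (.node (.node (.node (.node (.leaf 62) (.leaf 789)) (.node (.leaf 3666) (.leaf 969))) (.node (.node (.leaf 308) (.leaf 3020)) (.node (.leaf 645) (.leaf 2763)))) (.node (.node (.node (.leaf 196) (.leaf 2839)) (.node (.leaf 1622) (.leaf 1438))) (.node (.node (.leaf 404) (.leaf 940)) (.node (.leaf 3433) (.leaf 3702))))) (.node (.node (.node (.node (.leaf 133) (.leaf 1542)) (.node (.leaf 2845) (.leaf 1455))) (.node (.node (.leaf 1675) (.leaf 3215)) (.node (.leaf 2942) (.leaf 3946)))) (.node (.node (.node (.leaf 1695) (.leaf 2988)) (.node (.leaf 614) (.leaf 1431))) (.node (.node (.leaf 453) (.leaf 4097)) (.node (.leaf 1567) (.leaf 1367)))))))) (.node (.node (.node (.node (.node (.node (.node (.node (.leaf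 14) (.leaf 2349)) (.leaf 766)) (.node (.leaf 1651) (.leaf 2948))) (.node (.node (.leaf 3119) (.leaf 2782)) (.node (.leaf 3841) (.leaf 1010)))) (.node (.node (.node (.leaf 155) (.leaf 2809)) (.node (.leaf 1630) (.leaf 4092))) (.node (.node (.leaf 382) (.leaf 1493)) (.node (.leaf 697) (.leaf 1399))))) (.node (.node (.node (.node (.leaf 1718) (.leaf 800)) (.node (.leaf 516) (.leaf 975))) (.node (.node (.leaf 2891) (.leaf 3018)) (.node (.leaf 659) (.leaf 1414)))) (.node (.node (.node (.leaf 1700) (.leaf 1528)) (.node (.leaf 3817) (.leaf 3375))) (.node (.node (.leaf 420) (.leaf 943)) (.node (.leaf 735) (.leaf 1381)))))) (.node (.node (.node (.node (.node (.leaf 53) (.leaf 2779)) (.node (.leaf 497) (.leaf 3171))) (.node (.node (.leaf 302) (.leaf 1510)) (.node (.leaf 640) (.leaf 3446)))) (.node (.node (.node (.leaf 189) (.leaf 2957)) (.node (.leaf 571) (.leaf 1440))) (.node (.node (.leaf 2871) (.leaf 937)) (.node (.leaf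 3657) (.leaf 1388))))) (.node (.node (.node (.node (.leaf 123) (.leaf 816)) (.node (.leaf 533) (.leaf 1456))) (.node (.node (.leaf 2787) (.leaf 912)) (.node (.leaf 1590) (.leaf 2798)))) (.node (.node (.node (.leaf 245) (.leaf 3810)) (.node (.leaf 609) (.leaf 2757))) (.node (.node (.leaf 447) (.leaf 4038)) (.node (.leaf 4084) (.leaf 2774))))))) (.node (.node (.node (.node (.node (.node (.node (.leaf 34) (.leaf 2972)) (.leaf 1558)) (.node (.leaf 488) (.leaf 962))) (.node (.node (.leaf 292) (.leaf 1512)) (.node (.leaf 635) (.leaf 2775)))) (.node (.node (.node (.leaf 173) (.leaf 3640)) (.node (.leaf 1626) (.leaf 987))) (.node (.node (.leaf 4080) (.leaf 1490)) (.node (.leaf 2771) (.leaf 1394))))) (.node (.node (.node (.node (.leaf 105) (.leaf 1546)) (.node (.leaf 523) (.leaf 3398))) (.node (.node (.leaf 341) (.leaf 902)) (.node (.leaf 672) (.leaf 1411)))) (.node (.node (.node (.leaf 229) (.leaf 4008)) (.node (.leaf 1618)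 (.leaf 1434))) (.node (.node (.leaf 435) (.leaf 2799)) (.node (.leaf 1572) (.leaf 1376)))))) (.node (.node (.node (.node (.node (.leaf 72) (.leaf 3952)) (.node (.leaf 505) (.leaf 971))) (.node (.node (.leaf 1684) (.leaf 2760)) (.node (.leaf 649) (.leaf 1418)))) (.node (.node (.node (.leaf 204) (.leaf 2840)) (.node (.leaf 2788) (.leaf 1437))) (.node (.node (.leaf 1664) (.leaf 941)) (.node (.leaf 1578) (.leaf 1384))))) (.node (.node (.node (.node (.leaf 140) (.leaf 1540)) (.node (.leaf 546) (.leaf 1454))) (.node (.node (.leaf 368) (.leaf 3539)) (.node (.leaf 1586) (.leaf 3606)))) (.node (.node (.node (.leaf 1693) (.leaf 1520)) (.node (.leaf 1612) (.leaf 3009))) (.node (.node (.leaf 463) (.leaf 3903)) (.node (.leaf 761) (.leaf 1366))))))))) (.node (.node (.node (.node (.node (.node (.node (.node (.node (.leaf 7) (.leaf 2281)) (.leaf 1562)) (.node (.leaf 3099) (.leaf 2767))) (.node (.node (.leaf 2932) (.leaf 3934)) (.node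 (.leaf 1609) (.leaf 3754)))) (.node (.node (.node (.leaf 152) (.leaf 1539)) (.node (.leaf 2888) (.leaf 3386))) (.node (.node (.leaf 379) (.leaf 2831)) (.node (.leaf 2772) (.leaf 1401))))) (.node (.node (.node (.node (.leaf 84) (.leaf 797)) (.node (.leaf 1643) (.leaf 3513))) (.node (.node (.leaf 326) (.leaf 893)) (.node (.leaf 2781) (.leaf 1415)))) (.node (.node (.node (.leaf 1701) (.leaf 1530)) (.node (.leaf 2812) (.leaf 1436))) (.node (.node (.leaf 1663) (.leaf 1483)) (.node (.leaf 3937) (.leaf 1383)))))) (.node (.node (.node (.node (.node (.leaf 47) (.leaf 784)) (.node (.leaf 2940) (.leaf 965))) (.node (.node (.leaf 297) (.leaf 2795)) (.node (.leaf 1602) (.leaf 3678)))) (.node (.node (.node (.leaf 1705) (.leaf 3157)) (.node (.leaf 2789) (.leaf 1442))) (.node (.node (.leaf 396) (.leaf 2973)) (.node (.leaf 2834) (.leaf 1389))))) (.node (.node (.node (.node (.leaf 1714) (.leaf 3494)) (.node (.leaf 2797) (.leaf 981)))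 (.node (.node (.leaf 2459) (.leaf 909)) (.node (.leaf 2934) (.leaf 1405)))) (.node (.node (.node (.leaf 1696) (.leaf 3596)) (.node (.leaf 3739) (.leaf 1000))) (.node (.node (.leaf 441) (.leaf 3673)) (.node (.leaf 1569) (.leaf 3249))))))) (.node (.node (.node (.node (.node (.node (.node (.leaf 28) (.leaf 2396)) (.leaf 772)) (.node (.leaf 1650) (.leaf 961))) (.node (.node (.leaf 289) (.leaf 1513)) (.node (.leaf 1605) (.leaf 1424)))) (.node (.node (.node (.leaf 168) (.leaf 4056)) (.node (.leaf 1627) (.leaf 3406))) (.node (.node (.leaf 3975) (.leaf 3693)) (.node (.leaf 707) (.leaf 1396))))) (.node (.node (.node (.node (.leaf 2893) (.leaf 1547)) (.node (.leaf 1639) (.leaf 1459))) (.node (.node (.leaf 1680) (.leaf 1501)) (.node (.leaf 670) (.leaf 1412)))) (.node (.node (.node (.leaf 1698) (.leaf 851)) (.node (.leaf 2835) (.leaf 2792))) (.node (.node (.leaf 432) (.leaf 4144)) (.node (.leaf 2917) (.leaf 2759)))))) (.node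 (.node (.node (.node (.node (.leaf 68) (.leaf 3046)) (.node (.leaf 503) (.leaf 2843))) (.node (.node (.leaf 1685) (.leaf 3866)) (.node (.leaf 1599) (.leaf 1419)))) (.node (.node (.node (.leaf 200) (.leaf 847)) (.node (.leaf 581) (.leaf 3595))) (.node (.node (.leaf 2885) (.leaf 2818)) (.node (.leaf 2813) (.leaf 3998))))) (.node (.node (.node (.node (.leaf 2549) (.leaf 3274)) (.node (.leaf 544) (.leaf 3086))) (.node (.node (.leaf 365) (.leaf 1495)) (.node (.leaf 1587) (.leaf 3748)))) (.node (.node (.node (.leaf 259) (.leaf 4108)) (.node (.leaf 2878) (.leaf 1005))) (.node (.node (.leaf 1655) (.leaf 1475)) (.node (.leaf 1565) (.leaf 3927)))))))) (.node (.node (.node (.node (.node (.node (.node (.node (.leaf 1727) (.leaf 2956)) (.leaf 2768)) (.node (.leaf 477) (.leaf 960))) (.node (.node (.leaf 1691) (.leaf 1515)) (.node (.leaf 630) (.leaf 1426)))) (.node (.node (.node (.leaf 160) (.leaf 1538)) (.node (.leaf 558) (.leaf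 986))) (.node (.node (.leaf 2894) (.leaf 2985)) (.node (.leaf 1583) (.leaf 1398))))) (.node (.node (.node (.node (.leaf 1717) (.leaf 3044)) (.node (.leaf 2931) (.leaf 1462))) (.node (.node (.leaf 329) (.leaf 1503)) (.node (.leaf 664) (.leaf 3476)))) (.node (.node (.node (.leaf 218) (.leaf 850)) (.node (.leaf 3400) (.leaf 3576))) (.node (.node (.leaf 1661) (.leaf 1481)) (.node (.leaf 737) (.leaf 4071)))))) (.node (.node (.node (.node (.node (.leaf 56) (.leaf 1555)) (.node (.leaf 4119) (.leaf 1466))) (.node (.node (.leaf 1687) (.leaf 882)) (.node (.leaf 2783) (.leaf 3248)))) (.node (.node (.node (.leaf 2550) (.leaf 844)) (.node (.leaf 1623) (.leaf 4019))) (.node (.node (.leaf 1667) (.leaf 2817)) (.node (.leaf 3304) (.leaf 1387))))) (.node (.node (.node (.node (.leaf 1713) (.leaf 819)) (.node (.leaf 538) (.leaf 982))) (.node (.node (.leaf 3592) (.leaf 1497)) (.node (.leaf 684) (.leaf 4082)))) (.node (.node (.node (.leaf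 250) (.leaf 3735)) (.node (.leaf 611) (.leaf 1003))) (.node (.node (.leaf 1656) (.leaf 2997)) (.node (.leaf 756) (.leaf 2755))))))) (.node (.node (.node (.node (.node (.node (.node (.leaf 37) (.leaf 2353)) (.leaf 1557)) (.node (.leaf 491) (.leaf 963))) (.node (.node (.leaf 2933) (.leaf 3290)) (.node (.leaf 1603) (.leaf 1423)))) (.node (.node (.node (.leaf 176) (.leaf 1535)) (.node (.leaf 3536) (.leaf 2837))) (.node (.node (.leaf 391) (.leaf 4098)) (.node (.leaf 3229) (.leaf 1392))))) (.node (.node (.node (.node (.leaf 1716) (.leaf 809)) (.node (.leaf 1638) (.leaf 979))) (.node (.node (.leaf 1679) (.leaf 905)) (.node (.leaf 674) (.leaf 1409)))) (.node (.node (.node (.leaf 1697) (.leaf 2822)) (.node (.leaf 1617) (.leaf 1433))) (.node (.node (.leaf 438) (.leaf 3134)) (.node (.leaf 746) (.leaf 1374)))))) (.node (.node (.node (.node (.node (.leaf 78) (.leaf 2841)) (.node (.leaf 508) (.leaf 1464))) (.node (.node (.leaf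 320) (.leaf 1507)) (.node (.leaf 1598) (.leaf 1416)))) (.node (.node (.node (.leaf 208) (.leaf 848)) (.node (.leaf 3480) (.leaf 3456))) (.node (.node (.leaf 409) (.leaf 4035)) (.node (.leaf 1577) (.leaf 3631))))) (.node (.node (.node (.node (.leaf 143) (.leaf 3586)) (.node (.leaf 548) (.leaf 3955))) (.node (.node (.leaf 1674) (.leaf 921)) (.node (.leaf 3288) (.leaf 3296)))) (.node (.node (.node (.leaf 1692) (.leaf 4013)) (.node (.leaf 620) (.leaf 1429))) (.node (.node (.leaf 2391) (.leaf 1473)) (.node (.leaf 1563) (.leaf 3607))))))))))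

def twoRank3 : Janko.Tree (ℕ) :=
  (.node (.node (.node (.node (.node (.node (.node (.node (.node (.node (.leaf 3) (.leaf 1729)) (.leaf 763)) (.node (.leaf 1970) (.leaf 3636))) (.node (.node (.leaf 271) (.leaf 862)) (.node (.leaf 1930) (.leaf 1768)))) (.node (.node (.node (.leaf 2031) (.leaf 829)) (.node (.leaf 1952) (.leaf 4105))) (.node (.node (.leaf 377) (.leaf 2474)) (.node (.leaf 692) (.leaf 1749))))) (.node (.node (.node (.node (.leaf 2041) (.leaf 3840)) (.node (.leaf 1960) (.leaf 1798))) (.node (.node (.leaf 2659) (.leaf 2924)) (.node (.leaf 657) (.leaf 1760)))) (.node (.node (.node (.leaf 2021) (.leaf 3503)) (.node (.leaf 2555) (.leaf 4031))) (.node (.node (.leaf 2526) (.leaf 2444)) (.node (.leaf 2589) (.leaf 3544)))))) (.node (.node (.node (.node (.node (.leaf 44) (.leaf 3504)) (.node (.leaf 1965) (.leaf 1803))) (.node (.node (.leaf 295) (.leaf 2909)) (.node (.leaf 637) (.leaf 1764)))) (.node (.node (.node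 (.leaf 181) (.leaf 1866)) (.node (.leaf 566) (.leaf 3980))) (.node (.node (.leaf 2700) (.leaf 1824)) (.node (.leaf 2576) (.leaf 3056))))) (.node (.node (.node (.node (.leaf 116) (.leaf 1876)) (.node (.leaf 531) (.leaf 2468))) (.node (.node (.leaf 1996) (.leaf 2354)) (.node (.leaf 1918) (.leaf 3717)))) (.node (.node (.node (.leaf 239) (.leaf 856)) (.node (.leaf 2605) (.leaf 999))) (.node (.node (.leaf 1975) (.leaf 1813)) (.node (.leaf 1896) (.leaf 3874))))))) (.node (.node (.node (.node (.node (.node (.node (.leaf 25) (.leaf 2176)) (.leaf 771)) (.node (.leaf 481) (.leaf 1806))) (.node (.node (.leaf 287) (.leaf 1847)) (.node (.leaf 2521) (.leaf 4072)))) (.node (.node (.node (.leaf 2029) (.leaf 2455)) (.node (.leaf 1949) (.leaf 1787))) (.node (.node (.leaf 2644) (.leaf 1827)) (.node (.leaf 705) (.leaf 4051))))) (.node (.node (.node (.node (.leaf 98) (.leaf 3677)) (.node (.leaf 1957) (.leaf 2945))) (.node (.node (.leaf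 1998) (.leaf 899)) (.node (.leaf 1920) (.leaf 3565)))) (.node (.node (.node (.leaf 222) (.leaf 4054)) (.node (.leaf 597) (.leaf 3313))) (.node (.node (.leaf 2921) (.leaf 1817)) (.node (.leaf 1899) (.leaf 1737)))))) (.node (.node (.node (.node (.node (.leaf 63) (.leaf 790)) (.node (.leaf 2681) (.leaf 3413))) (.node (.node (.leaf 2003) (.leaf 2475)) (.node (.leaf 1923) (.leaf 1762)))) (.node (.node (.node (.leaf 197) (.leaf 1863)) (.node (.leaf 579) (.leaf 3055))) (.node (.node (.leaf 1983) (.leaf 1821)) (.node (.leaf 723) (.leaf 3003))))) (.node (.node (.node (.node (.leaf 2034) (.leaf 4067)) (.node (.leaf 1954) (.leaf 2830))) (.node (.node (.leaf 361) (.leaf 1832)) (.node (.leaf 1915) (.leaf 1751)))) (.node (.node (.node (.leaf 255) (.leaf 1853)) (.node (.leaf 1933) (.leaf 4153))) (.node (.node (.leaf 454) (.leaf 1811)) (.node (.leaf 2525) (.leaf 3770)))))))) (.node (.node (.node (.node (.node (.node (.node (.node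 (.leaf 2049) (.leaf 2406)) (.leaf 2690)) (.node (.leaf 473) (.leaf 1807))) (.node (.node (.leaf 278) (.leaf 1849)) (.node (.leaf 1929) (.leaf 1766)))) (.node (.node (.node (.leaf 2522) (.leaf 1870)) (.node (.leaf 554) (.leaf 1788))) (.node (.node (.leaf 1989) (.leaf 927)) (.node (.leaf 1911) (.leaf 3986))))) (.node (.node (.node (.node (.leaf 91) (.leaf 1881)) (.node (.leaf 1959) (.leaf 1796))) (.node (.node (.leaf 1999) (.leaf 896)) (.node (.leaf 2528) (.leaf 3011)))) (.node (.node (.node (.leaf 217) (.leaf 3858)) (.node (.leaf 1939) (.leaf 3381))) (.node (.node (.leaf 1979) (.leaf 1818)) (.node (.leaf 2417) (.leaf 3846)))))) (.node (.node (.node (.node (.node (.leaf 2044) (.leaf 1885)) (.node (.leaf 2679) (.leaf 2881))) (.node (.node (.leaf 2554) (.leaf 2929)) (.node (.leaf 2656) (.leaf 1763)))) (.node (.node (.node (.leaf 2025) (.leaf 843)) (.node (.leaf 1945) (.leaf 4005))) (.node (.node (.leaf 1984) (.leaf 1823))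 (.node (.leaf 1905) (.leaf 4018))))) (.node (.node (.node (.node (.leaf 124) (.leaf 1875)) (.node (.leaf 2552) (.leaf 3788))) (.node (.node (.leaf 1994) (.leaf 3674)) (.node (.leaf 680) (.leaf 1754)))) (.node (.node (.node (.leaf 246) (.leaf 2904)) (.node (.leaf 2470) (.leaf 1772))) (.node (.node (.leaf 1974) (.leaf 2852)) (.node (.leaf 1895) (.leaf 1735))))))) (.node (.node (.node (.node (.node (.node (.node (.leaf 2046) (.leaf 2318)) (.leaf 777)) (.node (.leaf 489) (.leaf 4150))) (.node (.node (.leaf 2007) (.leaf 873)) (.node (.leaf 1928) (.leaf 1765)))) (.node (.node (.node (.leaf 2027) (.leaf 2453)) (.node (.leaf 563) (.leaf 1785))) (.node (.node (.leaf 2642) (.leaf 4146)) (.node (.leaf 1908) (.leaf 3708))))) (.node (.node (.node (.node (.leaf 106) (.leaf 3443)) (.node (.leaf 524) (.leaf 2471))) (.node (.node (.leaf 342) (.leaf 2710)) (.node (.leaf 673) (.leaf 1021)))) (.node (.node (.node (.leaf 230) (.leaf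 3047)) (.node (.leaf 601) (.leaf 997))) (.node (.node (.leaf 2703) (.leaf 1815)) (.node (.leaf 743) (.leaf 3775)))))) (.node (.node (.node (.node (.node (.leaf 73) (.leaf 1883)) (.node (.leaf 2623) (.leaf 4003))) (.node (.node (.leaf 2859) (.leaf 1841)) (.node (.leaf 650) (.leaf 2829)))) (.node (.node (.node (.leaf 2022) (.leaf 1861)) (.node (.leaf 1942) (.leaf 2930))) (.node (.node (.leaf 407) (.leaf 4089)) (.node (.leaf 727) (.leaf 3944))))) (.node (.node (.node (.node (.leaf 141) (.leaf 826)) (.node (.leaf 547) (.leaf 3958))) (.node (.node (.leaf 369) (.leaf 3199)) (.node (.leaf 689) (.leaf 1750)))) (.node (.node (.node (.leaf 264) (.leaf 3753)) (.node (.leaf 617) (.leaf 4111))) (.node (.node (.leaf 1972) (.leaf 1809)) (.node (.leaf 1894) (.leaf 3695))))))))) (.node (.node (.node (.node (.node (.node (.node (.node (.node (.leaf 8) (.leaf 2279)) (.leaf 3179)) (.node (.leaf 1969) (.leaf 1808))) (.node (.node (.leaf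 2010) (.leaf 3942)) (.node (.leaf 625) (.leaf 3026)))) (.node (.node (.node (.leaf 2030) (.leaf 2735)) (.node (.leaf 1951) (.leaf 985))) (.node (.node (.leaf 2615) (.leaf 1829)) (.node (.leaf 1912) (.leaf 3367))))) (.node (.node (.node (.node (.leaf 85) (.leaf 2861)) (.node (.leaf 512) (.leaf 3065))) (.node (.node (.leaf 2000) (.leaf 1840)) (.node (.leaf 1921) (.leaf 2801)))) (.node (.node (.node (.leaf 215) (.leaf 2463)) (.node (.leaf 1940) (.leaf 992))) (.node (.node (.leaf 417) (.leaf 3933)) (.node (.leaf 1900) (.leaf 3828)))))) (.node (.node (.node (.node (.node (.leaf 48) (.leaf 2857)) (.node (.leaf 1964) (.leaf 3852))) (.node (.node (.leaf 298) (.leaf 1844)) (.node (.leaf 3410) (.leaf 3194)))) (.node (.node (.node (.leaf 186) (.leaf 1865)) (.node (.leaf 1946) (.leaf 3520))) (.node (.node (.leaf 1985) (.leaf 936)) (.node (.leaf 1906) (.leaf 3063))))) (.node (.node (.node (.node (.leaf 121) (.leaf 2462)) (.node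 (.leaf 1955) (.leaf 3805))) (.node (.node (.leaf 1995) (.leaf 1834)) (.node (.leaf 1917) (.leaf 3034)))) (.node (.node (.node (.leaf 243) (.leaf 1854)) (.node (.leaf 1934) (.leaf 1773))) (.node (.node (.leaf 442) (.leaf 2854)) (.node (.leaf 751) (.leaf 3782))))))) (.node (.node (.node (.node (.node (.node (.node (.leaf 29) (.leaf 2756)) (.leaf 1888)) (.node (.leaf 2442) (.leaf 1805))) (.node (.node (.leaf 2713) (.leaf 870)) (.node (.leaf 633) (.leaf 1011)))) (.node (.node (.node (.leaf 2028) (.leaf 1868)) (.node (.leaf 559) (.leaf 1786))) (.node (.node (.leaf 1987) (.leaf 2413)) (.node (.leaf 708) (.leaf 3767))))) (.node (.node (.node (.node (.leaf 2038) (.leaf 806)) (.node (.leaf 521) (.leaf 3843))) (.node (.node (.leaf 339) (.leaf 3173)) (.node (.leaf 1919) (.leaf 3703)))) (.node (.node (.node (.leaf 227) (.leaf 1858)) (.node (.leaf 1937) (.leaf 1775))) (.node (.node (.leaf 433) (.leaf 3021)) (.node (.leaf 1898)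 (.leaf 1736)))))) (.node (.node (.node (.node (.node (.leaf 2043) (.leaf 2494)) (.node (.leaf 2523) (.leaf 1799))) (.node (.node (.leaf 313) (.leaf 1842)) (.node (.leaf 647) (.leaf 1017)))) (.node (.node (.node (.leaf 201) (.leaf 1862)) (.node (.leaf 582) (.leaf 1781))) (.node (.node (.leaf 1982) (.leaf 1820)) (.node (.leaf 1903) (.leaf 1742))))) (.node (.node (.node (.node (.leaf 2033) (.leaf 1873)) (.node (.leaf 1953) (.leaf 3570))) (.node (.node (.leaf 366) (.leaf 919)) (.node (.leaf 685) (.leaf 3861)))) (.node (.node (.node (.leaf 2013) (.leaf 1852)) (.node (.leaf 1932) (.leaf 3206))) (.node (.node (.leaf 459) (.leaf 4139)) (.node (.leaf 759) (.leaf 1733)))))))) (.node (.node (.node (.node (.node (.node (.node (.node (.leaf 19) (.leaf 2408)) (.leaf 1891)) (.node (.leaf 478) (.leaf 3320))) (.node (.node (.leaf 2515) (.leaf 864)) (.node (.leaf 631) (.leaf 4074)))) (.node (.node (.node (.leaf 161) (.leaf 834)) (.node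 (.leaf 1950) (.leaf 3077))) (.node (.node (.leaf 1988) (.leaf 2425)) (.node (.leaf 702) (.leaf 3629))))) (.node (.node (.node (.node (.leaf 95) (.leaf 803)) (.node (.leaf 1958) (.leaf 3792))) (.node (.node (.leaf 330) (.leaf 3802)) (.node (.leaf 665) (.leaf 2359)))) (.node (.node (.node (.leaf 2633) (.leaf 1859)) (.node (.leaf 1938) (.leaf 3508))) (.node (.node (.leaf 425) (.leaf 3885)) (.node (.leaf 2360) (.leaf 1738)))))) (.node (.node (.node (.node (.node (.leaf 57) (.leaf 2883)) (.node (.leaf 1963) (.leaf 968))) (.node (.node (.leaf 305) (.leaf 883)) (.node (.leaf 1925) (.leaf 4128)))) (.node (.node (.node (.leaf 2024) (.leaf 1864)) (.node (.leaf 576) (.leaf 3906))) (.node (.node (.leaf 400) (.leaf 1822)) (.node (.leaf 1904) (.leaf 3683))))) (.node (.node (.node (.node (.leaf 129) (.leaf 3807)) (.node (.leaf 539) (.leaf 4094))) (.node (.node (.leaf 1993) (.leaf 3981)) (.node (.leaf 1916) (.leaf 1753)))) (.node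 (.node (.node (.leaf 251) (.leaf 2906)) (.node (.leaf 2364) (.leaf 1771))) (.node (.node (.leaf 451) (.leaf 1812)) (.node (.leaf 757) (.leaf 1734))))))) (.node (.node (.node (.node (.node (.node (.node (.leaf 38) (.leaf 3623)) (.leaf 780)) (.node (.leaf 2421) (.leaf 3867))) (.node (.node (.leaf 2006) (.leaf 3377)) (.node (.leaf 4117) (.leaf 1013)))) (.node (.node (.node (.leaf 177) (.leaf 4010)) (.node (.leaf 3348) (.leaf 1784))) (.node (.node (.leaf 2519) (.leaf 1825)) (.node (.leaf 712) (.leaf 3966))))) (.node (.node (.node (.node (.leaf 112) (.leaf 2634)) (.node (.leaf 528) (.leaf 3957))) (.node (.node (.leaf 347) (.leaf 1835)) (.node (.leaf 2478) (.leaf 1022)))) (.node (.node (.node (.leaf 234) (.leaf 1856)) (.node (.leaf 603) (.leaf 3992))) (.node (.node (.leaf 1976) (.leaf 949)) (.node (.leaf 1897) (.leaf 3204)))))) (.node (.node (.node (.node (.node (.leaf 2042) (.leaf 1882)) (.node (.leaf 1961) (.leaf 4069)))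 (.node (.node (.leaf 321) (.leaf 4103)) (.node (.leaf 654) (.leaf 3719)))) (.node (.node (.node (.leaf 209) (.leaf 3978)) (.node (.leaf 586) (.leaf 4029))) (.node (.node (.leaf 410) (.leaf 3376)) (.node (.leaf 729) (.leaf 1740))))) (.node (.node (.node (.node (.leaf 144) (.leaf 3284)) (.node (.leaf 2497) (.leaf 1790))) (.node (.node (.leaf 2465) (.leaf 922)) (.node (.leaf 3213) (.leaf 3627)))) (.node (.node (.node (.leaf 268) (.leaf 1850)) (.node (.leaf 1931) (.leaf 3733))) (.node (.node (.leaf 1971) (.leaf 955)) (.node (.leaf 3883) (.leaf 1731))))))))))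

def twoRank4 : Janko.Tree (ℕ) :=
  (.node (.node (.node (.node (.node (.node (.node (.node (.node (.node (.leaf 1190) (.leaf 2050)) (.leaf 3427)) (.node (.leaf 2184) (.leaf 2052))) (.node (.node (.leaf 2096) (.leaf 4002)) (.node (.leaf 3650) (.leaf 3778)))) (.node (.node (.node (.leaf 150) (.leaf 4045)) (.node (.leaf 3295) (.leaf 3287))) (.node (.node (.leaf 378) (.leaf 1068)) (.node (.leaf 1109) (.leaf 2195))))) (.node (.node (.node (.node (.leaf 1184) (.leaf 4078)) (.node (.leaf 1136) (.leaf 3948))) (.node (.node (.leaf 2267) (.leaf 3990)) (.node (.leaf 1115) (.leaf 3926)))) (.node (.node (.node (.leaf 2111) (.leaf 3505)) (.node (.leaf 1124) (.leaf 3371))) (.node (.node (.leaf 2131) (.leaf 3223)) (.node (.leaf 2236) (.leaf 3945)))))) (.node (.node (.node (.node (.node (.leaf 2170) (.leaf 3865)) (.node (.leaf 3231) (.leaf 2243))) (.node (.node (.leaf 2154) (.leaf 2901)) (.node (.leaf 3422) (.leaf 3286)))) (.node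 (.node (.node (.leaf 3225) (.leaf 3356)) (.node (.leaf 1128) (.leaf 3316))) (.node (.node (.leaf 2274) (.leaf 1066)) (.node (.leaf 1105) (.leaf 3783))))) (.node (.node (.node (.node (.leaf 117) (.leaf 1092)) (.node (.leaf 1134) (.leaf 3484))) (.node (.node (.leaf 352) (.leaf 906)) (.node (.leaf 3327) (.leaf 4104)))) (.node (.node (.node (.leaf 240) (.leaf 3129)) (.node (.leaf 2241) (.leaf 2975))) (.node (.node (.leaf 1146) (.leaf 2958)) (.node (.leaf 3825) (.leaf 3722))))))) (.node (.node (.node (.node (.node (.node (.node (.leaf 2166) (.leaf 2418)) (.leaf 3487)) (.node (.leaf 3935) (.leaf 1056))) (.node (.node (.leaf 288) (.leaf 866)) (.node (.leaf 3116) (.leaf 2187)))) (.node (.node (.node (.leaf 165) (.leaf 2249)) (.node (.leaf 4121) (.leaf 1044))) (.node (.node (.leaf 2258) (.leaf 2375)) (.node (.leaf 2282) (.leaf 3307))))) (.node (.node (.node (.node (.leaf 2112) (.leaf 3102)) (.node (.leaf 3862) (.leaf 3919)))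 (.node (.node (.leaf 336) (.leaf 3463)) (.node (.leaf 1113) (.leaf 2922)))) (.node (.node (.node (.leaf 223) (.leaf 1082)) (.node (.leaf 3442) (.leaf 1040))) (.node (.node (.leaf 1147) (.leaf 4012)) (.node (.leaf 3216) (.leaf 3628)))))) (.node (.node (.node (.node (.node (.leaf 2114) (.leaf 791)) (.node (.leaf 501) (.leaf 3833))) (.node (.node (.leaf 309) (.leaf 3724)) (.node (.leaf 3996) (.leaf 2220)))) (.node (.node (.node (.leaf 198) (.leaf 1084)) (.node (.leaf 2287) (.leaf 3450))) (.node (.node (.leaf 3940) (.leaf 3710)) (.node (.leaf 3172) (.leaf 3873))))) (.node (.node (.node (.node (.leaf 134) (.leaf 2209)) (.node (.leaf 1132) (.leaf 1046))) (.node (.node (.leaf 1156) (.leaf 3228)) (.node (.leaf 3742) (.leaf 2877)))) (.node (.node (.node (.leaf 1168) (.leaf 3407)) (.node (.leaf 3275) (.leaf 2177))) (.node (.node (.leaf 2226) (.leaf 2970)) (.node (.leaf 3147) (.leaf 1024)))))))) (.node (.node (.node (.node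 (.node (.node (.node (.node (.leaf 2119) (.leaf 2949)) (.leaf 767)) (.node (.leaf 1142) (.leaf 957))) (.node (.node (.leaf 279) (.leaf 3755)) (.node (.leaf 627) (.leaf 3826)))) (.node (.node (.node (.leaf 156) (.leaf 2073)) (.node (.leaf 2269) (.leaf 2827))) (.node (.node (.leaf 3263) (.leaf 3205)) (.node (.leaf 698) (.leaf 3844))))) (.node (.node (.node (.node (.leaf 2313) (.leaf 801)) (.node (.leaf 3727) (.leaf 1051))) (.node (.node (.leaf 1160) (.leaf 897)) (.node (.leaf 660) (.leaf 2377)))) (.node (.node (.node (.leaf 2663) (.leaf 2260)) (.node (.leaf 3332) (.leaf 4037))) (.node (.node (.leaf 421) (.leaf 3689)) (.node (.leaf 3091) (.leaf 3965)))))) (.node (.node (.node (.node (.node (.leaf 1186) (.leaf 2242)) (.node (.leaf 2266) (.leaf 2562))) (.node (.node (.leaf 2135) (.leaf 1075)) (.node (.leaf 641) (.leaf 3219)))) (.node (.node (.node (.leaf 190) (.leaf 3068)) (.node (.leaf 572) (.leaf 3969))) (.node (.node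 (.leaf 1150) (.leaf 3187)) (.node (.leaf 3297) (.leaf 3696))))) (.node (.node (.node (.node (.leaf 2155) (.leaf 817)) (.node (.leaf 534) (.leaf 1047))) (.node (.node (.leaf 2190) (.leaf 913)) (.node (.leaf 2273) (.leaf 3785)))) (.node (.node (.node (.leaf 247) (.leaf 2914)) (.node (.leaf 3163) (.leaf 1038))) (.node (.node (.leaf 448) (.leaf 3675)) (.node (.leaf 753) (.leaf 3967))))))) (.node (.node (.node (.node (.node (.node (.node (.leaf 1188) (.leaf 2953)) (.leaf 2280)) (.node (.leaf 490) (.leaf 3809))) (.node (.node (.leaf 3148) (.leaf 1077)) (.node (.leaf 3658) (.leaf 2346)))) (.node (.node (.node (.leaf 1177) (.leaf 837)) (.node (.leaf 2126) (.leaf 4129))) (.node (.node (.leaf 389) (.leaf 2987)) (.node (.leaf 1106) (.leaf 3694))))) (.node (.node (.node (.node (.leaf 107) (.leaf 2651)) (.node (.leaf 2203) (.leaf 3330))) (.node (.node (.leaf 2217) (.leaf 903)) (.node (.leaf 2066) (.leaf 3959)))) (.node (.node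 (.node (.leaf 2143) (.leaf 3972)) (.node (.leaf 2617) (.leaf 3391))) (.node (.node (.leaf 2271) (.leaf 3687)) (.node (.leaf 2235) (.leaf 3237)))))) (.node (.node (.node (.node (.node (.leaf 2221) (.leaf 3094)) (.node (.leaf 2270) (.leaf 3283))) (.node (.node (.leaf 1161) (.leaf 1074)) (.node (.leaf 2205) (.leaf 2222)))) (.node (.node (.node (.leaf 205) (.leaf 4048)) (.node (.leaf 1125) (.leaf 1043))) (.node (.node (.leaf 2146) (.leaf 3023)) (.node (.leaf 2598) (.leaf 4040))))) (.node (.node (.node (.node (.leaf 142) (.leaf 1090)) (.node (.leaf 2076) (.leaf 2218))) (.node (.node (.leaf 3743) (.leaf 3639)) (.node (.leaf 2122) (.leaf 2051)))) (.node (.node (.node (.leaf 2297) (.leaf 3417)) (.node (.leaf 2240) (.leaf 4028))) (.node (.node (.leaf 464) (.leaf 4009)) (.node (.leaf 3818) (.leaf 3630))))))))) (.node (.node (.node (.node (.node (.node (.node (.node (.node (.leaf 9) (.leaf 2316)) (.leaf 2707)) (.node (.leaf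 3118) (.leaf 3832))) (.node (.node (.leaf 1166) (.leaf 2056)) (.node (.leaf 2256) (.leaf 3793)))) (.node (.node (.node (.leaf 1179) (.leaf 1088)) (.node (.leaf 1130) (.leaf 3835))) (.node (.node (.leaf 2238) (.leaf 2063)) (.node (.leaf 1108) (.leaf 2193))))) (.node (.node (.node (.node (.leaf 86) (.leaf 3856)) (.node (.leaf 2265) (.leaf 3042))) (.node (.node (.leaf 3096) (.leaf 894)) (.node (.leaf 3166) (.leaf 1030)))) (.node (.node (.node (.leaf 2665) (.leaf 3167)) (.node (.leaf 2248) (.leaf 1042))) (.node (.node (.leaf 1148) (.leaf 2253)) (.node (.leaf 733) (.leaf 3704)))))) (.node (.node (.node (.node (.node (.leaf 2116) (.leaf 2867)) (.node (.leaf 1139) (.leaf 1054))) (.node (.node (.leaf 299) (.leaf 2237)) (.node (.leaf 2631) (.leaf 2175)))) (.node (.node (.node (.leaf 187) (.leaf 1086)) (.node (.leaf 1127) (.leaf 3718))) (.node (.node (.leaf 3100) (.leaf 2967)) (.node (.leaf 2244) (.leaf 4041))))) (.node (.node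 (.node (.node (.leaf 2142) (.leaf 813)) (.node (.leaf 3108) (.leaf 4154))) (.node (.node (.leaf 1157) (.leaf 910)) (.node (.leaf 1111) (.leaf 4021)))) (.node (.node (.node (.leaf 2158) (.leaf 2974)) (.node (.leaf 607) (.leaf 3177))) (.node (.node (.leaf 3105) (.leaf 2864)) (.node (.leaf 2264) (.leaf 3984))))))) (.node (.node (.node (.node (.node (.node (.node (.leaf 2118) (.leaf 2390)) (.leaf 773)) (.node (.leaf 1140) (.leaf 3333))) (.node (.node (.leaf 2263) (.leaf 2278)) (.node (.leaf 2272) (.leaf 1034)))) (.node (.node (.node (.leaf 2219) (.leaf 2385)) (.node (.leaf 560) (.leaf 3366))) (.node (.node (.leaf 2637) (.leaf 930)) (.node (.leaf 2064) (.leaf 3829))))) (.node (.node (.node (.node (.leaf 1182) (.leaf 3419)) (.node (.leaf 2206) (.leaf 1050))) (.node (.node (.leaf 2223) (.leaf 2687)) (.node (.leaf 3262) (.leaf 3266)))) (.node (.node (.node (.leaf 2134) (.leaf 3904)) (.node (.leaf 2087) (.leaf 2053))) (.node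 (.node (.leaf 434) (.leaf 3893)) (.node (.leaf 1101) (.leaf 3707)))))) (.node (.node (.node (.node (.node (.leaf 69) (.leaf 3827)) (.node (.leaf 2553) (.leaf 3765))) (.node (.node (.leaf 2534) (.leaf 3154)) (.node (.leaf 2192) (.leaf 3580)))) (.node (.node (.node (.leaf 2102) (.leaf 3648)) (.node (.leaf 2074) (.leaf 2968))) (.node (.node (.leaf 3660) (.leaf 3889)) (.node (.leaf 2081) (.leaf 3773))))) (.node (.node (.node (.node (.leaf 1180) (.leaf 3479)) (.node (.leaf 3106) (.leaf 983))) (.node (.node (.leaf 367) (.leaf 1070)) (.node (.leaf 686) (.leaf 3855)))) (.node (.node (.node (.leaf 260) (.leaf 3067)) (.node (.leaf 1120) (.leaf 2984))) (.node (.node (.leaf 460) (.leaf 3465)) (.node (.leaf 2268) (.leaf 3749)))))))) (.node (.node (.node (.node (.node (.node (.node (.node (.leaf 20) (.leaf 2762)) (.leaf 3816)) (.node (.leaf 479) (.leaf 3736))) (.node (.node (.leaf 1165) (.leaf 3243)) (.node (.leaf 2070) (.leaf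 4088)))) (.node (.node (.node (.leaf 2106) (.leaf 3572)) (.node (.leaf 3654) (.leaf 3303))) (.node (.node (.leaf 1153) (.leaf 2245)) (.node (.leaf 2284) (.leaf 2824))))) (.node (.node (.node (.node (.leaf 2315) (.leaf 804)) (.node (.leaf 3797) (.leaf 3950))) (.node (.node (.leaf 3261) (.leaf 3158)) (.node (.leaf 2068) (.leaf 3170)))) (.node (.node (.node (.leaf 2109) (.leaf 3642)) (.node (.leaf 595) (.leaf 3801))) (.node (.node (.leaf 2546) (.leaf 1062)) (.node (.leaf 2254) (.leaf 3241)))))) (.node (.node (.node (.node (.node (.leaf 58) (.leaf 1095)) (.node (.leaf 2728) (.leaf 2564))) (.node (.node (.leaf 1162) (.leaf 884)) (.node (.leaf 3656) (.leaf 3012)))) (.node (.node (.node (.leaf 1175) (.leaf 3359)) (.node (.leaf 2289) (.leaf 3894))) (.node (.node (.leaf 2257) (.leaf 1064)) (.node (.leaf 721) (.leaf 3004))))) (.node (.node (.node (.node (.leaf 130) (.leaf 820)) (.node (.leaf 2078) (.leaf 3188))) (.node (.node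 (.leaf 3145) (.leaf 2216)) (.node (.leaf 3820) (.leaf 3130)))) (.node (.node (.node (.leaf 2139) (.leaf 3804)) (.node (.leaf 2262) (.leaf 3325))) (.node (.node (.leaf 2208) (.leaf 3075)) (.node (.leaf 2060) (.leaf 3686))))))) (.node (.node (.node (.node (.node (.node (.leaf 39) (.leaf 1097)) (.node (.leaf 2233) (.leaf 3210))) (.node (.node (.leaf 1164) (.leaf 3951)) (.node (.leaf 1118) (.leaf 1033)))) (.node (.node (.node (.leaf 178) (.leaf 2996)) (.node (.leaf 3165) (.leaf 4059))) (.node (.node (.leaf 2527) (.leaf 3364)) (.node (.leaf 713) (.leaf 3847))))) (.node (.node (.node (.node (.leaf 2115) (.leaf 810)) (.node (.leaf 529) (.leaf 4053))) (.node (.node (.leaf 348) (.leaf 1072)) (.node (.leaf 2178) (.leaf 3082)))) (.node (.node (.node (.leaf 1170) (.leaf 3644)) (.node (.leaf 2619) (.leaf 2990))) (.node (.node (.leaf 3224) (.leaf 3126)) (.node (.leaf 3898) (.leaf 3987)))))) (.node (.node (.node (.node (.node (.leaf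 79) (.leaf 1094)) (.node (.leaf 3458) (.leaf 3911))) (.node (.node (.leaf 322) (.leaf 3651)) (.node (.leaf 655) (.leaf 3501)))) (.node (.node (.node (.leaf 2100) (.leaf 3049)) (.node (.leaf 587) (.leaf 4110))) (.node (.node (.leaf 411) (.leaf 3380)) (.node (.leaf 2600) (.leaf 1025))))) (.node (.node (.node (.node (.leaf 2199) (.leaf 3692)) (.node (.leaf 2229) (.leaf 4050))) (.node (.node (.leaf 1154) (.leaf 3892)) (.node (.leaf 3109) (.leaf 3635)))) (.node (.node (.node (.leaf 2295) (.leaf 4145)) (.node (.leaf 4052) (.leaf 1037))) (.node (.node (.leaf 1143) (.leaf 3759)) (.node (.leaf 1099) (.leaf 2950))))))))))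

def twoRank5 : Janko.Tree (ℕ) :=
  (.node (.node (.node (.node (.node (.node (.node (.node (.node (.node (.leaf 4) (.leaf 2121)) (.leaf 2720)) (.node (.leaf 468) (.leaf 1226))) (.node (.node (.leaf 1335) (.leaf 4141)) (.node (.leaf 3481) (.leaf 3028)))) (.node (.node (.node (.leaf 2343) (.leaf 2742)) (.node (.leaf 3111) (.leaf 3574))) (.node (.node (.leaf 2454) (.leaf 4060)) (.node (.leaf 3661) (.leaf 3492))))) (.node (.node (.node (.node (.leaf 2161) (.leaf 796)) (.node (.leaf 2645) (.leaf 3618))) (.node (.node (.leaf 324) (.leaf 891)) (.node (.leaf 3589) (.leaf 2738)))) (.node (.node (.node (.leaf 1341) (.leaf 1251)) (.node (.leaf 3737) (.leaf 3550))) (.node (.node (.leaf 1316) (.leaf 2446)) (.node (.leaf 731) (.leaf 3471)))))) (.node (.node (.node (.node (.node (.leaf 2168) (.leaf 2539)) (.node (.leaf 2322) (.leaf 3001))) (.node (.node (.leaf 2152) (.leaf 1244)) (.node (.leaf 2667) (.leaf 3786)))) (.node (.node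 (.node (.leaf 182) (.leaf 3358)) (.node (.leaf 3815) (.leaf 3515))) (.node (.node (.leaf 394) (.leaf 3337)) (.node (.leaf 4114) (.leaf 1194))))) (.node (.node (.node (.node (.leaf 118) (.leaf 2125)) (.node (.leaf 3528) (.leaf 3338))) (.node (.node (.leaf 3486) (.leaf 3533)) (.node (.leaf 3160) (.leaf 4106)))) (.node (.node (.node (.leaf 2706) (.leaf 1249)) (.node (.leaf 605) (.leaf 1207))) (.node (.node (.leaf 2714) (.leaf 3074)) (.node (.leaf 3253) (.leaf 3251))))))) (.node (.node (.node (.node (.node (.node (.node (.leaf 2164) (.leaf 2379)) (.leaf 2573)) (.node (.leaf 2746) (.leaf 3195))) (.node (.node (.leaf 2655) (.leaf 867)) (.node (.leaf 2529) (.leaf 1203)))) (.node (.node (.node (.leaf 166) (.leaf 2994)) (.node (.leaf 4123) (.leaf 4073))) (.node (.node (.leaf 386) (.leaf 2357)) (.node (.leaf 2288) (.leaf 2557))))) (.node (.node (.node (.node (.leaf 1354) (.leaf 2495)) (.node (.leaf 3526) (.leaf 3917))) (.node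 (.node (.leaf 3563) (.leaf 2721)) (.node (.leaf 3475) (.leaf 2368)))) (.node (.node (.node (.leaf 224) (.leaf 4142)) (.node (.leaf 1293) (.leaf 3578))) (.node (.node (.leaf 429) (.leaf 3038)) (.node (.leaf 2317) (.leaf 3626)))))) (.node (.node (.node (.node (.node (.leaf 1357) (.leaf 2559)) (.node (.leaf 502) (.leaf 2499))) (.node (.node (.leaf 310) (.leaf 3032)) (.node (.leaf 3369) (.leaf 3493)))) (.node (.node (.node (.leaf 2606) (.leaf 2569)) (.node (.leaf 2285) (.leaf 3143))) (.node (.node (.leaf 3455) (.leaf 3712)) (.node (.leaf 1274) (.leaf 4006))))) (.node (.node (.node (.node (.leaf 135) (.leaf 3169)) (.node (.leaf 3583) (.leaf 3005))) (.node (.node (.leaf 362) (.leaf 1238)) (.node (.leaf 3744) (.leaf 2880)))) (.node (.node (.node (.leaf 2330) (.leaf 2923)) (.node (.leaf 2324) (.leaf 1206))) (.node (.node (.leaf 1312) (.leaf 2966)) (.node (.leaf 2551) (.leaf 3768)))))))) (.node (.node (.node (.node (.node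 (.node (.node (.node (.leaf 1362) (.leaf 2427)) (.leaf 768)) (.node (.leaf 474) (.leaf 958))) (.node (.node (.leaf 2723) (.leaf 3777)) (.node (.leaf 628) (.leaf 3599)))) (.node (.node (.node (.leaf 157) (.leaf 1256)) (.node (.leaf 1298) (.leaf 2870))) (.node (.node (.leaf 2323) (.leaf 3653)) (.node (.leaf 699) (.leaf 3982))))) (.node (.node (.node (.node (.leaf 2307) (.leaf 3050)) (.node (.leaf 3597) (.leaf 4007))) (.node (.node (.leaf 2648) (.leaf 2483)) (.node (.leaf 661) (.leaf 4100)))) (.node (.node (.node (.leaf 2630) (.leaf 1250)) (.node (.leaf 1294) (.leaf 2582))) (.node (.node (.leaf 422) (.leaf 3252)) (.node (.leaf 1272) (.leaf 3541)))))) (.node (.node (.node (.node (.node (.leaf 2165) (.leaf 785)) (.node (.leaf 498) (.leaf 2568))) (.node (.node (.leaf 1330) (.leaf 3184)) (.node (.leaf 642) (.leaf 3256)))) (.node (.node (.node (.leaf 191) (.leaf 1253)) (.node (.leaf 573) (.leaf 3617))) (.node (.node (.leaf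 2730) (.leaf 3189)) (.node (.leaf 1275) (.leaf 2404))))) (.node (.node (.node (.node (.leaf 1351) (.leaf 3350)) (.node (.leaf 535) (.leaf 4152))) (.node (.node (.leaf 356) (.leaf 2400)) (.node (.leaf 1279) (.leaf 3780)))) (.node (.node (.node (.leaf 248) (.leaf 1248)) (.node (.leaf 1291) (.leaf 2736))) (.node (.node (.leaf 3203) (.leaf 3620)) (.node (.leaf 754) (.leaf 3531))))))) (.node (.node (.node (.node (.node (.node (.node (.leaf 2169) (.leaf 2179)) (.leaf 2544)) (.node (.leaf 2426) (.leaf 2583))) (.node (.node (.leaf 2325) (.leaf 874)) (.node (.leaf 3601) (.leaf 1202)))) (.node (.node (.node (.leaf 2149) (.leaf 2876)) (.node (.leaf 2171) (.leaf 3073))) (.node (.node (.leaf 390) (.leaf 1234)) (.node (.leaf 709) (.leaf 2777))))) (.node (.node (.node (.node (.leaf 108) (.leaf 2677)) (.node (.leaf 1303) (.leaf 3548))) (.node (.node (.leaf 1326) (.leaf 4066)) (.node (.leaf 1281) (.leaf 3872)))) (.node (.node (.node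 (.leaf 1339) (.leaf 853)) (.node (.leaf 2609) (.leaf 3379))) (.node (.node (.leaf 436) (.leaf 3714)) (.node (.leaf 1270) (.leaf 3247)))))) (.node (.node (.node (.node (.node (.leaf 74) (.leaf 3298)) (.node (.leaf 506) (.leaf 1220))) (.node (.node (.leaf 317) (.leaf 2479)) (.node (.leaf 1284) (.leaf 3559)))) (.node (.node (.node (.leaf 206) (.leaf 4046)) (.node (.leaf 583) (.leaf 4033))) (.node (.node (.leaf 2144) (.leaf 4014)) (.node (.leaf 2593) (.leaf 4124))))) (.node (.node (.node (.node (.leaf 2688) (.leaf 3875)) (.node (.leaf 1300) (.leaf 3378))) (.node (.node (.leaf 2748) (.leaf 2751)) (.node (.leaf 2130) (.leaf 1196)))) (.node (.node (.node (.leaf 2291) (.leaf 3467)) (.node (.leaf 1289) (.leaf 4061))) (.node (.node (.leaf 3244) (.leaf 4011)) (.node (.leaf 3598) (.leaf 3608))))))))) (.node (.node (.node (.node (.node (.node (.node (.node (.node (.leaf 10) (.leaf 2347)) (.leaf 2733)) (.node (.leaf 1311) (.leaf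 3799))) (.node (.node (.leaf 275) (.leaf 1246)) (.node (.leaf 1288) (.leaf 1009)))) (.node (.node (.node (.leaf 2153) (.leaf 3897)) (.node (.leaf 2512) (.leaf 3960))) (.node (.node (.leaf 380) (.leaf 1236)) (.node (.leaf 3190) (.leaf 3560))))) (.node (.node (.node (.node (.leaf 87) (.leaf 798)) (.node (.leaf 1304) (.leaf 3059))) (.node (.node (.leaf 3135) (.leaf 3024)) (.node (.leaf 3168) (.leaf 2981)))) (.node (.node (.node (.leaf 2628) (.leaf 2469)) (.node (.leaf 590) (.leaf 3953))) (.node (.node (.leaf 2327) (.leaf 1230)) (.node (.leaf 734) (.leaf 2778)))))) (.node (.node (.node (.node (.node (.leaf 1359) (.leaf 1264)) (.node (.leaf 2588) (.leaf 2961))) (.node (.node (.leaf 300) (.leaf 878)) (.node (.leaf 2652) (.leaf 1201)))) (.node (.node (.node (.leaf 3523) (.leaf 3403)) (.node (.leaf 3310) (.leaf 3344))) (.node (.node (.leaf 2334) (.leaf 1233)) (.node (.leaf 716) (.leaf 3542))))) (.node (.node (.node (.node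 (.leaf 2140) (.leaf 3540)) (.node (.leaf 3227) (.leaf 2467))) (.node (.node (.leaf 3566) (.leaf 3211)) (.node (.leaf 2493) (.leaf 1198)))) (.node (.node (.node (.leaf 2156) (.leaf 3408)) (.node (.leaf 608) (.leaf 3357))) (.node (.node (.leaf 1313) (.leaf 1228)) (.node (.leaf 1269) (.leaf 3035))))))) (.node (.node (.node (.node (.node (.node (.node (.leaf 1361) (.leaf 2448)) (.leaf 774)) (.node (.leaf 485) (.leaf 3335))) (.node (.node (.leaf 290) (.leaf 2538)) (.node (.leaf 1286) (.leaf 3083)))) (.node (.node (.node (.leaf 1346) (.leaf 2450)) (.node (.leaf 561) (.leaf 3546))) (.node (.node (.leaf 2671) (.leaf 2919)) (.node (.leaf 1277) (.leaf 4001))))) (.node (.node (.node (.node (.leaf 102) (.leaf 2666)) (.node (.leaf 2197) (.leaf 3932))) (.node (.node (.leaf 2215) (.leaf 2708)) (.node (.leaf 3349) (.leaf 2430)))) (.node (.node (.node (.leaf 2132) (.leaf 3064)) (.node (.leaf 1292) (.leaf 1209))) (.node (.node (.leaf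 2489) (.leaf 946)) (.node (.leaf 2424) (.leaf 3705)))))) (.node (.node (.node (.node (.node (.leaf 70) (.leaf 3058)) (.node (.leaf 1306) (.leaf 3763))) (.node (.node (.leaf 2524) (.leaf 3331)) (.node (.leaf 2202) (.leaf 3888)))) (.node (.node (.node (.leaf 1343) (.leaf 3646)) (.node (.leaf 1296) (.leaf 3448))) (.node (.node (.leaf 3602) (.leaf 3974)) (.node (.leaf 1273) (.leaf 2962))))) (.node (.node (.node (.node (.leaf 137) (.leaf 1258)) (.node (.leaf 3212) (.leaf 2403))) (.node (.node (.leaf 2614) (.leaf 3681)) (.node (.leaf 687) (.leaf 1197)))) (.node (.node (.node (.leaf 261) (.leaf 3076)) (.node (.leaf 2456) (.leaf 2986))) (.node (.node (.leaf 461) (.leaf 3432)) (.node (.leaf 1267) (.leaf 3928)))))))) (.node (.node (.node (.node (.node (.node (.node (.node (.leaf 21) (.leaf 2991)) (.leaf 3824)) (.node (.leaf 2420) (.leaf 1225))) (.node (.node (.leaf 283) (.leaf 2580)) (.node (.leaf 1287) (.leaf 4090)))) (.node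 (.node (.node (.leaf 1347) (.leaf 3877)) (.node (.leaf 4149) (.leaf 3342))) (.node (.node (.leaf 2604) (.leaf 3010)) (.node (.leaf 2286) (.leaf 2371))))) (.node (.node (.node (.node (.leaf 2309) (.leaf 2502)) (.node (.leaf 3461) (.leaf 3964))) (.node (.node (.leaf 1327) (.leaf 2476)) (.node (.leaf 1282) (.leaf 3308)))) (.node (.node (.node (.leaf 1340) (.leaf 3482)) (.node (.leaf 596) (.leaf 2584))) (.node (.node (.leaf 2520) (.leaf 4101)) (.node (.leaf 738) (.leaf 3549)))))) (.node (.node (.node (.node (.node (.leaf 59) (.leaf 3411)) (.node (.leaf 2694) (.leaf 2566))) (.node (.node (.leaf 2339) (.leaf 2429)) (.node (.leaf 3679) (.leaf 1200)))) (.node (.node (.node (.leaf 193) (.leaf 3267)) (.node (.leaf 2283) (.leaf 3062))) (.node (.node (.leaf 1318) (.leaf 2737)) (.node (.leaf 722) (.leaf 3008))))) (.node (.node (.node (.node (.leaf 131) (.leaf 2466)) (.node (.leaf 1301) (.leaf 3360))) (.node (.node (.leaf 1325)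 (.leaf 3355)) (.node (.leaf 3822) (.leaf 3457)))) (.node (.node (.node (.leaf 1336) (.leaf 3614)) (.node (.leaf 612) (.leaf 2490))) (.node (.node (.leaf 2210) (.leaf 2873)) (.node (.leaf 1268) (.leaf 3196))))))) (.node (.node (.node (.node (.node (.node (.leaf 40) (.leaf 781)) (.node (.leaf 492) (.leaf 3318))) (.node (.node (.leaf 2704) (.leaf 2581)) (.node (.leaf 3464) (.leaf 3499)))) (.node (.node (.node (.leaf 3582) (.leaf 1254)) (.node (.leaf 1297) (.leaf 3080))) (.node (.node (.leaf 1320) (.leaf 3186)) (.node (.leaf 2740) (.leaf 3845))))) (.node (.node (.node (.node (.leaf 1352) (.leaf 4148)) (.node (.leaf 530) (.leaf 3257))) (.node (.node (.leaf 349) (.leaf 2123)) (.node (.leaf 675) (.leaf 2832)))) (.node (.node (.node (.leaf 235) (.leaf 3787)) (.node (.leaf 2611) (.leaf 1208))) (.node (.node (.leaf 3152) (.leaf 1229)) (.node (.leaf 3622) (.leaf 3610)))))) (.node (.node (.node (.node (.node (.leaf 2340) (.leaf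 2498)) (.node (.leaf 2326) (.leaf 1219))) (.node (.node (.leaf 2508) (.leaf 889)) (.node (.leaf 656) (.leaf 1199)))) (.node (.node (.node (.leaf 1342) (.leaf 4147)) (.node (.leaf 2388) (.leaf 2676))) (.node (.node (.leaf 412) (.leaf 1231)) (.node (.leaf 2595) (.leaf 4112))))) (.node (.node (.node (.node (.leaf 145) (.leaf 2753)) (.node (.leaf 549) (.leaf 2833))) (.node (.node (.leaf 373) (.leaf 2745)) (.node (.leaf 1278) (.leaf 1195)))) (.node (.node (.node (.leaf 2293) (.leaf 4143)) (.node (.leaf 3591) (.leaf 3022))) (.node (.node (.leaf 3250) (.leaf 3794)) (.node (.leaf 3416) (.leaf 4113))))))))))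

def twoRank6 : Janko.Tree (ℕ) :=
  (.node (.node (.node (.node (.node (.node (.node (.node (.node (.node (.leaf 5) (.leaf 2124)) (.leaf 764)) (.node (.leaf 1652) (.leaf 3594))) (.node (.node (.leaf 272) (.leaf 1517)) (.node (.leaf 1610) (.leaf 1008)))) (.node (.node (.node (.leaf 1709) (.leaf 830)) (.node (.leaf 1631) (.leaf 1450))) (.node (.node (.leaf 2872) (.leaf 924)) (.node (.leaf 693) (.leaf 1402))))) (.node (.node (.node (.node (.leaf 82) (.leaf 1551)) (.node (.leaf 509) (.leaf 1463))) (.node (.node (.leaf 1683) (.leaf 1505)) (.node (.leaf 658) (.leaf 3931)))) (.node (.node (.node (.leaf 213) (.leaf 849)) (.node (.leaf 589) (.leaf 2944))) (.node (.node (.leaf 415) (.leaf 1484)) (.node (.leaf 1576) (.leaf 2820)))))) (.node (.node (.node (.node (.node (.leaf 45) (.leaf 2796)) (.node (.leaf 1648) (.leaf 1467))) (.node (.node (.leaf 296) (.leaf 3399)) (.node (.leaf 638) (.leaf 1422)))) (.node (.node (.node (.leaf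 183) (.leaf 1534)) (.node (.leaf 567) (.leaf 1443))) (.node (.node (.leaf 1669) (.leaf 935)) (.node (.leaf 715) (.leaf 3585))))) (.node (.node (.node (.node (.leaf 119) (.leaf 3507)) (.node (.leaf 532) (.leaf 1457))) (.node (.node (.leaf 1677) (.leaf 1499)) (.node (.leaf 1591) (.leaf 1406)))) (.node (.node (.node (.leaf 2935) (.leaf 2980)) (.node (.leaf 1616) (.leaf 3445))) (.node (.node (.leaf 440) (.leaf 1479)) (.node (.leaf 1570) (.leaf 1371))))))) (.node (.node (.node (.node (.node (.node (.node (.leaf 26) (.leaf 3255)) (.leaf 2947)) (.node (.leaf 482) (.leaf 3500))) (.node (.node (.leaf 2918) (.leaf 1514)) (.node (.leaf 1606) (.leaf 3302)))) (.node (.node (.node (.leaf 1707) (.leaf 1537)) (.node (.leaf 1628) (.leaf 3584))) (.node (.node (.leaf 1671) (.leaf 929)) (.node (.leaf 2447) (.leaf 2846))))) (.node (.node (.node (.node (.leaf 99) (.leaf 2890)) (.node (.leaf 1640) (.leaf 1460))) (.node (.node (.leaf 1681)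 (.leaf 900)) (.node (.leaf 669) (.leaf 1020)))) (.node (.node (.node (.leaf 225) (.leaf 3343)) (.node (.leaf 598) (.leaf 995))) (.node (.node (.leaf 430) (.leaf 945)) (.node (.leaf 1573) (.leaf 1378)))))) (.node (.node (.node (.node (.node (.leaf 64) (.leaf 2842)) (.node (.leaf 1646) (.leaf 970))) (.node (.node (.leaf 1686) (.leaf 1509)) (.node (.leaf 1600) (.leaf 1420)))) (.node (.node (.node (.leaf 2886) (.leaf 846)) (.node (.leaf 2352) (.leaf 4099))) (.node (.node (.leaf 1666) (.leaf 1487)) (.node (.leaf 724) (.leaf 4075))))) (.node (.node (.node (.node (.leaf 1711) (.leaf 1541)) (.node (.leaf 543) (.leaf 3346))) (.node (.node (.leaf 363) (.leaf 916)) (.node (.leaf 1588) (.leaf 1403)))) (.node (.node (.node (.leaf 256) (.leaf 1522)) (.node (.leaf 1613) (.leaf 1004))) (.node (.node (.leaf 455) (.leaf 1476)) (.node (.leaf 1566) (.leaf 4133)))))))) (.node (.node (.node (.node (.node (.node (.node (.node (.leaf 15)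 (.leaf 2416)) (.leaf 1561)) (.node (.leaf 475) (.leaf 1470))) (.node (.node (.leaf 280) (.leaf 1516)) (.node (.leaf 1608) (.leaf 1427)))) (.node (.node (.node (.leaf 1708) (.leaf 832)) (.node (.leaf 555) (.leaf 1449))) (.node (.node (.leaf 1672) (.leaf 3643)) (.node (.leaf 1584) (.leaf 3922))))) (.node (.node (.node (.node (.leaf 92) (.leaf 1549)) (.node (.leaf 1642) (.leaf 4138))) (.node (.node (.leaf 328) (.leaf 898)) (.node (.leaf 1594) (.leaf 4109)))) (.node (.node (.node (.leaf 2887) (.leaf 2992)) (.node (.leaf 592) (.leaf 2819))) (.node (.node (.leaf 1662) (.leaf 1482)) (.node (.leaf 736) (.leaf 1380)))))) (.node (.node (.node (.node (.node (.leaf 54) (.leaf 1556)) (.node (.leaf 1647) (.leaf 967))) (.node (.node (.leaf 303) (.leaf 3428)) (.node (.leaf 1601) (.leaf 1421)))) (.node (.node (.node (.leaf 1703) (.leaf 3361)) (.node (.leaf 1624) (.leaf 1439))) (.node (.node (.leaf 397) (.leaf 1488)) (.node (.leaf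 718) (.leaf 2784))))) (.node (.node (.node (.node (.leaf 125) (.leaf 1543)) (.node (.leaf 1634) (.leaf 3803))) (.node (.node (.leaf 1676) (.leaf 2769)) (.node (.leaf 681) (.leaf 1404)))) (.node (.node (.node (.leaf 249) (.leaf 859)) (.node (.leaf 610) (.leaf 1002))) (.node (.node (.leaf 1657) (.leaf 1478)) (.node (.leaf 1568) (.leaf 1369))))))) (.node (.node (.node (.node (.node (.node (.node (.leaf 35) (.leaf 2181)) (.leaf 778)) (.node (.leaf 2897) (.leaf 2776))) (.node (.node (.leaf 1689) (.leaf 875)) (.node (.leaf 1604) (.leaf 3545)))) (.node (.node (.node (.leaf 174) (.leaf 1536)) (.node (.leaf 564) (.leaf 1446))) (.node (.node (.leaf 1670) (.leaf 931)) (.node (.leaf 710) (.leaf 1393))))) (.node (.node (.node (.node (.leaf 109) (.leaf 808)) (.node (.leaf 525) (.leaf 1458))) (.node (.node (.leaf 343) (.leaf 1500)) (.node (.leaf 3156) (.leaf 1410)))) (.node (.node (.node (.leaf 231) (.leaf 1525)) (.node (.leaf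 602) (.leaf 3947))) (.node (.node (.leaf 1659) (.leaf 948)) (.node (.leaf 3015) (.leaf 1375)))))) (.node (.node (.node (.node (.node (.leaf 1721) (.leaf 1553)) (.node (.leaf 1645) (.leaf 972))) (.node (.node (.leaf 318) (.leaf 887)) (.node (.leaf 651) (.leaf 1417)))) (.node (.node (.node (.leaf 1702) (.leaf 1531)) (.node (.leaf 584) (.leaf 3993))) (.node (.node (.leaf 408) (.leaf 4091)) (.node (.leaf 728) (.leaf 3603))))) (.node (.node (.node (.node (.leaf 2939) (.leaf 827)) (.node (.leaf 3088) (.leaf 1453))) (.node (.node (.leaf 370) (.leaf 2764)) (.node (.leaf 690) (.leaf 3907)))) (.node (.node (.node (.leaf 265) (.leaf 3795)) (.node (.leaf 3041) (.leaf 1006))) (.node (.node (.leaf 1653) (.leaf 1474)) (.node (.leaf 1564) (.leaf 1365))))))))) (.node (.node (.node (.node (.node (.node (.node (.node (.node (.leaf 1728) (.leaf 2754)) (.leaf 765)) (.node (.leaf 470) (.leaf 1471))) (.node (.node (.leaf 276) (.leaf 3137))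 (.node (.leaf 626) (.leaf 1428)))) (.node (.node (.node (.leaf 153) (.leaf 831)) (.node (.leaf 553) (.leaf 3941))) (.node (.node (.leaf 1673) (.leaf 925)) (.node (.leaf 694) (.leaf 1400))))) (.node (.node (.node (.node (.leaf 1719) (.leaf 1550)) (.node (.leaf 513) (.leaf 974))) (.node (.node (.leaf 1682) (.leaf 1504)) (.node (.leaf 1595) (.leaf 1019)))) (.node (.node (.node (.leaf 216) (.leaf 1529)) (.node (.leaf 1620) (.leaf 993))) (.node (.node (.leaf 418) (.leaf 2983)) (.node (.leaf 1575) (.leaf 1382)))))) (.node (.node (.node (.node (.node (.leaf 49) (.leaf 3305)) (.node (.leaf 496) (.leaf 3132))) (.node (.node (.leaf 301) (.leaf 1511)) (.node (.leaf 639) (.leaf 1015)))) (.node (.node (.node (.leaf 1704) (.leaf 842)) (.node (.leaf 568) (.leaf 1441))) (.node (.node (.leaf 1668) (.leaf 3405)) (.node (.leaf 1580) (.leaf 2790))))) (.node (.node (.node (.node (.leaf 122) (.leaf 1544)) (.node (.leaf 1635) (.leaf 2785)))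 (.node (.node (.leaf 354) (.leaf 1498)) (.node (.leaf 679) (.leaf 4032)))) (.node (.node (.node (.leaf 244) (.leaf 1524)) (.node (.leaf 1615) (.leaf 1432))) (.node (.node (.leaf 443) (.leaf 952)) (.node (.leaf 752) (.leaf 1370))))))) (.node (.node (.node (.node (.node (.node (.node (.leaf 30) (.leaf 2376)) (.leaf 1559)) (.node (.leaf 486) (.leaf 1469))) (.node (.node (.leaf 1690) (.leaf 871)) (.node (.leaf 634) (.leaf 1012)))) (.node (.node (.node (.leaf 169) (.leaf 836)) (.node (.leaf 562) (.leaf 1447))) (.node (.node (.leaf 388) (.leaf 1491)) (.node (.leaf 3495) (.leaf 1395))))) (.node (.node (.node (.node (.leaf 103) (.leaf 807)) (.node (.leaf 522) (.leaf 3915))) (.node (.node (.leaf 340) (.leaf 901)) (.node (.leaf 1593) (.leaf 2815)))) (.node (.node (.node (.leaf 228) (.leaf 852)) (.node (.leaf 3051) (.leaf 996))) (.node (.node (.leaf 2938) (.leaf 1480)) (.node (.leaf 741) (.leaf 1377)))))) (.node (.node (.node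 (.node (.node (.leaf 1722) (.leaf 1554)) (.node (.leaf 504) (.leaf 1465))) (.node (.node (.leaf 314) (.leaf 1508)) (.node (.leaf 648) (.leaf 3880)))) (.node (.node (.node (.leaf 3144) (.leaf 1532)) (.node (.leaf 3285) (.leaf 3634))) (.node (.node (.leaf 1665) (.leaf 1486)) (.node (.leaf 3025) (.leaf 1385))))) (.node (.node (.node (.node (.leaf 138) (.leaf 823)) (.node (.leaf 1633) (.leaf 2765))) (.node (.node (.leaf 2838) (.leaf 920)) (.node (.leaf 688) (.leaf 3124)))) (.node (.node (.node (.leaf 1694) (.leaf 1521)) (.node (.leaf 615) (.leaf 1430))) (.node (.node (.leaf 1654) (.leaf 4137)) (.node (.leaf 760) (.leaf 3860)))))))) (.node (.node (.node (.node (.node (.node (.node (.node (.leaf 22) (.leaf 2951)) (.leaf 770)) (.node (.leaf 2816) (.leaf 3351))) (.node (.node (.leaf 284) (.leaf 2943)) (.node (.leaf 632) (.leaf 1425)))) (.node (.node (.node (.leaf 162) (.leaf 3688)) (.node (.leaf 1629) (.leaf 1448))) (.node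 (.node (.leaf 384) (.leaf 1492)) (.node (.leaf 703) (.leaf 4127))))) (.node (.node (.node (.node (.leaf 2531) (.leaf 805)) (.node (.leaf 1641) (.leaf 977))) (.node (.node (.leaf 331) (.leaf 2936)) (.node (.leaf 666) (.leaf 3362)))) (.node (.node (.node (.leaf 219) (.leaf 1527)) (.node (.leaf 1619) (.leaf 994))) (.node (.node (.leaf 426) (.leaf 3239)) (.node (.leaf 1574) (.leaf 1379)))))) (.node (.node (.node (.node (.node (.leaf 1723) (.leaf 3438)) (.node (.leaf 500) (.leaf 2844))) (.node (.node (.leaf 306) (.leaf 2761)) (.node (.leaf 644) (.leaf 3547)))) (.node (.node (.node (.leaf 194) (.leaf 1533)) (.node (.leaf 577) (.leaf 2821))) (.node (.node (.leaf 401) (.leaf 939)) (.node (.leaf 1579) (.leaf 1386))))) (.node (.node (.node (.node (.leaf 1712) (.leaf 2786)) (.node (.leaf 540) (.leaf 3178))) (.node (.node (.leaf 358) (.leaf 1496)) (.node (.leaf 1589) (.leaf 3142)))) (.node (.node (.node (.leaf 252) (.leaf 1523))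 (.node (.leaf 1614) (.leaf 2800))) (.node (.node (.leaf 452) (.leaf 1477)) (.node (.leaf 758) (.leaf 1368))))))) (.node (.node (.node (.node (.node (.node (.leaf 1725) (.leaf 782)) (.node (.leaf 1649) (.leaf 1468))) (.node (.node (.leaf 294) (.leaf 2780)) (.node (.leaf 3420) (.leaf 1014)))) (.node (.node (.node (.leaf 1706) (.leaf 838)) (.node (.leaf 3587) (.leaf 1445))) (.node (.node (.leaf 392) (.leaf 1489)) (.node (.leaf 714) (.leaf 1391))))) (.node (.node (.node (.node (.leaf 113) (.leaf 1545)) (.node (.leaf 1637) (.leaf 2791))) (.node (.node (.leaf 1678) (.leaf 3382)) (.node (.leaf 1592) (.leaf 1408)))) (.node (.node (.node (.leaf 236) (.leaf 855)) (.node (.leaf 2836) (.leaf 998))) (.node (.node (.leaf 1658) (.leaf 3071)) (.node (.leaf 1571) (.leaf 1373)))))) (.node (.node (.node (.node (.node (.leaf 1720) (.leaf 794)) (.node (.leaf 1644) (.leaf 2995))) (.node (.node (.leaf 2892) (.leaf 1506)) (.node (.leaf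 1597) (.leaf 3209)))) (.node (.node (.node (.leaf 210) (.leaf 3976)) (.node (.leaf 588) (.leaf 3604))) (.node (.node (.leaf 413) (.leaf 942)) (.node (.leaf 2814) (.leaf 3328))))) (.node (.node (.node (.node (.leaf 1710) (.leaf 2766)) (.node (.leaf 1632) (.leaf 1452))) (.node (.node (.leaf 374) (.leaf 923)) (.node (.leaf 3393) (.leaf 3339)))) (.node (.node (.node (.leaf 2530) (.leaf 1519)) (.node (.leaf 1611) (.leaf 3470))) (.node (.node (.leaf 466) (.leaf 1472)) (.node (.leaf 3437) (.leaf 4130))))))))))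

def twoRank7 : Janko.Tree (ℕ) :=
  (.node (.node (.node (.node (.node (.node (.node (.node (.node (.node (.leaf 6) (.leaf 2128)) (.leaf 1893)) (.node (.leaf 469) (.leaf 3857))) (.node (.node (.leaf 273) (.leaf 3834)) (.node (.leaf 622) (.leaf 1767)))) (.node (.node (.node (.leaf 151) (.leaf 1871)) (.node (.leaf 552) (.leaf 3791))) (.node (.node (.leaf 1990) (.leaf 4047)) (.node (.leaf 3680) (.leaf 3725))))) (.node (.node (.node (.node (.leaf 83) (.leaf 3573)) (.node (.leaf 2625) (.leaf 4036))) (.node (.node (.leaf 325) (.leaf 892)) (.node (.leaf 3939) (.leaf 1759)))) (.node (.node (.node (.leaf 2647) (.leaf 3588)) (.node (.leaf 3745) (.leaf 1778))) (.node (.node (.leaf 2542) (.leaf 2393)) (.node (.leaf 732) (.leaf 1739)))))) (.node (.node (.node (.node (.node (.leaf 2045) (.leaf 1886)) (.node (.leaf 495) (.leaf 3747))) (.node (.node (.leaf 2005) (.leaf 2913)) (.node (.leaf 1927) (.leaf 3715)))) (.node (.node (.node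 (.leaf 2026) (.leaf 841)) (.node (.leaf 3823) (.leaf 989))) (.node (.node (.leaf 395) (.leaf 3300)) (.node (.leaf 4122) (.leaf 3685))))) (.node (.node (.node (.node (.leaf 2036) (.leaf 2464)) (.node (.leaf 3741) (.leaf 980))) (.node (.node (.leaf 353) (.leaf 907)) (.node (.leaf 678) (.leaf 3750)))) (.node (.node (.node (.leaf 2016) (.leaf 857)) (.node (.leaf 606) (.leaf 2899))) (.node (.node (.leaf 2689) (.leaf 951)) (.node (.leaf 748) (.leaf 3030))))))) (.node (.node (.node (.node (.node (.node (.node (.leaf 2047) (.leaf 2965)) (.leaf 1889)) (.node (.leaf 1967) (.leaf 3383))) (.node (.node (.leaf 2008) (.leaf 868)) (.node (.leaf 2547) (.leaf 2441)))) (.node (.node (.node (.leaf 167) (.leaf 835)) (.node (.leaf 4115) (.leaf 2365))) (.node (.node (.leaf 387) (.leaf 1826)) (.node (.leaf 1909) (.leaf 1746))))) (.node (.node (.node (.node (.leaf 100) (.leaf 1879)) (.node (.leaf 520) (.leaf 3925))) (.node (.node (.leaf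 337) (.leaf 1837)) (.node (.leaf 3659) (.leaf 1756)))) (.node (.node (.node (.leaf 2018) (.leaf 3045)) (.node (.leaf 599) (.leaf 3764))) (.node (.node (.leaf 431) (.leaf 1816)) (.node (.leaf 3222) (.leaf 3901)))))) (.node (.node (.node (.node (.node (.leaf 65) (.leaf 1884)) (.node (.leaf 2866) (.leaf 1800))) (.node (.node (.leaf 311) (.leaf 885)) (.node (.leaf 646) (.leaf 3850)))) (.node (.node (.node (.leaf 2023) (.leaf 3440)) (.node (.leaf 1943) (.leaf 1782))) (.node (.node (.leaf 405) (.leaf 3876)) (.node (.leaf 725) (.leaf 1743))))) (.node (.node (.node (.node (.leaf 136) (.leaf 822)) (.node (.leaf 3819) (.leaf 3700))) (.node (.node (.leaf 364) (.leaf 2409)) (.node (.leaf 3729) (.leaf 2882)))) (.node (.node (.node (.leaf 257) (.leaf 2920)) (.node (.leaf 3347) (.leaf 3760))) (.node (.node (.leaf 456) (.leaf 2976)) (.node (.leaf 2533) (.leaf 2955)))))))) (.node (.node (.node (.node (.node (.node (.node (.node (.leaf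 16) (.leaf 2398)) (.leaf 769)) (.node (.leaf 476) (.leaf 959))) (.node (.node (.leaf 2009) (.leaf 2946)) (.node (.leaf 2925) (.leaf 2849)))) (.node (.node (.node (.leaf 158) (.leaf 3709)) (.node (.leaf 556) (.leaf 2823))) (.node (.node (.leaf 383) (.leaf 1828)) (.node (.leaf 700) (.leaf 1748))))) (.node (.node (.node (.node (.leaf 2040) (.leaf 802)) (.node (.leaf 517) (.leaf 3052))) (.node (.node (.leaf 2657) (.leaf 1839)) (.node (.leaf 662) (.leaf 1758)))) (.node (.node (.node (.leaf 2019) (.leaf 2387)) (.node (.leaf 593) (.leaf 1777))) (.node (.node (.leaf 423) (.leaf 3691)) (.node (.leaf 2410) (.leaf 3971)))))) (.node (.node (.node (.node (.node (.leaf 55) (.leaf 3913)) (.node (.leaf 499) (.leaf 1802))) (.node (.node (.leaf 2514) (.leaf 881)) (.node (.leaf 643) (.leaf 2808)))) (.node (.node (.node (.leaf 192) (.leaf 2826)) (.node (.leaf 574) (.leaf 3060))) (.node (.node (.leaf 2698) (.leaf 938)) (.node (.leaf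 719) (.leaf 1744))))) (.node (.node (.node (.node (.leaf 126) (.leaf 818)) (.node (.leaf 536) (.leaf 3279))) (.node (.node (.leaf 357) (.leaf 1833)) (.node (.leaf 682) (.leaf 3029)))) (.node (.node (.node (.leaf 2014) (.leaf 2900)) (.node (.leaf 2472) (.leaf 3182))) (.node (.node (.leaf 449) (.leaf 3669)) (.node (.leaf 2862) (.leaf 4022))))))) (.node (.node (.node (.node (.node (.node (.node (.leaf 36) (.leaf 2367)) (.leaf 1887)) (.node (.leaf 1966) (.leaf 1804))) (.node (.node (.leaf 293) (.leaf 876)) (.node (.leaf 3664) (.leaf 2445)))) (.node (.node (.node (.leaf 175) (.leaf 2825)) (.node (.leaf 1947) (.leaf 4134))) (.node (.node (.leaf 2902) (.leaf 932)) (.node (.leaf 711) (.leaf 3564))))) (.node (.node (.node (.node (.leaf 2037) (.leaf 1877)) (.node (.leaf 2536) (.leaf 978))) (.node (.node (.leaf 344) (.leaf 4077)) (.node (.leaf 2905) (.leaf 3999)))) (.node (.node (.node (.leaf 2518) (.leaf 854)) (.node (.leaf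 1936) (.leaf 1774))) (.node (.node (.leaf 437) (.leaf 1814)) (.node (.leaf 744) (.leaf 3772)))))) (.node (.node (.node (.node (.node (.leaf 75) (.leaf 793)) (.node (.leaf 507) (.leaf 3571))) (.node (.node (.leaf 319) (.leaf 2488)) (.node (.leaf 2516) (.leaf 3837)))) (.node (.node (.node (.leaf 2537) (.leaf 4058)) (.node (.leaf 585) (.leaf 3997))) (.node (.node (.leaf 1981) (.leaf 1819)) (.node (.leaf 1902) (.leaf 1741))))) (.node (.node (.node (.node (.leaf 2032) (.leaf 3713)) (.node (.leaf 2853) (.leaf 984))) (.node (.node (.leaf 1991) (.leaf 1831)) (.node (.leaf 1913) (.leaf 3912)))) (.node (.node (.node (.leaf 2012) (.leaf 1851)) (.node (.leaf 618) (.leaf 1769))) (.node (.node (.leaf 465) (.leaf 3905)) (.node (.leaf 3812) (.leaf 3632))))))))) (.node (.node (.node (.node (.node (.node (.node (.node (.node (.leaf 11) (.leaf 2321)) (.leaf 1892)) (.node (.leaf 2575) (.leaf 2850))) (.node (.node (.leaf 277) (.leaf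 3991)) (.node (.leaf 2654) (.leaf 3720)))) (.node (.node (.node (.leaf 154) (.leaf 3890)) (.node (.leaf 2397) (.leaf 1789))) (.node (.node (.leaf 381) (.leaf 3649)) (.node (.leaf 695) (.leaf 3962))))) (.node (.node (.node (.node (.leaf 88) (.leaf 799)) (.node (.leaf 514) (.leaf 1797))) (.node (.node (.leaf 327) (.leaf 895)) (.node (.leaf 3276) (.leaf 2971)))) (.node (.node (.node (.leaf 2020) (.leaf 2461)) (.node (.leaf 591) (.leaf 3389))) (.node (.node (.leaf 3101) (.leaf 2739)) (.node (.leaf 3390) (.leaf 3569)))))) (.node (.node (.node (.node (.node (.leaf 50) (.leaf 2863)) (.node (.leaf 2419) (.leaf 966))) (.node (.node (.leaf 2004) (.leaf 4062)) (.node (.leaf 1926) (.leaf 3918)))) (.node (.node (.node (.leaf 188) (.leaf 3334)) (.node (.leaf 569) (.leaf 3789))) (.node (.node (.leaf 3117) (.leaf 2804)) (.node (.leaf 717) (.leaf 1745))))) (.node (.node (.node (.node (.leaf 2035) (.leaf 814)) (.node (.leaf 3240)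 (.leaf 1793))) (.node (.node (.leaf 355) (.leaf 911)) (.node (.leaf 2395) (.leaf 4016)))) (.node (.node (.node (.leaf 2015) (.leaf 858)) (.node (.leaf 3321) (.leaf 1001))) (.node (.node (.leaf 444) (.leaf 2868)) (.node (.leaf 2695) (.leaf 3037))))))) (.node (.node (.node (.node (.node (.node (.node (.leaf 31) (.leaf 2183)) (.leaf 775)) (.node (.leaf 487) (.leaf 3353))) (.node (.node (.leaf 291) (.leaf 1846)) (.node (.leaf 2722) (.leaf 3878)))) (.node (.node (.node (.leaf 170) (.leaf 1867)) (.node (.leaf 1948) (.leaf 3396))) (.node (.node (.leaf 1986) (.leaf 2803)) (.node (.leaf 3197) (.leaf 3831))))) (.node (.node (.node (.node (.leaf 104) (.leaf 1878)) (.node (.leaf 1956) (.leaf 3923))) (.node (.node (.leaf 1997) (.leaf 1836)) (.node (.leaf 3260) (.leaf 1755)))) (.node (.node (.node (.leaf 2017) (.leaf 1857)) (.node (.leaf 2603) (.leaf 3949))) (.node (.node (.leaf 1977) (.leaf 947)) (.node (.leaf 2350) (.leaf 3697))))))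 (.node (.node (.node (.node (.node (.leaf 71) (.leaf 792)) (.node (.leaf 2535) (.leaf 3671))) (.node (.node (.leaf 2002) (.leaf 886)) (.node (.leaf 1922) (.leaf 1761)))) (.node (.node (.node (.leaf 202) (.leaf 3652)) (.node (.leaf 3282) (.leaf 1780))) (.node (.node (.leaf 406) (.leaf 3887)) (.node (.leaf 2587) (.leaf 4125))))) (.node (.node (.node (.node (.leaf 139) (.leaf 2407)) (.node (.leaf 3104) (.leaf 1791))) (.node (.node (.leaf 1992) (.leaf 3647)) (.node (.leaf 1914) (.leaf 3910)))) (.node (.node (.node (.leaf 262) (.leaf 2960)) (.node (.leaf 2389) (.leaf 3916))) (.node (.node (.leaf 462) (.leaf 1810)) (.node (.leaf 2639) (.leaf 1732)))))))) (.node (.node (.node (.node (.node (.node (.node (.node (.leaf 2048) (.leaf 2423)) (.leaf 1890)) (.node (.leaf 1968) (.leaf 3506))) (.node (.node (.leaf 285) (.leaf 1848)) (.node (.leaf 2910) (.leaf 4086)))) (.node (.node (.node (.leaf 163) (.leaf 1869)) (.node (.leaf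 3662) (.leaf 3006))) (.node (.node (.leaf 2613) (.leaf 928)) (.node (.leaf 1910) (.leaf 1747))))) (.node (.node (.node (.node (.leaf 2039) (.leaf 1880)) (.node (.leaf 518) (.leaf 1795))) (.node (.node (.leaf 332) (.leaf 1838)) (.node (.leaf 667) (.leaf 1757)))) (.node (.node (.node (.leaf 220) (.leaf 3638)) (.node (.leaf 2828) (.leaf 1776))) (.node (.node (.leaf 1978) (.leaf 3019)) (.node (.leaf 739) (.leaf 4132)))))) (.node (.node (.node (.node (.node (.leaf 60) (.leaf 788)) (.node (.leaf 1962) (.leaf 1801))) (.node (.node (.leaf 3459) (.leaf 1843)) (.node (.leaf 1924) (.leaf 3207)))) (.node (.node (.node (.leaf 195) (.leaf 845)) (.node (.leaf 1944) (.leaf 1783))) (.node (.node (.leaf 402) (.leaf 3176)) (.node (.leaf 2806) (.leaf 3706))))) (.node (.node (.node (.node (.leaf 132) (.leaf 1874)) (.node (.leaf 541) (.leaf 1792))) (.node (.node (.leaf 2560) (.leaf 915)) (.node (.leaf 3814) (.leaf 1752)))) (.node (.node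 (.node (.leaf 253) (.leaf 3808)) (.node (.leaf 613) (.leaf 1770))) (.node (.node (.leaf 1973) (.leaf 2875)) (.node (.leaf 2856) (.leaf 3784))))))) (.node (.node (.node (.node (.node (.node (.leaf 41) (.leaf 783)) (.node (.leaf 493) (.leaf 964))) (.node (.node (.leaf 2711) (.leaf 1845)) (.node (.leaf 636) (.leaf 3676)))) (.node (.node (.node (.leaf 179) (.leaf 839)) (.node (.leaf 2473) (.leaf 988))) (.node (.node (.leaf 2545) (.leaf 934)) (.node (.leaf 1907) (.leaf 3929))))) (.node (.node (.node (.node (.leaf 114) (.leaf 3921)) (.node (.leaf 2851) (.leaf 1794))) (.node (.node (.leaf 350) (.leaf 2443)) (.node (.leaf 676) (.leaf 3329)))) (.node (.node (.node (.leaf 237) (.leaf 1855)) (.node (.leaf 1935) (.leaf 3989))) (.node (.node (.leaf 439) (.leaf 950)) (.node (.leaf 747) (.leaf 4026)))))) (.node (.node (.node (.node (.node (.leaf 80) (.leaf 2507)) (.node (.leaf 3146) (.leaf 3854))) (.node (.node (.leaf 2001) (.leaf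 3497)) (.node (.leaf 2907) (.leaf 1018)))) (.node (.node (.node (.leaf 211) (.leaf 1860)) (.node (.leaf 1941) (.leaf 1779))) (.node (.node (.leaf 1980) (.leaf 3392)) (.node (.leaf 1901) (.leaf 4043))))) (.node (.node (.node (.node (.leaf 146) (.leaf 1872)) (.node (.leaf 550) (.leaf 2807))) (.node (.node (.leaf 375) (.leaf 1830)) (.node (.leaf 2411) (.leaf 3512)))) (.node (.node (.node (.leaf 2011) (.leaf 4015)) (.node (.leaf 621) (.leaf 3039))) (.node (.node (.leaf 467) (.leaf 3757)) (.node (.leaf 762) (.leaf 1730))))))))))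

def twoRank : Janko.Tree (ℕ) := (.node (.node (.node twoRank0 twoRank4) (.node twoRank2 twoRank6)) (.node (.node twoRank1 twoRank5) (.node twoRank3 twoRank7)))

def twoVia0 : Janko.Tree (ℕ × ℕ) :=
  (.node (.node (.node (.node (.node (.node (.node (.node (.node (.node (.leaf (0, 0)) (.leaf (0, 0))) (.leaf (57, 512))) (.node (.leaf (58, 101)) (.leaf (0, 768)))) (.node (.node (.leaf (0, 128)) (.leaf (0, 0))) (.node (.leaf (58, 393)) (.leaf (57, 732))))) (.node (.node (.node (.leaf (0, 0)) (.leaf (0, 576))) (.node (.leaf (25, 69)) (.leaf (17, 172)))) (.node (.node (.leaf (0, 374)) (.leaf (54, 730))) (.node (.leaf (0, 0)) (.leaf (58, 966)))))) (.node (.node (.node (.node (.leaf (4, 32)) (.leaf (4, 550))) (.node (.leaf (53, 201)) (.leaf (58, 800)))) (.node (.node (.leaf (4, 160)) (.leaf (4, 672))) (.node (.leaf (59, 961)) (.leaf (59, 987))))) (.node (.node (.node (.leaf (0, 0)) (.leaf (0, 608))) (.node (.leaf (58, 84))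 (.leaf (4, 864)))) (.node (.node (.leaf (0, 224)) (.leaf (57, 470))) (.node (.leaf (0, 480)) (.leaf (58, 738))))))) (.node (.node (.node (.node (.node (.leaf (0, 0)) (.leaf (0, 782))) (.node (.leaf (25, 54)) (.leaf (51, 784)))) (.node (.node (.leaf (58, 25)) (.leaf (0, 656))) (.node (.leaf (58, 400)) (.leaf (58, 912))))) (.node (.node (.node (.leaf (0, 80)) (.leaf (0, 0))) (.node (.leaf (0, 0)) (.leaf (54, 702)))) (.node (.node (.leaf (4, 208)) (.leaf (48, 720))) (.node (.leaf (58, 442)) (.leaf (59, 976)))))) (.node (.node (.node (.node (.leaf (54, 344)) (.leaf (57, 560))) (.node (.leaf (58, 295)) (.leaf (0, 816)))) (.node (.node (.leaf (48, 176)) (.leaf (7, 688))) (.node (.leaf (25, 110)) (.leaf (59, 933))))) (.node (.node (.node (.leaf (0, 236)) (.leaf (0, 624))) (.node (.leaf (0, 368)) (.leaf (0, 880)))) (.node (.node (.leaf (53, 139)) (.leaf (58, 386))) (.node (.leaf (53, 155)) (.leaf (56, 733)))))))) (.node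 (.node (.node (.node (.node (.node (.node (.leaf (0, 0)) (.leaf (32, 463))) (.leaf (57, 742))) (.node (.leaf (0, 264)) (.leaf (58, 1021)))) (.node (.node (.leaf (0, 284)) (.leaf (58, 679))) (.node (.leaf (8, 392)) (.leaf (0, 904))))) (.node (.node (.node (.leaf (0, 0)) (.leaf (4, 584))) (.node (.leaf (58, 736)) (.leaf (58, 375)))) (.node (.node (.leaf (4, 200)) (.leaf (54, 53))) (.node (.leaf (0, 0)) (.leaf (57, 813)))))) (.node (.node (.node (.node (.leaf (0, 40)) (.leaf (58, 970))) (.node (.leaf (57, 307)) (.leaf (59, 808)))) (.node (.node (.leaf (0, 0)) (.leaf (54, 241))) (.node (.leaf (0, 0)) (.leaf (56, 470))))) (.node (.node (.node (.leaf (54, 526)) (.leaf (58, 193))) (.node (.leaf (0, 360)) (.leaf (58, 525)))) (.node (.node (.leaf (0, 0)) (.leaf (54, 744))) (.node (.leaf (51, 488)) (.leaf (56, 258))))))) (.node (.node (.node (.node (.node (.leaf (0, 24)) (.leaf (53, 916))) (.node (.leaf (0, 280)) (.leaf (0,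 792)))) (.node (.node (.leaf (58, 535)) (.leaf (4, 664))) (.node (.leaf (58, 190)) (.leaf (0, 0))))) (.node (.node (.node (.leaf (0, 194)) (.leaf (6, 535))) (.node (.leaf (0, 0)) (.leaf (54, 856)))) (.node (.node (.leaf (0, 0)) (.leaf (58, 728))) (.node (.leaf (0, 472)) (.leaf (0, 984)))))) (.node (.node (.node (.node (.leaf (54, 46)) (.leaf (48, 3))) (.node (.leaf (0, 0)) (.leaf (52, 305)))) (.node (.node (.leaf (0, 0)) (.leaf (51, 696))) (.node (.leaf (58, 440)) (.leaf (58, 952))))) (.node (.node (.node (.leaf (0, 0)) (.leaf (17, 632))) (.node (.leaf (57, 175)) (.leaf (59, 902)))) (.node (.node (.leaf (0, 248)) (.leaf (57, 624))) (.node (.leaf (53, 134)) (.leaf (52, 1016))))))))) (.node (.node (.node (.node (.node (.node (.node (.node (.leaf (0, 0)) (.leaf (16, 726))) (.leaf (0, 516))) (.node (.leaf (0, 0)) (.leaf (53, 922)))) (.node (.node (.leaf (0, 276)) (.leaf (59, 964))) (.node (.leaf (57, 161)) (.leaf (57,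 900))))) (.node (.node (.node (.leaf (7, 68)) (.leaf (59, 947))) (.node (.leaf (58, 260)) (.leaf (52, 766)))) (.node (.node (.leaf (25, 35)) (.leaf (53, 250))) (.node (.leaf (58, 475)) (.leaf (45, 748)))))) (.node (.node (.node (.node (.leaf (0, 0)) (.leaf (57, 145))) (.node (.leaf (0, 0)) (.leaf (58, 763)))) (.node (.node (.leaf (48, 164)) (.leaf (4, 676))) (.node (.leaf (53, 257)) (.leaf (55, 919))))) (.node (.node (.node (.leaf (58, 661)) (.leaf (0, 786))) (.node (.leaf (57, 169)) (.leaf (57, 503)))) (.node (.node (.leaf (58, 328)) (.leaf (57, 467))) (.node (.leaf (0, 484)) (.leaf (17, 412))))))) (.node (.node (.node (.node (.node (.leaf (0, 0)) (.leaf (31, 336))) (.node (.leaf (4, 276)) (.leaf (58, 291)))) (.node (.node (.leaf (0, 148)) (.leaf (0, 0))) (.node (.leaf (0, 404)) (.leaf (58, 969))))) (.node (.node (.node (.leaf (54, 82)) (.leaf (0, 596))) (.node (.leaf (56, 695)) (.leaf (58, 834)))) (.node (.node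 (.leaf (48, 212)) (.leaf (25, 260))) (.node (.leaf (57, 245)) (.leaf (53, 561)))))) (.node (.node (.node (.node (.leaf (0, 52)) (.leaf (58, 194))) (.node (.leaf (53, 181)) (.leaf (54, 336)))) (.node (.node (.leaf (58, 142)) (.leaf (0, 692))) (.node (.leaf (57, 112)) (.leaf (57, 948))))) (.node (.node (.node (.leaf (53, 341)) (.leaf (0, 628))) (.node (.leaf (0, 372)) (.leaf (16, 884)))) (.node (.node (.leaf (0, 0)) (.leaf (4, 756))) (.node (.leaf (37, 437)) (.leaf (58, 1022)))))))) (.node (.node (.node (.node (.node (.node (.node (.leaf (0, 0)) (.leaf (48, 49))) (.leaf (0, 0))) (.node (.leaf (0, 486)) (.leaf (0, 780)))) (.node (.node (.leaf (57, 46)) (.leaf (0, 0))) (.node (.leaf (57, 139)) (.leaf (58, 908))))) (.node (.node (.node (.leaf (0, 0)) (.leaf (0, 588))) (.node (.leaf (58, 332)) (.leaf (58, 844)))) (.node (.node (.leaf (0, 204)) (.leaf (0, 716))) (.node (.leaf (58, 623)) (.leaf (54, 186)))))) (.node (.node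 (.node (.node (.leaf (0, 103)) (.leaf (57, 507))) (.node (.leaf (0, 300)) (.leaf (7, 812)))) (.node (.node (.leaf (0, 172)) (.leaf (0, 684))) (.node (.leaf (0, 428)) (.leaf (58, 940))))) (.node (.node (.node (.leaf (0, 108)) (.leaf (0, 620))) (.node (.leaf (48, 10)) (.leaf (54, 414)))) (.node (.node (.leaf (4, 236)) (.leaf (58, 687))) (.node (.leaf (0, 0)) (.leaf (58, 708))))))) (.node (.node (.node (.node (.node (.leaf (4, 28)) (.leaf (16, 540))) (.node (.leaf (4, 284)) (.leaf (4, 796)))) (.node (.node (.leaf (0, 0)) (.leaf (25, 664))) (.node (.leaf (0, 412)) (.leaf (59, 620))))) (.node (.node (.node (.leaf (0, 0)) (.leaf (58, 604))) (.node (.leaf (58, 274)) (.leaf (45, 463)))) (.node (.node (.leaf (43, 333)) (.leaf (4, 732))) (.node (.leaf (48, 18)) (.leaf (58, 953)))))) (.node (.node (.node (.node (.leaf (0, 138)) (.leaf (0, 0))) (.node (.leaf (0, 316)) (.leaf (48, 48)))) (.node (.node (.leaf (0, 188)) (.leaf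 (57, 351))) (.node (.leaf (57, 444)) (.leaf (58, 192))))) (.node (.node (.node (.leaf (0, 0)) (.leaf (53, 270))) (.node (.leaf (0, 0)) (.leaf (58, 462)))) (.node (.node (.leaf (48, 252)) (.leaf (57, 214))) (.node (.leaf (37, 215)) (.leaf (57, 1020)))))))))) (.node (.node (.node (.node (.node (.node (.node (.node (.node (.leaf (0, 5)) (.leaf (6, 0))) (.leaf (57, 499))) (.node (.leaf (47, 258)) (.leaf (52, 770)))) (.node (.node (.leaf (0, 0)) (.leaf (0, 642))) (.node (.leaf (0, 0)) (.leaf (0, 898))))) (.node (.node (.node (.leaf (4, 66)) (.leaf (58, 455))) (.node (.leaf (25, 318)) (.leaf (54, 650)))) (.node (.node (.leaf (4, 194)) (.leaf (59, 854))) (.node (.leaf (58, 914)) (.leaf (59, 898)))))) (.node (.node (.node (.node (.leaf (7, 34)) (.leaf (4, 546))) (.node (.leaf (0, 0)) (.leaf (0, 802)))) (.node (.node (.leaf (57, 15)) (.leaf (6, 674))) (.node (.leaf (58, 554)) (.leaf (56, 880))))) (.node (.node (.node (.leaf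 (48, 5)) (.leaf (58, 610))) (.node (.leaf (54, 742)) (.leaf (0, 0)))) (.node (.node (.leaf (0, 0)) (.leaf (29, 738))) (.node (.leaf (57, 20)) (.leaf (48, 63))))))) (.node (.node (.node (.node (.node (.leaf (0, 18)) (.leaf (0, 530))) (.node (.leaf (48, 274)) (.leaf (35, 786)))) (.node (.node (.leaf (53, 649)) (.leaf (31, 448))) (.node (.leaf (51, 791)) (.leaf (0, 914))))) (.node (.node (.node (.leaf (0, 0)) (.leaf (48, 594))) (.node (.leaf (54, 821)) (.leaf (57, 784)))) (.node (.node (.leaf (57, 55)) (.leaf (0, 722))) (.node (.leaf (59, 643)) (.leaf (58, 978)))))) (.node (.node (.node (.node (.leaf (0, 0)) (.leaf (0, 562))) (.node (.leaf (58, 240)) (.leaf (0, 818)))) (.node (.node (.leaf (10, 178)) (.leaf (58, 730))) (.node (.leaf (25, 430)) (.leaf (57, 855))))) (.node (.node (.node (.leaf (0, 0)) (.leaf (57, 534))) (.node (.leaf (57, 12)) (.leaf (25, 421)))) (.node (.node (.leaf (0, 242)) (.leaf (0, 754))) (.node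 (.leaf (0, 0)) (.leaf (58, 1010)))))))) (.node (.node (.node (.node (.node (.node (.node (.leaf (0, 10)) (.leaf (40, 660))) (.leaf (58, 553))) (.node (.leaf (0, 0)) (.leaf (55, 783)))) (.node (.node (.leaf (4, 138)) (.leaf (0, 0))) (.node (.leaf (58, 660)) (.leaf (57, 541))))) (.node (.node (.node (.leaf (4, 74)) (.leaf (18, 192))) (.node (.leaf (5, 594)) (.leaf (57, 969)))) (.node (.node (.leaf (57, 57)) (.leaf (0, 714))) (.node (.leaf (0, 458)) (.leaf (57, 970)))))) (.node (.node (.node (.node (.leaf (0, 0)) (.leaf (58, 414))) (.node (.leaf (57, 222)) (.leaf (59, 810)))) (.node (.node (.leaf (0, 0)) (.leaf (57, 669))) (.node (.leaf (58, 603)) (.leaf (57, 817))))) (.node (.node (.node (.leaf (0, 0)) (.leaf (59, 986))) (.node (.leaf (0, 0)) (.leaf (53, 874)))) (.node (.node (.leaf (0, 430)) (.leaf (0, 746))) (.node (.leaf (56, 461)) (.leaf (53, 1002))))))) (.node (.node (.node (.node (.node (.leaf (0, 0)) (.leaf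 (4, 538))) (.node (.leaf (0, 282)) (.leaf (57, 794)))) (.node (.node (.leaf (0, 0)) (.leaf (16, 666))) (.node (.leaf (58, 146)) (.leaf (8, 922))))) (.node (.node (.node (.leaf (0, 90)) (.leaf (58, 557))) (.node (.leaf (0, 346)) (.leaf (50, 277)))) (.node (.node (.leaf (58, 218)) (.leaf (53, 917))) (.node (.leaf (0, 0)) (.leaf (58, 641)))))) (.node (.node (.node (.node (.leaf (10, 58)) (.leaf (47, 570))) (.node (.leaf (58, 314)) (.leaf (57, 826)))) (.node (.node (.leaf (0, 363)) (.leaf (0, 0))) (.node (.leaf (53, 442)) (.leaf (0, 954))))) (.node (.node (.node (.leaf (58, 472)) (.leaf (50, 634))) (.node (.leaf (45, 585)) (.leaf (53, 708)))) (.node (.node (.leaf (0, 0)) (.leaf (57, 762))) (.node (.leaf (57, 136)) (.leaf (58, 996))))))))) (.node (.node (.node (.node (.node (.node (.node (.node (.leaf (0, 0)) (.leaf (24, 125))) (.leaf (57, 518))) (.node (.leaf (0, 475)) (.leaf (0, 774)))) (.node (.node (.leaf (0, 0))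 (.leaf (58, 1011))) (.node (.leaf (0, 390)) (.leaf (57, 902))))) (.node (.node (.node (.leaf (0, 70)) (.leaf (53, 174))) (.node (.leaf (0, 0)) (.leaf (0, 838)))) (.node (.node (.leaf (48, 198)) (.leaf (4, 710))) (.node (.leaf (0, 0)) (.leaf (33, 966)))))) (.node (.node (.node (.node (.leaf (0, 0)) (.leaf (0, 796))) (.node (.leaf (58, 294)) (.leaf (43, 806)))) (.node (.node (.leaf (0, 166)) (.leaf (57, 678))) (.node (.leaf (0, 422)) (.leaf (0, 934))))) (.node (.node (.node (.leaf (0, 102)) (.leaf (54, 179))) (.node (.leaf (0, 0)) (.leaf (0, 870)))) (.node (.node (.leaf (0, 0)) (.leaf (58, 269))) (.node (.leaf (4, 486)) (.leaf (58, 828))))))) (.node (.node (.node (.node (.node (.leaf (7, 22)) (.leaf (0, 0))) (.node (.leaf (54, 14)) (.leaf (58, 695)))) (.node (.node (.leaf (0, 0)) (.leaf (58, 727))) (.node (.leaf (58, 406)) (.leaf (0, 918))))) (.node (.node (.node (.leaf (54, 79)) (.leaf (25, 184))) (.node (.leaf (0,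 0)) (.leaf (59, 769)))) (.node (.node (.leaf (0, 0)) (.leaf (5, 726))) (.node (.leaf (0, 0)) (.leaf (55, 565)))))) (.node (.node (.node (.node (.leaf (0, 0)) (.leaf (0, 566))) (.node (.leaf (0, 310)) (.leaf (0, 822)))) (.node (.node (.leaf (47, 182)) (.leaf (48, 6))) (.node (.leaf (0, 0)) (.leaf (57, 394))))) (.node (.node (.node (.leaf (0, 118)) (.leaf (4, 630))) (.node (.leaf (4, 374)) (.leaf (58, 886)))) (.node (.node (.leaf (0, 0)) (.leaf (45, 953))) (.node (.leaf (0, 502)) (.leaf (54, 795)))))))) (.node (.node (.node (.node (.node (.node (.node (.leaf (7, 14)) (.leaf (56, 484))) (.leaf (0, 0))) (.node (.leaf (4, 270)) (.leaf (4, 782)))) (.node (.node (.leaf (48, 142)) (.leaf (0, 875))) (.node (.leaf (58, 96)) (.leaf (52, 425))))) (.node (.node (.node (.leaf (7, 78)) (.leaf (0, 590))) (.node (.leaf (0, 334)) (.leaf (53, 473)))) (.node (.node (.leaf (0, 206)) (.leaf (0, 0))) (.node (.leaf (0, 710)) (.leaf (58,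 974)))))) (.node (.node (.node (.node (.leaf (0, 0)) (.leaf (0, 558))) (.node (.leaf (0, 0)) (.leaf (0, 814)))) (.node (.node (.leaf (0, 0)) (.leaf (57, 553))) (.node (.leaf (4, 430)) (.leaf (57, 877))))) (.node (.node (.node (.leaf (0, 0)) (.leaf (49, 622))) (.node (.leaf (58, 363)) (.leaf (54, 415)))) (.node (.node (.leaf (54, 7)) (.leaf (0, 750))) (.node (.leaf (0, 0)) (.leaf (59, 767))))))) (.node (.node (.node (.node (.node (.leaf (0, 0)) (.leaf (25, 538))) (.node (.leaf (54, 13)) (.leaf (57, 317)))) (.node (.node (.leaf (0, 318)) (.leaf (47, 16))) (.node (.leaf (0, 0)) (.leaf (54, 926))))) (.node (.node (.node (.leaf (0, 94)) (.leaf (4, 606))) (.node (.leaf (0, 584)) (.leaf (54, 862)))) (.node (.node (.leaf (53, 523)) (.leaf (0, 734))) (.node (.leaf (58, 444)) (.leaf (48, 990)))))) (.node (.node (.node (.node (.leaf (4, 62)) (.leaf (57, 741))) (.node (.leaf (4, 318)) (.leaf (46, 563)))) (.node (.node (.leaf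 (0, 0)) (.leaf (0, 702))) (.node (.leaf (0, 446)) (.leaf (0, 958))))) (.node (.node (.node (.leaf (0, 0)) (.leaf (58, 512))) (.node (.leaf (0, 0)) (.leaf (58, 990)))) (.node (.node (.leaf (10, 254)) (.leaf (0, 0))) (.node (.leaf (58, 137)) (.leaf (59, 1022)))))))))))

def twoVia1 : Janko.Tree (ℕ × ℕ) :=
  (.node (.node (.node (.node (.node (.node (.node (.node (.node (.node (.leaf (0, 0)) (.leaf (1, 0))) (.leaf (1, 512))) (.node (.leaf (55, 245)) (.leaf (0, 0)))) (.node (.node (.leaf (0, 0)) (.leaf (0, 0))) (.node (.leaf (23, 194)) (.leaf (51, 733))))) (.node (.node (.node (.leaf (0, 0)) (.leaf (49, 875))) (.node (.leaf (54, 26)) (.leaf (38, 873)))) (.node (.node (.leaf (1, 192)) (.leaf (51, 249))) (.node (.leaf (57, 147)) (.leaf (58, 549)))))) (.node (.node (.node (.node (.leaf (4, 78)) (.leaf (0, 0))) (.node (.leaf (53, 285)) (.leaf (57, 1004)))) (.node (.node (.leaf (1, 160)) (.leaf (1, 672))) (.node (.leaf (51,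 207)) (.leaf (56, 607))))) (.node (.node (.node (.leaf (58, 237)) (.leaf (50, 371))) (.node (.leaf (51, 78)) (.leaf (1, 864)))) (.node (.node (.leaf (1, 224)) (.leaf (58, 758))) (.node (.leaf (53, 20)) (.leaf (1, 992))))))) (.node (.node (.node (.node (.node (.leaf (0, 0)) (.leaf (1, 528))) (.node (.leaf (13, 728)) (.leaf (54, 147)))) (.node (.node (.leaf (52, 442)) (.leaf (53, 224))) (.node (.leaf (1, 400)) (.leaf (23, 688))))) (.node (.node (.node (.leaf (7, 308)) (.leaf (57, 685))) (.node (.leaf (57, 223)) (.leaf (57, 928)))) (.node (.node (.leaf (1, 208)) (.leaf (50, 905))) (.node (.leaf (58, 121)) (.leaf (52, 544)))))) (.node (.node (.node (.node (.leaf (0, 0)) (.leaf (0, 0))) (.node (.leaf (51, 283)) (.leaf (1, 816)))) (.node (.node (.leaf (1, 176)) (.leaf (1, 688))) (.node (.leaf (54, 45)) (.leaf (28, 497))))) (.node (.node (.node (.leaf (1, 112)) (.leaf (58, 506))) (.node (.leaf (53, 12)) (.leaf (58, 488))))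 (.node (.node (.leaf (53, 237)) (.leaf (16, 280))) (.node (.leaf (23, 270)) (.leaf (58, 649)))))))) (.node (.node (.node (.node (.node (.node (.node (.leaf (0, 0)) (.leaf (33, 672))) (.leaf (38, 832))) (.node (.leaf (39, 124)) (.leaf (1, 776)))) (.node (.node (.leaf (1, 136)) (.leaf (58, 719))) (.node (.leaf (54, 523)) (.leaf (58, 936))))) (.node (.node (.node (.leaf (58, 285)) (.leaf (1, 584))) (.node (.leaf (21, 160)) (.leaf (58, 841)))) (.node (.node (.leaf (1, 200)) (.leaf (22, 467))) (.node (.leaf (58, 576)) (.leaf (58, 979)))))) (.node (.node (.node (.node (.leaf (0, 0)) (.leaf (40, 530))) (.node (.leaf (54, 347)) (.leaf (52, 396)))) (.node (.node (.leaf (0, 0)) (.leaf (50, 628))) (.node (.leaf (27, 110)) (.leaf (29, 839))))) (.node (.node (.node (.leaf (0, 0)) (.leaf (50, 365))) (.node (.leaf (58, 320)) (.leaf (58, 546)))) (.node (.node (.leaf (0, 0)) (.leaf (43, 54))) (.node (.leaf (55, 461)) (.leaf (1, 1000)))))))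 (.node (.node (.node (.node (.node (.leaf (0, 0)) (.leaf (1, 536))) (.node (.leaf (53, 14)) (.leaf (1, 792)))) (.node (.node (.leaf (0, 0)) (.leaf (1, 664))) (.node (.leaf (54, 459)) (.leaf (25, 909))))) (.node (.node (.node (.leaf (1, 88)) (.leaf (6, 360))) (.node (.leaf (58, 702)) (.leaf (58, 820)))) (.node (.node (.leaf (58, 36)) (.leaf (16, 272))) (.node (.leaf (58, 432)) (.leaf (58, 470)))))) (.node (.node (.node (.node (.leaf (48, 37)) (.leaf (0, 0))) (.node (.leaf (27, 69)) (.leaf (52, 686)))) (.node (.node (.leaf (0, 0)) (.leaf (58, 697))) (.node (.leaf (21, 236)) (.leaf (52, 759))))) (.node (.node (.node (.leaf (52, 255)) (.leaf (54, 878))) (.node (.leaf (54, 34)) (.leaf (52, 819)))) (.node (.node (.leaf (4, 171)) (.leaf (1, 760))) (.node (.leaf (27, 412)) (.leaf (4, 919))))))))) (.node (.node (.node (.node (.node (.node (.node (.node (.leaf (0, 0)) (.leaf (17, 707))) (.leaf (11, 499))) (.node (.leaf (0,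 0)) (.leaf (40, 824)))) (.node (.node (.leaf (1, 132)) (.leaf (27, 326))) (.node (.leaf (55, 285)) (.leaf (47, 775))))) (.node (.node (.node (.leaf (1, 68)) (.leaf (16, 455))) (.node (.leaf (58, 399)) (.leaf (16, 376)))) (.node (.node (.leaf (54, 12)) (.leaf (0, 0))) (.node (.leaf (0, 0)) (.leaf (52, 907)))))) (.node (.node (.node (.node (.leaf (0, 0)) (.leaf (48, 755))) (.node (.leaf (55, 237)) (.leaf (27, 380)))) (.node (.node (.leaf (13, 218)) (.leaf (1, 676))) (.node (.leaf (1, 420)) (.leaf (57, 1005))))) (.node (.node (.node (.leaf (15, 95)) (.leaf (51, 503))) (.node (.leaf (57, 439)) (.leaf (1, 868)))) (.node (.node (.leaf (0, 0)) (.leaf (25, 710))) (.node (.leaf (57, 25)) (.leaf (52, 699))))))) (.node (.node (.node (.node (.node (.leaf (0, 0)) (.leaf (1, 532))) (.node (.leaf (1, 276)) (.leaf (1, 788)))) (.node (.node (.leaf (1, 148)) (.leaf (0, 0))) (.node (.leaf (16, 216)) (.leaf (57, 514))))) (.node (.node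 (.node (.leaf (54, 35)) (.leaf (58, 548))) (.node (.leaf (0, 0)) (.leaf (56, 835)))) (.node (.node (.leaf (47, 278)) (.leaf (21, 661))) (.node (.leaf (58, 450)) (.leaf (52, 875)))))) (.node (.node (.node (.node (.leaf (1, 115)) (.leaf (0, 0))) (.node (.leaf (1, 308)) (.leaf (52, 926)))) (.node (.node (.leaf (55, 169)) (.leaf (39, 448))) (.node (.leaf (58, 511)) (.leaf (1, 1011))))) (.node (.node (.node (.leaf (1, 116)) (.leaf (57, 674))) (.node (.leaf (57, 44)) (.leaf (1, 884)))) (.node (.node (.leaf (0, 0)) (.leaf (1, 756))) (.node (.leaf (27, 276)) (.leaf (55, 773)))))))) (.node (.node (.node (.node (.node (.node (.node (.leaf (0, 0)) (.leaf (49, 534))) (.leaf (27, 1006))) (.node (.leaf (1, 268)) (.leaf (38, 925)))) (.node (.node (.leaf (48, 240)) (.leaf (52, 244))) (.node (.leaf (55, 277)) (.leaf (49, 966))))) (.node (.node (.node (.leaf (0, 0)) (.leaf (32, 351))) (.node (.leaf (15, 75)) (.leaf (55, 787)))) (.node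 (.node (.leaf (13, 626)) (.leaf (58, 271))) (.node (.leaf (16, 116)) (.leaf (40, 319)))))) (.node (.node (.node (.node (.leaf (1, 44)) (.leaf (58, 543))) (.node (.leaf (1, 411)) (.leaf (1, 812)))) (.node (.node (.leaf (17, 76)) (.leaf (27, 395))) (.node (.leaf (0, 0)) (.leaf (50, 1000))))) (.node (.node (.node (.leaf (1, 221)) (.leaf (52, 382))) (.node (.leaf (58, 369)) (.leaf (51, 483)))) (.node (.node (.leaf (1, 236)) (.leaf (58, 689))) (.node (.leaf (42, 743)) (.leaf (58, 1019))))))) (.node (.node (.node (.node (.node (.leaf (1, 28)) (.leaf (48, 322))) (.node (.leaf (1, 284)) (.leaf (1, 796)))) (.node (.node (.leaf (0, 0)) (.leaf (47, 432))) (.node (.leaf (4, 299)) (.leaf (1, 924))))) (.node (.node (.node (.leaf (58, 98)) (.leaf (27, 82))) (.node (.leaf (16, 75)) (.leaf (15, 389)))) (.node (.node (.leaf (58, 373)) (.leaf (1, 732))) (.node (.leaf (58, 481)) (.leaf (50, 597)))))) (.node (.node (.node (.node (.leaf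 (1, 60)) (.leaf (0, 0))) (.node (.leaf (0, 0)) (.leaf (35, 963)))) (.node (.node (.leaf (57, 305)) (.leaf (1, 700))) (.node (.leaf (47, 696)) (.leaf (27, 683))))) (.node (.node (.node (.leaf (52, 264)) (.leaf (52, 437))) (.node (.leaf (42, 617)) (.leaf (1, 892)))) (.node (.node (.leaf (1, 252)) (.leaf (58, 71))) (.node (.leaf (27, 284)) (.leaf (52, 660)))))))))) (.node (.node (.node (.node (.node (.node (.node (.node (.node (.leaf (1, 2)) (.leaf (7, 0))) (.leaf (56, 214))) (.node (.leaf (58, 259)) (.leaf (23, 516)))) (.node (.node (.leaf (54, 271)) (.leaf (0, 0))) (.node (.leaf (0, 0)) (.leaf (58, 129))))) (.node (.node (.node (.leaf (4, 149)) (.leaf (51, 173))) (.node (.leaf (53, 319)) (.leaf (1, 834)))) (.node (.node (.leaf (1, 194)) (.leaf (1, 706))) (.node (.leaf (58, 487)) (.leaf (1, 1006)))))) (.node (.node (.node (.node (.leaf (1, 34)) (.leaf (1, 546))) (.node (.leaf (0, 0)) (.leaf (57, 590)))) (.node (.node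 (.leaf (48, 101)) (.leaf (57, 628))) (.node (.leaf (22, 224)) (.leaf (51, 428))))) (.node (.node (.node (.leaf (0, 0)) (.leaf (52, 561))) (.node (.leaf (1, 354)) (.leaf (0, 0)))) (.node (.node (.leaf (49, 417)) (.leaf (51, 391))) (.node (.leaf (58, 466)) (.leaf (52, 705))))))) (.node (.node (.node (.node (.node (.leaf (0, 0)) (.leaf (58, 210))) (.node (.leaf (47, 477)) (.leaf (1, 786)))) (.node (.node (.leaf (1, 146)) (.leaf (23, 107))) (.node (.leaf (58, 368)) (.leaf (58, 147))))) (.node (.node (.node (.leaf (0, 0)) (.leaf (58, 595))) (.node (.leaf (37, 613)) (.leaf (12, 850)))) (.node (.node (.leaf (27, 131)) (.leaf (58, 674))) (.node (.leaf (1, 466)) (.leaf (43, 607)))))) (.node (.node (.node (.node (.leaf (17, 106)) (.leaf (1, 562))) (.node (.leaf (1, 521)) (.leaf (38, 913)))) (.node (.node (.leaf (48, 86)) (.leaf (0, 0))) (.node (.leaf (53, 431)) (.leaf (1, 1007))))) (.node (.node (.node (.leaf (0, 0)) (.leaf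 (24, 284))) (.node (.leaf (58, 12)) (.leaf (7, 724)))) (.node (.node (.leaf (57, 283)) (.leaf (46, 501))) (.node (.leaf (0, 0)) (.leaf (1, 1010)))))))) (.node (.node (.node (.node (.node (.node (.node (.leaf (0, 0)) (.leaf (41, 484))) (.leaf (57, 721))) (.node (.leaf (0, 0)) (.leaf (1, 874)))) (.node (.node (.leaf (1, 138)) (.leaf (38, 692))) (.node (.leaf (58, 750)) (.leaf (15, 849))))) (.node (.node (.node (.leaf (4, 34)) (.leaf (11, 191))) (.node (.leaf (52, 222)) (.leaf (56, 790)))) (.node (.node (.leaf (27, 387)) (.leaf (53, 53))) (.node (.leaf (0, 0)) (.leaf (58, 962)))))) (.node (.node (.node (.node (.leaf (27, 27)) (.leaf (50, 754))) (.node (.leaf (58, 794)) (.leaf (58, 803)))) (.node (.node (.leaf (53, 569)) (.leaf (58, 662))) (.node (.leaf (1, 658)) (.leaf (49, 931))))) (.node (.node (.node (.leaf (17, 227)) (.leaf (43, 35))) (.node (.leaf (27, 183)) (.leaf (13, 874)))) (.node (.node (.leaf (1, 234)) (.leaf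 (58, 745))) (.node (.leaf (47, 712)) (.leaf (27, 421))))))) (.node (.node (.node (.node (.node (.leaf (0, 0)) (.leaf (1, 538))) (.node (.leaf (45, 134)) (.leaf (27, 153)))) (.node (.node (.leaf (52, 313)) (.leaf (48, 434))) (.node (.leaf (58, 887)) (.leaf (15, 907))))) (.node (.node (.node (.leaf (0, 0)) (.leaf (16, 196))) (.node (.leaf (0, 0)) (.leaf (58, 95)))) (.node (.node (.leaf (21, 97)) (.leaf (27, 123))) (.node (.leaf (10, 421)) (.leaf (58, 971)))))) (.node (.node (.node (.node (.leaf (54, 93)) (.leaf (52, 816))) (.node (.leaf (25, 64)) (.leaf (1, 826)))) (.node (.node (.leaf (1, 186)) (.leaf (0, 0))) (.node (.leaf (52, 146)) (.leaf (55, 947))))) (.node (.node (.node (.leaf (0, 0)) (.leaf (24, 276))) (.node (.leaf (53, 375)) (.leaf (1, 890)))) (.node (.node (.leaf (0, 0)) (.leaf (28, 295))) (.node (.leaf (58, 624)) (.leaf (58, 250))))))))) (.node (.node (.node (.node (.node (.node (.node (.node (.leaf (0,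 0)) (.leaf (25, 687))) (.leaf (58, 608))) (.node (.leaf (1, 262)) (.leaf (58, 293)))) (.node (.node (.leaf (0, 0)) (.leaf (57, 76))) (.node (.leaf (0, 0)) (.leaf (58, 531))))) (.node (.node (.node (.leaf (0, 0)) (.leaf (0, 0))) (.node (.leaf (55, 98)) (.leaf (51, 589)))) (.node (.node (.leaf (53, 195)) (.leaf (1, 710))) (.node (.leaf (35, 707)) (.leaf (39, 824)))))) (.node (.node (.node (.node (.leaf (0, 0)) (.leaf (1, 550))) (.node (.leaf (21, 138)) (.leaf (0, 0)))) (.node (.node (.leaf (52, 103)) (.leaf (40, 656))) (.node (.leaf (0, 0)) (.leaf (58, 933))))) (.node (.node (.node (.leaf (53, 9)) (.leaf (48, 840))) (.node (.leaf (57, 664)) (.leaf (57, 818)))) (.node (.node (.leaf (51, 252)) (.leaf (50, 477))) (.node (.leaf (1, 486)) (.leaf (54, 870))))))) (.node (.node (.node (.node (.node (.leaf (1, 22)) (.leaf (0, 0))) (.node (.leaf (54, 21)) (.leaf (57, 753)))) (.node (.node (.leaf (49, 305)) (.leaf (1, 662)))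 (.node (.leaf (52, 716)) (.leaf (1, 1016))))) (.node (.node (.node (.leaf (54, 169)) (.leaf (7, 789))) (.node (.leaf (52, 576)) (.leaf (1, 854)))) (.node (.node (.leaf (0, 0)) (.leaf (6, 472))) (.node (.leaf (58, 905)) (.leaf (49, 581)))))) (.node (.node (.node (.node (.leaf (0, 0)) (.leaf (39, 336))) (.node (.leaf (0, 0)) (.leaf (1, 822)))) (.node (.node (.leaf (45, 136)) (.leaf (0, 0))) (.node (.leaf (58, 38)) (.leaf (27, 761))))) (.node (.node (.node (.leaf (1, 118)) (.leaf (1, 630))) (.node (.leaf (1, 374)) (.leaf (27, 664)))) (.node (.node (.leaf (15, 48)) (.leaf (58, 280))) (.node (.leaf (0, 0)) (.leaf (13, 1014)))))))) (.node (.node (.node (.node (.node (.node (.node (.leaf (1, 14)) (.leaf (57, 461))) (.leaf (52, 168))) (.node (.leaf (1, 270)) (.leaf (1, 782)))) (.node (.node (.leaf (13, 440)) (.leaf (1, 654))) (.node (.leaf (50, 162)) (.leaf (51, 181))))) (.node (.node (.node (.leaf (1, 78)) (.leaf (58, 195)))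 (.node (.leaf (55, 220)) (.leaf (27, 184)))) (.node (.node (.leaf (58, 422)) (.leaf (57, 388))) (.node (.leaf (1, 462)) (.leaf (28, 554)))))) (.node (.node (.node (.node (.leaf (0, 0)) (.leaf (11, 507))) (.node (.leaf (0, 0)) (.leaf (40, 563)))) (.node (.node (.leaf (0, 0)) (.leaf (0, 0))) (.node (.leaf (1, 430)) (.leaf (54, 879))))) (.node (.node (.node (.leaf (0, 0)) (.leaf (58, 968))) (.node (.leaf (40, 378)) (.leaf (30, 715)))) (.node (.node (.leaf (54, 17)) (.leaf (58, 394))) (.node (.leaf (25, 475)) (.leaf (12, 1006))))))) (.node (.node (.node (.node (.node (.leaf (0, 0)) (.leaf (47, 320))) (.node (.leaf (54, 22)) (.leaf (42, 591)))) (.node (.node (.leaf (1, 158)) (.leaf (0, 0))) (.node (.leaf (0, 0)) (.leaf (52, 911))))) (.node (.node (.node (.leaf (0, 0)) (.leaf (1, 606))) (.node (.leaf (1, 350)) (.leaf (1, 862)))) (.node (.node (.leaf (1, 222)) (.leaf (48, 483))) (.node (.leaf (58, 452)) (.leaf (58, 960))))))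 (.node (.node (.node (.node (.leaf (1, 62)) (.leaf (1, 574))) (.node (.leaf (1, 318)) (.leaf (52, 368)))) (.node (.node (.leaf (0, 0)) (.leaf (51, 371))) (.node (.leaf (53, 125)) (.leaf (58, 906))))) (.node (.node (.node (.leaf (0, 0)) (.leaf (4, 764))) (.node (.leaf (16, 365)) (.leaf (28, 946)))) (.node (.node (.leaf (48, 127)) (.leaf (0, 0))) (.node (.leaf (50, 238)) (.leaf (58, 731)))))))))))

def twoVia2 : Janko.Tree (ℕ × ℕ) :=
  (.node (.node (.node (.node (.node (.node (.node (.node (.node (.node (.leaf (0, 0)) (.leaf (2, 0))) (.leaf (57, 260))) (.node (.leaf (12, 920)) (.leaf (59, 824)))) (.node (.node (.leaf (0, 0)) (.leaf (2, 640))) (.node (.leaf (43, 165)) (.leaf (0, 0))))) (.node (.node (.node (.leaf (0, 0)) (.leaf (0, 0))) (.node (.leaf (0, 0)) (.leaf (2, 832)))) (.node (.node (.leaf (0, 0)) (.leaf (2, 704))) (.node (.leaf (2, 448)) (.leaf (2, 960)))))) (.node (.node (.node (.node (.leaf (0, 0)) (.leaf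 (2, 544))) (.node (.leaf (58, 491)) (.leaf (0, 0)))) (.node (.node (.leaf (0, 0)) (.leaf (0, 0))) (.node (.leaf (2, 416)) (.leaf (59, 612))))) (.node (.node (.node (.leaf (58, 586)) (.leaf (58, 235))) (.node (.leaf (2, 352)) (.leaf (53, 957)))) (.node (.node (.leaf (0, 0)) (.leaf (2, 736))) (.node (.leaf (0, 0)) (.leaf (43, 446))))))) (.node (.node (.node (.node (.node (.leaf (2, 16)) (.leaf (43, 220))) (.node (.leaf (0, 0)) (.leaf (58, 629)))) (.node (.node (.leaf (2, 144)) (.leaf (0, 0))) (.node (.leaf (58, 436)) (.leaf (12, 1014))))) (.node (.node (.node (.leaf (0, 0)) (.leaf (43, 394))) (.node (.leaf (2, 336)) (.leaf (2, 848)))) (.node (.node (.leaf (0, 0)) (.leaf (57, 905))) (.node (.leaf (2, 464)) (.leaf (2, 976)))))) (.node (.node (.node (.node (.leaf (2, 48)) (.leaf (0, 0))) (.node (.leaf (2, 304)) (.leaf (43, 527)))) (.node (.node (.leaf (0, 0)) (.leaf (51, 457))) (.node (.leaf (0, 0)) (.leaf (2, 944)))))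 (.node (.node (.node (.leaf (0, 0)) (.leaf (58, 359))) (.node (.leaf (0, 0)) (.leaf (53, 660)))) (.node (.node (.leaf (43, 422)) (.leaf (50, 506))) (.node (.leaf (43, 241)) (.leaf (2, 1008)))))))) (.node (.node (.node (.node (.node (.node (.node (.leaf (2, 8)) (.leaf (34, 662))) (.leaf (2, 520))) (.node (.leaf (0, 0)) (.leaf (28, 529)))) (.node (.node (.leaf (0, 0)) (.leaf (0, 0))) (.node (.leaf (2, 392)) (.leaf (59, 729))))) (.node (.node (.node (.leaf (58, 540)) (.leaf (30, 953))) (.node (.leaf (12, 969)) (.leaf (52, 950)))) (.node (.node (.leaf (0, 0)) (.leaf (58, 580))) (.node (.leaf (2, 456)) (.leaf (2, 968)))))) (.node (.node (.node (.node (.leaf (0, 0)) (.leaf (2, 552))) (.node (.leaf (0, 0)) (.leaf (2, 808)))) (.node (.node (.leaf (0, 0)) (.leaf (2, 680))) (.node (.leaf (58, 724)) (.leaf (2, 936))))) (.node (.node (.node (.leaf (2, 104)) (.leaf (2, 616))) (.node (.leaf (54, 511)) (.leaf (2, 872)))) (.node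 (.node (.leaf (2, 232)) (.leaf (0, 0))) (.node (.leaf (0, 0)) (.leaf (58, 973))))))) (.node (.node (.node (.node (.node (.leaf (0, 0)) (.leaf (0, 0))) (.node (.leaf (58, 133)) (.leaf (0, 0)))) (.node (.node (.leaf (0, 0)) (.leaf (51, 898))) (.node (.leaf (0, 0)) (.leaf (28, 1014))))) (.node (.node (.node (.leaf (0, 0)) (.leaf (58, 789))) (.node (.leaf (2, 344)) (.leaf (2, 856)))) (.node (.node (.leaf (0, 0)) (.leaf (0, 0))) (.node (.leaf (47, 637)) (.leaf (58, 715)))))) (.node (.node (.node (.node (.leaf (0, 0)) (.leaf (2, 568))) (.node (.leaf (58, 598)) (.leaf (2, 824)))) (.node (.node (.leaf (2, 184)) (.leaf (58, 909))) (.node (.leaf (12, 1002)) (.leaf (58, 759))))) (.node (.node (.node (.leaf (2, 120)) (.leaf (58, 717))) (.node (.leaf (0, 0)) (.leaf (2, 888)))) (.node (.node (.leaf (0, 0)) (.leaf (58, 634))) (.node (.leaf (2, 504)) (.leaf (2, 1016))))))))) (.node (.node (.node (.node (.node (.node (.node (.node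 (.leaf (0, 0)) (.leaf (18, 696))) (.leaf (0, 0))) (.node (.leaf (2, 260)) (.leaf (2, 772)))) (.node (.node (.leaf (58, 276)) (.leaf (28, 863))) (.node (.leaf (50, 550)) (.leaf (0, 0))))) (.node (.node (.node (.leaf (0, 0)) (.leaf (28, 703))) (.node (.leaf (2, 324)) (.leaf (54, 985)))) (.node (.node (.leaf (0, 0)) (.leaf (2, 708))) (.node (.leaf (0, 0)) (.leaf (2, 964)))))) (.node (.node (.node (.node (.leaf (2, 36)) (.leaf (0, 0))) (.node (.leaf (0, 0)) (.leaf (0, 0)))) (.node (.node (.leaf (43, 310)) (.leaf (51, 479))) (.node (.leaf (0, 0)) (.leaf (2, 932))))) (.node (.node (.node (.leaf (2, 100)) (.leaf (2, 612))) (.node (.leaf (58, 532)) (.leaf (38, 867)))) (.node (.node (.leaf (0, 0)) (.leaf (0, 0))) (.node (.leaf (0, 0)) (.leaf (2, 996))))))) (.node (.node (.node (.node (.node (.leaf (0, 0)) (.leaf (12, 995))) (.node (.leaf (0, 0)) (.leaf (50, 440)))) (.node (.node (.leaf (0, 0)) (.leaf (2, 660))) (.node (.leaf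 (0, 0)) (.leaf (58, 761))))) (.node (.node (.node (.leaf (0, 0)) (.leaf (26, 953))) (.node (.leaf (0, 0)) (.leaf (2, 852)))) (.node (.node (.leaf (51, 349)) (.leaf (0, 0))) (.node (.leaf (58, 658)) (.leaf (2, 980)))))) (.node (.node (.node (.node (.leaf (0, 0)) (.leaf (0, 0))) (.node (.leaf (0, 0)) (.leaf (2, 820)))) (.node (.node (.leaf (12, 827)) (.leaf (0, 0))) (.node (.leaf (2, 436)) (.leaf (28, 728))))) (.node (.node (.node (.leaf (0, 0)) (.leaf (58, 389))) (.node (.leaf (0, 0)) (.leaf (43, 882)))) (.node (.node (.leaf (0, 0)) (.leaf (58, 869))) (.node (.leaf (54, 683)) (.leaf (28, 905)))))))) (.node (.node (.node (.node (.node (.node (.node (.leaf (0, 0)) (.leaf (50, 284))) (.leaf (2, 524))) (.node (.leaf (0, 0)) (.leaf (0, 0)))) (.node (.node (.leaf (0, 0)) (.leaf (2, 652))) (.node (.leaf (0, 0)) (.leaf (2, 1012))))) (.node (.node (.node (.leaf (0, 0)) (.leaf (58, 351))) (.node (.leaf (2, 332)) (.leaf (0,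 0)))) (.node (.node (.leaf (58, 338)) (.leaf (2, 716))) (.node (.leaf (2, 460)) (.leaf (2, 972)))))) (.node (.node (.node (.node (.leaf (0, 0)) (.leaf (2, 556))) (.node (.leaf (0, 0)) (.leaf (58, 932)))) (.node (.node (.leaf (0, 0)) (.leaf (0, 0))) (.node (.leaf (0, 0)) (.leaf (2, 940))))) (.node (.node (.node (.leaf (0, 0)) (.leaf (52, 364))) (.node (.leaf (2, 364)) (.leaf (2, 876)))) (.node (.node (.leaf (0, 0)) (.leaf (2, 948))) (.node (.leaf (2, 492)) (.leaf (2, 1004))))))) (.node (.node (.node (.node (.node (.leaf (0, 0)) (.leaf (58, 655))) (.node (.leaf (0, 0)) (.leaf (0, 0)))) (.node (.node (.leaf (2, 156)) (.leaf (43, 472))) (.node (.leaf (0, 0)) (.leaf (2, 924))))) (.node (.node (.node (.leaf (0, 0)) (.leaf (43, 87))) (.node (.leaf (2, 348)) (.leaf (2, 860)))) (.node (.node (.leaf (2, 220)) (.leaf (0, 0))) (.node (.leaf (2, 476)) (.leaf (2, 988)))))) (.node (.node (.node (.node (.leaf (0, 0)) (.leaf (2,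 572))) (.node (.leaf (0, 0)) (.leaf (2, 828)))) (.node (.node (.leaf (0, 0)) (.leaf (44, 459))) (.node (.leaf (2, 444)) (.leaf (28, 940))))) (.node (.node (.node (.leaf (2, 124)) (.leaf (2, 636))) (.node (.leaf (2, 380)) (.leaf (29, 930)))) (.node (.node (.leaf (0, 0)) (.leaf (43, 195))) (.node (.leaf (0, 0)) (.leaf (2, 1020)))))))))) (.node (.node (.node (.node (.node (.node (.node (.node (.node (.leaf (0, 0)) (.leaf (10, 525))) (.leaf (2, 514))) (.node (.leaf (58, 420)) (.leaf (28, 956)))) (.node (.node (.leaf (43, 480)) (.leaf (59, 917))) (.node (.leaf (2, 386)) (.leaf (58, 677))))) (.node (.node (.node (.leaf (0, 0)) (.leaf (2, 578))) (.node (.leaf (51, 535)) (.leaf (52, 870)))) (.node (.node (.leaf (0, 0)) (.leaf (28, 577))) (.node (.leaf (2, 693)) (.leaf (2, 962)))))) (.node (.node (.node (.node (.leaf (0, 0)) (.leaf (0, 0))) (.node (.leaf (2, 290)) (.leaf (52, 958)))) (.node (.node (.leaf (0, 0)) (.leaf (0,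 0))) (.node (.leaf (2, 655)) (.leaf (2, 930))))) (.node (.node (.node (.leaf (2, 98)) (.leaf (2, 610))) (.node (.leaf (12, 924)) (.leaf (2, 866)))) (.node (.node (.leaf (2, 226)) (.leaf (2, 738))) (.node (.leaf (58, 647)) (.leaf (2, 994))))))) (.node (.node (.node (.node (.node (.leaf (0, 0)) (.leaf (0, 0))) (.node (.leaf (58, 477)) (.leaf (0, 0)))) (.node (.node (.leaf (0, 0)) (.leaf (12, 962))) (.node (.leaf (2, 402)) (.leaf (58, 693))))) (.node (.node (.node (.leaf (2, 82)) (.leaf (57, 812))) (.node (.leaf (12, 981)) (.leaf (2, 850)))) (.node (.node (.leaf (0, 0)) (.leaf (50, 930))) (.node (.leaf (12, 831)) (.leaf (2, 978)))))) (.node (.node (.node (.node (.leaf (2, 50)) (.leaf (38, 774))) (.node (.leaf (2, 529)) (.leaf (0, 0)))) (.node (.node (.leaf (45, 345)) (.leaf (0, 0))) (.node (.leaf (51, 661)) (.leaf (2, 946))))) (.node (.node (.node (.leaf (2, 114)) (.leaf (2, 769))) (.node (.leaf (58, 521)) (.leaf (0,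 0)))) (.node (.node (.leaf (0, 0)) (.leaf (58, 874))) (.node (.leaf (2, 498)) (.leaf (40, 487)))))))) (.node (.node (.node (.node (.node (.node (.node (.leaf (0, 0)) (.leaf (42, 664))) (.leaf (0, 0))) (.node (.leaf (2, 266)) (.leaf (0, 0)))) (.node (.node (.leaf (0, 0)) (.leaf (2, 650))) (.node (.leaf (2, 394)) (.leaf (2, 906))))) (.node (.node (.node (.leaf (0, 0)) (.leaf (58, 378))) (.node (.leaf (2, 330)) (.leaf (58, 599)))) (.node (.node (.leaf (54, 712)) (.leaf (58, 463))) (.node (.leaf (0, 0)) (.leaf (2, 970)))))) (.node (.node (.node (.node (.leaf (51, 363)) (.leaf (2, 554))) (.node (.leaf (2, 298)) (.leaf (2, 810)))) (.node (.node (.leaf (2, 170)) (.leaf (2, 682))) (.node (.leaf (0, 0)) (.leaf (2, 938))))) (.node (.node (.node (.leaf (2, 106)) (.leaf (0, 0))) (.node (.leaf (28, 537)) (.leaf (28, 778)))) (.node (.node (.leaf (0, 0)) (.leaf (58, 494))) (.node (.leaf (51, 722)) (.leaf (43, 435))))))) (.node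 (.node (.node (.node (.node (.leaf (0, 0)) (.leaf (51, 805))) (.node (.leaf (0, 0)) (.leaf (28, 153)))) (.node (.node (.leaf (2, 154)) (.leaf (58, 529))) (.node (.leaf (2, 410)) (.leaf (2, 922))))) (.node (.node (.node (.leaf (0, 0)) (.leaf (0, 0))) (.node (.leaf (0, 0)) (.leaf (27, 517)))) (.node (.node (.leaf (28, 197)) (.leaf (43, 128))) (.node (.leaf (28, 663)) (.leaf (59, 878)))))) (.node (.node (.node (.node (.leaf (51, 119)) (.leaf (58, 816))) (.node (.leaf (0, 0)) (.leaf (28, 572)))) (.node (.node (.leaf (0, 0)) (.leaf (2, 698))) (.node (.leaf (2, 442)) (.leaf (59, 927))))) (.node (.node (.node (.leaf (0, 0)) (.leaf (53, 841))) (.node (.leaf (51, 596)) (.leaf (0, 0)))) (.node (.node (.leaf (2, 250)) (.leaf (2, 762))) (.node (.leaf (2, 506)) (.leaf (59, 975))))))))) (.node (.node (.node (.node (.node (.node (.node (.node (.leaf (2, 6)) (.leaf (26, 920))) (.leaf (2, 770))) (.node (.leaf (0, 0)) (.leaf (0, 0))))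 (.node (.node (.leaf (2, 134)) (.leaf (2, 646))) (.node (.leaf (0, 0)) (.leaf (2, 902))))) (.node (.node (.node (.leaf (0, 0)) (.leaf (2, 582))) (.node (.leaf (0, 0)) (.leaf (0, 0)))) (.node (.node (.leaf (58, 365)) (.leaf (51, 933))) (.node (.leaf (2, 454)) (.leaf (2, 966)))))) (.node (.node (.node (.node (.leaf (2, 38)) (.leaf (51, 367))) (.node (.leaf (28, 273)) (.leaf (2, 806)))) (.node (.node (.leaf (0, 0)) (.leaf (2, 678))) (.node (.leaf (0, 0)) (.leaf (40, 676))))) (.node (.node (.node (.leaf (0, 0)) (.leaf (0, 0))) (.node (.leaf (58, 632)) (.leaf (40, 565)))) (.node (.node (.leaf (2, 230)) (.leaf (2, 742))) (.node (.leaf (0, 0)) (.leaf (52, 977))))))) (.node (.node (.node (.node (.node (.leaf (0, 0)) (.leaf (2, 534))) (.node (.leaf (58, 212)) (.leaf (2, 790)))) (.node (.node (.leaf (2, 150)) (.leaf (0, 0))) (.node (.leaf (2, 644)) (.leaf (58, 698))))) (.node (.node (.node (.leaf (54, 457)) (.leaf (0, 0)))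 (.node (.leaf (2, 342)) (.leaf (59, 799)))) (.node (.node (.leaf (2, 214)) (.leaf (58, 882))) (.node (.leaf (54, 798)) (.leaf (2, 982)))))) (.node (.node (.node (.node (.leaf (2, 54)) (.leaf (0, 0))) (.node (.leaf (0, 0)) (.leaf (0, 0)))) (.node (.node (.leaf (33, 402)) (.leaf (2, 694))) (.node (.leaf (0, 0)) (.leaf (58, 857))))) (.node (.node (.node (.leaf (0, 0)) (.leaf (58, 776))) (.node (.leaf (0, 0)) (.leaf (0, 0)))) (.node (.node (.leaf (2, 246)) (.leaf (58, 591))) (.node (.leaf (0, 0)) (.leaf (14, 1014)))))))) (.node (.node (.node (.node (.node (.node (.node (.leaf (0, 0)) (.leaf (58, 457))) (.leaf (2, 526))) (.node (.leaf (0, 0)) (.leaf (0, 0)))) (.node (.node (.leaf (58, 275)) (.leaf (52, 447))) (.node (.leaf (2, 398)) (.leaf (2, 910))))) (.node (.node (.node (.leaf (0, 0)) (.leaf (2, 590))) (.node (.leaf (38, 708)) (.leaf (43, 535)))) (.node (.node (.leaf (0, 0)) (.leaf (54, 977))) (.node (.leaf (58, 710))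 (.leaf (2, 974)))))) (.node (.node (.node (.node (.leaf (2, 46)) (.leaf (0, 0))) (.node (.leaf (2, 302)) (.leaf (0, 0)))) (.node (.node (.leaf (2, 174)) (.leaf (0, 0))) (.node (.leaf (0, 0)) (.leaf (2, 942))))) (.node (.node (.node (.leaf (2, 110)) (.leaf (2, 855))) (.node (.leaf (2, 366)) (.leaf (2, 878)))) (.node (.node (.leaf (0, 0)) (.leaf (58, 498))) (.node (.leaf (0, 0)) (.leaf (2, 1006))))))) (.node (.node (.node (.node (.node (.leaf (0, 0)) (.leaf (28, 536))) (.node (.leaf (0, 0)) (.leaf (2, 798)))) (.node (.node (.leaf (0, 0)) (.leaf (2, 670))) (.node (.leaf (2, 414)) (.leaf (2, 926))))) (.node (.node (.node (.leaf (0, 0)) (.leaf (0, 0))) (.node (.leaf (58, 584)) (.leaf (27, 640)))) (.node (.node (.leaf (0, 0)) (.leaf (54, 483))) (.node (.leaf (2, 478)) (.leaf (58, 860)))))) (.node (.node (.node (.node (.leaf (0, 0)) (.leaf (46, 347))) (.node (.leaf (0, 0)) (.leaf (58, 865)))) (.node (.node (.leaf (2, 190))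 (.leaf (0, 0))) (.node (.leaf (54, 833)) (.leaf (54, 321))))) (.node (.node (.node (.leaf (2, 126)) (.leaf (58, 764))) (.node (.leaf (0, 0)) (.leaf (2, 894)))) (.node (.node (.leaf (44, 457)) (.leaf (2, 766))) (.node (.leaf (2, 510)) (.leaf (2, 1022)))))))))))

def twoVia3 : Janko.Tree (ℕ × ℕ) :=
  (.node (.node (.node (.node (.node (.node (.node (.node (.node (.node (.leaf (0, 0)) (.leaf (3, 0))) (.leaf (0, 0))) (.node (.leaf (3, 256)) (.leaf (58, 612)))) (.node (.node (.leaf (0, 0)) (.leaf (0, 0))) (.node (.leaf (3, 384)) (.leaf (3, 896))))) (.node (.node (.node (.leaf (3, 64)) (.leaf (0, 0))) (.node (.leaf (3, 320)) (.leaf (59, 945)))) (.node (.node (.leaf (0, 0)) (.leaf (27, 571))) (.node (.leaf (0, 0)) (.leaf (3, 960)))))) (.node (.node (.node (.node (.leaf (3, 32)) (.leaf (59, 821))) (.node (.leaf (3, 288)) (.leaf (3, 800)))) (.node (.node (.leaf (58, 15)) (.leaf (58, 937))) (.node (.leaf (0, 0)) (.leaf (3,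 928))))) (.node (.node (.node (.leaf (3, 96)) (.leaf (58, 300))) (.node (.leaf (27, 31)) (.leaf (58, 640)))) (.node (.node (.leaf (57, 93)) (.leaf (23, 266))) (.node (.leaf (47, 130)) (.leaf (58, 942))))))) (.node (.node (.node (.node (.node (.leaf (0, 0)) (.leaf (58, 774))) (.node (.leaf (3, 272)) (.leaf (3, 784)))) (.node (.node (.leaf (0, 0)) (.leaf (58, 204))) (.node (.leaf (0, 0)) (.leaf (3, 912))))) (.node (.node (.node (.leaf (0, 0)) (.leaf (3, 592))) (.node (.leaf (0, 0)) (.leaf (54, 811)))) (.node (.node (.leaf (58, 55)) (.leaf (3, 720))) (.node (.leaf (3, 464)) (.leaf (3, 976)))))) (.node (.node (.node (.node (.leaf (0, 0)) (.leaf (3, 560))) (.node (.leaf (0, 0)) (.leaf (27, 73)))) (.node (.node (.leaf (3, 176)) (.leaf (58, 484))) (.node (.leaf (3, 432)) (.leaf (56, 806))))) (.node (.node (.node (.leaf (0, 0)) (.leaf (0, 0))) (.node (.leaf (47, 89)) (.leaf (0, 0)))) (.node (.node (.leaf (3, 240)) (.leaf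 (3, 752))) (.node (.leaf (3, 496)) (.leaf (58, 963)))))))) (.node (.node (.node (.node (.node (.node (.node (.leaf (0, 0)) (.leaf (35, 915))) (.leaf (0, 0))) (.node (.leaf (0, 0)) (.leaf (3, 776)))) (.node (.node (.leaf (0, 0)) (.leaf (3, 648))) (.node (.leaf (57, 63)) (.leaf (59, 798))))) (.node (.node (.node (.leaf (3, 72)) (.leaf (48, 379))) (.node (.leaf (3, 328)) (.leaf (3, 840)))) (.node (.node (.leaf (58, 57)) (.leaf (3, 712))) (.node (.leaf (0, 0)) (.leaf (58, 991)))))) (.node (.node (.node (.node (.leaf (0, 0)) (.leaf (58, 688))) (.node (.leaf (3, 296)) (.leaf (28, 401)))) (.node (.node (.leaf (3, 168)) (.leaf (0, 0))) (.node (.leaf (3, 424)) (.leaf (55, 826))))) (.node (.node (.node (.leaf (0, 0)) (.leaf (58, 815))) (.node (.leaf (0, 0)) (.leaf (58, 721)))) (.node (.node (.leaf (43, 108)) (.leaf (3, 744))) (.node (.leaf (3, 488)) (.leaf (3, 1000))))))) (.node (.node (.node (.node (.node (.leaf (0, 0)) (.leaf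 (0, 0))) (.node (.leaf (55, 139)) (.leaf (58, 916)))) (.node (.node (.leaf (3, 152)) (.leaf (45, 229))) (.node (.leaf (3, 408)) (.leaf (3, 920))))) (.node (.node (.node (.leaf (0, 0)) (.leaf (3, 600))) (.node (.leaf (0, 0)) (.leaf (28, 368)))) (.node (.node (.leaf (3, 216)) (.leaf (3, 728))) (.node (.leaf (0, 0)) (.leaf (29, 591)))))) (.node (.node (.node (.node (.leaf (3, 56)) (.leaf (58, 85))) (.node (.leaf (3, 312)) (.leaf (3, 924)))) (.node (.node (.leaf (0, 0)) (.leaf (3, 696))) (.node (.leaf (3, 440)) (.leaf (3, 952))))) (.node (.node (.node (.leaf (0, 0)) (.leaf (3, 632))) (.node (.leaf (3, 376)) (.leaf (58, 781)))) (.node (.node (.leaf (0, 0)) (.leaf (3, 760))) (.node (.leaf (57, 104)) (.leaf (58, 910))))))))) (.node (.node (.node (.node (.node (.node (.node (.node (.leaf (3, 4)) (.leaf (19, 461))) (.leaf (57, 209))) (.node (.leaf (0, 0)) (.leaf (3, 772)))) (.node (.node (.leaf (0, 0)) (.leaf (3, 644))) (.node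 (.leaf (3, 388)) (.leaf (3, 900))))) (.node (.node (.node (.leaf (58, 134)) (.leaf (3, 580))) (.node (.leaf (0, 0)) (.leaf (3, 836)))) (.node (.node (.leaf (3, 196)) (.leaf (0, 0))) (.node (.leaf (3, 452)) (.leaf (58, 646)))))) (.node (.node (.node (.node (.leaf (0, 0)) (.leaf (3, 548))) (.node (.leaf (3, 292)) (.leaf (3, 804)))) (.node (.node (.leaf (3, 164)) (.leaf (0, 0))) (.node (.leaf (45, 207)) (.leaf (30, 467))))) (.node (.node (.node (.leaf (0, 0)) (.leaf (54, 966))) (.node (.leaf (3, 356)) (.leaf (58, 653)))) (.node (.node (.leaf (3, 228)) (.leaf (3, 740))) (.node (.leaf (22, 688)) (.leaf (57, 1019))))))) (.node (.node (.node (.node (.node (.leaf (3, 20)) (.leaf (3, 532))) (.node (.leaf (45, 55)) (.leaf (27, 953)))) (.node (.node (.leaf (58, 67)) (.leaf (45, 391))) (.node (.leaf (55, 36)) (.leaf (3, 916))))) (.node (.node (.node (.leaf (3, 84)) (.leaf (0, 0))) (.node (.leaf (3, 340)) (.leaf (58, 925))))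 (.node (.node (.leaf (3, 212)) (.leaf (3, 724))) (.node (.leaf (3, 468)) (.leaf (58, 1013)))))) (.node (.node (.node (.node (.leaf (0, 0)) (.leaf (3, 564))) (.node (.leaf (57, 28)) (.leaf (58, 459)))) (.node (.node (.leaf (3, 180)) (.leaf (57, 501))) (.node (.leaf (0, 0)) (.leaf (3, 948))))) (.node (.node (.node (.leaf (0, 0)) (.leaf (58, 221))) (.node (.leaf (51, 562)) (.leaf (3, 884)))) (.node (.node (.leaf (3, 244)) (.leaf (57, 316))) (.node (.leaf (3, 500)) (.leaf (3, 1012)))))))) (.node (.node (.node (.node (.node (.node (.node (.leaf (3, 12)) (.leaf (51, 125))) (.leaf (0, 0))) (.node (.leaf (0, 0)) (.leaf (43, 746)))) (.node (.node (.leaf (3, 140)) (.leaf (0, 0))) (.node (.leaf (3, 396)) (.leaf (3, 908))))) (.node (.node (.node (.leaf (3, 76)) (.leaf (57, 355))) (.node (.leaf (0, 0)) (.leaf (3, 844)))) (.node (.node (.leaf (57, 98)) (.leaf (59, 639))) (.node (.leaf (3, 460)) (.leaf (57, 663)))))) (.node (.node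 (.node (.node (.leaf (0, 0)) (.leaf (58, 842))) (.node (.leaf (0, 0)) (.leaf (23, 73)))) (.node (.node (.leaf (0, 0)) (.leaf (25, 438))) (.node (.leaf (0, 0)) (.leaf (0, 0))))) (.node (.node (.node (.leaf (0, 0)) (.leaf (58, 802))) (.node (.leaf (0, 0)) (.leaf (0, 0)))) (.node (.node (.leaf (58, 23)) (.leaf (3, 748))) (.node (.leaf (0, 0)) (.leaf (58, 961))))))) (.node (.node (.node (.node (.node (.leaf (0, 0)) (.leaf (3, 540))) (.node (.leaf (45, 57)) (.leaf (59, 641)))) (.node (.node (.leaf (57, 530)) (.leaf (3, 668))) (.node (.leaf (0, 0)) (.leaf (28, 580))))) (.node (.node (.node (.leaf (3, 92)) (.leaf (3, 604))) (.node (.leaf (3, 348)) (.leaf (27, 633)))) (.node (.node (.leaf (0, 0)) (.leaf (59, 903))) (.node (.leaf (0, 0)) (.leaf (58, 696)))))) (.node (.node (.node (.node (.leaf (0, 0)) (.leaf (0, 0))) (.node (.leaf (0, 0)) (.leaf (58, 456)))) (.node (.node (.leaf (0, 0)) (.leaf (58, 458))) (.node (.leaf (0,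 0)) (.leaf (3, 956))))) (.node (.node (.node (.leaf (0, 0)) (.leaf (59, 1019))) (.node (.leaf (0, 0)) (.leaf (59, 1013)))) (.node (.node (.leaf (3, 252)) (.leaf (3, 764))) (.node (.leaf (3, 508)) (.leaf (58, 972)))))))))) (.node (.node (.node (.node (.node (.node (.node (.node (.node (.leaf (0, 0)) (.leaf (11, 651))) (.leaf (54, 883))) (.node (.leaf (3, 258)) (.leaf (3, 770)))) (.node (.node (.leaf (3, 130)) (.leaf (59, 738))) (.node (.leaf (0, 0)) (.leaf (58, 743))))) (.node (.node (.node (.leaf (3, 66)) (.leaf (27, 697))) (.node (.leaf (3, 322)) (.leaf (0, 0)))) (.node (.node (.leaf (51, 368)) (.leaf (3, 706))) (.node (.leaf (3, 450)) (.leaf (58, 739)))))) (.node (.node (.node (.node (.leaf (0, 0)) (.leaf (10, 756))) (.node (.leaf (0, 0)) (.leaf (22, 620)))) (.node (.node (.leaf (3, 162)) (.leaf (3, 674))) (.node (.leaf (3, 418)) (.leaf (28, 723))))) (.node (.node (.node (.leaf (0, 0)) (.leaf (23, 181))) (.node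 (.leaf (3, 354)) (.leaf (0, 0)))) (.node (.node (.leaf (0, 0)) (.leaf (52, 559))) (.node (.leaf (3, 482)) (.leaf (59, 539))))))) (.node (.node (.node (.node (.node (.leaf (0, 0)) (.leaf (58, 754))) (.node (.leaf (3, 274)) (.leaf (57, 766)))) (.node (.node (.leaf (0, 0)) (.leaf (3, 658))) (.node (.leaf (58, 601)) (.leaf (58, 777))))) (.node (.node (.node (.leaf (0, 0)) (.leaf (3, 594))) (.node (.leaf (3, 338)) (.leaf (57, 773)))) (.node (.node (.leaf (3, 210)) (.leaf (0, 0))) (.node (.leaf (3, 466)) (.leaf (28, 381)))))) (.node (.node (.node (.node (.leaf (0, 0)) (.leaf (41, 372))) (.node (.leaf (3, 306)) (.leaf (59, 631)))) (.node (.node (.leaf (3, 178)) (.leaf (3, 690))) (.node (.leaf (3, 434)) (.leaf (43, 110))))) (.node (.node (.node (.leaf (0, 0)) (.leaf (3, 626))) (.node (.leaf (3, 370)) (.leaf (3, 882)))) (.node (.node (.leaf (0, 0)) (.leaf (58, 530))) (.node (.leaf (0, 0)) (.leaf (59, 982)))))))) (.node (.node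 (.node (.node (.node (.node (.node (.leaf (0, 0)) (.leaf (43, 484))) (.leaf (3, 522))) (.node (.leaf (21, 114)) (.leaf (3, 778)))) (.node (.node (.leaf (58, 46)) (.leaf (0, 0))) (.node (.leaf (0, 0)) (.leaf (0, 0))))) (.node (.node (.node (.leaf (3, 74)) (.leaf (3, 586))) (.node (.leaf (0, 0)) (.leaf (3, 842)))) (.node (.node (.leaf (3, 202)) (.leaf (24, 461))) (.node (.leaf (0, 0)) (.leaf (58, 1016)))))) (.node (.node (.node (.node (.leaf (3, 42)) (.leaf (0, 0))) (.node (.leaf (0, 0)) (.leaf (58, 606)))) (.node (.node (.leaf (0, 0)) (.leaf (58, 885))) (.node (.leaf (3, 426)) (.leaf (58, 827))))) (.node (.node (.node (.leaf (0, 0)) (.leaf (3, 618))) (.node (.leaf (3, 362)) (.leaf (3, 874)))) (.node (.node (.leaf (0, 0)) (.leaf (58, 895))) (.node (.leaf (3, 490)) (.leaf (3, 1002))))))) (.node (.node (.node (.node (.node (.leaf (3, 26)) (.leaf (45, 153))) (.node (.leaf (58, 149)) (.leaf (3, 794)))) (.node (.node (.leaf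 (0, 0)) (.leaf (3, 666))) (.node (.leaf (0, 0)) (.leaf (0, 0))))) (.node (.node (.node (.leaf (0, 0)) (.leaf (3, 602))) (.node (.leaf (0, 0)) (.leaf (3, 858)))) (.node (.node (.leaf (3, 218)) (.leaf (3, 730))) (.node (.leaf (3, 474)) (.leaf (3, 986)))))) (.node (.node (.node (.node (.leaf (3, 58)) (.leaf (3, 570))) (.node (.leaf (3, 314)) (.leaf (58, 613)))) (.node (.node (.leaf (0, 0)) (.leaf (0, 0))) (.node (.leaf (0, 0)) (.leaf (59, 785))))) (.node (.node (.node (.leaf (3, 122)) (.leaf (3, 634))) (.node (.leaf (3, 378)) (.leaf (57, 248)))) (.node (.node (.leaf (0, 0)) (.leaf (58, 551))) (.node (.leaf (0, 0)) (.leaf (3, 1018))))))))) (.node (.node (.node (.node (.node (.node (.node (.node (.leaf (0, 0)) (.leaf (27, 29))) (.leaf (3, 518))) (.node (.leaf (0, 0)) (.leaf (58, 413)))) (.node (.node (.leaf (57, 310)) (.leaf (0, 0))) (.node (.leaf (0, 0)) (.leaf (57, 904))))) (.node (.node (.node (.leaf (0, 0)) (.leaf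 (0, 0))) (.node (.leaf (3, 326)) (.leaf (58, 588)))) (.node (.node (.leaf (3, 198)) (.leaf (53, 118))) (.node (.leaf (0, 0)) (.leaf (57, 726)))))) (.node (.node (.node (.node (.leaf (0, 0)) (.leaf (0, 0))) (.node (.leaf (3, 294)) (.leaf (58, 944)))) (.node (.node (.leaf (0, 0)) (.leaf (59, 938))) (.node (.leaf (0, 0)) (.leaf (57, 251))))) (.node (.node (.node (.leaf (54, 161)) (.leaf (3, 614))) (.node (.leaf (3, 358)) (.leaf (51, 821)))) (.node (.node (.leaf (0, 0)) (.leaf (58, 447))) (.node (.leaf (56, 251)) (.leaf (3, 998))))))) (.node (.node (.node (.node (.node (.leaf (0, 0)) (.leaf (27, 759))) (.node (.leaf (3, 278)) (.leaf (0, 0)))) (.node (.node (.leaf (0, 0)) (.leaf (0, 0))) (.node (.leaf (3, 406)) (.leaf (57, 837))))) (.node (.node (.node (.leaf (3, 86)) (.leaf (3, 598))) (.node (.leaf (0, 0)) (.leaf (58, 946)))) (.node (.node (.leaf (0, 0)) (.leaf (3, 726))) (.node (.leaf (3, 470)) (.leaf (59, 739))))))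 (.node (.node (.node (.node (.leaf (0, 0)) (.leaf (59, 805))) (.node (.leaf (0, 0)) (.leaf (58, 941)))) (.node (.node (.leaf (3, 182)) (.leaf (59, 603))) (.node (.leaf (3, 438)) (.leaf (3, 950))))) (.node (.node (.node (.leaf (0, 0)) (.leaf (46, 205))) (.node (.leaf (53, 34)) (.leaf (3, 886)))) (.node (.node (.leaf (0, 0)) (.leaf (3, 758))) (.node (.leaf (0, 0)) (.leaf (3, 1014)))))))) (.node (.node (.node (.node (.node (.node (.node (.leaf (0, 0)) (.leaf (12, 0))) (.leaf (0, 0))) (.node (.leaf (51, 480)) (.leaf (57, 434)))) (.node (.node (.leaf (3, 142)) (.leaf (58, 867))) (.node (.leaf (58, 418)) (.leaf (0, 0))))) (.node (.node (.node (.leaf (0, 0)) (.leaf (59, 765))) (.node (.leaf (58, 427)) (.leaf (3, 846)))) (.node (.node (.leaf (58, 225)) (.leaf (3, 718))) (.node (.leaf (0, 0)) (.leaf (59, 997)))))) (.node (.node (.node (.node (.leaf (0, 0)) (.leaf (57, 201))) (.node (.leaf (0, 0)) (.leaf (58, 482)))) (.node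 (.node (.leaf (0, 0)) (.leaf (3, 686))) (.node (.leaf (48, 669)) (.leaf (0, 0))))) (.node (.node (.node (.leaf (0, 0)) (.leaf (3, 622))) (.node (.leaf (0, 0)) (.leaf (58, 861)))) (.node (.node (.leaf (3, 238)) (.leaf (0, 0))) (.node (.leaf (3, 494)) (.leaf (52, 449))))))) (.node (.node (.node (.node (.node (.leaf (3, 30)) (.leaf (3, 542))) (.node (.leaf (3, 286)) (.leaf (59, 936)))) (.node (.node (.leaf (0, 0)) (.leaf (58, 492))) (.node (.leaf (0, 0)) (.leaf (59, 1017))))) (.node (.node (.node (.leaf (0, 0)) (.leaf (58, 311))) (.node (.leaf (0, 0)) (.leaf (58, 879)))) (.node (.node (.leaf (0, 0)) (.leaf (43, 867))) (.node (.leaf (0, 0)) (.leaf (3, 990)))))) (.node (.node (.node (.node (.leaf (0, 0)) (.leaf (58, 346))) (.node (.leaf (48, 543)) (.leaf (3, 830)))) (.node (.node (.leaf (10, 73)) (.leaf (0, 0))) (.node (.leaf (57, 484)) (.leaf (58, 321))))) (.node (.node (.node (.leaf (0, 0)) (.leaf (3, 638))) (.node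 (.leaf (3, 382)) (.leaf (58, 371)))) (.node (.node (.leaf (3, 254)) (.leaf (0, 0))) (.node (.leaf (58, 742)) (.leaf (3, 1022)))))))))))

def twoVia4 : Janko.Tree (ℕ × ℕ) :=
  (.node (.node (.node (.node (.node (.node (.node (.node (.node (.node (.leaf (0, 1)) (.leaf (4, 0))) (.leaf (57, 184))) (.node (.leaf (47, 443)) (.leaf (0, 957)))) (.node (.node (.leaf (0, 270)) (.leaf (53, 642))) (.node (.leaf (54, 334)) (.leaf (57, 743))))) (.node (.node (.node (.leaf (0, 0)) (.leaf (59, 968))) (.node (.leaf (58, 318)) (.leaf (0, 913)))) (.node (.node (.leaf (0, 0)) (.leaf (0, 705))) (.node (.leaf (0, 449)) (.leaf (48, 104)))))) (.node (.node (.node (.node (.leaf (0, 33)) (.leaf (59, 941))) (.node (.leaf (0, 289)) (.leaf (58, 755)))) (.node (.node (.leaf (48, 1)) (.leaf (58, 673))) (.node (.leaf (0, 417)) (.leaf (58, 915))))) (.node (.node (.node (.leaf (4, 97)) (.leaf (53, 783))) (.node (.leaf (0, 353)) (.leaf (56, 482))))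 (.node (.node (.leaf (7, 225)) (.leaf (58, 315))) (.node (.leaf (4, 493)) (.leaf (58, 999))))))) (.node (.node (.node (.node (.node (.leaf (4, 17)) (.leaf (58, 900))) (.node (.leaf (57, 270)) (.leaf (0, 785)))) (.node (.node (.leaf (4, 145)) (.leaf (58, 390))) (.node (.leaf (50, 401)) (.leaf (54, 448))))) (.node (.node (.node (.leaf (58, 360)) (.leaf (57, 593))) (.node (.leaf (0, 337)) (.leaf (54, 311)))) (.node (.node (.leaf (4, 437)) (.leaf (0, 721))) (.node (.leaf (0, 465)) (.leaf (56, 592)))))) (.node (.node (.node (.node (.leaf (0, 0)) (.leaf (0, 561))) (.node (.leaf (0, 305)) (.leaf (53, 817)))) (.node (.node (.leaf (0, 0)) (.leaf (0, 0))) (.node (.leaf (58, 430)) (.leaf (59, 914))))) (.node (.node (.node (.leaf (0, 0)) (.leaf (57, 625))) (.node (.leaf (4, 381)) (.leaf (58, 215)))) (.node (.node (.leaf (0, 241)) (.leaf (51, 837))) (.node (.leaf (58, 497)) (.leaf (55, 806)))))))) (.node (.node (.node (.node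 (.node (.node (.node (.leaf (4, 9)) (.leaf (36, 127))) (.leaf (58, 188))) (.node (.leaf (59, 734)) (.leaf (0, 777)))) (.node (.node (.leaf (0, 0)) (.leaf (0, 0))) (.node (.leaf (58, 100)) (.leaf (0, 905))))) (.node (.node (.node (.leaf (0, 0)) (.leaf (0, 585))) (.node (.leaf (57, 329)) (.leaf (0, 841)))) (.node (.node (.leaf (4, 215)) (.leaf (53, 487))) (.node (.leaf (10, 457)) (.leaf (55, 872)))))) (.node (.node (.node (.node (.leaf (0, 97)) (.leaf (58, 464))) (.node (.leaf (58, 785)) (.leaf (58, 711)))) (.node (.node (.leaf (0, 0)) (.leaf (52, 681))) (.node (.leaf (0, 425)) (.leaf (57, 937))))) (.node (.node (.node (.leaf (0, 0)) (.leaf (0, 617))) (.node (.leaf (58, 361)) (.leaf (0, 873)))) (.node (.node (.leaf (0, 233)) (.leaf (53, 853))) (.node (.leaf (58, 486)) (.leaf (57, 321))))))) (.node (.node (.node (.node (.node (.leaf (0, 62)) (.leaf (0, 0))) (.node (.leaf (0, 0)) (.leaf (58, 793)))) (.node (.node (.leaf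 (0, 0)) (.leaf (58, 808))) (.node (.leaf (58, 217)) (.leaf (53, 453))))) (.node (.node (.node (.leaf (0, 0)) (.leaf (0, 601))) (.node (.leaf (54, 250)) (.leaf (51, 857)))) (.node (.node (.leaf (57, 217)) (.leaf (57, 274))) (.node (.leaf (54, 935)) (.leaf (56, 985)))))) (.node (.node (.node (.node (.leaf (0, 0)) (.leaf (47, 247))) (.node (.leaf (0, 313)) (.leaf (0, 825)))) (.node (.node (.leaf (0, 185)) (.leaf (57, 451))) (.node (.leaf (57, 113)) (.leaf (57, 548))))) (.node (.node (.node (.leaf (0, 121)) (.leaf (58, 627))) (.node (.leaf (58, 374)) (.leaf (35, 889)))) (.node (.node (.leaf (0, 249)) (.leaf (57, 325))) (.node (.leaf (58, 155)) (.leaf (0, 1017))))))))) (.node (.node (.node (.node (.node (.node (.node (.node (.leaf (4, 5)) (.leaf (11, 0))) (.leaf (0, 0))) (.node (.leaf (0, 261)) (.leaf (0, 0)))) (.node (.node (.leaf (0, 0)) (.leaf (57, 677))) (.node (.leaf (0, 0)) (.leaf (59, 901))))) (.node (.node (.node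 (.leaf (0, 0)) (.leaf (4, 581))) (.node (.leaf (0, 507)) (.leaf (56, 787)))) (.node (.node (.leaf (57, 427)) (.leaf (32, 919))) (.node (.leaf (0, 0)) (.leaf (59, 990)))))) (.node (.node (.node (.node (.leaf (54, 27)) (.leaf (0, 0))) (.node (.leaf (59, 1004)) (.leaf (0, 805)))) (.node (.node (.leaf (0, 165)) (.leaf (0, 0))) (.node (.leaf (0, 0)) (.leaf (46, 711))))) (.node (.node (.node (.leaf (53, 161)) (.leaf (4, 613))) (.node (.leaf (58, 648)) (.leaf (58, 875)))) (.node (.node (.leaf (0, 0)) (.leaf (58, 713))) (.node (.leaf (58, 485)) (.leaf (56, 654))))))) (.node (.node (.node (.node (.node (.leaf (0, 21)) (.leaf (48, 25))) (.node (.leaf (4, 291)) (.leaf (25, 309)))) (.node (.node (.leaf (7, 149)) (.leaf (0, 661))) (.node (.leaf (0, 0)) (.leaf (52, 417))))) (.node (.node (.node (.leaf (0, 0)) (.leaf (58, 437))) (.node (.leaf (0, 0)) (.leaf (56, 689)))) (.node (.node (.leaf (0, 213)) (.leaf (54, 339))) (.node (.leaf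 (53, 773)) (.leaf (58, 981)))))) (.node (.node (.node (.node (.leaf (7, 53)) (.leaf (0, 0))) (.node (.leaf (0, 0)) (.leaf (0, 821)))) (.node (.node (.leaf (0, 330)) (.leaf (0, 0))) (.node (.leaf (0, 437)) (.leaf (59, 613))))) (.node (.node (.node (.leaf (0, 0)) (.leaf (58, 428))) (.node (.leaf (57, 373)) (.leaf (0, 885)))) (.node (.node (.leaf (0, 0)) (.leaf (57, 757))) (.node (.leaf (0, 0)) (.leaf (55, 997)))))))) (.node (.node (.node (.node (.node (.node (.node (.leaf (0, 13)) (.leaf (52, 351))) (.leaf (11, 525))) (.node (.leaf (0, 0)) (.leaf (59, 1010)))) (.node (.node (.leaf (58, 141)) (.leaf (0, 653))) (.node (.leaf (58, 279)) (.leaf (53, 695))))) (.node (.node (.node (.leaf (0, 77)) (.leaf (0, 0))) (.node (.leaf (4, 333)) (.leaf (59, 845)))) (.node (.node (.leaf (0, 0)) (.leaf (42, 717))) (.node (.leaf (0, 461)) (.leaf (54, 973)))))) (.node (.node (.node (.node (.leaf (0, 0)) (.leaf (58, 201))) (.node (.leaf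 (4, 301)) (.leaf (55, 667)))) (.node (.node (.leaf (53, 246)) (.leaf (0, 0))) (.node (.leaf (0, 672)) (.leaf (58, 876))))) (.node (.node (.node (.leaf (7, 109)) (.leaf (56, 620))) (.node (.leaf (10, 365)) (.leaf (51, 877)))) (.node (.node (.leaf (48, 0)) (.leaf (59, 1015))) (.node (.leaf (0, 732)) (.leaf (53, 262))))))) (.node (.node (.node (.node (.node (.leaf (48, 29)) (.leaf (52, 541))) (.node (.leaf (4, 325)) (.leaf (53, 582)))) (.node (.node (.leaf (0, 157)) (.leaf (0, 669))) (.node (.leaf (6, 146)) (.leaf (54, 456))))) (.node (.node (.node (.leaf (0, 0)) (.leaf (59, 640))) (.node (.leaf (0, 349)) (.leaf (0, 861)))) (.node (.node (.leaf (4, 221)) (.leaf (37, 675))) (.node (.leaf (54, 20)) (.leaf (59, 892)))))) (.node (.node (.node (.node (.leaf (0, 0)) (.leaf (0, 573))) (.node (.leaf (0, 546)) (.leaf (17, 173)))) (.node (.node (.leaf (58, 113)) (.leaf (58, 1017))) (.node (.leaf (5, 445)) (.leaf (4, 957)))))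 (.node (.node (.node (.leaf (54, 123)) (.leaf (57, 41))) (.node (.leaf (0, 606)) (.leaf (58, 893)))) (.node (.node (.leaf (0, 0)) (.leaf (58, 401))) (.node (.leaf (58, 203)) (.leaf (58, 784)))))))))) (.node (.node (.node (.node (.node (.node (.node (.node (.node (.leaf (0, 0)) (.leaf (8, 0))) (.leaf (58, 209))) (.node (.leaf (58, 722)) (.leaf (59, 994)))) (.node (.node (.leaf (0, 131)) (.leaf (0, 864))) (.node (.leaf (4, 387)) (.leaf (58, 913))))) (.node (.node (.node (.leaf (0, 67)) (.leaf (0, 579))) (.node (.leaf (0, 323)) (.leaf (59, 1020)))) (.node (.node (.leaf (48, 28)) (.leaf (4, 707))) (.node (.leaf (0, 451)) (.leaf (8, 963)))))) (.node (.node (.node (.node (.leaf (0, 0)) (.leaf (58, 547))) (.node (.leaf (0, 499)) (.leaf (57, 606)))) (.node (.node (.leaf (58, 163)) (.leaf (0, 0))) (.node (.leaf (53, 103)) (.leaf (0, 931))))) (.node (.node (.node (.leaf (54, 9)) (.leaf (58, 106))) (.node (.leaf (48, 11)) (.leaf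 (0, 867)))) (.node (.node (.leaf (0, 227)) (.leaf (4, 739))) (.node (.leaf (0, 0)) (.leaf (58, 825))))))) (.node (.node (.node (.node (.node (.leaf (0, 47)) (.leaf (45, 68))) (.node (.leaf (0, 275)) (.leaf (0, 787)))) (.node (.node (.leaf (0, 0)) (.leaf (48, 44))) (.node (.leaf (32, 162)) (.leaf (17, 915))))) (.node (.node (.node (.leaf (0, 0)) (.leaf (0, 595))) (.node (.leaf (0, 339)) (.leaf (59, 840)))) (.node (.node (.leaf (58, 208)) (.leaf (58, 723))) (.node (.leaf (48, 19)) (.leaf (58, 989)))))) (.node (.node (.node (.node (.leaf (4, 51)) (.leaf (0, 0))) (.node (.leaf (54, 62)) (.leaf (59, 1008)))) (.node (.node (.leaf (0, 179)) (.leaf (0, 0))) (.node (.leaf (0, 435)) (.leaf (57, 643))))) (.node (.node (.node (.leaf (4, 115)) (.leaf (51, 930))) (.node (.leaf (0, 0)) (.leaf (58, 514)))) (.node (.node (.leaf (57, 243)) (.leaf (58, 316))) (.node (.leaf (4, 499)) (.leaf (52, 1011)))))))) (.node (.node (.node (.node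 (.node (.node (.node (.leaf (0, 28)) (.leaf (44, 585))) (.leaf (0, 0))) (.node (.leaf (0, 267)) (.leaf (58, 651)))) (.node (.node (.leaf (48, 2)) (.leaf (9, 651))) (.node (.leaf (4, 395)) (.leaf (0, 907))))) (.node (.node (.node (.leaf (54, 342)) (.leaf (48, 587))) (.node (.leaf (0, 0)) (.leaf (54, 843)))) (.node (.node (.leaf (48, 203)) (.leaf (0, 0))) (.node (.leaf (0, 707)) (.leaf (58, 582)))))) (.node (.node (.node (.node (.leaf (0, 43)) (.leaf (57, 399))) (.node (.leaf (0, 413)) (.leaf (0, 811)))) (.node (.node (.leaf (8, 925)) (.leaf (32, 140))) (.node (.leaf (58, 207)) (.leaf (58, 939))))) (.node (.node (.node (.leaf (4, 107)) (.leaf (58, 638))) (.node (.leaf (4, 363)) (.leaf (4, 875)))) (.node (.node (.leaf (0, 0)) (.leaf (59, 1001))) (.node (.leaf (0, 491)) (.leaf (58, 817))))))) (.node (.node (.node (.node (.node (.leaf (0, 0)) (.leaf (58, 901))) (.node (.leaf (45, 283)) (.leaf (58, 691)))) (.node (.node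 (.leaf (42, 80)) (.leaf (58, 330))) (.node (.leaf (48, 411)) (.leaf (57, 117))))) (.node (.node (.node (.leaf (0, 200)) (.leaf (57, 173))) (.node (.leaf (0, 581)) (.leaf (58, 859)))) (.node (.node (.leaf (57, 219)) (.leaf (57, 731))) (.node (.leaf (4, 475)) (.leaf (58, 987)))))) (.node (.node (.node (.node (.leaf (0, 59)) (.leaf (54, 612))) (.node (.leaf (58, 283)) (.leaf (0, 0)))) (.node (.node (.leaf (0, 0)) (.leaf (0, 699))) (.node (.leaf (0, 0)) (.leaf (58, 951))))) (.node (.node (.node (.leaf (0, 0)) (.leaf (29, 755))) (.node (.leaf (0, 379)) (.leaf (57, 429)))) (.node (.node (.leaf (0, 0)) (.leaf (57, 436))) (.node (.leaf (4, 507)) (.leaf (54, 396))))))))) (.node (.node (.node (.node (.node (.node (.node (.node (.leaf (0, 0)) (.leaf (28, 474))) (.leaf (57, 519))) (.node (.leaf (0, 0)) (.leaf (57, 391)))) (.node (.node (.leaf (0, 135)) (.leaf (57, 417))) (.node (.leaf (0, 630)) (.leaf (57, 903))))) (.node (.node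 (.node (.leaf (0, 160)) (.leaf (57, 172))) (.node (.leaf (54, 365)) (.leaf (58, 839)))) (.node (.node (.leaf (0, 199)) (.leaf (0, 711))) (.node (.leaf (48, 455)) (.leaf (56, 182)))))) (.node (.node (.node (.node (.leaf (54, 23)) (.leaf (0, 0))) (.node (.leaf (59, 1009)) (.leaf (58, 296)))) (.node (.node (.leaf (57, 167)) (.leaf (58, 812))) (.node (.leaf (0, 664)) (.leaf (52, 122))))) (.node (.node (.node (.leaf (4, 103)) (.leaf (57, 615))) (.node (.leaf (0, 0)) (.leaf (54, 938)))) (.node (.node (.leaf (57, 233)) (.leaf (0, 743))) (.node (.leaf (0, 694)) (.leaf (53, 268))))))) (.node (.node (.node (.node (.node (.leaf (0, 0)) (.leaf (0, 535))) (.node (.leaf (53, 209)) (.leaf (16, 791)))) (.node (.node (.leaf (0, 151)) (.leaf (0, 0))) (.node (.leaf (58, 407)) (.leaf (57, 919))))) (.node (.node (.node (.leaf (0, 87)) (.leaf (57, 695))) (.node (.leaf (54, 341)) (.leaf (58, 855)))) (.node (.node (.leaf (0, 387)) (.leaf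 (0, 727))) (.node (.leaf (0, 0)) (.leaf (46, 983)))))) (.node (.node (.node (.node (.leaf (0, 0)) (.leaf (0, 0))) (.node (.leaf (0, 538)) (.leaf (58, 682)))) (.node (.node (.leaf (58, 200)) (.leaf (54, 246))) (.node (.leaf (57, 142)) (.leaf (58, 625))))) (.node (.node (.node (.leaf (7, 119)) (.leaf (58, 205))) (.node (.leaf (4, 822)) (.leaf (57, 887)))) (.node (.node (.leaf (48, 247)) (.leaf (58, 756))) (.node (.leaf (0, 756)) (.leaf (56, 718)))))))) (.node (.node (.node (.node (.node (.node (.leaf (0, 0)) (.leaf (0, 527))) (.node (.leaf (48, 47)) (.leaf (54, 302)))) (.node (.node (.leaf (0, 143)) (.leaf (58, 807))) (.node (.leaf (0, 399)) (.leaf (0, 911))))) (.node (.node (.node (.leaf (0, 0)) (.leaf (15, 585))) (.node (.leaf (57, 679)) (.leaf (59, 852)))) (.node (.node (.leaf (58, 108)) (.leaf (58, 779))) (.node (.leaf (0, 0)) (.leaf (58, 922)))))) (.node (.node (.node (.node (.leaf (4, 47)) (.leaf (0, 0))) (.node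 (.leaf (0, 0)) (.leaf (58, 367)))) (.node (.node (.leaf (0, 0)) (.leaf (0, 687))) (.node (.leaf (4, 889)) (.leaf (29, 732))))) (.node (.node (.node (.leaf (0, 111)) (.leaf (58, 890))) (.node (.leaf (48, 367)) (.leaf (35, 879)))) (.node (.node (.leaf (58, 65)) (.leaf (58, 751))) (.node (.leaf (56, 454)) (.leaf (59, 1021))))))) (.node (.node (.node (.node (.node (.leaf (0, 0)) (.leaf (0, 543))) (.node (.leaf (54, 284)) (.leaf (58, 350)))) (.node (.node (.leaf (0, 0)) (.leaf (58, 89))) (.node (.leaf (0, 0)) (.leaf (54, 524))))) (.node (.node (.node (.leaf (0, 208)) (.leaf (37, 549))) (.node (.leaf (0, 0)) (.leaf (52, 711)))) (.node (.node (.leaf (0, 0)) (.leaf (50, 735))) (.node (.leaf (53, 271)) (.leaf (0, 991)))))) (.node (.node (.node (.node (.leaf (54, 652)) (.leaf (58, 984))) (.node (.leaf (48, 62)) (.leaf (54, 831)))) (.node (.node (.leaf (0, 191)) (.leaf (55, 1001))) (.node (.leaf (53, 62)) (.leaf (57, 633)))))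 (.node (.node (.node (.leaf (54, 120)) (.leaf (58, 513))) (.node (.leaf (59, 746)) (.leaf (0, 895)))) (.node (.node (.leaf (0, 255)) (.leaf (57, 767))) (.node (.leaf (0, 511)) (.leaf (20, 1023)))))))))))

def twoVia5 : Janko.Tree (ℕ × ℕ) :=
  (.node (.node (.node (.node (.node (.node (.node (.node (.node (.node (.leaf (0, 0)) (.leaf (5, 0))) (.leaf (22, 60))) (.node (.leaf (0, 0)) (.leaf (1, 769)))) (.node (.node (.leaf (1, 129)) (.leaf (58, 618))) (.node (.leaf (50, 586)) (.leaf (27, 492))))) (.node (.node (.node (.leaf (17, 151)) (.leaf (16, 457))) (.node (.leaf (58, 686)) (.leaf (52, 818)))) (.node (.node (.leaf (54, 375)) (.leaf (58, 847))) (.node (.leaf (58, 120)) (.leaf (52, 579)))))) (.node (.node (.node (.node (.leaf (1, 74)) (.leaf (0, 0))) (.node (.leaf (53, 13)) (.leaf (28, 853)))) (.node (.node (.leaf (0, 0)) (.leaf (0, 0))) (.node (.leaf (15, 942)) (.leaf (16, 488))))) (.node (.node (.node (.leaf (1,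 97)) (.leaf (1, 609))) (.node (.leaf (58, 680)) (.leaf (40, 917)))) (.node (.node (.leaf (1, 225)) (.leaf (57, 75))) (.node (.leaf (0, 0)) (.leaf (58, 675))))))) (.node (.node (.node (.node (.node (.leaf (4, 14)) (.leaf (27, 301))) (.node (.leaf (15, 268)) (.leaf (35, 612)))) (.node (.node (.leaf (4, 68)) (.leaf (1, 657))) (.node (.leaf (1, 555)) (.leaf (58, 949))))) (.node (.node (.node (.leaf (0, 0)) (.leaf (53, 597))) (.node (.leaf (58, 729)) (.leaf (57, 966)))) (.node (.node (.leaf (0, 0)) (.leaf (58, 1002))) (.node (.leaf (52, 943)) (.leaf (1, 977)))))) (.node (.node (.node (.node (.leaf (0, 0)) (.leaf (6, 331))) (.node (.leaf (48, 370)) (.leaf (52, 339)))) (.node (.node (.leaf (51, 176)) (.leaf (50, 907))) (.node (.leaf (58, 560)) (.leaf (58, 453))))) (.node (.node (.node (.leaf (27, 23)) (.leaf (1, 625))) (.node (.leaf (0, 0)) (.leaf (1, 881)))) (.node (.node (.leaf (53, 7)) (.leaf (10, 844))) (.node (.leaf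 (1, 741)) (.leaf (52, 670)))))))) (.node (.node (.node (.node (.node (.node (.node (.leaf (4, 22)) (.leaf (37, 739))) (.leaf (24, 64))) (.node (.leaf (16, 254)) (.leaf (57, 911)))) (.node (.node (.leaf (58, 161)) (.leaf (0, 0))) (.node (.leaf (57, 47)) (.leaf (1, 905))))) (.node (.node (.node (.leaf (0, 0)) (.leaf (45, 191))) (.node (.leaf (58, 51)) (.leaf (58, 840)))) (.node (.node (.leaf (0, 0)) (.leaf (53, 711))) (.node (.leaf (48, 345)) (.leaf (27, 309)))))) (.node (.node (.node (.node (.leaf (1, 41)) (.leaf (24, 311))) (.node (.leaf (51, 356)) (.leaf (58, 811)))) (.node (.node (.leaf (58, 179)) (.leaf (1, 681))) (.node (.leaf (48, 468)) (.leaf (55, 880))))) (.node (.node (.node (.leaf (0, 0)) (.leaf (53, 971))) (.node (.leaf (1, 361)) (.leaf (34, 652)))) (.node (.node (.leaf (0, 0)) (.leaf (28, 669))) (.node (.leaf (12, 489)) (.leaf (58, 1012))))))) (.node (.node (.node (.node (.node (.leaf (1, 25)) (.leaf (10,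 184))) (.node (.leaf (0, 0)) (.leaf (27, 538)))) (.node (.node (.leaf (0, 0)) (.leaf (27, 676))) (.node (.leaf (51, 19)) (.leaf (35, 996))))) (.node (.node (.node (.leaf (54, 195)) (.leaf (4, 792))) (.node (.leaf (54, 453)) (.leaf (49, 403)))) (.node (.node (.leaf (28, 217)) (.leaf (58, 348))) (.node (.leaf (1, 473)) (.leaf (58, 174)))))) (.node (.node (.node (.node (.leaf (0, 0)) (.leaf (51, 122))) (.node (.leaf (40, 154)) (.leaf (4, 983)))) (.node (.node (.leaf (0, 0)) (.leaf (1, 697))) (.node (.leaf (58, 189)) (.leaf (51, 530))))) (.node (.node (.node (.leaf (7, 420)) (.leaf (56, 937))) (.node (.leaf (1, 377)) (.leaf (1, 889)))) (.node (.node (.leaf (1, 249)) (.leaf (39, 1000))) (.node (.leaf (51, 33)) (.leaf (58, 358))))))))) (.node (.node (.node (.node (.node (.node (.node (.node (.leaf (1, 5)) (.leaf (21, 115))) (.leaf (0, 0))) (.node (.leaf (0, 0)) (.leaf (0, 0)))) (.node (.node (.leaf (58, 139)) (.leaf (58,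 431))) (.node (.leaf (0, 0)) (.leaf (28, 901))))) (.node (.node (.node (.leaf (0, 0)) (.leaf (1, 581))) (.node (.leaf (1, 325)) (.leaf (43, 967)))) (.node (.node (.leaf (15, 192)) (.leaf (58, 701))) (.node (.leaf (0, 0)) (.leaf (58, 975)))))) (.node (.node (.node (.node (.leaf (54, 15)) (.leaf (57, 35))) (.node (.leaf (28, 293)) (.leaf (57, 641)))) (.node (.node (.leaf (53, 4)) (.leaf (13, 677))) (.node (.leaf (0, 0)) (.leaf (58, 934))))) (.node (.node (.node (.leaf (53, 98)) (.leaf (1, 613))) (.node (.leaf (1, 357)) (.leaf (1, 869)))) (.node (.node (.leaf (0, 0)) (.leaf (28, 1009))) (.node (.leaf (1, 485)) (.leaf (52, 814))))))) (.node (.node (.node (.node (.node (.leaf (1, 21)) (.leaf (0, 0))) (.node (.leaf (0, 0)) (.leaf (16, 600)))) (.node (.node (.leaf (1, 149)) (.leaf (57, 395))) (.node (.leaf (0, 0)) (.leaf (38, 999))))) (.node (.node (.node (.leaf (0, 0)) (.leaf (1, 597))) (.node (.leaf (0, 0)) (.leaf (1,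 974)))) (.node (.node (.leaf (13, 634)) (.leaf (58, 823))) (.node (.leaf (1, 469)) (.leaf (1, 981)))))) (.node (.node (.node (.node (.leaf (1, 53)) (.leaf (52, 412))) (.node (.leaf (0, 0)) (.leaf (57, 888)))) (.node (.node (.leaf (0, 0)) (.leaf (1, 912))) (.node (.leaf (1, 437)) (.leaf (57, 820))))) (.node (.node (.node (.leaf (0, 0)) (.leaf (1, 629))) (.node (.leaf (1, 373)) (.leaf (16, 663)))) (.node (.node (.leaf (58, 255)) (.leaf (1, 757))) (.node (.leaf (0, 0)) (.leaf (52, 782)))))))) (.node (.node (.node (.node (.node (.node (.node (.leaf (1, 17)) (.leaf (53, 110))) (.leaf (56, 16))) (.node (.leaf (48, 491)) (.leaf (16, 651)))) (.node (.node (.leaf (15, 136)) (.leaf (0, 0))) (.node (.leaf (28, 808)) (.leaf (1, 909))))) (.node (.node (.node (.leaf (1, 77)) (.leaf (58, 967))) (.node (.leaf (4, 562)) (.leaf (50, 952)))) (.node (.node (.leaf (0, 0)) (.leaf (1, 717))) (.node (.leaf (0, 0)) (.leaf (12, 973))))))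 (.node (.node (.node (.node (.leaf (0, 0)) (.leaf (27, 557))) (.node (.leaf (1, 301)) (.leaf (51, 357)))) (.node (.node (.leaf (1, 173)) (.leaf (58, 836))) (.node (.leaf (1, 429)) (.leaf (52, 980))))) (.node (.node (.node (.leaf (1, 109)) (.leaf (0, 0))) (.node (.leaf (54, 32)) (.leaf (40, 734)))) (.node (.node (.leaf (0, 0)) (.leaf (53, 688))) (.node (.leaf (1, 493)) (.leaf (46, 910))))))) (.node (.node (.node (.node (.node (.leaf (0, 0)) (.leaf (58, 522))) (.node (.leaf (0, 0)) (.leaf (1, 797)))) (.node (.node (.leaf (0, 0)) (.leaf (53, 45))) (.node (.leaf (1, 413)) (.leaf (38, 168))))) (.node (.node (.node (.leaf (0, 0)) (.leaf (58, 577))) (.node (.leaf (0, 0)) (.leaf (57, 854)))) (.node (.node (.leaf (4, 109)) (.leaf (57, 764))) (.node (.leaf (54, 51)) (.leaf (40, 992)))))) (.node (.node (.node (.node (.leaf (58, 277)) (.leaf (56, 174))) (.node (.leaf (1, 317)) (.leaf (52, 653)))) (.node (.node (.leaf (16, 178))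 (.leaf (1, 701))) (.node (.leaf (4, 688)) (.leaf (1, 957))))) (.node (.node (.node (.leaf (54, 54)) (.leaf (48, 763))) (.node (.leaf (1, 381)) (.leaf (50, 1008)))) (.node (.node (.leaf (58, 264)) (.leaf (58, 82))) (.node (.leaf (40, 288)) (.leaf (28, 766)))))))))) (.node (.node (.node (.node (.node (.node (.node (.node (.node (.leaf (0, 0)) (.leaf (9, 0))) (.leaf (27, 438))) (.node (.leaf (1, 259)) (.leaf (58, 319)))) (.node (.node (.leaf (0, 0)) (.leaf (1, 643))) (.node (.leaf (1, 387)) (.leaf (0, 0))))) (.node (.node (.node (.leaf (1, 145)) (.leaf (57, 978))) (.node (.leaf (10, 320)) (.leaf (54, 576)))) (.node (.node (.leaf (0, 0)) (.leaf (1, 707))) (.node (.leaf (52, 935)) (.leaf (35, 994)))))) (.node (.node (.node (.node (.leaf (0, 0)) (.leaf (0, 0))) (.node (.leaf (1, 291)) (.leaf (51, 607)))) (.node (.node (.leaf (54, 132)) (.leaf (57, 54))) (.node (.leaf (58, 611)) (.leaf (51, 715))))) (.node (.node (.node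 (.leaf (54, 4)) (.leaf (57, 116))) (.node (.leaf (0, 0)) (.leaf (54, 265)))) (.node (.node (.leaf (15, 106)) (.leaf (1, 739))) (.node (.leaf (0, 0)) (.leaf (1, 995))))))) (.node (.node (.node (.node (.node (.leaf (1, 19)) (.leaf (1, 531))) (.node (.leaf (53, 51)) (.leaf (58, 376)))) (.node (.node (.leaf (0, 0)) (.leaf (0, 0))) (.node (.leaf (53, 90)) (.leaf (1, 915))))) (.node (.node (.node (.leaf (52, 188)) (.leaf (55, 410))) (.node (.leaf (58, 704)) (.leaf (52, 822)))) (.node (.node (.leaf (1, 211)) (.leaf (1, 723))) (.node (.leaf (0, 0)) (.leaf (39, 414)))))) (.node (.node (.node (.node (.leaf (4, 119)) (.leaf (51, 167))) (.node (.leaf (58, 737)) (.leaf (1, 819)))) (.node (.node (.leaf (49, 972)) (.leaf (35, 911))) (.node (.leaf (10, 432)) (.leaf (1, 947))))) (.node (.node (.node (.leaf (4, 53)) (.leaf (58, 630))) (.node (.leaf (0, 0)) (.leaf (58, 935)))) (.node (.node (.leaf (1, 243)) (.leaf (1, 755))) (.node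 (.leaf (1, 499)) (.leaf (43, 733)))))))) (.node (.node (.node (.node (.node (.node (.node (.leaf (1, 11)) (.leaf (45, 254))) (.leaf (0, 0))) (.node (.leaf (0, 0)) (.leaf (58, 672)))) (.node (.node (.leaf (0, 0)) (.leaf (57, 504))) (.node (.leaf (1, 395)) (.leaf (29, 689))))) (.node (.node (.node (.leaf (1, 75)) (.leaf (53, 585))) (.node (.leaf (0, 0)) (.leaf (51, 730)))) (.node (.node (.leaf (51, 286)) (.leaf (51, 710))) (.node (.leaf (1, 459)) (.leaf (54, 780)))))) (.node (.node (.node (.node (.leaf (0, 0)) (.leaf (22, 71))) (.node (.leaf (7, 412)) (.leaf (58, 809)))) (.node (.node (.leaf (54, 454)) (.leaf (53, 94))) (.node (.leaf (57, 372)) (.leaf (27, 260))))) (.node (.node (.node (.leaf (4, 225)) (.leaf (28, 543))) (.node (.leaf (1, 363)) (.leaf (1, 875)))) (.node (.node (.leaf (54, 431)) (.leaf (0, 0))) (.node (.leaf (31, 269)) (.leaf (58, 995))))))) (.node (.node (.node (.node (.node (.leaf (0, 0)) (.leaf (27,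 550))) (.node (.leaf (1, 283)) (.leaf (58, 778)))) (.node (.node (.leaf (58, 157)) (.leaf (53, 813))) (.node (.leaf (7, 300)) (.leaf (58, 117))))) (.node (.node (.node (.leaf (1, 91)) (.leaf (58, 460))) (.node (.leaf (1, 347)) (.leaf (58, 790)))) (.node (.node (.leaf (1, 397)) (.leaf (44, 908))) (.node (.leaf (1, 475)) (.leaf (52, 534)))))) (.node (.node (.node (.node (.leaf (0, 0)) (.leaf (1, 571))) (.node (.leaf (52, 300)) (.leaf (25, 816)))) (.node (.node (.leaf (54, 364)) (.leaf (58, 327))) (.node (.leaf (0, 0)) (.leaf (1, 955))))) (.node (.node (.node (.leaf (0, 0)) (.leaf (45, 499))) (.node (.leaf (53, 77)) (.leaf (51, 463)))) (.node (.node (.leaf (0, 0)) (.leaf (58, 60))) (.node (.leaf (1, 507)) (.leaf (57, 975))))))))) (.node (.node (.node (.node (.node (.node (.node (.node (.leaf (0, 0)) (.leaf (29, 878))) (.leaf (50, 304))) (.node (.leaf (54, 476)) (.leaf (1, 775)))) (.node (.node (.leaf (0, 0)) (.leaf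 (1, 647))) (.node (.leaf (1, 391)) (.leaf (58, 423))))) (.node (.node (.node (.leaf (1, 71)) (.leaf (58, 575))) (.node (.leaf (40, 426)) (.leaf (57, 972)))) (.node (.node (.leaf (53, 32)) (.leaf (51, 713))) (.node (.leaf (1, 455)) (.leaf (1, 967)))))) (.node (.node (.node (.node (.leaf (54, 134)) (.leaf (13, 551))) (.node (.leaf (50, 202)) (.leaf (55, 834)))) (.node (.node (.leaf (1, 167)) (.leaf (24, 423))) (.node (.leaf (1, 423)) (.leaf (58, 883))))) (.node (.node (.node (.leaf (1, 103)) (.leaf (1, 615))) (.node (.leaf (0, 0)) (.leaf (1, 871)))) (.node (.node (.leaf (58, 233)) (.leaf (52, 740))) (.node (.leaf (0, 0)) (.leaf (35, 942))))))) (.node (.node (.node (.node (.node (.leaf (0, 0)) (.leaf (58, 196))) (.node (.leaf (53, 277)) (.leaf (1, 791)))) (.node (.node (.leaf (15, 65)) (.leaf (11, 661))) (.node (.leaf (53, 693)) (.leaf (1, 919))))) (.node (.node (.node (.leaf (0, 0)) (.leaf (58, 578))) (.node (.leaf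 (54, 174)) (.leaf (1, 978)))) (.node (.node (.leaf (1, 215)) (.leaf (1, 885))) (.node (.leaf (0, 0)) (.leaf (4, 826)))))) (.node (.node (.node (.node (.leaf (0, 0)) (.leaf (27, 335))) (.node (.leaf (1, 311)) (.leaf (54, 451)))) (.node (.node (.leaf (1, 183)) (.leaf (58, 846))) (.node (.leaf (58, 180)) (.leaf (52, 201))))) (.node (.node (.node (.leaf (1, 119)) (.leaf (1, 678))) (.node (.leaf (0, 0)) (.leaf (27, 229)))) (.node (.node (.leaf (54, 170)) (.leaf (51, 374))) (.node (.leaf (1, 503)) (.leaf (49, 707)))))))) (.node (.node (.node (.node (.node (.node (.leaf (0, 0)) (.leaf (0, 0))) (.node (.leaf (0, 0)) (.leaf (52, 702)))) (.node (.node (.leaf (53, 17)) (.leaf (27, 413))) (.node (.leaf (58, 324)) (.leaf (38, 820))))) (.node (.node (.node (.leaf (28, 347)) (.leaf (1, 591))) (.node (.leaf (1, 335)) (.leaf (1, 988)))) (.node (.node (.leaf (1, 207)) (.leaf (54, 473))) (.node (.leaf (58, 467)) (.leaf (58, 965))))))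 (.node (.node (.node (.node (.leaf (1, 47)) (.leaf (43, 811))) (.node (.leaf (0, 0)) (.leaf (52, 999)))) (.node (.node (.leaf (0, 0)) (.leaf (4, 445))) (.node (.leaf (0, 0)) (.leaf (12, 943))))) (.node (.node (.node (.leaf (0, 0)) (.leaf (52, 874))) (.node (.leaf (53, 364)) (.leaf (1, 879)))) (.node (.node (.leaf (54, 176)) (.leaf (1, 751))) (.node (.leaf (1, 742)) (.leaf (28, 680))))))) (.node (.node (.node (.node (.node (.leaf (17, 65)) (.leaf (53, 26))) (.node (.leaf (1, 287)) (.leaf (1, 799)))) (.node (.node (.leaf (54, 319)) (.leaf (0, 0))) (.node (.leaf (0, 0)) (.leaf (1, 927))))) (.node (.node (.node (.leaf (1, 95)) (.leaf (54, 513))) (.node (.leaf (58, 355)) (.leaf (19, 216)))) (.node (.node (.leaf (0, 0)) (.leaf (1, 735))) (.node (.leaf (53, 476)) (.leaf (55, 738)))))) (.node (.node (.node (.node (.leaf (0, 0)) (.leaf (1, 575))) (.node (.leaf (0, 0)) (.leaf (1, 943)))) (.node (.node (.leaf (0, 0)) (.leaf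 (1, 703))) (.node (.leaf (1, 447)) (.leaf (1, 959))))) (.node (.node (.node (.leaf (54, 245)) (.leaf (38, 618))) (.node (.leaf (1, 616)) (.leaf (57, 716)))) (.node (.node (.leaf (50, 889)) (.leaf (57, 898))) (.node (.leaf (52, 600)) (.leaf (53, 735)))))))))))

def twoVia6 : Janko.Tree (ℕ × ℕ) :=
  (.node (.node (.node (.node (.node (.node (.node (.node (.node (.node (.leaf (0, 0)) (.leaf (6, 443))) (.leaf (0, 0))) (.node (.leaf (2, 257)) (.leaf (28, 517)))) (.node (.node (.leaf (0, 0)) (.leaf (2, 641))) (.node (.leaf (2, 385)) (.leaf (0, 0))))) (.node (.node (.node (.leaf (2, 65)) (.leaf (0, 0))) (.node (.leaf (2, 321)) (.leaf (2, 833)))) (.node (.node (.leaf (58, 379)) (.leaf (0, 0))) (.node (.leaf (0, 0)) (.leaf (2, 961)))))) (.node (.node (.node (.node (.leaf (0, 0)) (.leaf (2, 545))) (.node (.leaf (0, 0)) (.leaf (2, 801)))) (.node (.node (.leaf (2, 161)) (.leaf (2, 673))) (.node (.leaf (0, 0)) (.leaf (59, 809)))))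 (.node (.node (.node (.leaf (0, 0)) (.leaf (0, 0))) (.node (.leaf (0, 0)) (.leaf (2, 865)))) (.node (.node (.leaf (0, 0)) (.leaf (2, 737))) (.node (.leaf (2, 481)) (.leaf (2, 993))))))) (.node (.node (.node (.node (.node (.leaf (0, 0)) (.leaf (28, 776))) (.node (.leaf (2, 273)) (.leaf (2, 785)))) (.node (.node (.leaf (0, 0)) (.leaf (54, 919))) (.node (.leaf (0, 0)) (.leaf (2, 913))))) (.node (.node (.node (.leaf (0, 0)) (.leaf (2, 593))) (.node (.leaf (0, 0)) (.leaf (2, 849)))) (.node (.node (.leaf (2, 209)) (.leaf (0, 0))) (.node (.leaf (0, 0)) (.leaf (2, 977)))))) (.node (.node (.node (.node (.leaf (0, 0)) (.leaf (57, 782))) (.node (.leaf (0, 0)) (.leaf (2, 817)))) (.node (.node (.leaf (2, 177)) (.leaf (2, 689))) (.node (.leaf (2, 433)) (.leaf (2, 945))))) (.node (.node (.node (.leaf (58, 666)) (.leaf (40, 1000))) (.node (.leaf (2, 369)) (.leaf (54, 325)))) (.node (.node (.leaf (0, 0)) (.leaf (2, 753))) (.node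 (.leaf (2, 497)) (.leaf (2, 1009)))))))) (.node (.node (.node (.node (.node (.node (.node (.leaf (0, 0)) (.leaf (38, 891))) (.leaf (28, 306))) (.node (.leaf (0, 0)) (.leaf (40, 691)))) (.node (.node (.leaf (58, 712)) (.leaf (2, 649))) (.node (.leaf (2, 393)) (.leaf (52, 794))))) (.node (.node (.node (.leaf (2, 73)) (.leaf (2, 585))) (.node (.leaf (2, 329)) (.leaf (40, 550)))) (.node (.node (.leaf (2, 201)) (.leaf (0, 0))) (.node (.leaf (51, 688)) (.leaf (43, 323)))))) (.node (.node (.node (.node (.leaf (0, 0)) (.leaf (43, 102))) (.node (.leaf (2, 297)) (.leaf (2, 809)))) (.node (.node (.leaf (2, 169)) (.leaf (0, 0))) (.node (.leaf (0, 0)) (.leaf (0, 0))))) (.node (.node (.node (.leaf (0, 0)) (.leaf (55, 380))) (.node (.leaf (0, 0)) (.leaf (0, 0)))) (.node (.node (.leaf (0, 0)) (.leaf (0, 0))) (.node (.leaf (2, 489)) (.leaf (2, 1001))))))) (.node (.node (.node (.node (.node (.leaf (0, 0)) (.leaf (57, 320))) (.node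 (.leaf (2, 281)) (.leaf (0, 0)))) (.node (.node (.leaf (2, 153)) (.leaf (2, 665))) (.node (.leaf (2, 409)) (.leaf (2, 921))))) (.node (.node (.node (.leaf (43, 368)) (.leaf (0, 0))) (.node (.leaf (57, 457)) (.leaf (58, 950)))) (.node (.node (.leaf (2, 217)) (.leaf (2, 729))) (.node (.leaf (0, 0)) (.leaf (58, 1008)))))) (.node (.node (.node (.node (.leaf (2, 57)) (.leaf (2, 569))) (.node (.leaf (0, 0)) (.leaf (58, 572)))) (.node (.node (.leaf (0, 0)) (.leaf (0, 0))) (.node (.leaf (2, 441)) (.leaf (2, 953))))) (.node (.node (.node (.leaf (0, 0)) (.leaf (2, 633))) (.node (.leaf (2, 377)) (.leaf (0, 0)))) (.node (.node (.leaf (0, 0)) (.leaf (2, 761))) (.node (.leaf (2, 505)) (.leaf (52, 988))))))))) (.node (.node (.node (.node (.node (.node (.node (.node (.leaf (0, 0)) (.leaf (22, 118))) (.leaf (2, 517))) (.node (.leaf (0, 0)) (.leaf (2, 773)))) (.node (.node (.leaf (0, 0)) (.leaf (2, 645))) (.node (.leaf (2, 389)) (.leaf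 (2, 901))))) (.node (.node (.node (.leaf (2, 69)) (.leaf (0, 0))) (.node (.leaf (0, 0)) (.leaf (2, 837)))) (.node (.node (.leaf (2, 197)) (.leaf (58, 587))) (.node (.leaf (2, 453)) (.leaf (59, 848)))))) (.node (.node (.node (.node (.leaf (0, 0)) (.leaf (2, 549))) (.node (.leaf (2, 293)) (.leaf (54, 899)))) (.node (.node (.leaf (0, 0)) (.leaf (0, 0))) (.node (.leaf (2, 421)) (.leaf (58, 760))))) (.node (.node (.node (.leaf (58, 199)) (.leaf (29, 953))) (.node (.leaf (0, 0)) (.leaf (28, 655)))) (.node (.node (.leaf (2, 229)) (.leaf (2, 741))) (.node (.leaf (0, 0)) (.leaf (2, 997))))))) (.node (.node (.node (.node (.node (.leaf (0, 0)) (.leaf (2, 533))) (.node (.leaf (2, 277)) (.leaf (0, 0)))) (.node (.node (.leaf (0, 0)) (.leaf (58, 214))) (.node (.leaf (2, 405)) (.leaf (2, 917))))) (.node (.node (.node (.leaf (2, 85)) (.leaf (53, 662))) (.node (.leaf (2, 341)) (.leaf (2, 853)))) (.node (.node (.leaf (0, 0)) (.leaf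 (2, 725))) (.node (.leaf (0, 0)) (.leaf (28, 827)))))) (.node (.node (.node (.node (.leaf (0, 0)) (.leaf (2, 565))) (.node (.leaf (2, 309)) (.leaf (58, 567)))) (.node (.node (.leaf (2, 181)) (.leaf (28, 912))) (.node (.leaf (0, 0)) (.leaf (2, 949))))) (.node (.node (.node (.leaf (0, 0)) (.leaf (0, 0))) (.node (.leaf (0, 0)) (.leaf (0, 0)))) (.node (.node (.leaf (2, 245)) (.leaf (2, 757))) (.node (.leaf (2, 501)) (.leaf (2, 1013)))))))) (.node (.node (.node (.node (.node (.node (.node (.leaf (0, 0)) (.leaf (54, 114))) (.leaf (0, 0))) (.node (.leaf (28, 463)) (.leaf (28, 871)))) (.node (.node (.leaf (2, 141)) (.leaf (0, 0))) (.node (.leaf (2, 397)) (.leaf (57, 999))))) (.node (.node (.node (.leaf (0, 0)) (.leaf (2, 589))) (.node (.leaf (0, 0)) (.leaf (2, 845)))) (.node (.node (.leaf (2, 205)) (.leaf (0, 0))) (.node (.leaf (0, 0)) (.leaf (2, 973)))))) (.node (.node (.node (.node (.leaf (0, 0)) (.leaf (0, 0))) (.node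 (.leaf (0, 0)) (.leaf (2, 813)))) (.node (.node (.leaf (0, 0)) (.leaf (2, 685))) (.node (.leaf (51, 674)) (.leaf (2, 941))))) (.node (.node (.node (.leaf (0, 0)) (.leaf (2, 621))) (.node (.leaf (0, 0)) (.leaf (54, 1023)))) (.node (.node (.leaf (2, 237)) (.leaf (0, 0))) (.node (.leaf (29, 884)) (.leaf (2, 1005))))))) (.node (.node (.node (.node (.node (.leaf (2, 29)) (.leaf (2, 541))) (.node (.leaf (2, 285)) (.leaf (0, 0)))) (.node (.node (.leaf (0, 0)) (.leaf (0, 0))) (.node (.leaf (0, 0)) (.leaf (2, 925))))) (.node (.node (.node (.leaf (2, 93)) (.leaf (2, 605))) (.node (.leaf (0, 0)) (.leaf (59, 834)))) (.node (.node (.leaf (0, 0)) (.leaf (58, 896))) (.node (.leaf (0, 0)) (.leaf (28, 640)))))) (.node (.node (.node (.node (.leaf (51, 475)) (.leaf (0, 0))) (.node (.leaf (54, 470)) (.leaf (2, 829)))) (.node (.node (.leaf (0, 0)) (.leaf (2, 920))) (.node (.leaf (0, 0)) (.leaf (59, 980))))) (.node (.node (.node (.leaf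 (0, 0)) (.leaf (54, 763))) (.node (.leaf (29, 791)) (.leaf (0, 0)))) (.node (.node (.leaf (2, 253)) (.leaf (2, 765))) (.node (.leaf (2, 509)) (.leaf (2, 1021)))))))))) (.node (.node (.node (.node (.node (.node (.node (.node (.node (.leaf (2, 3)) (.leaf (10, 0))) (.leaf (0, 0))) (.node (.leaf (0, 0)) (.leaf (2, 771)))) (.node (.node (.leaf (0, 0)) (.leaf (28, 405))) (.node (.leaf (0, 0)) (.leaf (2, 899))))) (.node (.node (.node (.leaf (0, 0)) (.leaf (0, 0))) (.node (.leaf (0, 0)) (.leaf (59, 971)))) (.node (.node (.leaf (2, 195)) (.leaf (0, 0))) (.node (.leaf (0, 0)) (.leaf (2, 963)))))) (.node (.node (.node (.node (.leaf (2, 35)) (.leaf (2, 547))) (.node (.leaf (0, 0)) (.leaf (0, 0)))) (.node (.node (.leaf (2, 163)) (.leaf (2, 675))) (.node (.leaf (2, 419)) (.leaf (0, 0))))) (.node (.node (.node (.leaf (0, 0)) (.leaf (2, 611))) (.node (.leaf (2, 355)) (.leaf (0, 0)))) (.node (.node (.leaf (0, 0)) (.leaf (51, 629)))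 (.node (.leaf (2, 483)) (.leaf (2, 995))))))) (.node (.node (.node (.node (.node (.leaf (0, 0)) (.leaf (57, 758))) (.node (.leaf (0, 0)) (.leaf (58, 534)))) (.node (.node (.leaf (0, 0)) (.leaf (2, 659))) (.node (.leaf (0, 0)) (.leaf (0, 0))))) (.node (.node (.node (.leaf (2, 83)) (.leaf (0, 0))) (.node (.leaf (0, 0)) (.leaf (2, 851)))) (.node (.node (.leaf (2, 211)) (.leaf (52, 916))) (.node (.leaf (2, 467)) (.leaf (28, 812)))))) (.node (.node (.node (.node (.leaf (0, 0)) (.leaf (2, 563))) (.node (.leaf (2, 307)) (.leaf (2, 981)))) (.node (.node (.leaf (0, 0)) (.leaf (2, 691))) (.node (.leaf (0, 0)) (.leaf (57, 862))))) (.node (.node (.node (.leaf (0, 0)) (.leaf (2, 627))) (.node (.leaf (2, 371)) (.leaf (2, 883)))) (.node (.node (.leaf (0, 0)) (.leaf (0, 0))) (.node (.leaf (0, 0)) (.leaf (2, 1011)))))))) (.node (.node (.node (.node (.node (.node (.node (.leaf (0, 0)) (.leaf (46, 53))) (.leaf (2, 523))) (.node (.leaf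 (0, 0)) (.leaf (2, 779)))) (.node (.node (.leaf (2, 139)) (.leaf (0, 0))) (.node (.leaf (0, 0)) (.leaf (0, 0))))) (.node (.node (.node (.leaf (0, 0)) (.leaf (0, 0))) (.node (.leaf (0, 0)) (.leaf (2, 843)))) (.node (.node (.leaf (0, 0)) (.leaf (2, 715))) (.node (.leaf (57, 707)) (.leaf (2, 971)))))) (.node (.node (.node (.node (.leaf (0, 0)) (.leaf (0, 0))) (.node (.leaf (0, 0)) (.leaf (54, 558)))) (.node (.node (.leaf (0, 0)) (.leaf (0, 0))) (.node (.leaf (2, 427)) (.leaf (43, 661))))) (.node (.node (.node (.leaf (0, 0)) (.leaf (0, 0))) (.node (.leaf (51, 187)) (.leaf (0, 0)))) (.node (.node (.leaf (58, 435)) (.leaf (2, 747))) (.node (.leaf (0, 0)) (.leaf (2, 1003))))))) (.node (.node (.node (.node (.node (.leaf (2, 27)) (.leaf (2, 539))) (.node (.leaf (0, 0)) (.leaf (2, 795)))) (.node (.node (.leaf (0, 0)) (.leaf (2, 667))) (.node (.leaf (0, 0)) (.leaf (58, 772))))) (.node (.node (.node (.leaf (54, 200)) (.leaf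 (2, 603))) (.node (.leaf (57, 581)) (.leaf (58, 633)))) (.node (.node (.leaf (2, 219)) (.leaf (2, 731))) (.node (.leaf (51, 263)) (.leaf (2, 987)))))) (.node (.node (.node (.node (.leaf (0, 0)) (.leaf (0, 0))) (.node (.leaf (2, 315)) (.leaf (28, 981)))) (.node (.node (.leaf (43, 199)) (.leaf (0, 0))) (.node (.leaf (0, 0)) (.leaf (52, 277))))) (.node (.node (.node (.leaf (2, 123)) (.leaf (2, 635))) (.node (.leaf (0, 0)) (.leaf (2, 891)))) (.node (.node (.leaf (2, 251)) (.leaf (43, 536))) (.node (.leaf (0, 0)) (.leaf (55, 517))))))))) (.node (.node (.node (.node (.node (.node (.node (.node (.leaf (0, 0)) (.leaf (30, 481))) (.leaf (0, 0))) (.node (.leaf (43, 275)) (.leaf (51, 166)))) (.node (.node (.leaf (0, 0)) (.leaf (28, 418))) (.node (.leaf (0, 0)) (.leaf (2, 903))))) (.node (.node (.node (.leaf (0, 0)) (.leaf (58, 797))) (.node (.leaf (2, 327)) (.leaf (2, 839)))) (.node (.node (.leaf (0, 0)) (.leaf (2, 711))) (.node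 (.leaf (0, 0)) (.leaf (58, 1006)))))) (.node (.node (.node (.node (.leaf (54, 345)) (.leaf (0, 0))) (.node (.leaf (2, 295)) (.leaf (0, 0)))) (.node (.node (.leaf (0, 0)) (.leaf (43, 143))) (.node (.leaf (0, 0)) (.leaf (58, 753))))) (.node (.node (.node (.leaf (0, 0)) (.leaf (2, 615))) (.node (.leaf (2, 359)) (.leaf (0, 0)))) (.node (.node (.leaf (0, 0)) (.leaf (55, 492))) (.node (.leaf (2, 487)) (.leaf (2, 999))))))) (.node (.node (.node (.node (.node (.leaf (2, 23)) (.leaf (58, 290))) (.node (.leaf (0, 0)) (.leaf (43, 157)))) (.node (.node (.leaf (0, 0)) (.leaf (57, 432))) (.node (.leaf (0, 0)) (.leaf (27, 698))))) (.node (.node (.node (.leaf (0, 0)) (.leaf (2, 599))) (.node (.leaf (0, 0)) (.leaf (28, 602)))) (.node (.node (.leaf (0, 0)) (.leaf (0, 0))) (.node (.leaf (2, 471)) (.leaf (2, 983)))))) (.node (.node (.node (.node (.leaf (2, 55)) (.leaf (28, 819))) (.node (.leaf (0, 0)) (.leaf (58, 635)))) (.node (.node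 (.leaf (0, 0)) (.leaf (2, 695))) (.node (.leaf (2, 439)) (.leaf (50, 750))))) (.node (.node (.node (.leaf (0, 0)) (.leaf (2, 631))) (.node (.leaf (2, 375)) (.leaf (28, 726)))) (.node (.node (.leaf (0, 0)) (.leaf (2, 759))) (.node (.leaf (0, 0)) (.leaf (2, 1015)))))))) (.node (.node (.node (.node (.node (.node (.leaf (2, 15)) (.leaf (0, 0))) (.node (.leaf (2, 271)) (.leaf (2, 783)))) (.node (.node (.leaf (0, 0)) (.leaf (28, 869))) (.node (.leaf (54, 472)) (.leaf (0, 0))))) (.node (.node (.node (.leaf (2, 79)) (.leaf (0, 0))) (.node (.leaf (15, 526)) (.leaf (2, 847)))) (.node (.node (.leaf (0, 0)) (.leaf (2, 719))) (.node (.leaf (0, 0)) (.leaf (2, 975)))))) (.node (.node (.node (.node (.leaf (0, 0)) (.leaf (2, 559))) (.node (.leaf (2, 303)) (.leaf (2, 979)))) (.node (.node (.leaf (2, 175)) (.leaf (57, 875))) (.node (.leaf (2, 431)) (.leaf (2, 943))))) (.node (.node (.node (.leaf (0, 0)) (.leaf (0, 0))) (.node (.leaf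 (57, 196)) (.leaf (0, 0)))) (.node (.node (.leaf (2, 239)) (.leaf (52, 133))) (.node (.leaf (2, 495)) (.leaf (2, 1007))))))) (.node (.node (.node (.node (.node (.leaf (2, 31)) (.leaf (0, 0))) (.node (.leaf (2, 287)) (.leaf (51, 587)))) (.node (.node (.leaf (58, 323)) (.leaf (2, 671))) (.node (.leaf (2, 415)) (.leaf (52, 777))))) (.node (.node (.node (.leaf (0, 0)) (.leaf (43, 325))) (.node (.leaf (0, 0)) (.leaf (2, 989)))) (.node (.node (.leaf (0, 0)) (.leaf (0, 0))) (.node (.leaf (57, 272)) (.leaf (54, 433)))))) (.node (.node (.node (.node (.leaf (2, 63)) (.leaf (2, 827))) (.node (.leaf (2, 319)) (.leaf (2, 831)))) (.node (.node (.leaf (0, 0)) (.leaf (0, 0))) (.node (.leaf (46, 654)) (.leaf (51, 339))))) (.node (.node (.node (.leaf (51, 225)) (.leaf (2, 639))) (.node (.leaf (2, 383)) (.leaf (34, 991)))) (.node (.node (.leaf (0, 0)) (.leaf (2, 767))) (.node (.leaf (53, 360)) (.leaf (50, 845)))))))))))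

def twoVia7 : Janko.Tree (ℕ × ℕ) :=
  (.node (.node (.node (.node (.node (.node (.node (.node (.node (.node (.leaf (0, 0)) (.leaf (7, 562))) (.leaf (3, 513))) (.node (.leaf (0, 0)) (.leaf (58, 156)))) (.node (.node (.leaf (0, 0)) (.leaf (58, 796))) (.node (.leaf (0, 0)) (.leaf (3, 897))))) (.node (.node (.node (.leaf (0, 0)) (.leaf (3, 577))) (.node (.leaf (0, 0)) (.leaf (59, 984)))) (.node (.node (.leaf (3, 193)) (.leaf (58, 171))) (.node (.leaf (58, 385)) (.leaf (59, 665)))))) (.node (.node (.node (.node (.leaf (0, 0)) (.leaf (48, 583))) (.node (.leaf (55, 161)) (.leaf (58, 483)))) (.node (.node (.leaf (0, 0)) (.leaf (0, 0))) (.node (.leaf (58, 830)) (.leaf (3, 929))))) (.node (.node (.node (.leaf (58, 27)) (.leaf (46, 528))) (.node (.leaf (58, 32)) (.leaf (3, 865)))) (.node (.node (.leaf (45, 392)) (.leaf (58, 451))) (.node (.leaf (0, 0)) (.leaf (3, 993))))))) (.node (.node (.node (.node (.node (.leaf (3, 17))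 (.leaf (3, 529))) (.node (.leaf (0, 0)) (.leaf (56, 150)))) (.node (.node (.leaf (3, 145)) (.leaf (57, 204))) (.node (.leaf (3, 401)) (.leaf (58, 347))))) (.node (.node (.node (.leaf (3, 81)) (.leaf (0, 0))) (.node (.leaf (58, 34)) (.leaf (0, 0)))) (.node (.node (.leaf (0, 0)) (.leaf (57, 546))) (.node (.leaf (59, 853)) (.leaf (59, 757)))))) (.node (.node (.node (.node (.leaf (3, 49)) (.leaf (23, 190))) (.node (.leaf (58, 923)) (.leaf (0, 0)))) (.node (.node (.leaf (0, 0)) (.leaf (0, 0))) (.node (.leaf (0, 0)) (.leaf (58, 832))))) (.node (.node (.node (.leaf (3, 113)) (.leaf (0, 0))) (.node (.leaf (0, 0)) (.leaf (51, 880)))) (.node (.node (.leaf (54, 139)) (.leaf (0, 0))) (.node (.leaf (0, 0)) (.leaf (3, 1009)))))))) (.node (.node (.node (.node (.node (.node (.node (.leaf (3, 9)) (.leaf (39, 726))) (.leaf (3, 521))) (.node (.leaf (3, 265)) (.leaf (51, 914)))) (.node (.node (.leaf (3, 137)) (.leaf (0, 0))) (.node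 (.leaf (42, 121)) (.leaf (16, 688))))) (.node (.node (.node (.leaf (0, 0)) (.leaf (0, 0))) (.node (.leaf (54, 655)) (.leaf (56, 175)))) (.node (.node (.leaf (0, 0)) (.leaf (3, 713))) (.node (.leaf (3, 457)) (.leaf (3, 969)))))) (.node (.node (.node (.node (.leaf (0, 0)) (.leaf (3, 553))) (.node (.leaf (0, 0)) (.leaf (57, 811)))) (.node (.node (.leaf (0, 0)) (.leaf (3, 681))) (.node (.leaf (58, 245)) (.leaf (3, 937))))) (.node (.node (.node (.leaf (3, 105)) (.leaf (57, 88))) (.node (.leaf (0, 0)) (.leaf (58, 299)))) (.node (.node (.leaf (0, 0)) (.leaf (3, 745))) (.node (.leaf (58, 690)) (.leaf (54, 703))))))) (.node (.node (.node (.node (.node (.leaf (0, 0)) (.leaf (3, 537))) (.node (.leaf (57, 754)) (.leaf (3, 793)))) (.node (.node (.leaf (0, 0)) (.leaf (0, 0))) (.node (.leaf (0, 0)) (.leaf (58, 783))))) (.node (.node (.node (.leaf (3, 89)) (.leaf (58, 402))) (.node (.leaf (3, 345)) (.leaf (3, 857)))) (.node (.node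 (.leaf (0, 0)) (.leaf (54, 314))) (.node (.leaf (0, 0)) (.leaf (3, 985)))))) (.node (.node (.node (.node (.leaf (0, 0)) (.leaf (0, 0))) (.node (.leaf (58, 631)) (.leaf (57, 930)))) (.node (.node (.leaf (0, 0)) (.leaf (27, 909))) (.node (.leaf (58, 353)) (.leaf (3, 953))))) (.node (.node (.node (.leaf (0, 0)) (.leaf (58, 1000))) (.node (.leaf (53, 572)) (.leaf (58, 767)))) (.node (.node (.leaf (0, 0)) (.leaf (58, 931))) (.node (.leaf (58, 80)) (.leaf (46, 1016))))))))) (.node (.node (.node (.node (.node (.node (.node (.node (.leaf (0, 0)) (.leaf (23, 310))) (.leaf (0, 0))) (.node (.leaf (0, 0)) (.leaf (0, 0)))) (.node (.node (.leaf (3, 133)) (.leaf (3, 808))) (.node (.leaf (57, 390)) (.leaf (28, 513))))) (.node (.node (.node (.leaf (0, 0)) (.leaf (58, 1020))) (.node (.leaf (0, 0)) (.leaf (28, 597)))) (.node (.node (.leaf (0, 0)) (.leaf (3, 709))) (.node (.leaf (0, 0)) (.leaf (3, 965)))))) (.node (.node (.node (.node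 (.leaf (3, 37)) (.leaf (0, 0))) (.node (.leaf (0, 0)) (.leaf (58, 617)))) (.node (.node (.leaf (57, 285)) (.leaf (3, 677))) (.node (.leaf (0, 0)) (.leaf (3, 933))))) (.node (.node (.node (.leaf (3, 101)) (.leaf (32, 586))) (.node (.leaf (0, 0)) (.leaf (3, 869)))) (.node (.node (.leaf (0, 0)) (.leaf (58, 445))) (.node (.leaf (27, 578)) (.leaf (59, 547))))))) (.node (.node (.node (.node (.node (.leaf (0, 0)) (.leaf (58, 799))) (.node (.leaf (0, 0)) (.leaf (3, 789)))) (.node (.node (.leaf (58, 310)) (.leaf (0, 0))) (.node (.leaf (0, 0)) (.leaf (3, 917))))) (.node (.node (.node (.leaf (0, 0)) (.leaf (27, 193))) (.node (.leaf (0, 0)) (.leaf (43, 69)))) (.node (.node (.leaf (57, 237)) (.leaf (0, 0))) (.node (.leaf (0, 0)) (.leaf (3, 981)))))) (.node (.node (.node (.node (.leaf (0, 0)) (.leaf (0, 0))) (.node (.leaf (0, 0)) (.leaf (58, 870)))) (.node (.node (.leaf (0, 0)) (.leaf (3, 693))) (.node (.leaf (0, 0)) (.leaf (28,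 480))))) (.node (.node (.node (.leaf (3, 117)) (.leaf (28, 657))) (.node (.leaf (19, 372)) (.leaf (58, 669)))) (.node (.node (.leaf (0, 0)) (.leaf (58, 911))) (.node (.leaf (57, 502)) (.leaf (58, 980)))))))) (.node (.node (.node (.node (.node (.node (.node (.leaf (0, 0)) (.leaf (55, 74))) (.leaf (3, 525))) (.node (.leaf (3, 269)) (.leaf (3, 781)))) (.node (.node (.leaf (0, 0)) (.leaf (0, 0))) (.node (.leaf (58, 426)) (.leaf (27, 114))))) (.node (.node (.node (.leaf (0, 0)) (.leaf (57, 967))) (.node (.leaf (3, 333)) (.leaf (58, 920)))) (.node (.node (.leaf (45, 109)) (.leaf (0, 0))) (.node (.leaf (0, 0)) (.leaf (52, 337)))))) (.node (.node (.node (.node (.leaf (3, 45)) (.leaf (3, 557))) (.node (.leaf (45, 282)) (.leaf (0, 0)))) (.node (.node (.leaf (0, 0)) (.leaf (58, 175))) (.node (.leaf (58, 656)) (.leaf (58, 852))))) (.node (.node (.node (.leaf (58, 63)) (.leaf (0, 0))) (.node (.leaf (3, 365)) (.leaf (3, 877))))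 (.node (.node (.leaf (0, 0)) (.leaf (3, 749))) (.node (.leaf (0, 0)) (.leaf (54, 598))))))) (.node (.node (.node (.node (.node (.leaf (0, 0)) (.leaf (0, 0))) (.node (.leaf (0, 0)) (.leaf (28, 574)))) (.node (.node (.leaf (0, 0)) (.leaf (10, 422))) (.node (.leaf (58, 392)) (.leaf (58, 341))))) (.node (.node (.node (.leaf (58, 504)) (.leaf (58, 706))) (.node (.leaf (0, 0)) (.leaf (58, 878)))) (.node (.node (.leaf (3, 221)) (.leaf (3, 733))) (.node (.leaf (3, 477)) (.leaf (3, 989)))))) (.node (.node (.node (.node (.leaf (3, 61)) (.leaf (58, 249))) (.node (.leaf (46, 281)) (.leaf (0, 0)))) (.node (.node (.leaf (3, 189)) (.leaf (3, 701))) (.node (.leaf (3, 445)) (.leaf (58, 824))))) (.node (.node (.node (.leaf (3, 125)) (.leaf (3, 637))) (.node (.leaf (0, 0)) (.leaf (3, 893)))) (.node (.node (.leaf (0, 0)) (.leaf (59, 946))) (.node (.leaf (58, 821)) (.leaf (57, 850)))))))))) (.node (.node (.node (.node (.node (.node (.node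 (.node (.node (.leaf (0, 0)) (.leaf (15, 116))) (.leaf (3, 515))) (.node (.leaf (27, 464)) (.leaf (3, 901)))) (.node (.node (.leaf (0, 0)) (.leaf (58, 232))) (.node (.leaf (18, 558)) (.leaf (58, 851))))) (.node (.node (.node (.leaf (0, 0)) (.leaf (59, 766))) (.node (.leaf (42, 538)) (.leaf (3, 835)))) (.node (.node (.leaf (0, 0)) (.leaf (57, 198))) (.node (.leaf (0, 0)) (.leaf (58, 829)))))) (.node (.node (.node (.node (.leaf (0, 0)) (.leaf (0, 0))) (.node (.leaf (0, 0)) (.leaf (3, 803)))) (.node (.node (.leaf (0, 0)) (.leaf (0, 0))) (.node (.leaf (57, 611)) (.leaf (57, 714))))) (.node (.node (.node (.leaf (3, 99)) (.leaf (58, 339))) (.node (.leaf (0, 0)) (.leaf (58, 301)))) (.node (.node (.leaf (58, 880)) (.leaf (10, 934))) (.node (.leaf (57, 301)) (.leaf (40, 817))))))) (.node (.node (.node (.node (.node (.leaf (0, 0)) (.leaf (27, 317))) (.node (.leaf (36, 475)) (.leaf (0, 0)))) (.node (.node (.leaf (3, 147)) (.leaf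 (56, 643))) (.node (.leaf (3, 403)) (.leaf (58, 657))))) (.node (.node (.node (.leaf (0, 0)) (.leaf (57, 672))) (.node (.leaf (0, 0)) (.leaf (57, 1010)))) (.node (.node (.leaf (58, 231)) (.leaf (27, 269))) (.node (.leaf (0, 0)) (.leaf (3, 979)))))) (.node (.node (.node (.node (.leaf (3, 51)) (.leaf (0, 0))) (.node (.leaf (54, 129)) (.leaf (3, 819)))) (.node (.node (.leaf (0, 0)) (.leaf (0, 0))) (.node (.leaf (41, 664)) (.leaf (58, 853))))) (.node (.node (.node (.leaf (3, 115)) (.leaf (0, 0))) (.node (.leaf (57, 413)) (.leaf (0, 0)))) (.node (.node (.leaf (0, 0)) (.leaf (58, 502))) (.node (.leaf (32, 210)) (.leaf (28, 493)))))))) (.node (.node (.node (.node (.node (.node (.node (.leaf (0, 0)) (.leaf (47, 43))) (.leaf (0, 0))) (.node (.leaf (0, 0)) (.leaf (58, 181)))) (.node (.node (.leaf (0, 0)) (.leaf (3, 651))) (.node (.leaf (25, 437)) (.leaf (52, 454))))) (.node (.node (.node (.leaf (0, 0)) (.leaf (3, 587))) (.node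 (.leaf (3, 331)) (.leaf (52, 1005)))) (.node (.node (.leaf (3, 203)) (.leaf (57, 1000))) (.node (.leaf (39, 524)) (.leaf (58, 650)))))) (.node (.node (.node (.node (.leaf (0, 0)) (.leaf (3, 555))) (.node (.leaf (3, 299)) (.leaf (59, 891)))) (.node (.node (.leaf (3, 171)) (.leaf (3, 683))) (.node (.leaf (58, 73)) (.leaf (3, 939))))) (.node (.node (.node (.leaf (3, 107)) (.leaf (3, 619))) (.node (.leaf (45, 82)) (.leaf (58, 1023)))) (.node (.node (.leaf (3, 235)) (.leaf (0, 0))) (.node (.leaf (18, 710)) (.leaf (58, 983))))))) (.node (.node (.node (.node (.node (.leaf (0, 0)) (.leaf (0, 0))) (.node (.leaf (57, 157)) (.leaf (58, 873)))) (.node (.node (.leaf (3, 155)) (.leaf (0, 0))) (.node (.leaf (3, 411)) (.leaf (3, 923))))) (.node (.node (.node (.leaf (0, 0)) (.leaf (58, 699))) (.node (.leaf (39, 650)) (.leaf (3, 859)))) (.node (.node (.leaf (0, 0)) (.leaf (58, 579))) (.node (.leaf (45, 123)) (.leaf (52, 992))))))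 (.node (.node (.node (.node (.leaf (0, 0)) (.leaf (19, 455))) (.node (.leaf (58, 114)) (.leaf (3, 827)))) (.node (.node (.leaf (3, 187)) (.leaf (58, 173))) (.node (.leaf (3, 443)) (.leaf (58, 786))))) (.node (.node (.node (.leaf (0, 0)) (.leaf (58, 838))) (.node (.leaf (54, 585)) (.leaf (59, 843)))) (.node (.node (.leaf (0, 0)) (.leaf (3, 763))) (.node (.leaf (32, 202)) (.leaf (3, 1019))))))))) (.node (.node (.node (.node (.node (.node (.node (.node (.leaf (3, 7)) (.leaf (31, 263))) (.leaf (3, 519))) (.node (.leaf (3, 263)) (.leaf (58, 527)))) (.node (.node (.leaf (0, 0)) (.leaf (3, 647))) (.node (.leaf (58, 628)) (.leaf (59, 1023))))) (.node (.node (.node (.leaf (0, 0)) (.leaf (3, 583))) (.node (.leaf (54, 671)) (.leaf (36, 572)))) (.node (.node (.leaf (24, 87)) (.leaf (0, 0))) (.node (.leaf (3, 455)) (.leaf (3, 967)))))) (.node (.node (.node (.node (.leaf (3, 39)) (.leaf (3, 551))) (.node (.leaf (0, 0)) (.leaf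 (3, 807)))) (.node (.node (.leaf (0, 0)) (.leaf (3, 679))) (.node (.leaf (0, 0)) (.leaf (3, 935))))) (.node (.node (.node (.leaf (0, 0)) (.leaf (43, 378))) (.node (.leaf (46, 837)) (.leaf (3, 871)))) (.node (.node (.leaf (3, 231)) (.leaf (57, 129))) (.node (.leaf (0, 0)) (.leaf (59, 988))))))) (.node (.node (.node (.node (.node (.leaf (0, 0)) (.leaf (0, 0))) (.node (.leaf (3, 279)) (.leaf (3, 791)))) (.node (.node (.leaf (58, 787)) (.leaf (3, 663))) (.node (.leaf (3, 407)) (.leaf (28, 700))))) (.node (.node (.node (.leaf (0, 0)) (.leaf (0, 0))) (.node (.leaf (3, 343)) (.leaf (3, 855)))) (.node (.node (.leaf (0, 0)) (.leaf (57, 480))) (.node (.leaf (46, 930)) (.leaf (58, 720)))))) (.node (.node (.node (.node (.leaf (0, 0)) (.leaf (3, 567))) (.node (.leaf (0, 0)) (.leaf (3, 823)))) (.node (.node (.leaf (27, 308)) (.leaf (0, 0))) (.node (.leaf (58, 337)) (.leaf (3, 951))))) (.node (.node (.node (.leaf (0, 0)) (.leaf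 (58, 334))) (.node (.leaf (0, 0)) (.leaf (3, 887)))) (.node (.node (.leaf (3, 247)) (.leaf (57, 844))) (.node (.leaf (53, 148)) (.leaf (59, 977)))))))) (.node (.node (.node (.node (.node (.node (.leaf (0, 0)) (.leaf (0, 0))) (.node (.leaf (0, 0)) (.leaf (0, 0)))) (.node (.node (.leaf (57, 277)) (.leaf (3, 655))) (.node (.leaf (0, 0)) (.leaf (58, 757))))) (.node (.node (.node (.leaf (0, 0)) (.leaf (0, 0))) (.node (.leaf (27, 561)) (.leaf (0, 0)))) (.node (.node (.leaf (44, 206)) (.leaf (0, 0))) (.node (.leaf (3, 463)) (.leaf (58, 1004)))))) (.node (.node (.node (.node (.leaf (0, 0)) (.leaf (58, 251))) (.node (.leaf (28, 503)) (.leaf (3, 815)))) (.node (.node (.leaf (0, 0)) (.leaf (27, 447))) (.node (.leaf (0, 0)) (.leaf (57, 866))))) (.node (.node (.node (.leaf (0, 0)) (.leaf (3, 623))) (.node (.leaf (3, 367)) (.leaf (59, 862)))) (.node (.node (.leaf (0, 0)) (.leaf (0, 0))) (.node (.leaf (0, 0)) (.leaf (56, 621)))))))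 (.node (.node (.node (.node (.node (.leaf (0, 0)) (.leaf (10, 310))) (.node (.leaf (58, 596)) (.leaf (58, 959)))) (.node (.node (.leaf (3, 159)) (.leaf (48, 709))) (.node (.leaf (57, 428)) (.leaf (0, 0))))) (.node (.node (.node (.leaf (0, 0)) (.leaf (3, 607))) (.node (.leaf (3, 351)) (.leaf (3, 863)))) (.node (.node (.leaf (3, 223)) (.leaf (57, 412))) (.node (.leaf (3, 479)) (.leaf (58, 433)))))) (.node (.node (.node (.node (.leaf (0, 0)) (.leaf (3, 575))) (.node (.leaf (0, 0)) (.leaf (28, 706)))) (.node (.node (.leaf (0, 0)) (.leaf (3, 703))) (.node (.leaf (27, 687)) (.leaf (58, 849))))) (.node (.node (.node (.leaf (3, 127)) (.leaf (58, 54))) (.node (.leaf (0, 0)) (.leaf (22, 746)))) (.node (.node (.leaf (0, 0)) (.leaf (58, 889))) (.node (.leaf (0, 0)) (.leaf (3, 1023)))))))))))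

def twoVia : Janko.Tree (ℕ × ℕ) := (.node (.node (.node twoVia0 twoVia4) (.node twoVia2 twoVia6)) (.node (.node twoVia1 twoVia5) (.node twoVia3 twoVia7)))

def twoOrd0 : Janko.Tree (ℕ) :=
  (.node (.node (.node (.node (.node (.node (.node (.leaf 975) (.leaf 532)) (.node (.leaf 524) (.leaf 501))) (.node (.node (.leaf 198) (.leaf 654)) (.node (.leaf 453) (.leaf 990)))) (.node (.node (.node (.leaf 360) (.leaf 31)) (.node (.leaf 853) (.leaf 368))) (.node (.node (.leaf 56) (.leaf 995)) (.node (.leaf 854) (.leaf 1021))))) (.node (.node (.node (.node (.leaf 880) (.leaf 997)) (.node (.leaf 971) (.leaf 237))) (.node (.node (.leaf 231) (.leaf 802)) (.node (.leaf 427) (.leaf 613)))) (.node (.node (.node (.leaf 545) (.leaf 944)) (.node (.leaf 948) (.leaf 916))) (.node (.node (.leaf 640) (.leaf 786)) (.node (.leaf 436) (.leaf 720)))))) (.node (.node (.node (.node (.node (.leaf 234) (.leaf 136)) (.node (.leaf 8) (.leaf 564)))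 (.node (.node (.leaf 112) (.leaf 175)) (.node (.leaf 591) (.leaf 298)))) (.node (.node (.node (.leaf 58) (.leaf 745)) (.node (.leaf 494) (.leaf 847))) (.node (.node (.leaf 422) (.leaf 782)) (.node (.leaf 721) (.leaf 902))))) (.node (.node (.node (.node (.leaf 860) (.leaf 726)) (.node (.leaf 680) (.leaf 405))) (.node (.node (.leaf 677) (.leaf 639)) (.node (.leaf 135) (.leaf 801)))) (.node (.node (.node (.leaf 437) (.leaf 751)) (.node (.leaf 512) (.leaf 113))) (.node (.node (.leaf 451) (.leaf 161)) (.node (.leaf 885) (.leaf 949))))))) (.node (.node (.node (.node (.node (.node (.leaf 307) (.leaf 840)) (.node (.leaf 873) (.leaf 450))) (.node (.node (.leaf 208) (.leaf 358)) (.node (.leaf 1022) (.leaf 27)))) (.node (.node (.node (.leaf 660) (.leaf 628)) (.node (.leaf 263) (.leaf 517))) (.node (.node (.leaf 641) (.leaf 224)) (.node (.leaf 250) (.leaf 675))))) (.node (.node (.node (.node (.leaf 223) (.leaf 205)) (.node (.leaf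 790) (.leaf 909))) (.node (.node (.leaf 149) (.leaf 321)) (.node (.leaf 335) (.leaf 688)))) (.node (.node (.node (.leaf 771) (.leaf 333)) (.node (.leaf 355) (.leaf 186))) (.node (.node (.leaf 361) (.leaf 898)) (.node (.leaf 274) (.leaf 49)))))) (.node (.node (.node (.node (.node (.leaf 146) (.leaf 843)) (.node (.leaf 508) (.leaf 229))) (.node (.node (.leaf 943) (.leaf 91)) (.node (.leaf 960) (.leaf 586)))) (.node (.node (.node (.leaf 722) (.leaf 509)) (.node (.leaf 812) (.leaf 972))) (.node (.node (.leaf 697) (.leaf 388)) (.node (.leaf 295) (.leaf 428))))) (.node (.node (.node (.node (.leaf 291) (.leaf 330)) (.node (.leaf 767) (.leaf 362))) (.node (.node (.leaf 238) (.leaf 589)) (.node (.leaf 794) (.leaf 824)))) (.node (.node (.node (.leaf 651) (.leaf 253)) (.node (.leaf 614) (.leaf 846))) (.node (.node (.leaf 931) (.leaf 719)) (.node (.leaf 559) (.leaf 192))))))))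

def twoOrd1 : Janko.Tree (ℕ) :=
  (.node (.node (.node (.node (.node (.node (.node (.leaf 39) (.leaf 940)) (.node (.leaf 131) (.leaf 502))) (.node (.node (.leaf 199) (.leaf 787)) (.node (.leaf 40) (.leaf 180)))) (.node (.node (.node (.leaf 646) (.leaf 621)) (.node (.leaf 352) (.leaf 367))) (.node (.node (.leaf 1019) (.leaf 1003)) (.node (.leaf 65) (.leaf 314))))) (.node (.node (.node (.node (.leaf 574) (.leaf 308)) (.node (.leaf 569) (.leaf 299))) (.node (.node (.leaf 808) (.leaf 74)) (.node (.leaf 555) (.leaf 470)))) (.node (.node (.node (.leaf 937) (.leaf 464)) (.node (.leaf 182) (.leaf 582))) (.node (.node (.leaf 578) (.leaf 67)) (.node (.leaf 561) (.leaf 798)))))) (.node (.node (.node (.node (.node (.leaf 664) (.leaf 907)) (.node (.leaf 768) (.leaf 617))) (.node (.node (.leaf 900) (.leaf 538)) (.node (.leaf 905) (.leaf 685)))) (.node (.node (.node (.leaf 1018) (.leaf 679)) (.node (.leaf 181) (.leaf 831))) (.node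 (.node (.leaf 110) (.leaf 60)) (.node (.leaf 822) (.leaf 872))))) (.node (.node (.node (.node (.leaf 729) (.leaf 821)) (.node (.leaf 240) (.leaf 246))) (.node (.node (.leaf 44) (.leaf 610)) (.node (.leaf 454) (.leaf 759)))) (.node (.node (.node (.leaf 412) (.leaf 687)) (.node (.leaf 168) (.leaf 608))) (.node (.node (.leaf 642) (.leaf 117)) (.node (.leaf 871) (.leaf 420))))))) (.node (.node (.node (.node (.node (.node (.leaf 864) (.leaf 736)) (.node (.leaf 38) (.leaf 468))) (.node (.node (.leaf 448) (.leaf 271)) (.node (.leaf 304) (.leaf 458)))) (.node (.node (.node (.leaf 749) (.leaf 479)) (.node (.leaf 390) (.leaf 24))) (.node (.node (.leaf 170) (.leaf 676)) (.node (.leaf 70) (.leaf 667))))) (.node (.node (.node (.node (.leaf 395) (.leaf 480)) (.node (.leaf 829) (.leaf 879))) (.node (.node (.leaf 956) (.leaf 375)) (.node (.leaf 290) (.leaf 750)))) (.node (.node (.node (.leaf 816) (.leaf 399)) (.node (.leaf 686)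 (.leaf 194))) (.node (.node (.leaf 705) (.leaf 103)) (.node (.leaf 674) (.leaf 694)))))) (.node (.node (.node (.node (.node (.leaf 438) (.leaf 264)) (.node (.leaf 455) (.leaf 233))) (.node (.node (.leaf 988) (.leaf 748)) (.node (.leaf 439) (.leaf 542)))) (.node (.node (.node (.leaf 347) (.leaf 924)) (.node (.leaf 716) (.leaf 572))) (.node (.node (.leaf 863) (.leaf 345)) (.node (.leaf 850) (.leaf 129))))) (.node (.node (.node (.node (.leaf 301) (.leaf 746)) (.node (.leaf 43) (.leaf 383))) (.node (.node (.leaf 776) (.leaf 554)) (.node (.leaf 836) (.leaf 313)))) (.node (.node (.node (.leaf 683) (.leaf 1016)) (.node (.leaf 553) (.leaf 852))) (.node (.node (.leaf 575) (.leaf 998)) (.node (.leaf 18) (.leaf 157))))))))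

def twoOrd2 : Janko.Tree (ℕ) :=
  (.node (.node (.node (.node (.node (.node (.node (.leaf 535) (.leaf 11)) (.node (.leaf 371) (.leaf 2))) (.node (.node (.leaf 938) (.leaf 1001)) (.node (.leaf 505) (.leaf 289)))) (.node (.node (.node (.leaf 0) (.leaf 287)) (.node (.leaf 329) (.leaf 140))) (.node (.node (.leaf 17) (.leaf 221)) (.node (.leaf 1014) (.leaf 202))))) (.node (.node (.node (.node (.leaf 544) (.leaf 565)) (.node (.leaf 533) (.leaf 550))) (.node (.node (.leaf 991) (.leaf 183)) (.node (.leaf 895) (.leaf 259)))) (.node (.node (.node (.leaf 222) (.leaf 47)) (.node (.leaf 567) (.leaf 917))) (.node (.node (.leaf 416) (.leaf 35)) (.node (.leaf 788) (.leaf 410)))))) (.node (.node (.node (.node (.node (.leaf 1) (.leaf 672)) (.node (.leaf 547) (.leaf 945))) (.node (.node (.leaf 492) (.leaf 80)) (.node (.leaf 270) (.leaf 803)))) (.node (.node (.node (.leaf 673) (.leaf 92)) (.node (.leaf 50) (.leaf 774))) (.node (.node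 (.leaf 340) (.leaf 897)) (.node (.leaf 12) (.leaf 127))))) (.node (.node (.node (.node (.leaf 424) (.leaf 337)) (.node (.leaf 757) (.leaf 516))) (.node (.node (.leaf 725) (.leaf 906)) (.node (.leaf 809) (.leaf 102)))) (.node (.node (.node (.leaf 633) (.leaf 349)) (.node (.leaf 284) (.leaf 599))) (.node (.node (.leaf 600) (.leaf 269)) (.node (.leaf 42) (.leaf 877))))))) (.node (.node (.node (.node (.node (.node (.leaf 426) (.leaf 334)) (.node (.leaf 744) (.leaf 741))) (.node (.node (.leaf 769) (.leaf 442)) (.node (.leaf 118) (.leaf 6)))) (.node (.node (.node (.leaf 309) (.leaf 160)) (.node (.leaf 818) (.leaf 94))) (.node (.node (.leaf 346) (.leaf 461)) (.node (.leaf 780) (.leaf 408))))) (.node (.node (.node (.node (.leaf 503) (.leaf 541)) (.node (.leaf 187) (.leaf 996))) (.node (.node (.leaf 82) (.leaf 474)) (.node (.leaf 742) (.leaf 733)))) (.node (.node (.node (.leaf 546) (.leaf 856)) (.node (.leaf 163) (.leaf 874)))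 (.node (.node (.leaf 754) (.leaf 876)) (.node (.leaf 887) (.leaf 78)))))) (.node (.node (.node (.node (.node (.leaf 832) (.leaf 513)) (.node (.leaf 23) (.leaf 7))) (.node (.node (.leaf 826) (.leaf 19)) (.node (.leaf 728) (.leaf 579)))) (.node (.node (.node (.leaf 327) (.leaf 875)) (.node (.leaf 124) (.leaf 486))) (.node (.node (.leaf 63) (.leaf 883)) (.node (.leaf 378) (.leaf 294))))) (.node (.node (.node (.node (.leaf 737) (.leaf 734)) (.node (.leaf 693) (.leaf 793))) (.node (.node (.leaf 795) (.leaf 632)) (.node (.leaf 10) (.leaf 656)))) (.node (.node (.node (.leaf 616) (.leaf 709)) (.node (.leaf 28) (.leaf 206))) (.node (.node (.leaf 666) (.leaf 212)) (.node (.leaf 53) (.leaf 959))))))))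

def twoOrd3 : Janko.Tree (ℕ) :=
  (.node (.node (.node (.node (.node (.node (.node (.leaf 563) (.leaf 382)) (.node (.leaf 241) (.leaf 928))) (.node (.node (.leaf 981) (.leaf 338)) (.node (.leaf 974) (.leaf 772)))) (.node (.node (.node (.leaf 848) (.leaf 1013)) (.node (.leaf 1006) (.leaf 529))) (.node (.node (.leaf 961) (.leaf 743)) (.node (.leaf 398) (.leaf 580))))) (.node (.node (.node (.node (.leaf 571) (.leaf 472)) (.node (.leaf 145) (.leaf 197))) (.node (.node (.leaf 813) (.leaf 978)) (.node (.leaf 560) (.leaf 833)))) (.node (.node (.node (.leaf 684) (.leaf 718)) (.node (.leaf 882) (.leaf 989))) (.node (.node (.leaf 425) (.leaf 185)) (.node (.leaf 653) (.leaf 903)))))) (.node (.node (.node (.node (.node (.leaf 965) (.leaf 54)) (.node (.leaf 148) (.leaf 37))) (.node (.node (.leaf 109) (.leaf 747)) (.node (.leaf 232) (.leaf 86)))) (.node (.node (.node (.leaf 273) (.leaf 731)) (.node (.leaf 1010) (.leaf 46))) (.node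 (.node (.leaf 796) (.leaf 207)) (.node (.leaf 364) (.leaf 929))))) (.node (.node (.node (.node (.leaf 432) (.leaf 773)) (.node (.leaf 279) (.leaf 104))) (.node (.node (.leaf 834) (.leaf 179)) (.node (.leaf 254) (.leaf 671)))) (.node (.node (.node (.leaf 497) (.leaf 311)) (.node (.leaf 689) (.leaf 925))) (.node (.node (.leaf 605) (.leaf 712)) (.node (.leaf 603) (.leaf 953))))))) (.node (.node (.node (.node (.node (.node (.leaf 219) (.leaf 324)) (.node (.leaf 93) (.leaf 715))) (.node (.node (.leaf 62) (.leaf 592)) (.node (.leaf 487) (.leaf 811)))) (.node (.node (.node (.leaf 814) (.leaf 459)) (.node (.leaf 260) (.leaf 652))) (.node (.node (.leaf 723) (.leaf 126)) (.node (.leaf 662) (.leaf 511))))) (.node (.node (.node (.node (.leaf 548) (.leaf 585)) (.node (.leaf 196) (.leaf 14))) (.node (.node (.leaf 87) (.leaf 631)) (.node (.leaf 288) (.leaf 779)))) (.node (.node (.node (.leaf 531) (.leaf 100)) (.node (.leaf 926)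 (.leaf 210))) (.node (.node (.leaf 281) (.leaf 935)) (.node (.leaf 896) (.leaf 369)))))) (.node (.node (.node (.node (.node (.leaf 13) (.leaf 190)) (.node (.leaf 527) (.leaf 783))) (.node (.node (.leaf 839) (.leaf 934)) (.node (.leaf 357) (.leaf 36)))) (.node (.node (.node (.leaf 256) (.leaf 534)) (.node (.leaf 932) (.leaf 462))) (.node (.node (.leaf 292) (.leaf 963)) (.node (.leaf 320) (.leaf 1007))))) (.node (.node (.node (.node (.leaf 862) (.leaf 837)) (.node (.leaf 280) (.leaf 339))) (.node (.node (.leaf 96) (.leaf 123)) (.node (.leaf 810) (.leaf 262)))) (.node (.node (.node (.leaf 537) (.leaf 72)) (.node (.leaf 620) (.leaf 636))) (.node (.node (.leaf 235) (.leaf 552)) (.node (.leaf 711) (.leaf 519))))))))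

def twoOrd4 : Janko.Tree (ℕ) :=
  (.node (.node (.node (.node (.node (.node (.node (.leaf 644) (.leaf 987)) (.node (.leaf 984) (.leaf 300))) (.node (.node (.leaf 283) (.leaf 265)) (.node (.leaf 239) (.leaf 970)))) (.node (.node (.node (.leaf 756) (.leaf 217)) (.node (.leaf 169) (.leaf 827))) (.node (.node (.leaf 696) (.leaf 142)) (.node (.leaf 154) (.leaf 845))))) (.node (.node (.node (.node (.leaf 317) (.leaf 606)) (.node (.leaf 88) (.leaf 407))) (.node (.node (.leaf 969) (.leaf 562)) (.node (.leaf 630) (.leaf 855)))) (.node (.node (.node (.leaf 4) (.leaf 34)) (.node (.leaf 97) (.leaf 670))) (.node (.node (.leaf 341) (.leaf 365)) (.node (.leaf 445) (.leaf 650)))))) (.node (.node (.node (.node (.node (.leaf 184) (.leaf 915)) (.node (.leaf 979) (.leaf 627))) (.node (.node (.leaf 558) (.leaf 661)) (.node (.leaf 195) (.leaf 698)))) (.node (.node (.node (.leaf 611) (.leaf 421)) (.node (.leaf 739) (.leaf 68))) (.node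 (.node (.leaf 397) (.leaf 691)) (.node (.leaf 153) (.leaf 884))))) (.node (.node (.node (.node (.leaf 384) (.leaf 703)) (.node (.leaf 76) (.leaf 1000))) (.node (.node (.leaf 457) (.leaf 908)) (.node (.leaf 819) (.leaf 637)))) (.node (.node (.node (.leaf 669) (.leaf 950)) (.node (.leaf 158) (.leaf 914))) (.node (.node (.leaf 618) (.leaf 48)) (.node (.leaf 869) (.leaf 752))))))) (.node (.node (.node (.node (.node (.node (.leaf 471) (.leaf 946)) (.node (.leaf 939) (.leaf 704))) (.node (.node (.leaf 61) (.leaf 73)) (.node (.leaf 473) (.leaf 947)))) (.node (.node (.node (.leaf 499) (.leaf 84)) (.node (.leaf 807) (.leaf 215))) (.node (.node (.leaf 1004) (.leaf 957)) (.node (.leaf 393) (.leaf 391))))) (.node (.node (.node (.node (.leaf 570) (.leaf 296)) (.node (.leaf 828) (.leaf 789))) (.node (.node (.leaf 911) (.leaf 982)) (.node (.leaf 101) (.leaf 331)))) (.node (.node (.node (.leaf 377) (.leaf 257)) (.node (.leaf 125)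 (.leaf 171))) (.node (.node (.leaf 139) (.leaf 213)) (.node (.leaf 137) (.leaf 152)))))) (.node (.node (.node (.node (.node (.leaf 348) (.leaf 634)) (.node (.leaf 645) (.leaf 730))) (.node (.node (.leaf 251) (.leaf 506)) (.node (.leaf 899) (.leaf 115)))) (.node (.node (.node (.leaf 188) (.leaf 540)) (.node (.leaf 356) (.leaf 695))) (.node (.node (.leaf 366) (.leaf 866)) (.node (.leaf 964) (.leaf 15))))) (.node (.node (.node (.node (.leaf 830) (.leaf 701)) (.node (.leaf 282) (.leaf 489))) (.node (.node (.leaf 528) (.leaf 857)) (.node (.leaf 867) (.leaf 218)))) (.node (.node (.node (.leaf 419) (.leaf 261)) (.node (.leaf 967) (.leaf 665))) (.node (.node (.leaf 601) (.leaf 155)) (.node (.leaf 763) (.leaf 910))))))))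

def twoOrd5 : Janko.Tree (ℕ) :=
  (.node (.node (.node (.node (.node (.node (.node (.leaf 452) (.leaf 418)) (.node (.leaf 973) (.leaf 277))) (.node (.node (.leaf 800) (.leaf 1017)) (.node (.leaf 1011) (.leaf 466)))) (.node (.node (.node (.leaf 755) (.leaf 920)) (.node (.leaf 958) (.leaf 1020))) (.node (.node (.leaf 738) (.leaf 894)) (.node (.leaf 966) (.leaf 647))))) (.node (.node (.node (.node (.leaf 758) (.leaf 30)) (.node (.leaf 363) (.leaf 230))) (.node (.node (.leaf 985) (.leaf 214)) (.node (.leaf 130) (.leaf 81)))) (.node (.node (.node (.leaf 921) (.leaf 549)) (.node (.leaf 700) (.leaf 225))) (.node (.node (.leaf 761) (.leaf 89)) (.node (.leaf 498) (.leaf 682)))))) (.node (.node (.node (.node (.node (.leaf 622) (.leaf 119)) (.node (.leaf 968) (.leaf 174))) (.node (.node (.leaf 29) (.leaf 336)) (.node (.leaf 32) (.leaf 406)))) (.node (.node (.node (.leaf 901) (.leaf 566)) (.node (.leaf 51) (.leaf 785))) (.node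 (.node (.leaf 658) (.leaf 276)) (.node (.leaf 584) (.leaf 888))))) (.node (.node (.node (.node (.leaf 804) (.leaf 286)) (.node (.leaf 387) (.leaf 797))) (.node (.node (.leaf 557) (.leaf 204)) (.node (.leaf 724) (.leaf 167)))) (.node (.node (.node (.leaf 668) (.leaf 484)) (.node (.leaf 191) (.leaf 133))) (.node (.node (.leaf 604) (.leaf 326)) (.node (.leaf 952) (.leaf 243))))))) (.node (.node (.node (.node (.node (.node (.leaf 581) (.leaf 440)) (.node (.leaf 986) (.leaf 762))) (.node (.node (.leaf 784) (.leaf 764)) (.node (.leaf 870) (.leaf 151)))) (.node (.node (.node (.leaf 411) (.leaf 765)) (.node (.leaf 359) (.leaf 172))) (.node (.node (.leaf 5) (.leaf 25)) (.node (.leaf 1009) (.leaf 275))))) (.node (.node (.node (.node (.leaf 539) (.leaf 386)) (.node (.leaf 842) (.leaf 815))) (.node (.node (.leaf 132) (.leaf 122)) (.node (.leaf 385) (.leaf 400)))) (.node (.node (.node (.leaf 319) (.leaf 841)) (.node (.leaf 933)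 (.leaf 507))) (.node (.node (.leaf 147) (.leaf 912)) (.node (.leaf 923) (.leaf 980)))))) (.node (.node (.node (.node (.node (.leaf 859) (.leaf 114)) (.node (.leaf 108) (.leaf 861))) (.node (.node (.leaf 267) (.leaf 443)) (.node (.leaf 106) (.leaf 467)))) (.node (.node (.node (.leaf 177) (.leaf 587)) (.node (.leaf 1012) (.leaf 835))) (.node (.node (.leaf 380) (.leaf 942)) (.node (.leaf 141) (.leaf 699))))) (.node (.node (.node (.node (.leaf 791) (.leaf 99)) (.node (.leaf 766) (.leaf 892))) (.node (.node (.leaf 138) (.leaf 266)) (.node (.leaf 597) (.leaf 976)))) (.node (.node (.node (.leaf 551) (.leaf 657)) (.node (.leaf 483) (.leaf 45))) (.node (.node (.leaf 577) (.leaf 955)) (.node (.leaf 220) (.leaf 417))))))))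

def twoOrd6 : Janko.Tree (ℕ) :=
  (.node (.node (.node (.node (.node (.node (.node (.leaf 332) (.leaf 596)) (.node (.leaf 431) (.leaf 573))) (.node (.node (.leaf 98) (.leaf 717)) (.node (.leaf 482) (.leaf 629)))) (.node (.node (.node (.leaf 22) (.leaf 79)) (.node (.leaf 447) (.leaf 954))) (.node (.node (.leaf 342) (.leaf 1023)) (.node (.leaf 607) (.leaf 602))))) (.node (.node (.node (.node (.leaf 9) (.leaf 41)) (.node (.leaf 325) (.leaf 303))) (.node (.node (.leaf 26) (.leaf 389)) (.node (.leaf 735) (.leaf 33)))) (.node (.node (.node (.leaf 120) (.leaf 522)) (.node (.leaf 77) (.leaf 64))) (.node (.node (.leaf 530) (.leaf 173)) (.node (.leaf 211) (.leaf 806)))))) (.node (.node (.node (.node (.node (.leaf 83) (.leaf 85)) (.node (.leaf 817) (.leaf 297))) (.node (.node (.leaf 889) (.leaf 376)) (.node (.leaf 374) (.leaf 514)))) (.node (.node (.node (.leaf 659) (.leaf 891)) (.node (.leaf 429) (.leaf 55))) (.node (.node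 (.leaf 518) (.leaf 1008)) (.node (.leaf 918) (.leaf 702))))) (.node (.node (.node (.node (.leaf 706) (.leaf 121)) (.node (.leaf 111) (.leaf 434))) (.node (.node (.leaf 490) (.leaf 465)) (.node (.leaf 226) (.leaf 951)))) (.node (.node (.node (.leaf 444) (.leaf 166)) (.node (.leaf 615) (.leaf 404))) (.node (.node (.leaf 209) (.leaf 609)) (.node (.leaf 415) (.leaf 625))))))) (.node (.node (.node (.node (.node (.node (.leaf 878) (.leaf 476)) (.node (.leaf 268) (.leaf 504))) (.node (.node (.leaf 941) (.leaf 176)) (.node (.leaf 394) (.leaf 678)))) (.node (.node (.node (.leaf 496) (.leaf 481)) (.node (.leaf 203) (.leaf 16))) (.node (.node (.leaf 930) (.leaf 983)) (.node (.leaf 315) (.leaf 753))))) (.node (.node (.node (.node (.leaf 510) (.leaf 252)) (.node (.leaf 463) (.leaf 441))) (.node (.node (.leaf 994) (.leaf 890)) (.node (.leaf 1015) (.leaf 350)))) (.node (.node (.node (.leaf 354) (.leaf 655)) (.node (.leaf 401) (.leaf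 713))) (.node (.node (.leaf 306) (.leaf 236)) (.node (.leaf 904) (.leaf 162)))))) (.node (.node (.node (.node (.node (.leaf 255) (.leaf 228)) (.node (.leaf 999) (.leaf 456))) (.node (.node (.leaf 248) (.leaf 851)) (.node (.leaf 626) (.leaf 414)))) (.node (.node (.node (.leaf 430) (.leaf 727)) (.node (.leaf 242) (.leaf 343))) (.node (.node (.leaf 927) (.leaf 66)) (.node (.leaf 732) (.leaf 373))))) (.node (.node (.node (.node (.leaf 500) (.leaf 588)) (.node (.leaf 116) (.leaf 536))) (.node (.node (.leaf 778) (.leaf 71)) (.node (.leaf 543) (.leaf 493)))) (.node (.node (.node (.leaf 865) (.leaf 200)) (.node (.leaf 351) (.leaf 302))) (.node (.node (.leaf 392) (.leaf 692)) (.node (.leaf 344) (.leaf 379))))))))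

def twoOrd7 : Janko.Tree (ℕ) :=
  (.node (.node (.node (.node (.node (.node (.node (.leaf 805) (.leaf 868)) (.node (.leaf 107) (.leaf 881))) (.node (.node (.leaf 247) (.leaf 52)) (.node (.leaf 962) (.leaf 477)))) (.node (.node (.node (.leaf 922) (.leaf 849)) (.node (.leaf 624) (.leaf 134))) (.node (.node (.leaf 402) (.leaf 993)) (.node (.leaf 178) (.leaf 3))))) (.node (.node (.node (.node (.leaf 708) (.leaf 623)) (.node (.leaf 249) (.leaf 316))) (.node (.node (.leaf 612) (.leaf 272)) (.node (.leaf 844) (.leaf 590)))) (.node (.node (.node (.leaf 449) (.leaf 568)) (.node (.leaf 381) (.leaf 770))) (.node (.node (.leaf 156) (.leaf 201)) (.node (.leaf 913) (.leaf 227)))))) (.node (.node (.node (.node (.node (.leaf 353) (.leaf 318)) (.node (.leaf 825) (.leaf 305))) (.node (.node (.leaf 105) (.leaf 322)) (.node (.leaf 69) (.leaf 526)))) (.node (.node (.node (.leaf 690) (.leaf 20)) (.node (.leaf 128) (.leaf 777))) (.node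 (.node (.leaf 150) (.leaf 1002)) (.node (.leaf 409) (.leaf 57))))) (.node (.node (.node (.node (.leaf 792) (.leaf 977)) (.node (.leaf 523) (.leaf 435))) (.node (.node (.leaf 491) (.leaf 919)) (.node (.leaf 1005) (.leaf 485)))) (.node (.node (.node (.leaf 643) (.leaf 638)) (.node (.leaf 164) (.leaf 75))) (.node (.node (.leaf 413) (.leaf 143)) (.node (.leaf 475) (.leaf 446))))))) (.node (.node (.node (.node (.node (.node (.leaf 478) (.leaf 594)) (.node (.leaf 710) (.leaf 515))) (.node (.node (.leaf 593) (.leaf 619)) (.node (.leaf 244) (.leaf 663)))) (.node (.node (.node (.leaf 893) (.leaf 595)) (.node (.leaf 495) (.leaf 886))) (.node (.node (.leaf 583) (.leaf 936)) (.node (.leaf 858) (.leaf 649))))) (.node (.node (.node (.node (.leaf 521) (.leaf 740)) (.node (.leaf 488) (.leaf 189))) (.node (.node (.leaf 823) (.leaf 165)) (.node (.leaf 258) (.leaf 310)))) (.node (.node (.node (.leaf 370) (.leaf 838)) (.node (.leaf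 372) (.leaf 714))) (.node (.node (.leaf 293) (.leaf 775)) (.node (.leaf 469) (.leaf 460)))))) (.node (.node (.node (.node (.node (.leaf 245) (.leaf 820)) (.node (.leaf 992) (.leaf 556))) (.node (.node (.leaf 285) (.leaf 328)) (.node (.leaf 144) (.leaf 635)))) (.node (.node (.node (.leaf 423) (.leaf 781)) (.node (.leaf 760) (.leaf 403))) (.node (.node (.leaf 21) (.leaf 799)) (.node (.leaf 648) (.leaf 681))))) (.node (.node (.node (.node (.leaf 525) (.leaf 159)) (.node (.leaf 216) (.leaf 576))) (.node (.node (.leaf 278) (.leaf 707)) (.node (.leaf 193) (.leaf 433)))) (.node (.node (.node (.leaf 598) (.leaf 520)) (.node (.leaf 323) (.leaf 59))) (.node (.node (.leaf 396) (.leaf 95)) (.node (.leaf 90) (.leaf 312))))))))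

def twoOrd : Janko.Tree (ℕ) := (.node (.node (.node twoOrd0 twoOrd4) (.node twoOrd2 twoOrd6)) (.node (.node twoOrd1 twoOrd5) (.node twoOrd3 twoOrd7)))

def twoRels : List (List ℕ) := [[0, 0],
  [1, 1],
  [2, 2],
  [3, 3],
  [0, 1, 0, 1],
  [0, 1, 3, 0, 1, 3],
  [0, 1, 3, 1, 0, 3],
  [0, 3, 1, 0, 3, 1],
  [0, 2, 0, 2, 0, 2, 0, 2],
  [0, 3, 0, 3, 0, 3, 0, 3],
  [0, 3, 0, 3, 1, 3, 1, 3],
  [0, 3, 1, 3, 0, 3, 1, 3],
  [1, 2, 1, 2, 1, 2, 1, 2],
  [1, 3, 2, 3, 1, 3, 2, 3],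
  [2, 3, 2, 3, 2, 3, 2, 3],
  [0, 1, 0, 2, 1, 2, 1, 2, 1, 2],
  [0, 1, 0, 3, 2, 3, 1, 3, 2, 3],
  [0, 1, 2, 0, 2, 0, 2, 0, 2, 1],
  [0, 1, 2, 3, 1, 3, 2, 3, 0, 3],
  [0, 1, 3, 0, 3, 2, 3, 1, 3, 2],
  [0, 2, 1, 2, 3, 0, 2, 1, 2, 3],
  [0, 2, 3, 1, 3, 2, 0, 3, 1, 3],
  [0, 2, 3, 1, 3, 2, 1, 3, 0, 3],
  [0, 2, 3, 1, 3, 2, 3, 0, 3, 1],
  [0, 3, 0, 3, 1, 2, 3, 1, 3, 2],
  [0, 3, 0, 3, 2, 3, 1, 3, 2, 1],
  [0, 3, 2, 1, 2, 0, 3, 2, 1, 2],
  [1, 2, 3, 1, 3, 2, 1, 3, 1, 3],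
  [1, 2, 3, 2, 3, 2, 1, 3, 2, 3],
  [0, 1, 0, 2, 0, 3, 2, 1, 2, 0, 3, 2],
  [0, 1, 0, 2, 3, 0, 2, 1, 2, 3, 0, 2],
  [0, 1, 0, 3, 2, 0, 3, 0, 3, 1, 2, 3],
  [0, 1, 0, 3, 2, 1, 3, 0, 3, 0, 2, 3],
  [0, 1, 2, 0, 1, 2, 0, 1, 2, 1, 0, 2],
  [0, 1, 2, 0, 1, 2, 1, 0, 2, 1, 0, 2],
  [0, 1, 2, 0, 2, 1, 0, 1, 2, 0, 2, 1],
  [0, 1, 2, 0, 3, 0, 3, 1, 2, 3, 0, 3],
  [0, 1, 2, 0, 3, 1, 3, 0, 2, 3, 0, 3],
  [0, 1, 2, 1, 0, 2, 1, 0, 2, 1, 0, 2],
  [0, 1, 2, 1, 2, 0, 3, 2, 1, 2, 1, 3],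
  [0, 1, 2, 1, 2, 3, 0, 2, 1, 2, 3, 1],
  [0, 1, 2, 3, 0, 3, 0, 1, 2, 3, 0, 3],
  [0, 1, 2, 3, 0, 3, 1, 0, 2, 3, 0, 3],
  [0, 1, 2, 3, 1, 2, 3, 2, 3, 2, 0, 3],
  [0, 1, 3, 0, 3, 2, 0, 3, 0, 3, 1, 2],
  [0, 1, 3, 0, 3, 2, 1, 0, 3, 0, 3, 2],
  [0, 1, 3, 0, 3, 2, 1, 3, 0, 3, 0, 2],
  [0, 1, 3, 1, 2, 0, 2, 0, 2, 0, 2, 3],
  [0, 1, 3, 2, 0, 2, 0, 2, 0, 2, 1, 3],
  [0, 1, 3, 2, 1, 2, 0, 3, 1, 2, 1, 2],
  [0, 1, 3, 2, 1, 2, 0, 3, 2, 1, 2, 1],
  [0, 1, 3, 2, 1, 2, 1, 2, 1, 2, 0, 3],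
  [0, 1, 3, 2, 1, 2, 1, 3, 0, 2, 1, 2],
  [0, 2, 0, 2, 0, 2, 1, 3, 1, 0, 3, 2],
  [0, 2, 0, 2, 0, 2, 3, 1, 0, 3, 1, 2],
  [0, 2, 0, 3, 0, 3, 1, 2, 0, 3, 1, 3],
  [0, 2, 0, 3, 0, 3, 1, 2, 1, 3, 0, 3],
  [0, 2, 0, 3, 0, 3, 1, 2, 3, 0, 3, 1],
  [0, 2, 0, 3, 1, 3, 0, 2, 1, 3, 0, 3],
  [0, 2, 0, 3, 2, 3, 0, 2, 0, 3, 2, 3]]

/-- the generators, their inverses and their factorisations along the chain -/
def twoGens : List (List ℕ) := [[6, 2, 3, 5, 2, 3, 1, 2, 3, 2, 1, 2, 3, 1, 2, 3, 6, 3, 2, 1, 2, 3, 1, 2, 3, 6, 3, 2, 1, 2, 1, 0, 1, 3, 1, 2, 3, 6, 3, 2, 1, 2, 3, 2, 1, 0, 2, 3, 6, 3, 2, 1, 3, 2, 3, 2, 3, 2, 1, 0, 2, 3, 6, 3, 2, 1, 2, 3, 2, 3, 2, 3, 1, 2, 3, 6, 3, 2, 0, 2, 3, 6, 3, 2, 1, 3, 2, 3, 2, 3, 2, 1, 0, 2, 3, 6, 3, 2, 1, 2, 3, 2, 3, 2, 3, 1, 2, 3, 6, 3, 2, 0, 1, 2, 1, 0, 1, 2, 3, 2, 1, 0, 1, 2, 3, 2, 1, 0, 1, 2],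
  [3, 6, 1, 2, 3, 2, 3, 1, 2, 3, 6, 3, 2, 3, 1, 2, 3, 6, 3, 2, 1, 2, 1, 0, 1, 3, 2, 1, 0, 2, 3, 6, 3, 2, 1, 2, 3, 2, 3, 2, 3, 1, 2, 3, 6, 3, 2, 1, 3, 2, 1, 0, 1, 2, 3, 1, 2, 3, 6, 3, 2, 1, 3, 2, 3, 2, 3, 2, 1, 0, 2, 3, 6, 3, 2, 1, 2, 3, 2, 3, 2, 3, 1, 2, 3, 6, 3, 2, 0, 1, 2, 1, 0, 1, 2, 3, 2, 1, 0, 1, 2, 3, 2, 1, 0, 1, 2],
  [2, 3, 6, 3, 4, 3, 2, 3, 1, 2, 3, 6, 3, 2, 1, 0, 1, 2, 3, 1, 2, 3, 6, 3, 2, 1, 2, 3, 2, 3, 1, 2, 3, 6, 3, 2, 1, 3, 2, 3, 2, 1, 2, 3, 6, 3, 2, 1, 3, 2, 3, 2, 3, 2, 1, 0, 2, 3, 6, 3, 2, 1, 2, 3, 2, 3, 2, 3, 1, 2, 3, 6, 3, 2, 1, 3, 2, 1, 0, 1, 2, 1, 2, 3, 6, 3, 2, 1, 3, 2, 3, 2, 3, 2, 1, 0, 2, 3, 6, 3, 2, 1, 2, 3, 2, 3, 2, 3, 1, 2, 3, 6, 3, 2, 1, 3],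
  [6, 3, 4, 2, 3, 0, 1, 2, 3, 6, 1, 0, 1, 3, 1, 2, 3, 6, 3, 2, 1, 2, 1, 0, 1, 3, 2, 3, 1, 2, 3, 6, 3, 2, 1, 3, 2, 3, 2, 1, 2, 3, 6, 3, 2, 1, 3, 2, 3, 2, 3, 2, 1, 0, 2, 3, 6, 3, 2, 1, 2, 3, 2, 3, 2, 3, 1, 2, 3, 6, 3, 2, 0, 1, 3, 2, 1, 0, 1, 2, 3, 1, 2, 3, 6, 3, 2, 1, 3, 2, 3, 2, 3, 2, 1, 0, 2, 3, 6, 3, 2, 1, 2, 3, 2, 3, 2, 3, 1, 2, 3, 6, 3, 2, 1, 2, 1, 0, 1, 2, 3]]

/-- the additional relations with conjugating elements -/
def twoSpecs : List Spec := [((2, [0, 2, 1, 2, 0, 2, 1, 2, 3], [], [0, 2, 3, 2, 0, 2, 3, 2], []), [3, 2, 3, 6, 4, 3, 2, 3, 5, 0, 1, 2, 3, 2, 1, 3, 2, 3, 1, 2, 3, 6, 3, 2, 1, 3, 2, 3, 2, 3, 2, 1, 0, 1, 3, 2, 3, 2, 1, 0, 2, 3, 6, 3, 2, 1, 2, 3, 2, 3, 2, 3, 1, 2, 3, 6, 3, 2, 1, 2, 1, 0, 1, 2, 1, 0, 2, 3, 6, 3, 2, 1, 3, 2, 3, 2, 3, 2, 1, 0, 2, 3, 6, 3, 2, 1, 2, 3, 2, 3, 2, 3, 1, 2, 3, 6, 3, 2, 0, 2, 3, 6, 3, 2, 1, 3, 2, 3, 2, 3, 2, 1, 0, 2, 3, 6, 3, 2, 1, 2, 3, 2, 3, 2, 3, 1, 2, 3, 6, 3, 2, 1, 3, 1,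 0, 1, 2, 1, 0, 1, 2, 3, 2, 1, 0, 1, 2, 3, 2, 1, 0, 1, 2]),
  ((0, [0, 2, 1, 2, 0, 2, 1, 2, 3], [0, 1, 2, 3, 2, 0, 1], [0, 2, 3, 2, 0, 2, 3, 2], [2, 3, 2]), [3, 2, 3, 6, 4, 3, 2, 3, 5, 0, 1, 2, 3, 2, 1, 3, 2, 3, 1, 2, 3, 6, 3, 2, 1, 3, 2, 3, 2, 3, 2, 1, 0, 1, 3, 2, 3, 2, 1, 0, 2, 3, 6, 3, 2, 1, 2, 3, 2, 3, 2, 3, 1, 2, 3, 6, 3, 2, 1, 2, 1, 0, 1, 2, 1, 0, 2, 3, 6, 3, 2, 1, 3, 2, 3, 2, 3, 2, 1, 0, 2, 3, 6, 3, 2, 1, 2, 3, 2, 3, 2, 3, 1, 2, 3, 6, 3, 2, 0, 2, 3, 6, 3, 2, 1, 3, 2, 3, 2, 3, 2, 1, 0, 2, 3, 6, 3, 2, 1, 2, 3, 2, 3, 2, 3, 1, 2, 3, 6, 3, 2, 1, 3, 1, 0, 1, 2, 1, 0, 1, 2, 3, 2, 1, 0, 1, 2, 3, 2, 1, 0, 1, 2]),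
  ((4, [3, 2, 0, 2, 3, 2, 3], [], [3, 2, 0, 1], []), [3, 4, 2, 3, 6, 2, 3, 0, 1, 2, 3, 6, 2, 3, 6, 3, 2, 1, 2, 1, 0, 1, 2, 3, 1, 0, 1, 2, 1, 2, 3, 6, 3, 2, 1, 3, 2, 3, 2, 3, 2, 1, 0, 2, 3, 6, 3, 2, 1, 2, 3, 2, 3, 2, 3, 1, 2, 3, 6, 3, 2, 1, 3, 2, 1, 0, 1, 2, 3, 1, 2, 3, 6, 3, 2, 1, 3, 2, 3, 2, 3, 2, 1, 0, 2, 3, 6, 3, 2, 1, 2, 3, 2, 3, 2, 3, 1, 2, 3, 6, 3, 2, 1, 3]),
  ((0, [3, 2, 0, 2, 3, 2, 3], [1, 2, 1, 2], [3, 2, 0, 1], [0, 3, 2, 3, 0, 2]), [3, 4, 2, 3, 6, 2, 3, 0, 1, 2, 3, 6, 2, 3, 6, 3, 2, 1, 2, 1, 0, 1, 2, 3, 1, 0, 1, 2, 1, 2, 3, 6, 3, 2, 1, 3, 2, 3, 2, 3, 2, 1, 0, 2, 3, 6, 3, 2, 1, 2, 3, 2, 3, 2, 3, 1, 2, 3, 6, 3, 2, 1, 3, 2, 1, 0, 1, 2, 3, 1, 2, 3, 6, 3, 2, 1, 3, 2, 3, 2, 3, 2, 1, 0, 2, 3, 6, 3, 2, 1, 2, 3, 2, 3, 2, 3, 1, 2, 3, 6, 3, 2, 1, 3]),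
  ((4, [0, 1, 2, 3, 0, 2, 0, 2, 1], [], [0, 2, 0, 2, 1, 2, 3, 1, 2], []), [3, 1, 2, 3, 6, 1, 2, 3, 1, 2, 3, 1, 2, 3, 6, 1, 2, 3, 6, 3, 2, 0, 1, 3, 1, 2, 3, 6, 3, 2, 1, 3, 2, 3, 2, 3, 1, 2, 3, 6, 3, 2, 1, 2, 1, 2, 3, 6, 3, 2, 1, 3, 2, 3, 2, 3, 2, 1, 0, 2, 3, 6, 3, 2, 1, 2, 3, 2, 3, 2, 3, 1, 2, 3, 6, 3, 2, 0, 1, 3, 2, 1, 0, 1, 2, 3, 1, 2, 3, 6, 3, 2, 1, 3, 2, 3, 2, 3, 2, 1, 0, 2, 3, 6, 3, 2, 1, 2, 3, 2, 3, 2, 3, 1, 2, 3, 6, 3, 2, 1, 2, 1, 0, 1, 2, 1, 0, 1, 2, 1, 0, 1, 2, 3, 2, 1, 0, 1, 2, 3, 2, 1, 0, 1, 2]),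
  ((0, [0, 1, 2, 3, 0, 2, 0, 2, 1], [1, 2, 1, 2], [0, 2, 0, 2, 1, 2, 3, 1, 2], [0, 1, 2, 0, 2, 3, 2, 0, 2]), [3, 1, 2, 3, 6, 1, 2, 3, 1, 2, 3, 1, 2, 3, 6, 1, 2, 3, 6, 3, 2, 0, 1, 3, 1, 2, 3, 6, 3, 2, 1, 3, 2, 3, 2, 3, 1, 2, 3, 6, 3, 2, 1, 2, 1, 2, 3, 6, 3, 2, 1, 3, 2, 3, 2, 3, 2, 1, 0, 2, 3, 6, 3, 2, 1, 2, 3, 2, 3, 2, 3, 1, 2, 3, 6, 3, 2, 0, 1, 3, 2, 1, 0, 1, 2, 3, 1, 2, 3, 6, 3, 2, 1, 3, 2, 3, 2, 3, 2, 1, 0, 2, 3, 6, 3, 2, 1, 2, 3, 2, 3, 2, 3, 1, 2, 3, 6, 3, 2, 1, 2, 1, 0, 1, 2, 1, 0, 1, 2, 1, 0, 1, 2, 3, 2, 1, 0, 1, 2, 3, 2, 1, 0, 1, 2]),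
  ((2, [2, 0, 2, 3, 2, 0, 2, 3], [], [0, 2, 0, 2, 3, 2, 3], []), [3, 5, 4, 3, 2, 3, 5, 1, 2, 3, 2, 1, 3, 2, 3, 1, 2, 3, 6, 3, 2, 1, 3, 1, 2, 3, 6, 3, 2, 1, 3, 2, 3, 2, 1, 0, 2, 3, 6, 3, 2, 1, 3, 2, 3, 2, 3, 2, 1, 0, 2, 3, 6, 3, 2, 1, 2, 3, 2, 3, 2, 3, 1, 2, 3, 6, 3, 2, 1, 2, 1, 0, 1, 2, 1, 0, 1, 3, 1, 2, 3, 6, 3, 2, 1, 3, 2, 3, 2, 3, 2, 1, 0, 2, 3, 6, 3, 2, 1, 2, 3, 2, 3, 2, 3, 1, 2, 3, 6, 3, 2, 1, 3, 1, 0, 1, 2, 1, 0, 1, 2, 3, 2, 1, 0, 1, 2, 3, 2, 1, 0, 1, 2]),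
  ((0, [2, 0, 2, 3, 2, 0, 2, 3], [1, 2, 3, 0, 2], [0, 2, 0, 2, 3, 2, 3], [0, 1, 2, 3, 2, 0, 1, 2, 3, 2]), [3, 5, 4, 3, 2, 3, 5, 1, 2, 3, 2, 1, 3, 2, 3, 1, 2, 3, 6, 3, 2, 1, 3, 1, 2, 3, 6, 3, 2, 1, 3, 2, 3, 2, 1, 0, 2, 3, 6, 3, 2, 1, 3, 2, 3, 2, 3, 2, 1, 0, 2, 3, 6, 3, 2, 1, 2, 3, 2, 3, 2, 3, 1, 2, 3, 6, 3, 2, 1, 2, 1, 0, 1, 2, 1, 0, 1, 3, 1, 2, 3, 6, 3, 2, 1, 3, 2, 3, 2, 3, 2, 1, 0, 2, 3, 6, 3, 2, 1, 2, 3, 2, 3, 2, 3, 1, 2, 3, 6, 3, 2, 1, 3, 1, 0, 1, 2, 1, 0, 1, 2, 3, 2, 1, 0, 1, 2, 3, 2, 1, 0, 1, 2]),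
  ((2, [0, 1, 2, 3, 0, 3], [], [0, 1, 2, 3, 2, 0, 2, 1, 3], []), [2, 3, 6, 4, 3, 2, 3, 1, 2, 3, 6, 1, 0, 1, 2, 1, 0, 1, 2, 3, 2, 3, 1, 2, 3, 6, 3, 2, 1, 2, 3, 2, 3, 1, 2, 3, 6, 3, 2, 1, 2, 3, 2, 1, 0, 1, 3, 1, 2, 3, 6, 3, 2, 1, 3, 2, 3, 2, 3, 2, 1, 0, 2, 3, 6, 3, 2, 1, 2, 3, 2, 3, 2, 3, 1, 2, 3, 6, 3, 2, 1, 2, 1, 0, 1, 2, 1, 0, 1, 2, 1, 0, 1, 2, 3, 2, 1, 0, 1, 2, 3]),
  ((0, [0, 1, 2, 3, 0, 3], [0, 2, 0], [0, 1, 2, 3, 2, 0, 2, 1, 3], [0, 1, 2, 3, 1, 2, 0, 3]), [2, 3, 6, 4, 3, 2, 3, 1, 2, 3, 6, 1, 0, 1, 2, 1, 0, 1, 2, 3, 2, 3, 1, 2, 3, 6, 3, 2, 1, 2, 3, 2, 3, 1, 2, 3, 6, 3, 2, 1, 2, 3, 2, 1, 0, 1, 3, 1, 2, 3, 6, 3, 2, 1, 3, 2, 3, 2, 3, 2, 1, 0, 2, 3, 6, 3, 2, 1, 2, 3, 2, 3, 2, 3, 1, 2, 3, 6, 3, 2, 1, 2, 1, 0, 1, 2, 1, 0, 1, 2, 1, 0, 1, 2, 3, 2, 1, 0, 1, 2, 3]),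
  ((0, [2, 0, 2, 1, 2, 3, 2], [0, 2, 0, 3, 1, 2, 0], [0, 2, 0, 2, 1, 2, 0, 2], [2, 1, 2, 0, 2, 1, 2]), [1, 2, 3, 5, 4, 3, 2, 3, 5, 1, 2, 3, 2, 1, 2, 3, 1, 2, 3, 6, 3, 2, 1, 3, 2, 1, 0, 1, 2, 3, 2, 3, 1, 2, 3, 6, 3, 2, 1, 2, 3, 1, 0, 1, 2, 3, 1, 2, 3, 6, 3, 2, 1, 3, 2, 3, 2, 3, 2, 1, 0, 2, 3, 6, 3, 2, 1, 2, 3, 2, 3, 2, 3, 1, 2, 3, 6, 3, 2, 0, 2, 3, 6, 3, 2, 1, 3, 2, 3, 2, 3, 2, 1, 0, 2, 3, 6, 3, 2, 1, 2, 3, 2, 3, 2, 3, 1, 2, 3, 6, 3, 2, 1, 2, 1, 0, 1, 2, 1, 0, 1, 2, 1, 0, 1, 2, 3, 2, 1, 0, 1, 2, 3]),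
  ((2, [0, 3, 1], [], [3, 0, 2, 0, 2, 3], []), [2, 3, 2, 3, 1, 2, 3, 6, 3, 2, 3, 1, 2, 3, 6, 3, 2, 1, 2, 3, 2, 1, 0, 1, 3, 1, 2, 3, 6, 3, 2, 1, 2, 3, 2, 3, 1, 2, 3, 6, 3, 2, 1, 3, 2, 3, 2, 3, 2, 1, 0, 2, 3, 6, 3, 2, 1, 2, 3, 2, 3, 2, 3, 1, 2, 3, 6, 3, 2, 0, 2, 3, 6, 3, 2, 1, 3, 2, 3, 2, 3, 2, 1, 0, 2, 3, 6, 3, 2, 1, 2, 3, 2, 3, 2, 3, 1, 2, 3, 6, 3, 2, 1, 3, 2, 1, 0, 1, 2, 3, 2, 1, 0, 1, 2])]

/-- the combinations -/
def twoCombos : List (List (ℤ × ℕ) × List (ℤ × (ℕ × ℕ))) := [([(1, 10), (1, 9), (1, 5), (1, 0), (1, 2), (1, 8), (1, 3), (1, 11)], [(1, (0, 180))]),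
  ([(1, 9), (1, 1), (1, 8), (1, 7), (1, 3)], []),
  ([(1, 6), (1, 3), (1, 2)], []),
  ([(1, 0), (1, 7), (1, 3)], [(1, (0, 180))]),
  ([(1, 5), (1, 0), (1, 1), (1, 3), (1, 11)], [(1, (0, 180))]),
  ([(1, 1), (1, 3), (1, 11), (1, 4)], []),
  ([(1, 3), (1, 1), (1, 4)], []),
  ([(1, 7), (1, 3)], []),
  ([], [(1, (0, 180))]),
  ([(1, 8), (1, 6), (1, 7), (1, 3)], []),
  ([(1, 7), (1, 3), (1, 1)], [(1, (0, 180))]),
  ([(1, 11), (1, 7), (1, 1), (1, 4), (1, 2)], [(1, (0, 180))]),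
  ([(1, 4), (1, 2)], [])]

/-- the certificate -/
def twoCert : CentralLocal.Cert :=
  { act := actC twoGens, one := oneC, N := 1024, k := 4, q := 2, rels := twoRels, P := 13,
    elt := twoElt, next := twoNext, word := twoWord, par := twoPar, L := twoL, kind := twoKind, rank := twoRank,
    via := twoVia, pv := [4096, 4097, 4098, 4099, 4100, 4101, 4104, 4105, 4108, 4109, 4110, 4116, 4155] }

end Cfsg.Agent.Spor.HeMult
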